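import Groth.Agent.H4RG.SmoothPrime
import Groth.Agent.VarDim.Basic
import Mathlib

/-!
# Cutting down the relative dimension by a function nonzero at the generic point of the closed fibre
-/

set_option autoImplicit false
set_option linter.style.haveILetI false
set_option backward.isDefEq.respectTransparency.types false

universe u

open IsLocalRing MvPolynomial TensorProduct

namespace Groth.Agent.H4RG

/-- The Noether normalisation of a hypersurface drops a variable. -/
theorem exists_integral_hypersurface {k : Type u} [Field k] {d : ℕ} {f : MvPolynomial (Fin d) k} (hf : f ≠ 0)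
    (hu : Ideal.span {f} ≠ ⊤) :
    ∃ e < d, ∃ g : MvPolynomial (Fin e) k →ₐ[k] MvPolynomial (Fin d) k ⧸ Ideal.span {f}, g.IsIntegral := by
  obtain ⟨e, -, g, hinj, hint⟩ := exists_integral_inj_algHom_of_quotient (Ideal.span {f}) hu
  refine ⟨e, ?_, g, hint⟩
  letI : Algebra (MvPolynomial (Fin e) k) (MvPolynomial (Fin d) k ⧸ Ideal.span {f}) := g.toRingHom.toAlgebra
  haveI : Algebra.IsIntegral (MvPolynomial (Fin e) k) (MvPolynomial (Fin d) k ⧸ Ideal.span {f}) := ⟨hint⟩
  haveI : FaithfulSMul (MvPolynomial (Fin e) k) (MvPolynomial (Fin d) k ⧸ Ideal.span {f}) :=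
    (faithfulSMul_iff_algebraMap_injective _ _).2 hinj
  have h1 := VarDim.ringKrullDim_eq_of_isIntegral (R := MvPolynomial (Fin e) k)
    (S := MvPolynomial (Fin d) k ⧸ Ideal.span {f})
  have h2 := ringKrullDim_quotient_succ_le_of_nonZeroDivisor (mem_nonZeroDivisors_of_ne_zero hf)
  rw [h1, MvPolynomial.ringKrullDim_of_isNoetherianRing, MvPolynomial.ringKrullDim_of_isNoetherianRing,
    ringKrullDim_eq_zero_of_field, zero_add, zero_add, Nat.card_fin, Nat.card_fin] at h2
  have h3 : e + 1 ≤ d := by exact_mod_cast h2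
  omega

/-- A quotient of a localisation of an etale algebra which factors through a finite algebra is quasi-finite. -/
theorem quasiFinite_of_factor {A A' E D K : Type u} [CommRing A] [CommRing A'] [CommRing E] [CommRing D] [CommRing K]
    [Algebra A' A] [Algebra A E] [Algebra.Etale A E] [Algebra A' K] (δ : A →+* D) (hδ : Function.Surjective δ)
    (hfin : (δ.comp (algebraMap A' A)).Finite) (ρ : E →+* K)
    (hker : RingHom.ker δ ≤ RingHom.ker (ρ.comp (algebraMap A E)))
    (halg : ∀ x, ρ (algebraMap A E (algebraMap A' A x)) = algebraMap A' K x)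
    (H : ∀ z : K, ∃ u y : E, IsUnit (ρ u) ∧ z * ρ u = ρ y) : Algebra.QuasiFinite A' K := by
  letI : Algebra A D := δ.toAlgebra
  letI : Algebra A' D := (δ.comp (algebraMap A' A)).toAlgebra
  haveI : IsScalarTower A' A D := IsScalarTower.of_algebraMap_eq fun _ => rfl
  haveI : Module.Finite A' D := hfin
  haveI : IsScalarTower A' D (D ⊗[A] E) := inferInstance
  haveI : Algebra.QuasiFinite D (D ⊗[A] E) := inferInstance
  haveI : Algebra.QuasiFinite A' (D ⊗[A] E) := Algebra.QuasiFinite.trans A' D (D ⊗[A] E)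
  letI : Algebra A K := (ρ.comp (algebraMap A E)).toAlgebra
  let δ' : D →ₐ[A] K :=
    { RingHom.liftOfSurjective δ hδ ⟨ρ.comp (algebraMap A E), hker⟩ with
      commutes' := fun x => RingHom.liftOfRightInverse_comp_apply δ _ _ ⟨ρ.comp (algebraMap A E), hker⟩ x }
  let eE : E →ₐ[A] K := { ρ with commutes' := fun _ => rfl }
  let φ0 : D ⊗[A] E →ₐ[A] K := Algebra.TensorProduct.lift δ' eE fun _ _ => Commute.all _ _
  let φ : D ⊗[A] E →ₐ[A'] K :=
    { φ0.toRingHom with
      commutes' := fun x => by
        show φ0 ((δ (algebraMap A' A x)) ⊗ₜ[A] (1 : E)) = _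
        rw [Algebra.TensorProduct.lift_tmul, map_one, mul_one]
        exact (δ'.commutes (algebraMap A' A x)).trans (halg x) }
  have h1 : ∀ y, φ ((1 : D) ⊗ₜ[A] y) = ρ y := fun y => by
    show φ0 ((1 : D) ⊗ₜ[A] y) = _
    rw [Algebra.TensorProduct.lift_tmul, map_one, one_mul]
    rfl
  refine Algebra.QuasiFinite.of_forall_exists_mul_mem_range φ fun z => ?_
  obtain ⟨u, y, hu, hy⟩ := H z
  exact ⟨(1 : D) ⊗ₜ[A] u, by rwa [h1], ⟨(1 : D) ⊗ₜ[A] y, by
    show φ _ = _ * φ _
    rw [h1, h1, hy]⟩⟩

/-- A hypersurface in affine space over a field is finite over fewer variables, with the map lifted. -/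
theorem exists_finite_factor {R k : Type u} [CommRing R] [Field k] {d : ℕ} (π : R →+* k) (hπ : Function.Surjective π)
    (c0 : MvPolynomial (Fin d) R) (hf : MvPolynomial.map π c0 ≠ 0)
    (hu : Ideal.span {MvPolynomial.map π c0} ≠ ⊤) :
    ∃ e < d, ∃ θ0 : MvPolynomial (Fin e) R →ₐ[R] MvPolynomial (Fin d) R, ∃ (D : Type u) (_ : CommRing D)
      (δ : MvPolynomial (Fin d) R →+* D), Function.Surjective δ ∧ (δ.comp θ0.toRingHom).Finite ∧
        ∀ y, δ y = 0 → ∃ z, MvPolynomial.map π (y - c0 * z) = 0 := by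
  obtain ⟨e, hed, g, hg⟩ := exists_integral_hypersurface hf hu
  have hξ := MvPolynomial.map_surjective (σ := Fin d) π hπ
  let δ : MvPolynomial (Fin d) R →+* MvPolynomial (Fin d) k ⧸ Ideal.span {MvPolynomial.map π c0} :=
    (Ideal.Quotient.mk _).comp (MvPolynomial.map π)
  have hδ : Function.Surjective δ := Ideal.Quotient.mk_surjective.comp hξ
  choose a ha using fun i => hδ (g (X i))
  let θ0 : MvPolynomial (Fin e) R →ₐ[R] MvPolynomial (Fin d) R := MvPolynomial.aeval a
  have heq : δ.comp θ0.toRingHom = g.toRingHom.comp (MvPolynomial.map π) := by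
    refine MvPolynomial.ringHom_ext (fun r => ?_) fun i => ?_
    · show Ideal.Quotient.mk _ (MvPolynomial.map π (θ0 (MvPolynomial.C r))) = g (MvPolynomial.map π (MvPolynomial.C r))
      rw [show θ0 (MvPolynomial.C r) = MvPolynomial.C r from MvPolynomial.aeval_C _ _, map_C, map_C]
      exact (g.commutes (π r)).symm
    · show δ (θ0 (X i)) = g (MvPolynomial.map π (X i))
      rw [map_X, show θ0 (X i) = a i from MvPolynomial.aeval_X _ _, ha]
  have hint : (δ.comp θ0.toRingHom).IsIntegral := by
    rw [heq]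
    exact RingHom.IsIntegral.trans _ _
      (RingHom.isIntegral_of_surjective _ (MvPolynomial.map_surjective _ hπ)) hg
  refine ⟨e, hed, θ0, _, inferInstance, δ, hδ,
    hint.to_finite (RingHom.FiniteType.of_comp_finiteType (f := algebraMap R (MvPolynomial (Fin e) R)) ?_),
    fun y hy => ?_⟩
  · rw [RingHom.comp_assoc, show θ0.toRingHom.comp (algebraMap R (MvPolynomial (Fin e) R)) =
      algebraMap R (MvPolynomial (Fin d) R) from θ0.comp_algebraMap]
    exact (RingHom.FiniteType.of_surjective δ hδ).comp (RingHom.finiteType_algebraMap.2 inferInstance)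
  · obtain ⟨z, hz⟩ := Ideal.mem_span_singleton.1 (Ideal.Quotient.eq_zero_iff_mem.1 hy)
    obtain ⟨z, rfl⟩ := hξ z
    exact ⟨z, by rw [map_sub, map_mul, hz, sub_self]⟩

variable {R E : Type u} [CommRing R] [IsLocalRing R] [CommRing E] [Algebra R E] {d : ℕ}
  [Algebra (MvPolynomial (Fin d) R) E] [IsScalarTower R (MvPolynomial (Fin d) R) E]
  [Algebra.Etale (MvPolynomial (Fin d) R) E]

/-- A function nonzero at the generic point of the closed fibre cuts out a closed subscheme which is
quasi-finite over fewer variables. -/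
theorem exists_cut (P : Ideal E) [P.IsPrime] (hP : P.comap (algebraMap R E) = maximalIdeal R) (s : E) (hsP : s ∈ P)
    (hs : algebraMap E (Localization.AtPrime P) s ∉ (maximalIdeal R).map (algebraMap R (Localization.AtPrime P))) :
    ∃ d' < d, ∃ θ : MvPolynomial (Fin d') R →ₐ[R] E ⧸ Ideal.span {s},
      ∀ (Pb : Ideal (E ⧸ Ideal.span {s})) [Pb.IsPrime], Pb.comap (Ideal.Quotient.mk _) = P →
        (letI := θ.toRingHom.toAlgebra; Algebra.QuasiFiniteAt (MvPolynomial (Fin d') R) Pb) := by
  classical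
  let A := MvPolynomial (Fin d) R
  let k := R ⧸ maximalIdeal R
  letI : Field k := Ideal.Quotient.field _
  let B := Localization.AtPrime P
  haveI : Algebra.Smooth R A := ⟨inferInstance, inferInstance⟩
  haveI : Algebra.Smooth R E := Algebra.Smooth.comp R A E
  let ξ : A →+* MvPolynomial (Fin d) k := MvPolynomial.map (Ideal.Quotient.mk (maximalIdeal R))
  have hξ : Function.Surjective ξ := MvPolynomial.map_surjective _ Ideal.Quotient.mk_surjective
  haveI h𝔭 : ((maximalIdeal R).map (algebraMap R B)).IsPrime := isPrime_map_maximalIdeal P hP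
  let p : Ideal E := ((maximalIdeal R).map (algebraMap R B)).comap (algebraMap E B)
  haveI : p.IsPrime := Ideal.comap_isPrime _ _
  let p0 : Ideal A := RingHom.ker ξ
  haveI : p0.IsPrime := RingHom.ker_isPrime ξ
  have hp0 : p0 = (maximalIdeal R).map (algebraMap R A) := by
    show RingHom.ker (MvPolynomial.map _) = _
    rw [MvPolynomial.ker_map, Ideal.mk_ker]
    rfl
  have hpP : p ≤ P := fun x hx => by
    by_contra hxP
    have hu : IsUnit (algebraMap E B x) := IsLocalization.map_units B (⟨x, hxP⟩ : P.primeCompl)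
    have hx' : algebraMap E B x ∈ (maximalIdeal R).map (algebraMap R B) := hx
    exact h𝔭.ne_top (Ideal.eq_top_of_isUnit_mem _ hx' hu)
  have hmp : (maximalIdeal R).map (algebraMap R E) ≤ p := Ideal.map_le_iff_le_comap.2 fun r hr => by
    show algebraMap E B (algebraMap R E r) ∈ (maximalIdeal R).map (algebraMap R B)
    rw [← IsScalarTower.algebraMap_apply]
    exact Ideal.mem_map_of_mem _ hr
  have hpA : p.comap (algebraMap A E) = p0 := by
    refine le_antisymm ?_ (hp0 ▸ Ideal.map_le_iff_le_comap.2 fun r hr => hmp (by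
      show algebraMap A E (algebraMap R A r) ∈ _
      rw [← IsScalarTower.algebraMap_apply]
      exact Ideal.mem_map_of_mem _ hr))
    haveI : p.LiesOver (p.comap (algebraMap A E)) := ⟨rfl⟩
    haveI : (p.comap (algebraMap A E)).IsPrime := Ideal.comap_isPrime _ _
    have hle : p0 ≤ p.comap (algebraMap A E) := by
      rw [hp0]
      exact Ideal.map_le_iff_le_comap.2 fun r hr => hmp (by
        show algebraMap A E (algebraMap R A r) ∈ _
        rw [← IsScalarTower.algebraMap_apply]
        exact Ideal.mem_map_of_mem _ hr)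
    obtain ⟨Q, hQp, hQ, hQ0⟩ := Ideal.exists_ideal_le_liesOver_of_le (R := A) p hle
    haveI := hQ
    have hmQ : (maximalIdeal R).map (algebraMap R E) ≤ Q := by
      rw [IsScalarTower.algebraMap_eq R A E, ← Ideal.map_map, ← hp0]
      exact Ideal.map_le_iff_le_comap.2 hQ0.over.le
    have hpQ : p ≤ Q := fun x hx => by
      have hx' : algebraMap E B x ∈ ((maximalIdeal R).map (algebraMap R E)).map (algebraMap E B) := by
        rw [Ideal.map_map, ← IsScalarTower.algebraMap_eq]
        exact hx
      obtain ⟨t, ht, htx⟩ := (IsLocalization.algebraMap_mem_map_algebraMap_iff P.primeCompl B _ _).1 hx'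
      exact (hQ.mem_or_mem (hmQ htx)).resolve_left fun h => ht (hpP (hQp h))
    intro a ha
    rw [show p0 = Q.comap (algebraMap A E) from hQ0.over]
    exact hpQ ha
  -- a relation for `s`
  obtain ⟨c0, hc0, hc0s⟩ : ∃ c0 : A, c0 ∉ p0 ∧ algebraMap A E c0 ∈ p ⊔ Ideal.span {s} := by
    let K0 := p0.ResidueField
    let K := p.ResidueField
    letI : Algebra K0 K := (Ideal.ResidueField.map p0 p (algebraMap A E) hpA.symm).toAlgebra
    haveI : IsScalarTower A K0 K := IsScalarTower.of_algebraMap_eq fun a => by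
      show algebraMap A K a = Ideal.ResidueField.map p0 p (algebraMap A E) hpA.symm (algebraMap A K0 a)
      rw [Ideal.ResidueField.map_algebraMap, ← IsScalarTower.algebraMap_apply]
    haveI : Algebra.QuasiFinite A K := inferInstance
    haveI : Algebra.QuasiFinite K0 K := Algebra.QuasiFinite.of_restrictScalars A K0 K
    haveI : Module.Finite K0 K := Module.Finite.of_quasiFinite
    letI : Algebra (A ⧸ p0) K := ((algebraMap K0 K).comp (algebraMap (A ⧸ p0) K0)).toAlgebra
    haveI : IsScalarTower (A ⧸ p0) K0 K := IsScalarTower.of_algebraMap_eq fun _ => rfl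
    have halg : IsAlgebraic (A ⧸ p0) (algebraMap E K s) :=
      (IsFractionRing.isAlgebraic_iff (A ⧸ p0) K0 K).2 (Algebra.IsAlgebraic.isAlgebraic _)
    have hne : algebraMap E K s ≠ 0 := fun h => hs (Ideal.mem_comap.1 ((Ideal.algebraMap_residueField_eq_zero (I := p) (x := s)).1 h))
    obtain ⟨q, hq0, hq⟩ := halg.exists_nonzero_coeff_and_aeval_eq_zero (mem_nonZeroDivisors_of_ne_zero hne)
    obtain ⟨q', rfl⟩ := Polynomial.map_surjective _ Ideal.Quotient.mk_surjective q
    refine ⟨q'.coeff 0, fun h => hq0 ?_, ?_⟩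
    · rw [Polynomial.coeff_map, Ideal.Quotient.eq_zero_iff_mem]
      exact h
    · have h1 : Polynomial.aeval s q' ∈ p := by
        rw [← Ideal.algebraMap_residueField_eq_zero, ← hq, Polynomial.aeval_def, Polynomial.aeval_def,
          Polynomial.eval₂_map, Polynomial.hom_eval₂]
        congr 1
        refine RingHom.ext fun a => ?_
        show algebraMap E K (algebraMap A E a) = algebraMap K0 K (algebraMap (A ⧸ p0) K0 (Ideal.Quotient.mk p0 a))
        rw [← IsScalarTower.algebraMap_apply A E K,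
          show algebraMap (A ⧸ p0) K0 (Ideal.Quotient.mk p0 a) = algebraMap A K0 a from rfl,
          ← IsScalarTower.algebraMap_apply]
      have h2 : Polynomial.aeval s q' = s * Polynomial.aeval s q'.divX + algebraMap A E (q'.coeff 0) := by
        conv_lhs => rw [← Polynomial.X_mul_divX_add q', map_add, map_mul, Polynomial.aeval_X, Polynomial.aeval_C]
      rw [show algebraMap A E (q'.coeff 0) = Polynomial.aeval s q' - s * Polynomial.aeval s q'.divX by
        rw [h2]; ring]
      exact sub_mem (Ideal.mem_sup_left h1)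
        (Ideal.mem_sup_right (Ideal.mul_mem_right _ _ (Ideal.mem_span_singleton_self s)))
  -- clear the denominators
  obtain ⟨t, htP, htc⟩ : ∃ t, t ∉ P ∧ t * algebraMap A E c0 ∈ (maximalIdeal R).map (algebraMap R E) ⊔ Ideal.span {s} := by
    obtain ⟨a, ha, b, hb, hab⟩ := Submodule.mem_sup.1 hc0s
    have ha' : algebraMap E B a ∈ ((maximalIdeal R).map (algebraMap R E)).map (algebraMap E B) := by
      rw [Ideal.map_map, ← IsScalarTower.algebraMap_eq]
      exact ha
    obtain ⟨t, ht, hta⟩ := (IsLocalization.algebraMap_mem_map_algebraMap_iff P.primeCompl B _ _).1 ha'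
    refine ⟨t, ht, ?_⟩
    rw [← hab, mul_add]
    exact add_mem (Ideal.mem_sup_left hta) (Ideal.mem_sup_right (Ideal.mul_mem_left _ _ hb))
  let f := ξ c0
  have hf : f ≠ 0 := hc0
  have hu : Ideal.span {f} ≠ ⊤ := by
    intro htop
    obtain ⟨g, hg⟩ := Ideal.mem_span_singleton.1 (htop.symm ▸ Submodule.mem_top : (1 : MvPolynomial (Fin d) k) ∈ _)
    obtain ⟨g', rfl⟩ := hξ g
    have h1 : algebraMap A E (c0 * g') - 1 ∈ P := by
      have : c0 * g' - 1 ∈ p0 := by
        show ξ (c0 * g' - 1) = 0
        rw [map_sub, map_mul, map_one, sub_eq_zero]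
        exact hg.symm
      rw [← map_one (algebraMap A E), ← map_sub]
      exact hpP (show c0 * g' - 1 ∈ p.comap (algebraMap A E) from hpA ▸ this)
    have h2 : algebraMap A E c0 ∈ P := by
      obtain ⟨a, ha, b, hb, hab⟩ := Submodule.mem_sup.1 hc0s
      obtain ⟨c, rfl⟩ := Ideal.mem_span_singleton'.1 hb
      rw [← hab]
      exact add_mem (hpP ha) (Ideal.mul_mem_left _ _ hsP)
    refine ‹P.IsPrime›.ne_top ((Ideal.eq_top_iff_one _).2 ?_)
    have := sub_mem (Ideal.mul_mem_right (algebraMap A E g') _ h2) h1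
    simpa [map_mul] using this
  obtain ⟨e, hed, θ0, D, _, δ, hδ, hfin, hδker⟩ :=
    exists_finite_factor (Ideal.Quotient.mk (maximalIdeal R)) Ideal.Quotient.mk_surjective c0 hf hu
  let A' := MvPolynomial (Fin e) R
  let T := E ⧸ Ideal.span {s}
  let θ : A' →ₐ[R] T :=
    (Ideal.Quotient.mkₐ R (Ideal.span {s})).comp ((IsScalarTower.toAlgHom R A E).comp θ0)
  refine ⟨e, hed, θ, fun Pb _ hPb => ?_⟩
  letI : Algebra A' T := θ.toRingHom.toAlgebra
  haveI : IsScalarTower R A' T := IsScalarTower.of_algebraMap_eq fun r => (θ.commutes r).symm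
  letI : Algebra A' A := θ0.toRingHom.toAlgebra
  haveI : Algebra.FiniteType R E := inferInstance
  haveI : Algebra.FiniteType R T := inferInstance
  haveI : Algebra.FiniteType A' T := Algebra.FiniteType.of_restrictScalars_finiteType R A' T
  suffices Algebra.WeaklyQuasiFiniteAt A' Pb from Algebra.QuasiFiniteAt.of_weaklyQuasiFiniteAt (R := A') (S := T) Pb
  rw [Algebra.weaklyQuasiFiniteAt_iff]
  let L := Localization.AtPrime Pb
  let K := L ⧸ (Pb.under A').map (algebraMap A' L)
  let ρ : E →+* K := (Ideal.Quotient.mk _).comp ((algebraMap T L).comp (Ideal.Quotient.mk (Ideal.span {s})))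
  have hρs : ρ s = 0 := by
    show Ideal.Quotient.mk _ (algebraMap T L (Ideal.Quotient.mk (Ideal.span {s}) s)) = 0
    rw [Ideal.Quotient.eq_zero_iff_mem.2 (Ideal.mem_span_singleton_self s), map_zero, map_zero]
  have hPbu : ∀ u, u ∉ P → IsUnit (ρ u) := fun u hu => by
    have h1 : Ideal.Quotient.mk (Ideal.span {s}) u ∉ Pb := fun h => hu (hPb.le (Ideal.mem_comap.2 h))
    exact (IsLocalization.map_units L (⟨_, h1⟩ : Pb.primeCompl)).map
      (Ideal.Quotient.mk ((Pb.under A').map (algebraMap A' L)))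
  have hρR : ∀ r ∈ maximalIdeal R, ρ (algebraMap R E r) = 0 := by
    intro r hr
    show Ideal.Quotient.mk _ (algebraMap T L (algebraMap R T r)) = 0
    rw [Ideal.Quotient.eq_zero_iff_mem, IsScalarTower.algebraMap_apply R A' T, ← IsScalarTower.algebraMap_apply A' T L]
    refine Ideal.mem_map_of_mem _ ?_
    show algebraMap A' T (algebraMap R A' r) ∈ Pb
    rw [← IsScalarTower.algebraMap_apply]
    show algebraMap R E r ∈ Pb.comap (Ideal.Quotient.mk (Ideal.span {s}))
    rw [hPb]
    exact Ideal.mem_comap.1 (hP.ge hr)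
  have hρc : ρ (algebraMap A E c0) = 0 := by
    have hzero : ∀ x ∈ (maximalIdeal R).map (algebraMap R E) ⊔ Ideal.span {s}, ρ x = 0 := by
      intro x hx
      have hle : (maximalIdeal R).map (algebraMap R E) ⊔ Ideal.span {s} ≤ RingHom.ker ρ :=
        sup_le (Ideal.map_le_iff_le_comap.2 hρR) (Ideal.span_le.2 (Set.singleton_subset_iff.2 hρs))
      exact hle hx
    have := hzero _ htc
    rw [map_mul, (hPbu t htP).mul_right_eq_zero] at this
    exact this
  have hker : RingHom.ker δ ≤ RingHom.ker (ρ.comp (algebraMap A E)) := by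
    intro y hy
    obtain ⟨z, hz⟩ := hδker y hy
    have hm : y - c0 * z ∈ (maximalIdeal R).map (algebraMap R A) := hp0 ▸ hz
    show ρ (algebraMap A E y) = 0
    rw [show y = (y - c0 * z) + c0 * z by ring, map_add, map_add, map_mul, map_mul, hρc, zero_mul, add_zero]
    have hle : (maximalIdeal R).map (algebraMap R A) ≤ RingHom.ker (ρ.comp (algebraMap A E)) :=
      Ideal.map_le_iff_le_comap.2 fun r hr => by
        show ρ (algebraMap A E (algebraMap R A r)) = 0
        rw [← IsScalarTower.algebraMap_apply]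
        exact hρR r hr
    exact hle hm
  refine quasiFinite_of_factor δ hδ hfin ρ hker (fun y => ?_) fun z => ?_
  · rfl
  obtain ⟨x, rfl⟩ := Ideal.Quotient.mk_surjective z
  obtain ⟨x, u, rfl⟩ := IsLocalization.exists_mk'_eq Pb.primeCompl x
  obtain ⟨u0, hu0⟩ := Ideal.Quotient.mk_surjective (u : T)
  obtain ⟨x0, hx0⟩ := Ideal.Quotient.mk_surjective x
  refine ⟨u0, x0, hPbu u0 fun h => u.2 ?_, ?_⟩
  · rw [← hu0]
    exact Ideal.mem_comap.1 (hPb.ge h)
  · show Ideal.Quotient.mk _ _ * Ideal.Quotient.mk _ (algebraMap T L (Ideal.Quotient.mk _ u0)) =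
      Ideal.Quotient.mk _ (algebraMap T L (Ideal.Quotient.mk _ x0))
    rw [← map_mul, hx0, hu0, IsLocalization.mk'_spec]

end Groth.Agent.H4RG
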