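import Groth.Agent.H4BC.Content.Content
import Groth.Agent.MorLib.FlatBC
import Mathlib

/-!
# Flat modules over smooth local algebras with free closed fibre are free

If `C` is etale over a polynomial ring over a local ring `R`, `q` a prime of `C` over the maximal ideal
and `M` a finite `C_q`-module flat over `R`, then a minimal presentation `C_q^c → M` with kernel in
`𝔪_R C_q^c` is injective.  After making the point rational (base change to `C_q`) this follows from
the content ideal given by Taylor expansions along a section.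
-/

set_option autoImplicit false
set_option linter.style.haveILetI false

universe u

open MvPolynomial IsLocalRing
open scoped TensorProduct

namespace Groth.Agent.H4RG

open Groth.Agent.H4BC.Content

attribute [local instance] MvPolynomial.algebraMvPolynomial

/-- For a surjection onto a flat module, relations in `J F` are in `J` times the relations. -/
theorem mem_smul_ker {R : Type u} [CommRing R] {F M : Type u} [AddCommGroup F] [Module R F]
    [AddCommGroup M] [Module R M] [Module.Flat R M] (α : F →ₗ[R] M) (hα : Function.Surjective α)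
    (J : Ideal R) {x : F} (hx : x ∈ J • (⊤ : Submodule R F)) (h0 : α x = 0) :
    x ∈ J • LinearMap.ker α := by
  classical
  obtain ⟨l, f, a, hf, rfl⟩ : ∃ (l : ℕ) (f : Fin l → R) (a : Fin l → F), (∀ i, f i ∈ J) ∧ ∑ i, f i • a i = x := by
    refine Submodule.smul_induction_on hx (fun r hr y _ => ⟨1, fun _ => r, fun _ => y, fun _ => hr, by simp⟩) ?_
    rintro _ _ ⟨l, f, a, hf, rfl⟩ ⟨l', f', a', hf', rfl⟩
    exact ⟨l + l', Fin.append f f', Fin.append a a', fun i => Fin.addCases (fun i => by simpa using hf i)
      (fun i => by simpa using hf' i) i, by simp [Fin.sum_univ_add]⟩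
  obtain ⟨k, c, y, hy, hc⟩ := Module.Flat.isTrivialRelation_of_sum_smul_eq_zero (f := f) (x := α ∘ a)
    (by simpa [map_sum] using h0)
  choose b hb using fun j => hα (y j)
  have hsum : ∑ i, f i • a i = ∑ i, f i • (a i - ∑ j, c i j • b j) := by
    simp only [smul_sub, Finset.sum_sub_distrib, Finset.smul_sum, smul_smul]
    rw [Finset.sum_comm (f := fun i j => (f i * c i j) • b j)]
    simp only [← Finset.sum_smul]
    have : ∀ j, ∑ i, f i * c i j = 0 := fun j => by simpa [smul_eq_mul] using hc j
    simp [this]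
  rw [hsum]
  refine Submodule.sum_mem _ fun i _ => Submodule.smul_mem_smul (hf i) ?_
  rw [LinearMap.mem_ker, map_sub, map_sum]
  simp only [map_smul, hb]
  exact sub_eq_zero.2 (hy i)

theorem piScalarRight_subtype_tmul {A L : Type u} [CommRing A] [CommRing L] [Algebra A L] {c : ℕ}
    (K : Submodule A (Fin c → A)) (l : L) (k : K) :
    TensorProduct.piScalarRight A L L (Fin c) (K.subtype.lTensor L (l ⊗ₜ[A] k)) =
      fun j => algebraMap A L (k.1 j) * l := by
  funext j
  simp [TensorProduct.piScalarRight_apply, TensorProduct.piScalarRightHom_tmul, Algebra.smul_def]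

section core

variable {R C : Type u} [CommRing R] [CommRing C] [Algebra R C] {d : ℕ}
  [Algebra (MvPolynomial (Fin d) R) C] [IsScalarTower R (MvPolynomial (Fin d) R) C]
  [Algebra.Etale (MvPolynomial (Fin d) R) C]

/-- Coefficients of the expansion of an element divisible by an ideal are in the ideal. -/
theorem coeff_mem (σ : C →ₐ[R] R) {n : ℕ} {T : C →ₐ[MvPolynomial (Fin d) R] Pn d R n} (hT : IsExp σ n T)
    (J' : Ideal R) {v u : C} (hv : IsUnit (σ v)) (h : v * u ∈ J'.map (algebraMap R C))
    {P : MvPolynomial (Fin d) R} (hP : Ideal.Quotient.mk _ P = T u) (x : Fin d →₀ ℕ)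
    (hx : Finsupp.degree x < n) : P.coeff x ∈ J' := by
  have hu : IsUnit (T v) := by
    obtain ⟨N, hN⟩ := isNilpotent_map (d := d) (R := R) n
    have hnil : IsNilpotent (T v - Ideal.Quotient.mk _ (MvPolynomial.C (σ v))) :=
      ⟨N, by simpa [hN] using Ideal.pow_mem_pow (hT v) N⟩
    have := hnil.isUnit_add_left_of_commute
      ((hv.map MvPolynomial.C).map (Ideal.Quotient.mk ((idealOfVars (Fin d) R) ^ n))) (Commute.all _ _)
    simpa using this
  have hmem : T (v * u) ∈ J'.map ((Ideal.Quotient.mk ((idealOfVars (Fin d) R) ^ n)).comp MvPolynomial.C) := by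
    have h1 := Ideal.mem_map_of_mem T.toRingHom h
    rw [Ideal.map_map] at h1
    have hcomp : (Ideal.Quotient.mk ((idealOfVars (Fin d) R) ^ n)).comp MvPolynomial.C =
        T.toRingHom.comp (algebraMap R C) := RingHom.ext fun r => by
      show Ideal.Quotient.mk _ (MvPolynomial.C r) = T (algebraMap R C r)
      rw [IsScalarTower.algebraMap_apply R (MvPolynomial (Fin d) R) C, AlgHom.commutes]
      rfl
    rw [hcomp]
    exact h1
  rw [map_mul, Ideal.unit_mul_mem_iff_mem _ hu, ← hP, ← Ideal.map_map] at hmem
  rw [Ideal.mem_quotient_iff_mem_sup] at hmem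
  obtain ⟨a, ha, b, hb, rfl⟩ := Submodule.mem_sup.1 hmem
  rw [coeff_add, (mem_pow_idealOfVars_iff' _ _).1 hb x hx, add_zero]
  exact MvPolynomial.mem_map_C_iff.1 ha x

/-- An element all of whose expansions have coefficients in an ideal is divisible by it near the section. -/
theorem exists_mul_mem_map [IsLocalRing R] (σ : C →ₐ[R] R)
    (hσ : ∀ i, σ (crd (A := R) (B := C) (d := d) i) = 0) (J : Ideal R) (hJ : J ≤ maximalIdeal R) (u : C)
    (h : ∀ (n : ℕ) (T : C →ₐ[MvPolynomial (Fin d) R] Pn d R n), IsExp σ n T →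
      ∃ P : MvPolynomial (Fin d) R, Ideal.Quotient.mk _ P = T u ∧ ∀ x, Finsupp.degree x < n → P.coeff x ∈ J) :
    ∃ v : C, σ v ∉ maximalIdeal R ∧ v * u ∈ J.map (algebraMap R C) := by
  let φ : C →ₐ[R] R ⧸ J := (Ideal.Quotient.mkₐ R J).comp σ
  letI : Algebra (MvPolynomial (Fin d) (R ⧸ J)) ((R ⧸ J) ⊗[R] C) := (coordHom (d := d) φ).toAlgebra
  haveI : IsScalarTower (R ⧸ J) (MvPolynomial (Fin d) (R ⧸ J)) ((R ⧸ J) ⊗[R] C) :=
    IsScalarTower.of_algebraMap_eq fun r => (coordHom_C φ r).symm
  haveI : Algebra.Etale (MvPolynomial (Fin d) (R ⧸ J)) ((R ⧸ J) ⊗[R] C) :=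
    RingHom.etale_algebraMap.1 (etale_coordHom φ)
  let π : C →+* (R ⧸ J) ⊗[R] C := (Algebra.TensorProduct.includeRight (R := R) (A := R ⧸ J) (B := C)).toRingHom
  have hφc : ∀ i, φ (crd (A := R) (B := C) (d := d) i) = 0 := fun i => by simp [φ, hσ]
  have hπ : ∀ q, π (algebraMap (MvPolynomial (Fin d) R) C q) =
      algebraMap (MvPolynomial (Fin d) (R ⧸ J)) ((R ⧸ J) ⊗[R] C) (MvPolynomial.map (Ideal.Quotient.mk J) q) := by
    intro q
    show (1 : R ⧸ J) ⊗ₜ[R] algebraMap (MvPolynomial (Fin d) R) C q =
      coordHom (d := d) φ (MvPolynomial.map (Ideal.Quotient.mk J) q)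
    induction q using MvPolynomial.induction_on with
    | C a =>
      rw [map_C, coordHom_C, show MvPolynomial.C a = algebraMap R (MvPolynomial (Fin d) R) a from rfl,
        ← IsScalarTower.algebraMap_apply, Algebra.algebraMap_eq_smul_one, ← TensorProduct.smul_tmul,
        Algebra.TensorProduct.algebraMap_apply, Algebra.algebraMap_self, RingHom.id_apply, Algebra.smul_def,
        mul_one]
      rfl
    | add a b ha hb => simp only [map_add, TensorProduct.tmul_add, ha, hb]
    | mul_X a i ha =>
      rw [map_mul, map_mul, map_mul, map_X, ← ha,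
        show coordHom (d := d) φ (X i) = (1 : R ⧸ J) ⊗ₜ[R] crd (A := R) (B := C) i from by
          simp [coordHom, hφc],
        Algebra.TensorProduct.tmul_mul_tmul, one_mul]
      rfl
  have hσ' : ∀ c, sec φ (π c) = Ideal.Quotient.mk J (σ c) := fun c => by simp [π, sec_tmul, φ]
  have hz : ∀ n, ∀ T' : (R ⧸ J) ⊗[R] C →ₐ[MvPolynomial (Fin d) (R ⧸ J)] Pn d (R ⧸ J) n,
      IsExp (sec φ) n T' → T' (π u) = 0 := by
    intro n T' hT'
    have hσ0 : ∀ i, σ (algebraMap (MvPolynomial (Fin d) R) C (X i)) = 0 := hσ
    obtain ⟨T, hT⟩ := exists_isExp (d := d) σ hσ0 n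
    obtain ⟨P, hP, hPJ⟩ := h n T hT
    rw [isExp_natural σ (sec φ) (Ideal.Quotient.mk J) π hπ hσ' hT hT', ← hP, Ideal.quotientMap_mk,
      Ideal.Quotient.eq_zero_iff_mem, mem_pow_idealOfVars_iff']
    intro x hx
    rw [coeff_map, Ideal.Quotient.eq_zero_iff_mem]
    exact hPJ x hx
  haveI : Nontrivial (R ⧸ J) := Ideal.Quotient.nontrivial_iff.2
    fun htop => (maximalIdeal.isMaximal R).ne_top (top_le_iff.1 (htop ▸ hJ))
  have hle : RingHom.ker (Ideal.Quotient.mk J) ≤ maximalIdeal R := by rwa [Ideal.mk_ker]
  haveI : ((maximalIdeal R).map (Ideal.Quotient.mk J)).IsPrime :=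
    Ideal.map_isPrime_of_surjective Ideal.Quotient.mk_surjective hle
  obtain ⟨v', hv', hvu⟩ := exists_mul_eq_zero (d := d) (sec φ) (fun i => sec_coord φ i) hz
    ((maximalIdeal R).map (Ideal.Quotient.mk J))
  obtain ⟨v, rfl⟩ : ∃ v, π v = v' := by
    refine TensorProduct.induction_on v' ⟨0, map_zero _⟩ (fun r c => ?_) ?_
    · obtain ⟨r, rfl⟩ := Ideal.Quotient.mk_surjective r
      refine ⟨r • c, ?_⟩
      show (1 : R ⧸ J) ⊗ₜ[R] (r • c) = _
      rw [← TensorProduct.smul_tmul, Algebra.smul_def, mul_one]
      rfl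
    · rintro _ _ ⟨a, rfl⟩ ⟨b, rfl⟩
      exact ⟨a + b, map_add _ _ _⟩
  refine ⟨v, fun hm => hv' ?_, ?_⟩
  · rw [hσ']
    exact Ideal.mem_map_of_mem _ hm
  · rw [← map_mul] at hvu
    have h7 := congrArg (TensorProduct.quotTensorEquivQuotSMul C J) hvu
    rw [map_zero, show π (v * u) = (Ideal.Quotient.mk J 1) ⊗ₜ[R] (v * u) from rfl,
      TensorProduct.quotTensorEquivQuotSMul_mk_tmul, one_smul, Submodule.Quotient.mk_eq_zero,
      Ideal.smul_top_eq_map, Submodule.restrictScalars_mem] at h7
    exact h7

end core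

/-- The rational case. -/
theorem injective_of_section {R C : Type u} [CommRing R] [IsLocalRing R] [CommRing C] [Algebra R C] {d : ℕ}
    [Algebra (MvPolynomial (Fin d) R) C] [IsScalarTower R (MvPolynomial (Fin d) R) C]
    [Algebra.Etale (MvPolynomial (Fin d) R) C] (σ : C →ₐ[R] R)
    (hσ : ∀ i, σ (crd (A := R) (B := C) (d := d) i) = 0)
    (z : Ideal C) [z.IsPrime] (hz : z = (maximalIdeal R).comap σ.toRingHom)
    {c : ℕ} {M : Type u} [AddCommGroup M] [Module (Localization.AtPrime z) M] [Module R M]
    [IsScalarTower R (Localization.AtPrime z) M] [Module.Flat R M]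
    (α : (Fin c → Localization.AtPrime z) →ₗ[Localization.AtPrime z] M) (hα : Function.Surjective α)
    (hK : ∀ x, α x = 0 → x ∈ maximalIdeal R • (⊤ : Submodule R (Fin c → Localization.AtPrime z))) :
    Function.Injective α := by
  classical
  rw [← LinearMap.ker_eq_bot, eq_bot_iff]
  intro x hx
  rw [LinearMap.mem_ker] at hx
  let Cz := Localization.AtPrime z
  obtain ⟨b, hb⟩ := IsLocalization.exist_integer_multiples_of_finite z.primeCompl x
  choose u hu using hb
  have hu' : ∀ j, algebraMap C Cz (u j) = algebraMap C Cz b.1 * x j := fun j => by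
    rw [hu, Algebra.smul_def]
  have hbu : IsUnit (algebraMap C Cz b.1) := IsLocalization.map_units Cz b
  choose T hT using fun n => exists_isExp (d := d) σ hσ n
  choose P hP using fun n j => Ideal.Quotient.mk_surjective (T n (u j))
  let J : Ideal R :=
    Ideal.span {r | ∃ (n : ℕ) (j : Fin c) (e : Fin d →₀ ℕ), Finsupp.degree e < n ∧ (P n j).coeff e = r}
  have hdown : ∀ J' : Ideal R, x ∈ J' • (⊤ : Submodule R (Fin c → Cz)) → J ≤ J' := by
    intro J' hJ'
    refine Ideal.span_le.2 ?_
    rintro _ ⟨n, j, e, he, rfl⟩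
    have h1 : x j ∈ J' • (⊤ : Submodule R Cz) :=
      Submodule.smul_top_le_comap_smul_top J' (LinearMap.proj (R := R) (φ := fun _ : Fin c => Cz) j) hJ'
    rw [Ideal.smul_top_eq_map, Submodule.restrictScalars_mem] at h1
    have h2 : algebraMap C Cz (u j) ∈ (J'.map (algebraMap R C)).map (algebraMap C Cz) := by
      rw [Ideal.map_map, ← IsScalarTower.algebraMap_eq, hu']
      exact Ideal.mul_mem_left _ _ h1
    obtain ⟨v, hv, hvu⟩ := (IsLocalization.algebraMap_mem_map_algebraMap_iff z.primeCompl Cz _ _).1 h2
    refine coeff_mem σ (hT n) J' ?_ hvu (hP n j) e he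
    by_contra hnu
    exact hv (hz ▸ Ideal.mem_comap.2 ((IsLocalRing.mem_maximalIdeal _).2 hnu))
  have hJm : J ≤ maximalIdeal R := hdown _ (hK x hx)
  have hup : x ∈ J • (⊤ : Submodule R (Fin c → Cz)) := by
    have hone : ∀ j, x j ∈ J • (⊤ : Submodule R Cz) := by
      intro j
      obtain ⟨v, hv, hvu⟩ := exists_mul_mem_map (d := d) σ hσ J hJm (u j) fun n T' hT' => by
        refine ⟨P n j, ?_, fun e he => Ideal.subset_span ⟨n, j, e, he, rfl⟩⟩
        rw [isExp_unique σ hT' (hT n)]
        exact hP n j
      rw [Ideal.smul_top_eq_map, Submodule.restrictScalars_mem]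
      have h3 := Ideal.mem_map_of_mem (algebraMap C Cz) hvu
      have hvz : v ∈ z.primeCompl := fun h => hv (Ideal.mem_comap.1 (hz ▸ h))
      rw [map_mul, hu', Ideal.map_map, ← IsScalarTower.algebraMap_eq,
        Ideal.unit_mul_mem_iff_mem _ (IsLocalization.map_units Cz ⟨v, hvz⟩),
        Ideal.unit_mul_mem_iff_mem _ hbu] at h3
      exact h3
    rw [show x = ∑ j, LinearMap.single R (fun _ : Fin c => Cz) j (x j) from
      (Finset.univ_sum_single x).symm]
    exact Submodule.sum_mem _ fun j _ => Submodule.smul_top_le_comap_smul_top J _ (hone j)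
  obtain ⟨G, hG, hxG⟩ : ∃ G : Finset R, (G : Set R) ⊆ J ∧
      x ∈ Ideal.span (G : Set R) • (⊤ : Submodule R (Fin c → Cz)) := by
    refine Submodule.smul_induction_on hup (fun r hr y hy => ⟨{r}, by simpa using hr,
      Submodule.smul_mem_smul (Ideal.subset_span (by simp)) hy⟩) ?_
    rintro a a' ⟨G, hG, ha⟩ ⟨G', hG', ha'⟩
    exact ⟨G ∪ G', by simp [hG, hG'],
      add_mem (Submodule.smul_mono_left (Ideal.span_mono (by simp)) ha)
        (Submodule.smul_mono_left (Ideal.span_mono (by simp)) ha')⟩
  have hJfg : J.FG := ⟨G, le_antisymm (Ideal.span_le.2 hG) (hdown _ hxG)⟩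
  have hker : x ∈ J • LinearMap.ker (α.restrictScalars R) :=
    mem_smul_ker (α.restrictScalars R) hα J hup hx
  have h4 : J ≤ maximalIdeal R • J := by
    rw [Ideal.smul_eq_mul, mul_comm]
    refine hdown _ ?_
    rw [← Ideal.smul_eq_mul, Submodule.smul_assoc]
    exact Submodule.smul_mono le_rfl (fun y hy => hK y (LinearMap.mem_ker.1 hy)) hker
  have hbot : J = ⊥ := Submodule.eq_bot_of_le_smul_of_le_jacobson_bot (maximalIdeal R) J hJfg h4
    (maximalIdeal_le_jacobson ⊥)
  rw [hbot, Submodule.bot_smul] at hup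
  exact hup

/-- Base change along a point. -/
theorem injective_of_point {R C : Type u} [CommRing R] [IsLocalRing R] [CommRing C] [Algebra R C] {d : ℕ}
    [Algebra (MvPolynomial (Fin d) R) C] [IsScalarTower R (MvPolynomial (Fin d) R) C]
    [Algebra.Etale (MvPolynomial (Fin d) R) C] (q : Ideal C) [q.IsPrime]
    {R1 : Type u} [CommRing R1] [IsLocalRing R1] [Algebra R R1] [Module.Flat R R1]
    (φ : C →ₐ[R] R1) (hqφ : q = (maximalIdeal R1).comap φ.toRingHom)
    (hR1 : (maximalIdeal R).map (algebraMap R R1) ≤ maximalIdeal R1)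
    {c : ℕ} {M : Type u} [AddCommGroup M] [Module (Localization.AtPrime q) M] [Module R M]
    [IsScalarTower R (Localization.AtPrime q) M] [Module.Flat R M]
    (α : (Fin c → Localization.AtPrime q) →ₗ[Localization.AtPrime q] M) (hα : Function.Surjective α)
    (hK : ∀ x, α x = 0 → x ∈ maximalIdeal R • (⊤ : Submodule R (Fin c → Localization.AtPrime q))) :
    Function.Injective α := by
  classical
  let Cq := Localization.AtPrime q
  letI : Module C M := Module.compHom M (algebraMap C Cq)
  haveI : IsScalarTower C Cq M := IsScalarTower.of_algebraMap_smul fun _ _ => rfl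
  haveI : IsScalarTower R C M := IsScalarTower.of_algebraMap_smul fun r m => by
    rw [← algebraMap_smul Cq r m, ← algebraMap_smul Cq (algebraMap R C r) m,
      ← IsScalarTower.algebraMap_apply]
  haveI : Algebra.Smooth R (MvPolynomial (Fin d) R) := ⟨inferInstance, inferInstance⟩
  haveI : Algebra.Smooth R C := Algebra.Smooth.comp R (MvPolynomial (Fin d) R) C
  haveI : Module.Flat R C := inferInstance
  haveI : Module.Flat C Cq := IsLocalization.flat Cq q.primeCompl
  let C' := R1 ⊗[R] C
  letI : Algebra (MvPolynomial (Fin d) R1) C' := (coordHom (d := d) φ).toAlgebra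
  haveI : IsScalarTower R1 (MvPolynomial (Fin d) R1) C' :=
    IsScalarTower.of_algebraMap_eq fun r => (coordHom_C φ r).symm
  haveI : Algebra.Etale (MvPolynomial (Fin d) R1) C' := RingHom.etale_algebraMap.1 (etale_coordHom φ)
  let z : Ideal C' := (maximalIdeal R1).comap (sec φ).toRingHom
  haveI : z.IsPrime := Ideal.comap_isPrime _ _
  let L := Localization.AtPrime z
  letI : Algebra C C' := Algebra.TensorProduct.rightAlgebra
  haveI : IsScalarTower C C' L := inferInstance
  haveI : IsScalarTower R C L := IsScalarTower.of_algebraMap_eq fun r => by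
    rw [IsScalarTower.algebraMap_apply C C' L, ← IsScalarTower.algebraMap_apply R C C',
      ← IsScalarTower.algebraMap_apply R C' L]
  have hunit : ∀ s : q.primeCompl, IsUnit (algebraMap C L s) := by
    intro s
    refine IsLocalization.map_units L (⟨algebraMap C C' s, fun h => ?_⟩ : z.primeCompl)
    have h' : sec φ ((1 : R1) ⊗ₜ[R] (s : C)) ∈ maximalIdeal R1 := h
    rw [sec_tmul, one_mul] at h'
    exact s.2 ((SetLike.ext_iff.1 hqφ _).2 (Ideal.mem_comap.2 h'))
  let γ : Cq →+* L := IsLocalization.lift hunit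
  letI : Algebra Cq L := γ.toAlgebra
  haveI : IsScalarTower C Cq L := IsScalarTower.of_algebraMap_eq fun a => (IsLocalization.lift_eq hunit a).symm
  haveI : IsScalarTower R Cq L := IsScalarTower.of_algebraMap_eq fun r => by
    rw [IsScalarTower.algebraMap_apply R C Cq, ← IsScalarTower.algebraMap_apply C Cq L,
      ← IsScalarTower.algebraMap_apply R C L]
  haveI : IsLocalHom (algebraMap Cq L) := by
    refine ⟨fun a ha => ?_⟩
    obtain ⟨a, s, rfl⟩ := IsLocalization.exists_mk'_eq q.primeCompl a
    rw [IsLocalization.AtPrime.isUnit_mk'_iff Cq q]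
    intro haq
    have h1 : IsUnit (algebraMap C L a) := by
      have := IsLocalization.mk'_spec Cq a s
      have h2 := congrArg (algebraMap Cq L) this
      rw [map_mul, ← IsScalarTower.algebraMap_apply, ← IsScalarTower.algebraMap_apply] at h2
      rw [← h2]
      exact ha.mul (hunit s)
    have h3 : sec φ ((1 : R1) ⊗ₜ[R] a) ∉ maximalIdeal R1 := fun h =>
      (IsLocalization.AtPrime.isUnit_to_map_iff L z (algebraMap C C' a)).1 h1 h
    rw [sec_tmul, one_mul] at h3
    refine h3 ?_
    exact Ideal.mem_comap.1 ((SetLike.ext_iff.1 hqφ _).1 haq)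
  haveI : Module.Flat C C' := Module.Flat.of_linearEquiv
    (Algebra.IsPushout.equiv R C R1 C').toLinearEquiv.symm
  haveI : Module.Flat C' L := IsLocalization.flat L z.primeCompl
  haveI : Module.Flat C L := Module.Flat.trans C C' L
  haveI : Module.Flat Cq L := (Module.flat_iff_of_isLocalization Cq q.primeCompl L).2 inferInstance
  haveI : Module.FaithfullyFlat Cq L := Module.FaithfullyFlat.of_flat_of_isLocalHom
  -- the base change
  let M' := L ⊗[Cq] M
  haveI hflat : Module.Flat R1 M' := by
    letI : Algebra C C' := Algebra.TensorProduct.rightAlgebra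
    haveI : Algebra.IsPushout R R1 C C' := TensorProduct.isPushout
    exact MorLib.FlatBC.flat_core (R := R) (A := C) (B' := C') q.primeCompl
  let e := TensorProduct.piScalarRight Cq L L (Fin c)
  let α' : (Fin c → L) →ₗ[L] M' := (α.baseChange L).comp e.symm.toLinearMap
  have hα' : Function.Surjective α' := (LinearMap.lTensor_surjective L hα).comp e.symm.surjective
  have hK' : ∀ y, α' y = 0 → y ∈ maximalIdeal R1 • (⊤ : Submodule R1 (Fin c → L)) := by
    intro y hy
    obtain ⟨w, hw⟩ := (lTensor_exact L (LinearMap.exact_subtype_ker_map α) hα (e.symm y)).1 hy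
    rw [← e.apply_symm_apply y, ← hw]
    clear hw hy
    induction w using TensorProduct.induction_on with
    | zero => simp
    | add a a' ha ha' => rw [map_add, map_add]; exact add_mem ha ha'
    | tmul l k =>
      have hk := hK k.1 (LinearMap.mem_ker.1 k.2)
      have : e ((LinearMap.ker α).subtype.lTensor L (l ⊗ₜ[Cq] k)) = fun j => algebraMap Cq L (k.1 j) * l := by
        exact piScalarRight_subtype_tmul (LinearMap.ker α) l k
      rw [this]
      have key : ∀ m ∈ maximalIdeal R • (⊤ : Submodule R (Fin c → Cq)),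
          (fun j => algebraMap Cq L (m j) * l) ∈ maximalIdeal R1 • (⊤ : Submodule R1 (Fin c → L)) := by
        intro m hm
        refine Submodule.smul_induction_on hm (fun r hr f _ => ?_) (fun a a' ha ha' => ?_)
        · have hr1 : algebraMap R R1 r ∈ maximalIdeal R1 := by
            exact hR1 (Ideal.mem_map_of_mem _ hr)
          have : (fun j => algebraMap Cq L ((r • f) j) * l) =
              algebraMap R R1 r • fun j => algebraMap Cq L (f j) * l := by
            funext j
            simp only [Pi.smul_apply, Algebra.smul_def, map_mul]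
            rw [← IsScalarTower.algebraMap_apply R Cq L, ← IsScalarTower.algebraMap_apply R R1 L, mul_assoc]
          rw [this]
          exact Submodule.smul_mem_smul hr1 Submodule.mem_top
        · have : (fun j => algebraMap Cq L ((a + a') j) * l) =
              (fun j => algebraMap Cq L (a j) * l) + fun j => algebraMap Cq L (a' j) * l := by
            funext j; simp [add_mul]
          rw [this]
          exact add_mem ha ha'
      exact key _ hk
  have hinj : Function.Injective α' := injective_of_section (d := d) (R := R1) (C := C') (c := c) (M := M') (sec φ) (fun i => sec_coord φ i) z rfl α' hα' hK'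
  have hbc : Function.Injective (α.baseChange L) := by
    intro a a' haa
    refine e.injective (hinj ?_)
    show α.baseChange L (e.symm (e a)) = α.baseChange L (e.symm (e a'))
    simpa using haa
  exact (Module.FaithfullyFlat.lTensor_injective_iff_injective Cq L α).1 hbc

/-- A minimal presentation of a flat module over a smooth local algebra is injective. -/
theorem injective_of_ker_le {R C : Type u} [CommRing R] [IsLocalRing R] [CommRing C] [Algebra R C] {d : ℕ}
    [Algebra (MvPolynomial (Fin d) R) C] [IsScalarTower R (MvPolynomial (Fin d) R) C]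
    [Algebra.Etale (MvPolynomial (Fin d) R) C] (q : Ideal C) [q.IsPrime]
    (hq : q.comap (algebraMap R C) = maximalIdeal R)
    {c : ℕ} {M : Type u} [AddCommGroup M] [Module (Localization.AtPrime q) M] [Module R M]
    [IsScalarTower R (Localization.AtPrime q) M] [Module.Flat R M]
    (α : (Fin c → Localization.AtPrime q) →ₗ[Localization.AtPrime q] M) (hα : Function.Surjective α)
    (hK : ∀ x, α x = 0 → x ∈ maximalIdeal R • (⊤ : Submodule R (Fin c → Localization.AtPrime q))) :
    Function.Injective α := by
  haveI : Algebra.Smooth R (MvPolynomial (Fin d) R) := ⟨inferInstance, inferInstance⟩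
  haveI : Algebra.Smooth R C := Algebra.Smooth.comp R (MvPolynomial (Fin d) R) C
  let Cq := Localization.AtPrime q
  haveI : Module.Flat C Cq := IsLocalization.flat Cq q.primeCompl
  haveI : Module.Flat R Cq := Module.Flat.trans R C Cq
  refine injective_of_point (d := d) q (R1 := Cq) (IsScalarTower.toAlgHom R C Cq) ?_ ?_ α hα hK
  · exact (IsLocalization.AtPrime.comap_maximalIdeal Cq q).symm
  · rw [IsScalarTower.algebraMap_eq R C Cq, ← Ideal.map_map]
    exact (Ideal.map_mono (Ideal.map_le_iff_le_comap.2 hq.ge)).trans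
      (le_of_eq (Localization.AtPrime.map_eq_maximalIdeal))

end Groth.Agent.H4RG
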