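import Groth.Prelude
import Groth.Agent.MorLib.FlatBC
import Groth.Agent.Pi1X.UnivInj
import Groth.Agent.DescLib.ModDesc.Equivalence
import Mathlib

/-!
# Moving flatness and finite presentation between local rings
-/

set_option autoImplicit false
set_option linter.style.haveILetI false
set_option backward.isDefEq.respectTransparency.types false

universe u

open TensorProduct

namespace Groth.Agent.H4RG

/-- A module finitely presented over a ring, with scalars in a finite algebra, is finitely presented there. -/
theorem fp_of_fp_of_finite {B Γ M : Type u} [CommRing B] [CommRing Γ] [Algebra B Γ] [Module.Finite B Γ]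
    [AddCommGroup M] [Module B M] [Module Γ M] [IsScalarTower B Γ M] [Module.FinitePresentation B M] :
    Module.FinitePresentation Γ M := by
  haveI : Module.Finite Γ M := Module.Finite.of_restrictScalars_finite B Γ M
  obtain ⟨n, f, hf⟩ := Module.Finite.exists_fin' Γ M
  refine Module.finitePresentation_of_surjective f hf (Submodule.FG.of_restrictScalars B ?_)
  rw [← LinearMap.ker_restrictScalars]
  exact Module.FinitePresentation.fg_ker (f.restrictScalars B) hf

/-- For an integral extension with one prime `P1` over `P`, an element outside `P1` divides an element outside `P`. -/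
theorem exists_dvd_of_unique {E C : Type u} [CommRing E] [CommRing C] [Algebra E C] [Algebra.IsIntegral E C]
    (P : Ideal E) [P.IsPrime] (P1 : Ideal C) [P1.IsPrime]
    (huniq : ∀ Q : Ideal C, Q.IsPrime → Q.comap (algebraMap E C) = P → Q = P1) (c : C) (hc : c ∉ P1) :
    ∃ u ∉ P, ∃ c', c * c' = algebraMap E C u := by
  by_contra h
  push Not at h
  have hdisj : Disjoint (Ideal.span {c} : Set C) (Algebra.algebraMapSubmonoid C P.primeCompl) := by
    rw [Set.disjoint_left]
    rintro x hx ⟨u, hu, rfl⟩
    obtain ⟨c', hc'⟩ := Ideal.mem_span_singleton'.1 hx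
    exact h u hu c' (by rw [mul_comm, hc'])
  obtain ⟨Q, hQ, hcQ, hQd⟩ := Ideal.exists_le_prime_disjoint _ _ hdisj
  haveI := hQ
  have hQP : Q.comap (algebraMap E C) ≤ P := fun u hu => by
    by_contra huP
    exact Set.disjoint_left.1 hQd hu ⟨u, huP, rfl⟩
  obtain ⟨Q', hQQ', hQ', hQ'P⟩ := Ideal.exists_ideal_over_prime_of_isIntegral P Q hQP
  exact hc (huniq Q' hQ' hQ'P ▸ hQQ' (hcQ (Ideal.mem_span_singleton_self c)))

section restrict

variable {E C : Type u} [CommRing E] [CommRing C] [Algebra E C] (P : Ideal E) [P.IsPrime] (P1 : Ideal C) [P1.IsPrime]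
variable {M : Type u} [AddCommGroup M] [Module C M] [Module E M] [IsScalarTower E C M]

theorem isLocalizedModule_restrict (hP : P1.comap (algebraMap E C) = P)
    (hdiv : ∀ c ∉ P1, ∃ u ∉ P, ∃ c', c * c' = algebraMap E C u) {M' : Type u} [AddCommGroup M'] [Module C M'] [Module E M']
    [IsScalarTower E C M'] (f : M →ₗ[C] M') [IsLocalizedModule P1.primeCompl f] :
    IsLocalizedModule P.primeCompl (f.restrictScalars E) where
  map_units u := by
    rw [Module.End.isUnit_iff]
    have hu : algebraMap E C u ∈ P1.primeCompl := fun h => u.2 (hP.le h)
    have := (Module.End.isUnit_iff _).1 (IsLocalizedModule.map_units f (⟨_, hu⟩ : P1.primeCompl))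
    convert this using 1
    funext m
    exact (algebraMap_smul C (u : E) m).symm
  surj z := by
    obtain ⟨⟨m, c⟩, hmc⟩ := IsLocalizedModule.surj P1.primeCompl f z
    obtain ⟨u, hu, c', hc'⟩ := hdiv c c.2
    refine ⟨⟨c' • m, ⟨u, hu⟩⟩, ?_⟩
    show u • z = f (c' • m)
    rw [map_smul, ← hmc, Submonoid.smul_def, smul_smul, ← algebraMap_smul C u z, ← hc', mul_comm]
  exists_of_eq {m₁ m₂} h := by
    obtain ⟨c, hc⟩ := IsLocalizedModule.exists_of_eq (S := P1.primeCompl) (f := f) h
    obtain ⟨u, hu, c', hc'⟩ := hdiv c c.2
    refine ⟨⟨u, hu⟩, ?_⟩
    show u • m₁ = u • m₂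
    rw [← algebraMap_smul C u m₁, ← algebraMap_smul C u m₂, ← hc', mul_comm, mul_smul, mul_smul]
    exact congrArg (c' • ·) hc

variable (hP : P1.comap (algebraMap E C) = P) (hdiv : ∀ c ∉ P1, ∃ u ∉ P, ∃ c', c * c' = algebraMap E C u)
include hP hdiv

theorem flat_restrict_iff {R : Type u} [CommRing R] [Algebra R E] [Algebra R C] [IsScalarTower R E C]
    [Module R M] [IsScalarTower R C M] [IsScalarTower R E M] :
    Module.Flat R (LocalizedModule P1.primeCompl M) ↔ Module.Flat R (LocalizedModule P.primeCompl M) := by
  haveI : IsScalarTower E C (LocalizedModule P1.primeCompl M) := inferInstance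
  haveI := isLocalizedModule_restrict P P1 hP hdiv (LocalizedModule.mkLinearMap P1.primeCompl M)
  let e := IsLocalizedModule.iso P.primeCompl ((LocalizedModule.mkLinearMap P1.primeCompl M).restrictScalars E)
  exact ⟨fun _ => Module.Flat.of_linearEquiv (e.restrictScalars R),
    fun _ => Module.Flat.of_linearEquiv (e.restrictScalars R).symm⟩

/-- Finite presentation passes to a finite algebra with one prime. -/
theorem fp_of_fp_finite [Module.Finite E C]
    (h : Module.FinitePresentation (Localization.AtPrime P) (LocalizedModule P.primeCompl M)) :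
    Module.FinitePresentation (Localization.AtPrime P1) (LocalizedModule P1.primeCompl M) := by
  let EP := Localization.AtPrime P
  let CP := Localization.AtPrime P1
  letI : Algebra EP CP := (Localization.localRingHom P P1 (algebraMap E C) hP.symm).toAlgebra
  haveI : IsScalarTower E EP CP := IsScalarTower.of_algebraMap_eq fun x => by
    show _ = Localization.localRingHom P P1 (algebraMap E C) hP.symm (algebraMap E EP x)
    rw [Localization.localRingHom_to_map, ← IsScalarTower.algebraMap_apply]
  let M' := LocalizedModule P1.primeCompl M
  letI : Module EP M' := Module.compHom M' (algebraMap EP CP)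
  haveI : IsScalarTower EP CP M' := ⟨fun x y m => mul_smul (algebraMap EP CP x) y m⟩
  haveI : IsScalarTower E EP M' := IsScalarTower.of_algebraMap_smul fun x m => by
    show algebraMap EP CP (algebraMap E EP x) • m = x • m
    rw [← IsScalarTower.algebraMap_apply, algebraMap_smul]
  haveI := isLocalizedModule_restrict P P1 hP hdiv (LocalizedModule.mkLinearMap P1.primeCompl M)
  let e := (IsLocalizedModule.iso P.primeCompl ((LocalizedModule.mkLinearMap P1.primeCompl M).restrictScalars E)).extendScalarsOfIsLocalization
    P.primeCompl EP
  haveI : Module.FinitePresentation EP M' := Module.FinitePresentation.of_equiv e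
  haveI := isLocalizedModule_restrict P P1 hP hdiv (Algebra.linearMap C CP)
  haveI : Module.Finite EP CP :=
    Module.Finite.of_isLocalizedModule P.primeCompl ((Algebra.linearMap C CP).restrictScalars E)
  exact fp_of_fp_of_finite (B := EP)

/-- Finite presentation passes from a finitely presented algebra with one prime. -/
theorem fp_of_fp_fp [Module.FinitePresentation E C]
    (h : Module.FinitePresentation (Localization.AtPrime P1) (LocalizedModule P1.primeCompl M)) :
    Module.FinitePresentation (Localization.AtPrime P) (LocalizedModule P.primeCompl M) := by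
  let EP := Localization.AtPrime P
  let CP := Localization.AtPrime P1
  letI : Algebra EP CP := (Localization.localRingHom P P1 (algebraMap E C) hP.symm).toAlgebra
  haveI : IsScalarTower E EP CP := IsScalarTower.of_algebraMap_eq fun x => by
    show _ = Localization.localRingHom P P1 (algebraMap E C) hP.symm (algebraMap E EP x)
    rw [Localization.localRingHom_to_map, ← IsScalarTower.algebraMap_apply]
  let M' := LocalizedModule P1.primeCompl M
  letI : Module EP M' := Module.compHom M' (algebraMap EP CP)
  haveI : IsScalarTower EP CP M' := ⟨fun x y m => mul_smul (algebraMap EP CP x) y m⟩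
  haveI : IsScalarTower E EP M' := IsScalarTower.of_algebraMap_smul fun x m => by
    show algebraMap EP CP (algebraMap E EP x) • m = x • m
    rw [← IsScalarTower.algebraMap_apply, algebraMap_smul]
  haveI := isLocalizedModule_restrict P P1 hP hdiv (LocalizedModule.mkLinearMap P1.primeCompl M)
  let e := (IsLocalizedModule.iso P.primeCompl ((LocalizedModule.mkLinearMap P1.primeCompl M).restrictScalars E)).extendScalarsOfIsLocalization
    P.primeCompl EP
  haveI := isLocalizedModule_restrict P P1 hP hdiv (Algebra.linearMap C CP)
  haveI : Module.FinitePresentation EP CP :=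
    FinitePresentation.of_isBaseChange ((Algebra.linearMap C CP).restrictScalars E)
      (IsLocalizedModule.isBaseChange P.primeCompl EP _)
  haveI : Module.FinitePresentation EP M' := Module.FinitePresentation.trans EP M' CP
  exact Module.FinitePresentation.of_equiv e.symm

end restrict

section baseChange

variable {T C : Type u} [CommRing T] [CommRing C] [Algebra T C] [Module.Flat T C] (P : Ideal T) [P.IsPrime]
  (P1 : Ideal C) [P1.IsPrime] (hP : P1.comap (algebraMap T C) = P)
  (N : Type u) [AddCommGroup N] [Module T N]
include hP

theorem baseChange_aux : ∃ (_ : Algebra (Localization.AtPrime P) (Localization.AtPrime P1)),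
    Module.FaithfullyFlat (Localization.AtPrime P) (Localization.AtPrime P1) ∧
    IsScalarTower T (Localization.AtPrime P) (Localization.AtPrime P1) ∧
    Nonempty (Localization.AtPrime P1 ⊗[Localization.AtPrime P] LocalizedModule P.primeCompl N ≃ₗ[Localization.AtPrime P1]
      LocalizedModule P1.primeCompl (C ⊗[T] N)) := by
  let TP := Localization.AtPrime P
  let L := Localization.AtPrime P1
  letI alg : Algebra TP L := (Localization.localRingHom P P1 (algebraMap T C) hP.symm).toAlgebra
  haveI htow : IsScalarTower T TP L := IsScalarTower.of_algebraMap_eq fun x => by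
    show _ = Localization.localRingHom P P1 (algebraMap T C) hP.symm (algebraMap T TP x)
    rw [Localization.localRingHom_to_map, ← IsScalarTower.algebraMap_apply]
  haveI : IsLocalHom (algebraMap TP L) := Localization.isLocalHom_localRingHom P P1 (algebraMap T C) hP.symm
  haveI : Module.Flat T L := Module.Flat.trans T C L
  haveI : Module.Flat TP L := (Module.flat_iff_of_isLocalization TP P.primeCompl L).2 ‹_›
  refine ⟨alg, Module.FaithfullyFlat.of_flat_of_isLocalHom, htow, ?_⟩
  let f : N →ₗ[T] C ⊗[T] N := TensorProduct.mk T C N 1
  have hf : IsBaseChange C f := TensorProduct.isBaseChange T N C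
  let L' := LocalizedModule P1.primeCompl (C ⊗[T] N)
  let g : C ⊗[T] N →ₗ[C] L' := LocalizedModule.mkLinearMap _ _
  have hg : IsBaseChange L g := IsLocalizedModule.isBaseChange P1.primeCompl L g
  haveI : IsScalarTower T L L' := IsScalarTower.of_algebraMap_smul fun x m => by
    rw [IsScalarTower.algebraMap_apply T C L, algebraMap_smul, algebraMap_smul]
  have hgf : IsBaseChange L ((g.restrictScalars T).comp f) := hf.comp hg
  letI : Module TP L' := Module.compHom L' (algebraMap TP L)
  haveI : IsScalarTower TP L L' := ⟨fun x y m => mul_smul (algebraMap TP L x) y m⟩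
  haveI : IsScalarTower T TP L' := IsScalarTower.of_algebraMap_smul fun x m => by
    show algebraMap TP L (algebraMap T TP x) • m = x • m
    rw [← IsScalarTower.algebraMap_apply, algebraMap_smul]
  let i : N →ₗ[T] LocalizedModule P.primeCompl N := LocalizedModule.mkLinearMap _ _
  have hu : ∀ u : P.primeCompl, IsUnit (algebraMap T (Module.End T L') u) := fun u => by
    rw [Module.End.isUnit_iff]
    have h1 : IsUnit (algebraMap TP L (algebraMap T TP u)) := (IsLocalization.map_units TP u).map _
    have h2 : Function.Bijective fun m : L' => algebraMap TP L (algebraMap T TP u) • m :=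
      h1.smul_bijective
    convert h2 using 1
    funext m
    show (u : T) • m = _
    rw [← IsScalarTower.algebraMap_apply, algebraMap_smul]
  let h0 : LocalizedModule P.primeCompl N →ₗ[T] L' :=
    IsLocalizedModule.lift P.primeCompl i ((g.restrictScalars T).comp f) hu
  let h : LocalizedModule P.primeCompl N →ₗ[TP] L' := h0.extendScalarsOfIsLocalization P.primeCompl TP
  have hi : IsBaseChange TP i := IsLocalizedModule.isBaseChange P.primeCompl TP i
  have hcomp : (h.restrictScalars T).comp i = (g.restrictScalars T).comp f :=
    IsLocalizedModule.lift_comp P.primeCompl i _ hu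
  exact ⟨(IsBaseChange.of_comp hi (hcomp.symm ▸ hgf : IsBaseChange L ((h.restrictScalars T).comp i))).equiv⟩

/-- Flatness at a prime over the base is kept by flat base change. -/
theorem flat_baseChange {R : Type u} [CommRing R] [Algebra R T] [Algebra R C] [IsScalarTower R T C]
    [Module R N] [IsScalarTower R T N] [Module.Flat R (LocalizedModule P.primeCompl N)] :
    Module.Flat R (LocalizedModule P1.primeCompl (C ⊗[T] N)) := by
  obtain ⟨alg, _, htow, ⟨e⟩⟩ := baseChange_aux P P1 hP N
  letI := alg
  let TP := Localization.AtPrime P
  let L := Localization.AtPrime P1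
  haveI : IsScalarTower R TP L := IsScalarTower.of_algebraMap_eq fun x => by
    rw [IsScalarTower.algebraMap_apply R T TP, ← IsScalarTower.algebraMap_apply T TP L,
      IsScalarTower.algebraMap_apply R C L, IsScalarTower.algebraMap_apply R T C,
      ← IsScalarTower.algebraMap_apply T C L]
  haveI : Module.Flat R (L ⊗[TP] LocalizedModule P.primeCompl N) := MorLib.FlatBC.flat_tensor_of_flat
  exact Module.Flat.of_linearEquiv (e.restrictScalars R).symm

/-- Finite presentation at a prime descends along flat base change. -/
theorem fp_of_baseChange
    (h : Module.FinitePresentation (Localization.AtPrime P1) (LocalizedModule P1.primeCompl (C ⊗[T] N))) :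
    Module.FinitePresentation (Localization.AtPrime P) (LocalizedModule P.primeCompl N) := by
  obtain ⟨alg, hff, htow, ⟨e⟩⟩ := baseChange_aux P P1 hP N
  letI := alg
  haveI : Module.FinitePresentation (Localization.AtPrime P1)
      (Localization.AtPrime P1 ⊗[Localization.AtPrime P] LocalizedModule P.primeCompl N) :=
    haveI := h
    Module.FinitePresentation.of_equiv (M := LocalizedModule P1.primeCompl (C ⊗[T] N)) e.symm
  exact Pi1X.finitePresentation_descends (S := Localization.AtPrime P1)
    DescLib.ModDesc.univInjective_of_faithfullyFlat _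

end baseChange

end Groth.Agent.H4RG
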