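import Groth.Agent.S2107
import Groth.Agent.DiagThree.Sym
import Groth.Agent.W4Lib.Flat
import Mathlib

/-!
# The generic point of the closed fibre of a smooth algebra at a prime
-/

set_option autoImplicit false
set_option linter.style.haveILetI false

universe u

open IsLocalRing TensorProduct

namespace Groth.Agent.H4RG

variable {R E : Type u} [CommRing R] [IsLocalRing R] [CommRing E] [Algebra R E] [Algebra.Smooth R E]
  (P : Ideal E) [P.IsPrime]

/-- The extended maximal ideal is prime in a smooth local algebra. -/
theorem isPrime_map_maximalIdeal (hP : P.comap (algebraMap R E) = maximalIdeal R) :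
    ((maximalIdeal R).map (algebraMap R (Localization.AtPrime P))).IsPrime := by
  let k := R ⧸ maximalIdeal R
  letI : Field k := Ideal.Quotient.field _
  let Ek := k ⊗[R] E
  let ι : E →+* Ek := (Algebra.TensorProduct.includeRight (R := R) (A := k) (B := E)).toRingHom
  have hι : Function.Surjective ι := fun z => by
    refine TensorProduct.induction_on z ⟨0, map_zero _⟩ (fun r e => ?_) ?_
    · obtain ⟨r, rfl⟩ := Ideal.Quotient.mk_surjective r
      refine ⟨r • e, ?_⟩
      show (1 : k) ⊗ₜ[R] (r • e) = _
      rw [← smul_tmul, Algebra.smul_def, mul_one]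
      rfl
    · rintro _ _ ⟨a, rfl⟩ ⟨b, rfl⟩
      exact ⟨a + b, map_add _ _ _⟩
  have hker : ∀ e, ι e = 0 → e ∈ (maximalIdeal R).map (algebraMap R E) := fun e he => by
    have h := congrArg (TensorProduct.quotTensorEquivQuotSMul E (maximalIdeal R))
      (show (Ideal.Quotient.mk (maximalIdeal R) 1) ⊗ₜ[R] e = 0 from he)
    rw [map_zero, TensorProduct.quotTensorEquivQuotSMul_mk_tmul, one_smul, Submodule.Quotient.mk_eq_zero,
      Ideal.smul_top_eq_map, Submodule.restrictScalars_mem] at h
    exact h
  have hmP : (maximalIdeal R).map (algebraMap R E) ≤ P := Ideal.map_le_iff_le_comap.2 hP.ge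
  let Pk : Ideal Ek := P.map ι
  haveI : Pk.IsPrime :=
    Ideal.map_isPrime_of_surjective hι fun e he => hmP (hker e (RingHom.mem_ker.1 he))
  haveI : Nontrivial Ek := nontrivial_of_ne 0 1 fun h => ‹Pk.IsPrime›.ne_top ((Ideal.eq_top_iff_one _).2 (h ▸ zero_mem Pk))
  haveI : Algebra.Smooth k Ek := inferInstance
  haveI := DiagThree.isRegularRing_of_smooth_field k Ek
  haveI : IsRegularLocalRing (Localization.AtPrime Pk) := IsRegularRing.isRegularLocalRing_localization Pk
  haveI := RegLoc6.isDomain_of_isRegularLocalRing (Localization.AtPrime Pk)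
  have hPcomap : P = Pk.comap ι := by
    refine le_antisymm Ideal.le_comap_map ?_
    intro e he
    obtain ⟨e', he', hee⟩ := (Ideal.mem_map_iff_of_surjective ι hι).1 (Ideal.mem_comap.1 he)
    have := hmP (hker (e - e') (by rw [map_sub, hee, sub_self]))
    simpa using add_mem this he'
  let ν : Localization.AtPrime P →+* Localization.AtPrime Pk := Localization.localRingHom P Pk ι hPcomap
  have hmB : (maximalIdeal R).map (algebraMap R (Localization.AtPrime P)) = RingHom.ker ν := by
    refine le_antisymm (Ideal.map_le_iff_le_comap.2 fun r hr => ?_) fun x hx => ?_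
    · rw [Ideal.mem_comap, RingHom.mem_ker, IsScalarTower.algebraMap_apply R E (Localization.AtPrime P),
        Localization.localRingHom_to_map, show ι (algebraMap R E r) = 0 from ?_, map_zero]
      show (1 : k) ⊗ₜ[R] algebraMap R E r = 0
      rw [Algebra.algebraMap_eq_smul_one, ← smul_tmul, Algebra.smul_def, mul_one,
        show algebraMap R k r = 0 from Ideal.Quotient.eq_zero_iff_mem.2 hr, zero_tmul]
    · obtain ⟨a, s, rfl⟩ := IsLocalization.exists_mk'_eq P.primeCompl x
      rw [RingHom.mem_ker, Localization.localRingHom_mk', IsLocalization.mk'_eq_zero_iff] at hx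
      obtain ⟨u, hu⟩ := hx
      obtain ⟨u', hu'⟩ := hι u
      rw [← hu', ← map_mul] at hu
      have hu'P : u' ∈ P.primeCompl := fun h => u.2 (hu' ▸ Ideal.mem_map_of_mem ι h)
      rw [IsScalarTower.algebraMap_eq R E (Localization.AtPrime P), ← Ideal.map_map]
      exact (IsLocalization.mk'_mem_map_algebraMap_iff P.primeCompl _ _ _ _).2 ⟨u', hu'P, hker _ hu⟩
  rw [hmB]
  exact RingHom.ker_isPrime ν

variable (hP : P.comap (algebraMap R E) = maximalIdeal R)

include hP in
/-- Elements nonzero at the generic point of the closed fibre act injectively modulo every ideal. -/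
theorem mem_map_of_mul_mem_map {s : E}
    (hs : algebraMap E (Localization.AtPrime P) s ∉ (maximalIdeal R).map (algebraMap R (Localization.AtPrime P)))
    (J : Ideal R) {x : Localization.AtPrime P}
    (hx : algebraMap E (Localization.AtPrime P) s * x ∈ J.map (algebraMap R (Localization.AtPrime P))) :
    x ∈ J.map (algebraMap R (Localization.AtPrime P)) := by
  let B := Localization.AtPrime P
  haveI := isPrime_map_maximalIdeal P hP
  haveI : Module.Flat R E := inferInstance
  haveI : Module.Flat E B := IsLocalization.flat B P.primeCompl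
  haveI : Module.Flat R B := Module.Flat.trans R E B
  haveI : IsLocalHom (algebraMap R B) := by
    refine ⟨fun r hr => ?_⟩
    by_contra h
    rw [IsScalarTower.algebraMap_apply R E B] at hr
    exact (IsLocalization.AtPrime.isUnit_to_map_iff B P _).1 hr
      (Ideal.mem_comap.1 (hP.ge ((IsLocalRing.mem_maximalIdeal _).2 h)))
  let u : B →ₗ[B] B := LinearMap.lsmul B B (algebraMap E B s)
  have hu : ∀ y : B, u y ∈ (maximalIdeal R).map (algebraMap R B) • (⊤ : Submodule B B) →
      y ∈ (maximalIdeal R).map (algebraMap R B) • (⊤ : Submodule B B) := by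
    intro y hy
    rw [smul_eq_mul, Ideal.mul_top] at hy ⊢
    exact ((Ideal.IsPrime.mem_or_mem inferInstance (show algebraMap E B s * y ∈ _ from hy))).resolve_left hs
  obtain ⟨hinj, hflat⟩ := S2107.result (R := R) (S := B)
    ⟨E, inferInstance, inferInstance, inferInstance, inferInstance, P.primeCompl, inferInstance, inferInstance⟩ u hu
  haveI := hflat
  have h := W4Lib.lTensor_injective_of_flat_quotient (R := R) (f := u.restrictScalars R)
    (g := (LinearMap.range u).mkQ.restrictScalars R) hinj
    (fun y => ⟨fun hy => (Submodule.Quotient.mk_eq_zero _).1 hy, fun hy => (Submodule.Quotient.mk_eq_zero _).2 hy⟩)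
    (Submodule.mkQ_surjective _) (R ⧸ J)
  have h0 : ((Ideal.Quotient.mk J) 1) ⊗ₜ[R] x = 0 := by
    refine h ?_
    rw [map_zero, LinearMap.lTensor_tmul]
    refine (TensorProduct.quotTensorEquivQuotSMul B J).injective ?_
    rw [map_zero, TensorProduct.quotTensorEquivQuotSMul_mk_tmul, one_smul, Submodule.Quotient.mk_eq_zero,
      Ideal.smul_top_eq_map, Submodule.restrictScalars_mem]
    exact hx
  have h7 := congrArg (TensorProduct.quotTensorEquivQuotSMul B J) h0
  rw [map_zero, TensorProduct.quotTensorEquivQuotSMul_mk_tmul, one_smul, Submodule.Quotient.mk_eq_zero,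
    Ideal.smul_top_eq_map, Submodule.restrictScalars_mem] at h7
  exact h7

end Groth.Agent.H4RG
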