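import Groth.Prelude
import Groth.Agent.H4RG.Free
import Groth.Agent.H4RG.SmoothPrime
import Groth.Agent.H4RG.Cut
import Groth.Agent.H4RG.LocalTransfer
import Groth.Agent.FlatModel.Local
import Mathlib

/-!
# Flat finite modules are finitely presented at each prime: devissage on the relative dimension
-/

set_option autoImplicit false
set_option linter.style.haveILetI false
set_option backward.isDefEq.respectTransparency.types false

universe u

open TensorProduct IsLocalRing MvPolynomial

namespace Groth.Agent.H4RG

/-- A quotient of a flat module by a pure submodule is flat. -/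
theorem flat_coker {R F N : Type u} [CommRing R] [AddCommGroup F] [Module R F] [AddCommGroup N] [Module R N]
    [Module.Flat R N] {Q : Type u} [AddCommGroup Q] [Module R Q] (α : F →ₗ[R] N) (β : N →ₗ[R] Q)
    (hex : Function.Exact α β) (hβ : Function.Surjective β)
    (hpure : ∀ (J : Ideal R) (x : F), α x ∈ J • (⊤ : Submodule R N) → x ∈ J • (⊤ : Submodule R F)) :
    Module.Flat R Q := by
  rw [Module.Flat.iff_rTensor_injective']
  intro J
  rw [injective_iff_map_eq_zero]
  intro y hy
  obtain ⟨z, rfl⟩ := LinearMap.lTensor_surjective J hβ y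
  have hcomm : ∀ w : J ⊗[R] N, β (TensorProduct.lid R N (J.subtype.rTensor N w)) =
      TensorProduct.lid R Q (J.subtype.rTensor Q (β.lTensor J w)) := by
    intro w
    induction w using TensorProduct.induction_on with
    | zero => simp
    | add a b ha hb => simp [ha, hb]
    | tmul j n => simp
  have hz : β (TensorProduct.lid R N (J.subtype.rTensor N z)) = 0 := by rw [hcomm, hy, map_zero]
  obtain ⟨x, hx⟩ := (hex _).1 hz
  have hrange : ∀ (M : Type u) [AddCommGroup M] [Module R M] (w : J ⊗[R] M),
      TensorProduct.lid R M (J.subtype.rTensor M w) ∈ J • (⊤ : Submodule R M) := by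
    intro M _ _ w
    induction w using TensorProduct.induction_on with
    | zero => simp
    | add a b ha hb => simpa using add_mem ha hb
    | tmul j n => simpa using Submodule.smul_mem_smul j.2 Submodule.mem_top
  have hxJ := hpure J x (hx ▸ hrange N z)
  have hsurj : ∀ x ∈ J • (⊤ : Submodule R F), ∃ w : J ⊗[R] F, TensorProduct.lid R F (J.subtype.rTensor F w) = x := by
    intro x hx
    refine Submodule.smul_induction_on hx (fun r hr n _ => ⟨⟨r, hr⟩ ⊗ₜ n, by simp⟩) ?_
    rintro a b ⟨wa, rfl⟩ ⟨wb, rfl⟩
    exact ⟨wa + wb, by simp⟩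
  obtain ⟨w, hw⟩ := hsurj x hxJ
  have hinj : Function.Injective (J.subtype.rTensor N) :=
    Module.Flat.rTensor_preserves_injective_linearMap _ Subtype.val_injective
  have hzw : z = α.lTensor J w := by
    refine hinj ((TensorProduct.lid R N).injective ?_)
    rw [← hx, ← hw]
    clear hw
    induction w using TensorProduct.induction_on with
    | zero => simp
    | add a b ha hb => simp [ha, hb]
    | tmul j n => simp
  rw [hzw, ← LinearMap.lTensor_comp_apply, hex.linearMap_comp_eq_zero]
  simp

/-- The statement proved by induction on the relative dimension. -/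
def FPAt (d : ℕ) : Prop :=
  ∀ (R E : Type u) [CommRing R] [IsLocalRing R] [CommRing E] [Algebra R E] [Algebra (MvPolynomial (Fin d) R) E]
    [IsScalarTower R (MvPolynomial (Fin d) R) E] [Algebra.Etale (MvPolynomial (Fin d) R) E]
    (P : Ideal E) [P.IsPrime], P.comap (algebraMap R E) = maximalIdeal R →
    ∀ (M : Type u) [AddCommGroup M] [Module E M] [Module R M] [IsScalarTower R E M] [Module.Finite E M],
      Module.Flat R (LocalizedModule P.primeCompl M) →
      Module.FinitePresentation (Localization.AtPrime P) (LocalizedModule P.primeCompl M)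

/-- The induction step, after an etale neighbourhood making the algebra finite has been chosen. -/
theorem fp_step_core {d : ℕ} (IH : FPAt.{u} d) {R T E C : Type u} [CommRing R] [IsLocalRing R] [CommRing T]
    [Algebra R T] [CommRing E] [Algebra R E] [Algebra (MvPolynomial (Fin d) R) E]
    [IsScalarTower R (MvPolynomial (Fin d) R) E] [Algebra.Etale (MvPolynomial (Fin d) R) E]
    [CommRing C] [Algebra E C] [Module.Finite E C] [Algebra T C] [Module.Flat T C] [Algebra R C]
    [IsScalarTower R E C] [IsScalarTower R T C]
    (P' : Ideal E) [P'.IsPrime] (hP' : P'.comap (algebraMap R E) = maximalIdeal R)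
    (P1 : Ideal C) [P1.IsPrime] (h1 : P1.comap (algebraMap E C) = P')
    (huniq : ∀ Q : Ideal C, Q.IsPrime → Q.comap (algebraMap E C) = P' → Q = P1)
    (Pb : Ideal T) [Pb.IsPrime] (h2 : P1.comap (algebraMap T C) = Pb)
    (N : Type u) [AddCommGroup N] [Module T N] [Module R N] [IsScalarTower R T N] [Module.Finite T N]
    (hflat : Module.Flat R (LocalizedModule Pb.primeCompl N)) :
    Module.FinitePresentation (Localization.AtPrime Pb) (LocalizedModule Pb.primeCompl N) := by
  haveI := hflat
  let N1 := C ⊗[T] N
  haveI : Module.Flat R (LocalizedModule P1.primeCompl N1) := flat_baseChange Pb P1 h2 N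
  haveI : IsScalarTower E C N1 := inferInstance
  haveI : IsScalarTower R E N1 := IsScalarTower.of_algebraMap_smul fun x m => by
    rw [← algebraMap_smul C (algebraMap R E x) m, ← IsScalarTower.algebraMap_apply, algebraMap_smul]
  haveI : Module.Finite E N1 := Module.Finite.trans C N1
  have hdiv := exists_dvd_of_unique P' P1 huniq
  have hfl : Module.Flat R (LocalizedModule P'.primeCompl N1) := (flat_restrict_iff P' P1 h1 hdiv).1 ‹_›
  exact fp_of_baseChange Pb P1 h2 N (fp_of_fp_finite P' P1 h1 hdiv (IH R E P' hP' N1 hfl))

attribute [local instance] Algebra.TensorProduct.rightAlgebra in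
theorem flat_tensor_right {A E T : Type u} [CommRing A] [CommRing E] [CommRing T] [Algebra A E] [Algebra A T]
    [Module.Flat A E] : Module.Flat T (E ⊗[A] T) :=
  Module.Flat.of_linearEquiv (Algebra.TensorProduct.commRight A T E).symm.toLinearEquiv

/-- An etale neighbourhood of the contraction of a quasi-finite point over which the algebra becomes finite. -/
theorem of_finite_chart {d : ℕ} {R T : Type u} [CommRing R] [IsLocalRing R] [CommRing T]
    [Algebra R T] [Algebra.FiniteType R T] [Algebra (MvPolynomial (Fin d) R) T]
    [IsScalarTower R (MvPolynomial (Fin d) R) T] (Pb : Ideal T) [Pb.IsPrime]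
    (hPb : Pb.comap (algebraMap R T) = maximalIdeal R) [Algebra.QuasiFiniteAt (MvPolynomial (Fin d) R) Pb] {Φ : Prop}
    (H : ∀ (E C : Type u) [CommRing E] [Algebra R E] [Algebra (MvPolynomial (Fin d) R) E]
      [IsScalarTower R (MvPolynomial (Fin d) R) E] [Algebra.Etale (MvPolynomial (Fin d) R) E]
      [CommRing C] [Algebra E C] [Module.Finite E C] [Algebra T C] [Module.Flat T C] [Algebra R C]
      [IsScalarTower R E C] [IsScalarTower R T C] (P' : Ideal E) [P'.IsPrime]
      (_ : P'.comap (algebraMap R E) = maximalIdeal R) (P1 : Ideal C) [P1.IsPrime]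
      (_ : P1.comap (algebraMap E C) = P')
      (_ : ∀ Q : Ideal C, Q.IsPrime → Q.comap (algebraMap E C) = P' → Q = P1)
      (_ : P1.comap (algebraMap T C) = Pb), Φ) : Φ := by
  let A := MvPolynomial (Fin d) R
  haveI : Algebra.FiniteType A T := Algebra.FiniteType.of_restrictScalars_finiteType R A T
  obtain ⟨E, _, _, hE, P', hP', hP'p, e, -, P1, hP1, hP1P', hP1q, heP1, -, hfin, huniq⟩ :=
    Algebra.exists_etale_isIdempotentElem_forall_liesOver_eq (Pb.under A) Pb
  letI : Algebra R E := ((algebraMap A E).comp (algebraMap R A)).toAlgebra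
  haveI : IsScalarTower R A E := IsScalarTower.of_algebraMap_eq fun _ => rfl
  let W := E ⊗[A] T
  let C := Localization.Away e
  let ι : T →+* W := Algebra.TensorProduct.includeRight.toRingHom
  haveI : Module.Flat A E := inferInstance
  letI : Algebra T W := Algebra.TensorProduct.rightAlgebra
  haveI : Module.Flat T W := flat_tensor_right
  haveI : IsScalarTower T W C := inferInstance
  haveI : Module.Flat W C := IsLocalization.flat C (Submonoid.powers e)
  haveI : Module.Flat T C := Module.Flat.trans T W C
  haveI : Module.Finite E C := hfin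
  haveI : IsScalarTower R E C := inferInstance
  haveI : IsScalarTower R T C := IsScalarTower.of_algebraMap_eq fun r => by
    rw [IsScalarTower.algebraMap_apply R W C, IsScalarTower.algebraMap_apply T W C,
      IsScalarTower.algebraMap_apply R E W, IsScalarTower.algebraMap_apply R A T]
    congr 1
    show algebraMap E W (algebraMap A E (algebraMap R A r)) = ι (algebraMap A T (algebraMap R A r))
    rw [← IsScalarTower.algebraMap_apply A E W]
    exact (Algebra.TensorProduct.includeRight.commutes _).symm
  have hd : Disjoint (Submonoid.powers e : Set W) P1 := (Ideal.disjoint_powers_iff_notMem e hP1.isRadical).2 heP1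
  let P1c : Ideal C := P1.map (algebraMap W C)
  haveI : P1c.IsPrime := IsLocalization.isPrime_of_isPrime_disjoint (Submonoid.powers e) C P1 hP1 hd
  have hcm : P1c.comap (algebraMap W C) = P1 :=
    IsLocalization.comap_map_of_isPrime_disjoint (Submonoid.powers e) C hP1 hd
  have hP'R : P'.comap (algebraMap R E) = maximalIdeal R := by
    show P'.comap ((algebraMap A E).comp (algebraMap R A)) = _
    rw [← Ideal.comap_comap, ← hPb, IsScalarTower.algebraMap_eq R A T, ← Ideal.comap_comap]
    congr 1
    exact (hP'p.over).symm
  refine H E C P' hP'R P1c ?_ (fun Q hQ hQP' => ?_) ?_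
  · rw [IsScalarTower.algebraMap_eq E W C, ← Ideal.comap_comap, hcm]
    exact hP1P'.over.symm
  · haveI := hQ
    have hQ' : (Q.comap (algebraMap W C)) = P1 := by
      refine huniq _ (Ideal.comap_isPrime _ _) ⟨?_⟩ fun he => ?_
      · show P' = (Q.comap (algebraMap W C)).comap (algebraMap E W)
        rw [Ideal.comap_comap, ← IsScalarTower.algebraMap_eq, hQP']
      · exact hQ.ne_top (Ideal.eq_top_of_isUnit_mem _ he (IsLocalization.Away.algebraMap_isUnit e))
    show Q = P1.map (algebraMap W C)
    rw [← hQ', IsLocalization.map_comap (Submonoid.powers e) C Q]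
  · rw [IsScalarTower.algebraMap_eq T W C, ← Ideal.comap_comap, hcm]
    exact hP1q

/-- The induction step at a point which is quasi-finite over fewer variables. -/
theorem fp_step {d : ℕ} (IH : FPAt.{u} d) {R T : Type u} [CommRing R] [IsLocalRing R] [CommRing T]
    [Algebra R T] [Algebra.FiniteType R T] [Algebra (MvPolynomial (Fin d) R) T]
    [IsScalarTower R (MvPolynomial (Fin d) R) T] (Pb : Ideal T) [Pb.IsPrime]
    (hPb : Pb.comap (algebraMap R T) = maximalIdeal R) [Algebra.QuasiFiniteAt (MvPolynomial (Fin d) R) Pb]
    (N : Type u) [AddCommGroup N] [Module T N] [Module R N] [IsScalarTower R T N] [Module.Finite T N]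
    (hflat : Module.Flat R (LocalizedModule Pb.primeCompl N)) :
    Module.FinitePresentation (Localization.AtPrime Pb) (LocalizedModule Pb.primeCompl N) := by
  refine of_finite_chart (d := d) Pb hPb ?_
  intro E C _ _ _ _ _ _ _ _ _ _ _ _ _ P' _ hP' P1 _ h1 huniq h2
  exact fp_step_core IH P' hP' P1 h1 huniq Pb h2 N hflat

/-- A finite module flat at a prime is there an extension of a flat module supported off the generic point of the
closed fibre by a free module. -/
theorem exists_free_part {d : ℕ} {R E : Type u} [CommRing R] [IsLocalRing R] [CommRing E] [Algebra R E]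
    [Algebra (MvPolynomial (Fin d) R) E] [IsScalarTower R (MvPolynomial (Fin d) R) E]
    [Algebra.Etale (MvPolynomial (Fin d) R) E] (P : Ideal E) [P.IsPrime]
    (hP : P.comap (algebraMap R E) = maximalIdeal R) (N : Type u) [AddCommGroup N] [Module E N] [Module R N]
    [IsScalarTower R E N] [Module.Finite E N] (hflat : Module.Flat R (LocalizedModule P.primeCompl N)) :
    ∃ (c : ℕ) (β : (Fin c → E) →ₗ[E] N),
      Function.Injective (IsLocalizedModule.map P.primeCompl (LocalizedModule.mkLinearMap P.primeCompl (Fin c → E))
        (LocalizedModule.mkLinearMap P.primeCompl N) β) ∧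
      Module.Flat R (LocalizedModule P.primeCompl (N ⧸ LinearMap.range β)) ∧
      ∃ s : E, algebraMap E (Localization.AtPrime P) s ∉ (maximalIdeal R).map (algebraMap R (Localization.AtPrime P)) ∧
        ∀ y : N ⧸ LinearMap.range β, s • y = 0 := by
  classical
  haveI := hflat
  let A := MvPolynomial (Fin d) R
  haveI : Algebra.Smooth R A := ⟨inferInstance, inferInstance⟩
  haveI : Algebra.Smooth R E := Algebra.Smooth.comp R A E
  let B := Localization.AtPrime P
  haveI h𝔭 : ((maximalIdeal R).map (algebraMap R B)).IsPrime := isPrime_map_maximalIdeal P hP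
  let p : Ideal E := ((maximalIdeal R).map (algebraMap R B)).comap (algebraMap E B)
  haveI : p.IsPrime := Ideal.comap_isPrime _ _
  have hpP : p ≤ P := fun x hx => by
    by_contra hxP
    have hu : IsUnit (algebraMap E B x) := IsLocalization.map_units B (⟨x, hxP⟩ : P.primeCompl)
    have hx' : algebraMap E B x ∈ (maximalIdeal R).map (algebraMap R B) := hx
    exact h𝔭.ne_top (Ideal.eq_top_of_isUnit_mem _ hx' hu)
  have hmp : (maximalIdeal R).map (algebraMap R E) ≤ p := Ideal.map_le_iff_le_comap.2 fun r hr => by
    show algebraMap E B (algebraMap R E r) ∈ (maximalIdeal R).map (algebraMap R B)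
    rw [← IsScalarTower.algebraMap_apply]
    exact Ideal.mem_map_of_mem _ hr
  have hpR : p.comap (algebraMap R E) = maximalIdeal R :=
    le_antisymm ((Ideal.comap_mono hpP).trans hP.le) (Ideal.map_le_iff_le_comap.1 hmp)
  let Ep := Localization.AtPrime p
  let Np := LocalizedModule p.primeCompl N
  -- the maximal ideal at `p` is generated by the maximal ideal of the base
  have hmax : maximalIdeal Ep = (maximalIdeal R).map (algebraMap R Ep) := by
    refine le_antisymm (fun z hz => ?_) (Ideal.map_le_iff_le_comap.2 fun r hr => ?_)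
    · obtain ⟨x, u, rfl⟩ := IsLocalization.exists_mk'_eq p.primeCompl z
      have hx : x ∈ p := (IsLocalization.AtPrime.mk'_mem_maximal_iff Ep p x u).1 hz
      have hx' : algebraMap E B x ∈ ((maximalIdeal R).map (algebraMap R E)).map (algebraMap E B) := by
        rw [Ideal.map_map, ← IsScalarTower.algebraMap_eq]
        exact hx
      obtain ⟨t, ht, htx⟩ := (IsLocalization.algebraMap_mem_map_algebraMap_iff P.primeCompl B _ _).1 hx'
      rw [IsScalarTower.algebraMap_eq R E Ep, ← Ideal.map_map, IsLocalization.mk'_mem_map_algebraMap_iff p.primeCompl]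
      exact ⟨t, fun h => ht (hpP h), htx⟩
    · rw [Ideal.mem_comap, IsScalarTower.algebraMap_apply R E Ep,
        IsLocalization.AtPrime.to_map_mem_maximal_iff Ep p]
      exact hmp (Ideal.mem_map_of_mem _ hr)
  -- minimal generators at `p`
  haveI : Module.Finite Ep Np := Module.Finite.of_isLocalizedModule p.primeCompl (LocalizedModule.mkLinearMap p.primeCompl N)
  let ip : N →ₗ[E] Np := LocalizedModule.mkLinearMap p.primeCompl N
  have hex : ∃ c, ∃ a : Fin c → N, Submodule.span Ep (Set.range fun i => ip (a i)) = ⊤ := by
    obtain ⟨c, a, ha⟩ := Module.Finite.exists_fin (R := E) (M := N)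
    refine ⟨c, a, ?_⟩
    rw [show (Set.range fun i => ip (a i)) = ip '' Set.range a from (Set.range_comp ip a)]
    exact span_eq_top_of_isLocalizedModule Ep p.primeCompl ip ha
  set c := Nat.find hex with hc
  obtain ⟨a, ha⟩ := Nat.find_spec hex
  let α : (Fin c → Ep) →ₗ[Ep] Np := Fintype.linearCombination Ep fun i => ip (a i)
  have hα : Function.Surjective α := by
    rw [← LinearMap.range_eq_top, Fintype.range_linearCombination]
    exact ha
  have hK : ∀ x, α x = 0 → x ∈ maximalIdeal R • (⊤ : Submodule R (Fin c → Ep)) := by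
    intro x hx
    have hxi : ∀ i, x i ∈ maximalIdeal Ep := by
      by_contra hne
      push Not at hne
      obtain ⟨i, hi⟩ := hne
      have hu : IsUnit (x i) := IsLocalRing.notMem_maximalIdeal.1 hi
      obtain ⟨c', hc'⟩ : ∃ c', c = c' + 1 := ⟨c - 1, by have := i.2; omega⟩
      refine Nat.find_min hex (m := c') (by omega) ⟨fun j => a (Fin.cast hc'.symm ((Fin.cast hc' i).succAbove j)), ?_⟩
      refine eq_top_iff.2 (ha.ge.trans (Submodule.span_le.2 ?_))
      rintro _ ⟨j, rfl⟩
      set S0 := Submodule.span Ep (Set.range fun j => ip (a (Fin.cast hc'.symm ((Fin.cast hc' i).succAbove j))))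
      have hother : ∀ k, k ≠ i → ip (a k) ∈ S0 := fun k hk => by
        obtain ⟨l, hl⟩ := Fin.exists_succAbove_eq (x := Fin.cast hc' k) (y := Fin.cast hc' i)
          (fun h => hk (Fin.cast_injective _ h))
        refine Submodule.subset_span ⟨l, ?_⟩
        show ip (a (Fin.cast hc'.symm ((Fin.cast hc' i).succAbove l))) = _
        rw [hl]
        rfl
      by_cases hj : j = i
      · subst hj
        have hsum : x j • ip (a j) = - ∑ k ∈ Finset.univ.erase j, x k • ip (a k) := by
          rw [eq_neg_iff_add_eq_zero, Finset.add_sum_erase _ (fun k => x k • ip (a k)) (Finset.mem_univ j)]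
          exact hx
        have hmem : x j • ip (a j) ∈ S0 := hsum ▸ neg_mem (sum_mem fun k hk =>
          S0.smul_mem _ (hother k (Finset.ne_of_mem_erase hk)))
        exact (S0.smul_mem_iff_of_isUnit hu).1 hmem
      · exact hother j hj
    rw [← Finset.univ_sum_single x]
    refine sum_mem fun i _ => ?_
    have hi := hxi i
    rw [hmax] at hi
    have hi' : x i ∈ maximalIdeal R • (⊤ : Submodule R Ep) := by
      rw [Ideal.smul_top_eq_map]
      exact hi
    exact Submodule.smul_top_le_comap_smul_top _ (LinearMap.single R (fun _ : Fin c => Ep) i) hi'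
  -- flatness at `p`
  let NP := LocalizedModule P.primeCompl N
  let iP : N →ₗ[E] NP := LocalizedModule.mkLinearMap P.primeCompl N
  haveI hflatp : Module.Flat R Np := by
    rw [FlatModel.flat_localized_iff p.primeCompl ip]
    intro J y hy
    obtain ⟨s, hs, hsy⟩ := (FlatModel.flat_localized_iff P.primeCompl iP).1 hflat J y hy
    exact ⟨s, fun h => hs (hpP h), hsy⟩
  have hinj := injective_of_ker_le (d := d) p hpR α hα hK
  -- the map at `P`
  let β : (Fin c → E) →ₗ[E] N := Fintype.linearCombination E a
  have hβp : ∀ x : Fin c → E, α (fun i => algebraMap E Ep (x i)) = ip (β x) := fun x => by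
    simp [α, β, Fintype.linearCombination_apply, map_sum, map_smul]
  let Q := N ⧸ LinearMap.range β
  let iQ := LocalizedModule.mkLinearMap P.primeCompl Q
  let iF := LocalizedModule.mkLinearMap P.primeCompl (Fin c → E)
  let βP := IsLocalizedModule.map P.primeCompl iF iP β
  let πP := IsLocalizedModule.map P.primeCompl iP iQ (LinearMap.range β).mkQ
  have hexP : Function.Exact βP πP :=
    IsLocalizedModule.map_exact P.primeCompl iF iP iQ β _ (LinearMap.exact_map_mkQ_range β)
  have hπP : Function.Surjective πP :=
    IsLocalizedModule.map_surjective P.primeCompl iP iQ _ (Submodule.mkQ_surjective _)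
  -- relations at `p` come from relations at `P`
  have hkey : ∀ (J : Ideal R) (x : LocalizedModule P.primeCompl (Fin c → E)),
      βP x ∈ J • (⊤ : Submodule R NP) → x ∈ J • (⊤ : Submodule R (LocalizedModule P.primeCompl (Fin c → E))) := by
    intro J x hx
    obtain ⟨⟨x0, u⟩, hxu⟩ := IsLocalizedModule.surj P.primeCompl iF x
    have hu : IsUnit (algebraMap E (Module.End E (LocalizedModule P.primeCompl (Fin c → E))) u) :=
      IsLocalizedModule.map_units iF u
    -- numerator
    have h0 : iP (β x0) ∈ J • (⊤ : Submodule R NP) := by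
      rw [← IsLocalizedModule.map_apply P.primeCompl iF iP β x0, ← hxu, Submonoid.smul_def, map_smul]
      exact Submodule.smul_top_le_comap_smul_top J ((LinearMap.lsmul E NP (u : E)).restrictScalars R) hx
    -- descend to `p`
    let η : NP →ₗ[E] Np := IsLocalizedModule.lift P.primeCompl iP ip fun s =>
      IsLocalizedModule.map_units ip (⟨s, fun h => s.2 (hpP h)⟩ : p.primeCompl)
    have h1 : ip (β x0) ∈ J • (⊤ : Submodule R Np) := by
      have := Submodule.smul_top_le_comap_smul_top J (η.restrictScalars R) h0
      rwa [Submodule.mem_comap, LinearMap.restrictScalars_apply, IsLocalizedModule.lift_apply] at this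
    rw [← hβp] at h1
    obtain ⟨w, hw, hwα⟩ : ∃ w ∈ J • (⊤ : Submodule R (Fin c → Ep)), α w = α fun i => algebraMap E Ep (x0 i) := by
      have hle : J • (⊤ : Submodule R Np) ≤ (J • (⊤ : Submodule R (Fin c → Ep))).map (α.restrictScalars R) := by
        rw [Submodule.map_smul'', Submodule.map_top,
          LinearMap.range_eq_top.2 (show Function.Surjective (α.restrictScalars R) from hα)]
      exact Submodule.mem_map.1 (hle h1)
    rw [hinj hwα] at hw
    have hcoord : ∀ i, algebraMap E B (x0 i) ∈ J.map (algebraMap R B) := by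
      intro i
      have hi := Submodule.smul_top_le_comap_smul_top J (LinearMap.proj i : (Fin c → Ep) →ₗ[R] Ep) hw
      rw [Submodule.mem_comap, Ideal.smul_top_eq_map, Submodule.restrictScalars_mem,
        IsScalarTower.algebraMap_eq R E Ep, ← Ideal.map_map] at hi
      obtain ⟨s, hs, hsx⟩ := (IsLocalization.algebraMap_mem_map_algebraMap_iff p.primeCompl Ep _ _).1 hi
      refine mem_map_of_mul_mem_map P hP (s := s) (fun h => hs h) J ?_
      rw [← map_mul, IsScalarTower.algebraMap_eq R E B, ← Ideal.map_map]
      exact Ideal.mem_map_of_mem (algebraMap E B) hsx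
    -- multiples in `E`
    have hmul : ∀ i, ∃ t ∈ P.primeCompl, t * x0 i ∈ J.map (algebraMap R E) := fun i => by
      have hi := hcoord i
      rw [IsScalarTower.algebraMap_eq R E B, ← Ideal.map_map] at hi
      exact (IsLocalization.algebraMap_mem_map_algebraMap_iff P.primeCompl B _ _).1 hi
    choose t ht htx using hmul
    have hT : (∏ i, t i) • x0 ∈ J • (⊤ : Submodule R (Fin c → E)) := by
      rw [← Finset.univ_sum_single ((∏ i, t i) • x0)]
      refine sum_mem fun i _ => ?_
      have hi' : ((∏ j, t j) • x0) i ∈ J • (⊤ : Submodule R E) := by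
        rw [Ideal.smul_top_eq_map, Submodule.restrictScalars_mem, Pi.smul_apply, smul_eq_mul,
          ← Finset.prod_erase_mul _ _ (Finset.mem_univ i), mul_assoc]
        exact Ideal.mul_mem_left _ _ (htx i)
      exact Submodule.smul_top_le_comap_smul_top _ (LinearMap.single R (fun _ : Fin c => E) i) hi'
    let v : P.primeCompl := ⟨∏ i, t i, prod_mem fun i _ => ht i⟩ * u
    have hv : ((∏ i, t i) * u : E) • x = iF ((∏ i, t i) • x0) := by
      rw [map_smul, mul_smul, ← hxu]
      rfl
    have hvJ : ((v : E)) • x ∈ J • (⊤ : Submodule R (LocalizedModule P.primeCompl (Fin c → E))) := by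
      show ((∏ i, t i) * u : E) • x ∈ _
      rw [hv]
      exact Submodule.smul_top_le_comap_smul_top J (iF.restrictScalars R) hT
    obtain ⟨vi, hvi⟩ := (IsLocalizedModule.map_units iF v).exists_left_inv
    have := Submodule.smul_top_le_comap_smul_top J (vi.restrictScalars R) hvJ
    rwa [Submodule.mem_comap, LinearMap.restrictScalars_apply,
      show vi ((v : E) • x) = (vi * algebraMap E (Module.End E (LocalizedModule P.primeCompl (Fin c → E))) v) x from rfl,
      hvi] at this
  haveI hQflat : Module.Flat R (LocalizedModule P.primeCompl Q) :=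
    flat_coker (βP.restrictScalars R) (πP.restrictScalars R) hexP hπP hkey
  have hβinj : Function.Injective βP := by
    rw [injective_iff_map_eq_zero]
    intro x hx
    have := hkey ⊥ x (by rw [hx]; exact zero_mem _)
    simpa using this
  -- the cokernel vanishes at `p`
  obtain ⟨s, hsp, hsQ⟩ : ∃ s ∉ p, ∀ y : Q, s • y = 0 := by
    have hloc : ∀ n : N, ∃ s ∉ p, s • (LinearMap.range β).mkQ n = 0 := by
      intro n
      obtain ⟨x, hx⟩ := hα (ip n)
      obtain ⟨⟨x0, u⟩, hxu⟩ := IsLocalizedModule.surj p.primeCompl
        (LinearMap.pi fun i => (Algebra.linearMap E Ep).comp (LinearMap.proj i) : (Fin c → E) →ₗ[E] Fin c → Ep) x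
      have h1 : ip (u • n - β x0) = 0 := by
        rw [map_sub, LinearMap.map_smul_of_tower, ← hx, ← hβp, Submonoid.smul_def,
          ← LinearMap.map_smul_of_tower, ← Submonoid.smul_def, hxu, sub_eq_zero]
        rfl
      obtain ⟨w, hw⟩ := (IsLocalizedModule.eq_zero_iff p.primeCompl ip).1 h1
      refine ⟨w * u, fun h => (‹p.IsPrime›.mem_or_mem h).elim w.2 u.2, ?_⟩
      rw [← map_smul, Submodule.mkQ_apply, Submodule.Quotient.mk_eq_zero, mul_smul]
      rw [Submonoid.smul_def, smul_sub, sub_eq_zero] at hw
      rw [← Submonoid.smul_def u n, hw, ← map_smul]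
      exact LinearMap.mem_range_self _ _
    obtain ⟨G, hG⟩ := Module.Finite.fg_top (R := E) (M := N)
    choose sf hsf hsf0 using hloc
    refine ⟨∏ n ∈ G, sf n, fun h => ?_, fun y => ?_⟩
    · obtain ⟨n, -, hn⟩ := ‹p.IsPrime›.prod_mem_iff.1 h
      exact hsf n hn
    · obtain ⟨n, rfl⟩ := Submodule.mkQ_surjective _ y
      have hle : (⊤ : Submodule E N) ≤ LinearMap.ker ((LinearMap.lsmul E Q (∏ n ∈ G, sf n)).comp (LinearMap.range β).mkQ) := by
        rw [← hG, Submodule.span_le]
        intro m hm
        show (∏ n ∈ G, sf n) • (LinearMap.range β).mkQ m = 0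
        rw [← Finset.prod_erase_mul _ _ hm, mul_smul, hsf0, smul_zero]
      exact hle Submodule.mem_top
  exact ⟨c, β, hβinj, hQflat, s, hsp, hsQ⟩

/-- Flat finite modules over etale algebras over affine space are finitely presented at each prime. -/
theorem fpAt : ∀ d, FPAt.{u} d := by
  intro d
  induction d using Nat.strong_induction_on with
  | _ d IH => ?_
  intro R E _ _ _ _ _ _ _ P _ hP N _ _ _ _ _ hflat
  classical
  haveI : Algebra.FiniteType R E := Algebra.FiniteType.trans (S := MvPolynomial (Fin d) R) inferInstance inferInstance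
  let B := Localization.AtPrime P
  obtain ⟨c, β, hβinj, hQflat, s, hsp, hsQ⟩ := exists_free_part (d := d) P hP N hflat
  let Q := N ⧸ LinearMap.range β
  let iQ := LocalizedModule.mkLinearMap P.primeCompl Q
  let iF := LocalizedModule.mkLinearMap P.primeCompl (Fin c → E)
  let NP := LocalizedModule P.primeCompl N
  let iP : N →ₗ[E] NP := LocalizedModule.mkLinearMap P.primeCompl N
  let βP := IsLocalizedModule.map P.primeCompl iF iP β
  let πP := IsLocalizedModule.map P.primeCompl iP iQ (LinearMap.range β).mkQ
  have hexP : Function.Exact βP πP :=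
    IsLocalizedModule.map_exact P.primeCompl iF iP iQ β _ (LinearMap.exact_map_mkQ_range β)
  have hπP : Function.Surjective πP :=
    IsLocalizedModule.map_surjective P.primeCompl iP iQ _ (Submodule.mkQ_surjective _)
  let βE : LocalizedModule P.primeCompl (Fin c → E) →ₗ[B] NP := βP.extendScalarsOfIsLocalization P.primeCompl B
  let πE : NP →ₗ[B] LocalizedModule P.primeCompl Q := πP.extendScalarsOfIsLocalization P.primeCompl B
  haveI : Module.FinitePresentation B (LocalizedModule P.primeCompl (Fin c → E)) :=
    inferInstanceAs (Module.FinitePresentation (Localization P.primeCompl) (LocalizedModule P.primeCompl (Fin c → E)))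
  haveI hFQ : Module.FinitePresentation B (LocalizedModule P.primeCompl Q) := by
    by_cases hsP : s ∈ P
    · have hs : algebraMap E B s ∉ (maximalIdeal R).map (algebraMap R B) := hsp
      obtain ⟨d', hd', θ, hθ⟩ := exists_cut (d := d) P hP s hsP hs
      let T := E ⧸ Ideal.span {s}
      letI : Algebra (MvPolynomial (Fin d') R) T := θ.toRingHom.toAlgebra
      haveI : IsScalarTower R (MvPolynomial (Fin d') R) T := IsScalarTower.of_algebraMap_eq fun r => (θ.commutes r).symm
      have hann : Module.IsTorsionBySet E Q (Ideal.span {s} : Ideal E) := by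
        rintro y ⟨z, hz⟩
        obtain ⟨w, rfl⟩ := Ideal.mem_span_singleton'.1 hz
        show (w * s) • y = 0
        rw [mul_smul, hsQ, smul_zero]
      letI : Module T Q := hann.module
      haveI : IsScalarTower E T Q := hann.isScalarTower
      haveI : IsScalarTower R T Q := hann.isScalarTower
      haveI : Module.Finite T Q := Module.Finite.of_restrictScalars_finite E T Q
      let Pb : Ideal T := P.map (Ideal.Quotient.mk (Ideal.span {s}))
      have hle : Ideal.span {s} ≤ P := (Ideal.span_singleton_le_iff_mem _).2 hsP
      haveI : Pb.IsPrime := Ideal.map_isPrime_of_surjective Ideal.Quotient.mk_surjective (by rwa [Ideal.mk_ker])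
      have hPbP : Pb.comap (algebraMap E T) = P := by
        show (P.map (Ideal.Quotient.mk (Ideal.span {s}))).comap (Ideal.Quotient.mk _) = P
        rw [Ideal.comap_map_of_surjective _ Ideal.Quotient.mk_surjective, ← RingHom.ker_eq_comap_bot, Ideal.mk_ker]
        exact sup_eq_left.2 hle
      haveI := hθ Pb hPbP
      have hPbR : Pb.comap (algebraMap R T) = maximalIdeal R := by
        rw [IsScalarTower.algebraMap_eq R E T, ← Ideal.comap_comap, hPbP, hP]
      have hdiv : ∀ z ∉ Pb, ∃ u ∉ P, ∃ z', z * z' = algebraMap E T u := fun z hz => by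
        obtain ⟨u, rfl⟩ := Ideal.Quotient.mk_surjective z
        exact ⟨u, fun h => hz (Ideal.mem_map_of_mem _ h), 1, mul_one _⟩
      have hfl : Module.Flat R (LocalizedModule Pb.primeCompl Q) :=
        (flat_restrict_iff P Pb hPbP hdiv).2 hQflat
      haveI : Module.FinitePresentation E T :=
        Module.finitePresentation_of_surjective (Algebra.linearMap E T) Ideal.Quotient.mk_surjective (by
          rw [show LinearMap.ker (Algebra.linearMap E T) = Ideal.span {s} from Submodule.ext fun z => Ideal.Quotient.eq_zero_iff_mem]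
          exact ⟨{s}, by simp⟩)
      exact fp_of_fp_fp P Pb hPbP hdiv (fp_step (IH d' hd') Pb hPbR Q hfl)
    · haveI : Subsingleton (LocalizedModule P.primeCompl Q) :=
        LocalizedModule.subsingleton_iff.2 fun y => ⟨s, hsP, hsQ y⟩
      exact Module.finitePresentation_of_surjective (0 : (Fin 0 → B) →ₗ[B] LocalizedModule P.primeCompl Q)
        (fun y => ⟨0, Subsingleton.elim _ _⟩) (by rw [LinearMap.ker_zero]; exact Module.Finite.fg_top)
  haveI : Module.FinitePresentation B (LinearMap.ker πE) := by
    have hr : LinearMap.ker πE = LinearMap.range βE := SetLike.ext fun y => hexP y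
    rw [hr]
    exact Module.FinitePresentation.of_equiv (LinearEquiv.ofInjective βE hβinj)
  exact Module.finitePresentation_of_ker πE hπP

end Groth.Agent.H4RG
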