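import Groth.Prelude
import Groth.Agent.Triage.WeakAssFin
import Groth.Agent.WeakAss.Basic
import Groth.Agent.W4Lib.Flat
import Mathlib

/-!
# Modules through which the maximal ideal is detected as a weakly associated prime
-/

set_option autoImplicit false
set_option linter.style.haveILetI false
set_option backward.isDefEq.respectTransparency.types false

universe u

open TensorProduct IsLocalRing Groth.Agent.WeakAss MvPolynomial

namespace Groth.Agent.H4RG

/-- Whenever `F ⊗ M` has a nonzero element killed by powers of every element of the maximal ideal, the maximal ideal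
is weakly associated to `M`. -/
def GoodMod (R F : Type u) [CommRing R] [IsLocalRing R] [AddCommGroup F] [Module R F] : Prop :=
  ∀ (M : Type u) [AddCommGroup M] [Module R M] (z : F ⊗[R] M), z ≠ 0 →
    (∀ r ∈ maximalIdeal R, ∃ k : ℕ, r ^ k • z = 0) → maximalIdeal R ∈ FlatCA.weakAss R M

variable {R : Type u} [CommRing R] [IsLocalRing R]

theorem GoodMod.of_univInjective {F F' : Type u} [AddCommGroup F] [Module R F] [AddCommGroup F'] [Module R F']
    (f : F →ₗ[R] F') (hf : ∀ (M : Type u) [AddCommGroup M] [Module R M], Function.Injective (f.rTensor M))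
    (h : GoodMod R F') : GoodMod R F := fun M _ _ z hz hk =>
  h M (f.rTensor M z) (fun h0 => hz (hf M (h0.trans (map_zero _).symm))) fun r hr => by
    obtain ⟨k, hk⟩ := hk r hr
    exact ⟨k, by rw [← map_smul, hk, map_zero]⟩

theorem GoodMod.of_equiv {F F' : Type u} [AddCommGroup F] [Module R F] [AddCommGroup F'] [Module R F']
    (e : F ≃ₗ[R] F') (h : GoodMod R F') : GoodMod R F :=
  GoodMod.of_univInjective e.toLinearMap (fun M _ _ => (e.rTensor M).injective) h

theorem GoodMod.of_exact {A B C : Type u} [AddCommGroup A] [Module R A] [AddCommGroup B] [Module R B]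
    [AddCommGroup C] [Module R C] [Module.Flat R C] (α : A →ₗ[R] B) (β : B →ₗ[R] C) (hα : Function.Injective α)
    (hex : Function.Exact α β) (hβ : Function.Surjective β) (hA : GoodMod R A) (hC : GoodMod R C) : GoodMod R B := by
  intro M _ _ z hz hk
  by_cases h0 : β.rTensor M z = 0
  · obtain ⟨w, rfl⟩ := (rTensor_exact M hex hβ z).1 h0
    have hinj : Function.Injective (α.rTensor M) := (LinearMap.lTensor_inj_iff_rTensor_inj M α).1 (W4Lib.lTensor_injective_of_flat_quotient hα hex hβ M)
    refine hA M w (fun h => hz (by rw [h, map_zero])) fun r hr => ?_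
    obtain ⟨k, hk⟩ := hk r hr
    exact ⟨k, hinj (by rw [map_smul, hk, map_zero])⟩
  · refine hC M _ h0 fun r hr => ?_
    obtain ⟨k, hk⟩ := hk r hr
    exact ⟨k, by rw [← map_smul, hk, map_zero]⟩

theorem GoodMod.pi {F : Type u} [AddCommGroup F] [Module R F] (c : ℕ) (h : GoodMod R F) : GoodMod R (Fin c → F) := by
  intro M _ _ z hz hk
  have hsum : ∀ w : (Fin c → F) ⊗[R] M, w = ∑ i, (LinearMap.single R (fun _ : Fin c => F) i).rTensor M
      ((LinearMap.proj i : (Fin c → F) →ₗ[R] F).rTensor M w) := by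
    intro w
    induction w using TensorProduct.induction_on with
    | zero => simp
    | add a b ha hb =>
      conv_lhs => rw [ha, hb]
      simp [map_add, Finset.sum_add_distrib]
    | tmul v m =>
      simp only [LinearMap.rTensor_tmul, LinearMap.proj_apply, ← TensorProduct.sum_tmul]
      rw [show ∑ i, (LinearMap.single R (fun _ : Fin c => F) i) (v i) = v from Finset.univ_sum_single v]
  obtain ⟨i, hi⟩ : ∃ i, (LinearMap.proj i : (Fin c → F) →ₗ[R] F).rTensor M z ≠ 0 := by
    by_contra h'
    push Not at h'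
    exact hz ((hsum z).trans (Finset.sum_eq_zero fun i _ => by rw [h', map_zero]))
  refine h M _ hi fun r hr => ?_
  obtain ⟨k, hk⟩ := hk r hr
  exact ⟨k, by rw [← map_smul, hk, map_zero]⟩

section poly

variable {d : ℕ} {M : Type u} [AddCommGroup M] [Module R M]

/-- The coefficient of a tensor with a polynomial ring. -/
noncomputable def coeffT (x : Fin d →₀ ℕ) : MvPolynomial (Fin d) R ⊗[R] M →ₗ[R] M :=
  (TensorProduct.lid R M).toLinearMap.comp ((lcoeff R x).rTensor M)

omit [IsLocalRing R] in
theorem coeffT_tmul (x : Fin d →₀ ℕ) (p : MvPolynomial (Fin d) R) (m : M) :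
    coeffT x (p ⊗ₜ[R] m) = p.coeff x • m := by simp [coeffT]

omit [IsLocalRing R] in
theorem eq_sum_coeffT (y : MvPolynomial (Fin d) R ⊗[R] M) :
    ∃ s : Finset (Fin d →₀ ℕ), ∀ t, s ⊆ t → y = ∑ x ∈ t, monomial x (1 : R) ⊗ₜ[R] coeffT x y := by
  classical
  induction y using TensorProduct.induction_on with
  | zero => exact ⟨∅, fun t _ => by simp⟩
  | add a b ha hb =>
    obtain ⟨s, hs⟩ := ha
    obtain ⟨s', hs'⟩ := hb
    refine ⟨s ∪ s', fun t ht => ?_⟩
    conv_lhs => rw [hs t (Finset.subset_union_left.trans ht), hs' t (Finset.subset_union_right.trans ht)]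
    simp [map_add, tmul_add, Finset.sum_add_distrib]
  | tmul p m =>
    refine ⟨p.support, fun t ht => ?_⟩
    simp only [coeffT_tmul, ← smul_tmul, ← TensorProduct.sum_tmul, smul_monomial, smul_eq_mul, mul_one]
    congr 1
    conv_lhs => rw [p.as_sum]
    exact Finset.sum_subset ht fun x _ hx => by rw [notMem_support_iff.1 hx, map_zero]

omit [IsLocalRing R] in
theorem eq_zero_of_coeffT (y : MvPolynomial (Fin d) R ⊗[R] M) (h : ∀ x, coeffT x y = 0) : y = 0 := by
  obtain ⟨s, hs⟩ := eq_sum_coeffT y
  rw [hs s le_rfl]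
  simp [h]

/-- A polynomial nonzero on the closed fibre acts injectively. -/
theorem eq_zero_of_unit_content (a : MvPolynomial (Fin d) R)
    (ha : a ∉ (maximalIdeal R).map (algebraMap R (MvPolynomial (Fin d) R)))
    (y : MvPolynomial (Fin d) R ⊗[R] M) (hy : a • y = 0) : y = 0 := by
  classical
  let A := MvPolynomial (Fin d) R
  obtain ⟨s, hs⟩ := eq_sum_coeffT y
  let M' : Submodule R M := Submodule.span R ((s.image fun x => coeffT x y : Finset M) : Set M)
  have hmem : ∀ x ∈ s, coeffT x y ∈ M' := fun x hx => Submodule.subset_span (Finset.mem_coe.2 (Finset.mem_image_of_mem _ hx))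
  let y' : A ⊗[R] M' := ∑ x ∈ s.attach, monomial x.1 (1 : R) ⊗ₜ[R] (⟨_, hmem x.1 x.2⟩ : M')
  let φ : A ⊗[R] M' →ₗ[A] A ⊗[R] M := M'.subtype.baseChange A
  have hφy : φ y' = y := by
    rw [hs s le_rfl, map_sum, ← Finset.sum_attach s]
    rfl
  have hφ : Function.Injective φ := Module.Flat.lTensor_preserves_injective_linearMap M'.subtype M'.injective_subtype
  have hay : a • y' = 0 := hφ (by rw [map_smul, hφy, hy, map_zero])
  let k := R ⧸ maximalIdeal R
  let π : A →+* MvPolynomial (Fin d) k := MvPolynomial.map (Ideal.Quotient.mk (maximalIdeal R))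
  have hπa : π a ≠ 0 := fun h => ha (by
    have h' : a ∈ RingHom.ker π := h
    rw [show RingHom.ker π = _ from MvPolynomial.ker_map _, Ideal.mk_ker] at h'
    exact h')
  haveI : IsDomain k := (Ideal.Quotient.isDomain_iff_prime _).2 (maximalIdeal.isMaximal R).isPrime
  haveI : IsDomain (MvPolynomial (Fin d) k) := inferInstance
  have hf : ∀ f : M' →ₗ[R] k, ∀ x (hx : x ∈ s), f ⟨_, hmem x hx⟩ = 0 := by
    intro f x hx
    let Φ : A ⊗[R] M' →+ MvPolynomial (Fin d) k :=
      TensorProduct.liftAddHom (AddMonoidHom.mk' (fun p => AddMonoidHom.mk' (fun m => π p * C (f m))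
          fun m m' => by simp [mul_add]) fun p p' => AddMonoidHom.ext fun m => by simp [add_mul])
        fun r p m => by
          show π (r • p) * C (f m) = π p * C (f (r • m))
          rw [LinearMap.map_smul f, Algebra.smul_def, Algebra.smul_def, map_mul π, map_mul C,
            show algebraMap R A r = C r from rfl, show π (C r) = C (Ideal.Quotient.mk _ r) from MvPolynomial.map_C _ _,
            Ideal.Quotient.algebraMap_eq]
          ring
    have hsemi : ∀ (b : A) (w : A ⊗[R] M'), Φ (b • w) = π b * Φ w := by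
      intro b w
      induction w using TensorProduct.induction_on with
      | zero => simp
      | add w w' h h' => rw [smul_add, map_add, map_add, h, h', mul_add]
      | tmul p m =>
        show π (b * p) * C (f m) = π b * (π p * C (f m))
        rw [map_mul, mul_assoc]
    have h0 : Φ y' = 0 := (mul_eq_zero.1 ((hsemi a y').symm.trans (by rw [hay, map_zero]))).resolve_left hπa
    have h1 := congrArg (fun q => MvPolynomial.coeff x q) h0
    simp only [y', map_sum, coeff_sum, coeff_zero] at h1
    rw [Finset.sum_eq_single (⟨x, hx⟩ : {x // x ∈ s})] at h1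
    · change MvPolynomial.coeff x (π (monomial x 1) * C (f ⟨_, hmem x hx⟩)) = 0 at h1
      rw [mul_comm, coeff_C_mul, show π (monomial x 1) = monomial x 1 from (MvPolynomial.map_monomial _ _ _).trans (by rw [map_one]), coeff_monomial, if_pos rfl, mul_one] at h1
      exact h1
    · rintro ⟨x', hx'⟩ - hne
      change MvPolynomial.coeff x (π (monomial x' 1) * C _) = 0
      rw [mul_comm, coeff_C_mul, show π (monomial x' 1) = monomial x' 1 from (MvPolynomial.map_monomial _ _ _).trans (by rw [map_one]), coeff_monomial,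
        if_neg (fun h => hne (Subtype.ext h)), mul_zero]
    · exact fun h => (h (Finset.mem_attach _ _)).elim
  have hle : (⊤ : Submodule R M') ≤ maximalIdeal R • (⊤ : Submodule R M') := by
    intro m _
    by_contra hm
    letI : Field k := Ideal.Quotient.field _
    let V := M' ⧸ (maximalIdeal R • (⊤ : Submodule R M'))
    have hne : (Submodule.Quotient.mk m : V) ≠ 0 := fun h => hm ((Submodule.Quotient.mk_eq_zero _).1 h)
    obtain ⟨g, hg⟩ : ∃ g : V →ₗ[k] k, g (Submodule.Quotient.mk m) ≠ 0 := by
      by_contra hall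
      push Not at hall
      exact hne ((Module.forall_dual_apply_eq_zero_iff k _).1 hall)
    let f : M' →ₗ[R] k := (g.restrictScalars R).comp (Submodule.mkQ _)
    have hgen : ∀ w : M', f w = 0 := by
      rintro ⟨w, hw⟩
      induction hw using Submodule.span_induction with
      | mem v hv =>
        obtain ⟨x, hx, rfl⟩ := Finset.mem_image.1 (Finset.mem_coe.1 hv)
        exact hf f x hx
      | zero => exact map_zero f
      | add v v' hv hv' h h' =>
        show f (⟨v, hv⟩ + ⟨v', hv'⟩) = 0
        rw [map_add, h, h', add_zero]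
      | smul r v hv h =>
        show f (r • ⟨v, hv⟩) = 0
        rw [map_smul, h, smul_zero]
    exact hg (hgen m)
  have hbot : M' = ⊥ := by
    refine Submodule.eq_bot_of_le_smul_of_le_jacobson_bot (maximalIdeal R) M' ⟨_, rfl⟩ ?_ (maximalIdeal_le_jacobson ⊥)
    have := Submodule.map_mono (f := M'.subtype) hle
    rwa [Submodule.map_smul'', Submodule.map_top, Submodule.range_subtype] at this
  rw [hs s le_rfl]
  refine Finset.sum_eq_zero fun x hx => ?_
  rw [show coeffT x y = 0 from (Submodule.mem_bot R).1 (hbot ▸ hmem x hx), tmul_zero]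

end poly

/-- Stalks of etale algebras over affine space are good. -/
theorem good_etale {E : Type u} [CommRing E] [Algebra R E] {d : ℕ} [Algebra (MvPolynomial (Fin d) R) E]
    [IsScalarTower R (MvPolynomial (Fin d) R) E] [Algebra.Etale (MvPolynomial (Fin d) R) E] (P : Ideal E) [P.IsPrime]
    (hP : P.comap (algebraMap R E) = maximalIdeal R) : GoodMod R (LocalizedModule P.primeCompl E) := by
  intro M _ _ z hz hk
  let A := MvPolynomial (Fin d) R
  let φ : E ⊗[R] M →ₗ[E] LocalizedModule P.primeCompl E ⊗[R] M :=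
    AlgebraTensorModule.rTensor R M (LocalizedModule.mkLinearMap P.primeCompl E)
  obtain ⟨⟨z0, s⟩, hs⟩ := IsLocalizedModule.surj P.primeCompl φ z
  have hne : φ z0 ≠ 0 := fun h => hz ((Module.End.isUnit_iff _).1 (IsLocalizedModule.map_units φ s) |>.1
    ((hs.trans h).trans (map_zero _).symm))
  have hann : annEl E z0 ≤ P := fun t ht => by
    by_contra htP
    exact hne ((IsLocalizedModule.eq_zero_iff P.primeCompl φ).2 ⟨⟨t, htP⟩, mem_annEl.1 ht⟩)
  obtain ⟨v, hv, hvP⟩ := Ideal.exists_minimalPrimes_le hann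
  haveI : v.IsPrime := hv.1.1
  have hmv : ∀ r ∈ maximalIdeal R, algebraMap R E r ∈ v := by
    intro r hr
    obtain ⟨k, hk⟩ := hk r hr
    have h1 : φ (r ^ k • z0) = 0 := by
      rw [LinearMap.map_smul_of_tower, ← hs, Submonoid.smul_def, smul_comm, hk, smul_zero]
    obtain ⟨t, ht⟩ := (IsLocalizedModule.eq_zero_iff P.primeCompl φ).1 h1
    have h2 : (t : E) * algebraMap R E r ^ k ∈ annEl E z0 := mem_annEl.2 (by
      rw [← map_pow, mul_smul, algebraMap_smul]; exact ht)
    exact ‹v.IsPrime›.mem_of_pow_mem k ((‹v.IsPrime›.mem_or_mem (hv.1.2 h2)).resolve_left fun h => t.2 (hvP h))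
  let e : E ⊗[A] (A ⊗[R] M) ≃ₗ[E] E ⊗[R] M := AlgebraTensorModule.cancelBaseChange R A E E M
  have hvw : v ∈ FlatCA.weakAss E (E ⊗[A] (A ⊗[R] M)) :=
    weakAss_subset_of_injective e.symm.toLinearMap e.symm.injective (mem_weakAss_iff.2 ⟨z0, hv⟩)
  let vA := v.comap (algebraMap A E)
  haveI : vA.IsPrime := Ideal.comap_isPrime _ _
  haveI : v.LiesOver vA := ⟨rfl⟩
  obtain ⟨y, hy⟩ := mem_weakAss_iff.1 (Triage.WeakAssFin.mem_weakAss_of_etale (p := vA) (A ⊗[R] M) v hvw)
  have hmA : (maximalIdeal R).map (algebraMap R A) ≤ vA := Ideal.map_le_iff_le_comap.2 fun r hr => by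
    show algebraMap A E (algebraMap R A r) ∈ v
    rw [← IsScalarTower.algebraMap_apply]
    exact hmv r hr
  have hy0 : y ≠ 0 := by
    rintro rfl
    exact hy.1.1.ne_top (eq_top_iff.2 fun t _ => hy.1.2 (mem_annEl.2 (smul_zero t)))
  obtain ⟨x, hx⟩ : ∃ x, coeffT x y ≠ 0 := by
    by_contra h
    push Not at h
    exact hy0 (eq_zero_of_coeffT y h)
  have hkill : ∀ r ∈ maximalIdeal R, ∃ k : ℕ, r ^ k • coeffT x y = 0 := by
    intro r hr
    obtain ⟨a, ha, k, hak⟩ := exists_mul_pow_mem hy (hmA (Ideal.mem_map_of_mem (algebraMap R A) hr))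
    refine ⟨k, ?_⟩
    rw [← map_smul, eq_zero_of_unit_content a (fun h => ha (hmA h)) (r ^ k • y) ?_, map_zero]
    rw [← algebraMap_smul A (r ^ k) y, smul_smul, map_pow]
    exact mem_annEl.1 hak
  refine mem_weakAss_iff.2 ⟨coeffT x y, ⟨(maximalIdeal.isMaximal R).isPrime,
    le_maximalIdeal fun h => hx ?_⟩, fun q hq _ r hr => ?_⟩
  · simpa using mem_annEl.1 (h ▸ Submodule.mem_top : (1 : R) ∈ annEl R (coeffT x y))
  · obtain ⟨k, hk⟩ := hkill r hr
    exact hq.1.mem_of_pow_mem k (hq.2 (mem_annEl.2 hk))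

end Groth.Agent.H4RG
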