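import Groth.Prelude
import Groth.Agent.H4RG.Devissage
import Groth.Agent.H4RG.GoodMod
import Mathlib

/-!
# Flat stalks of finite modules detect weakly associated primes of the coefficient module
-/

set_option autoImplicit false
set_option linter.style.haveILetI false
set_option backward.isDefEq.respectTransparency.types false

universe u

open TensorProduct IsLocalRing MvPolynomial

namespace Groth.Agent.H4RG

/-- A faithfully flat extension of scalars is universally injective. -/
theorem rTensor_mk_injective {R B L Q : Type u} [CommRing R] [CommRing B] [CommRing L] [Algebra R B]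
    [Algebra B L] [Algebra R L] [IsScalarTower R B L] [Module.FaithfullyFlat B L] [AddCommGroup Q] [Module B Q]
    [Module R Q] [IsScalarTower R B Q] (M : Type u) [AddCommGroup M] [Module R M] :
    Function.Injective (((TensorProduct.mk B L Q 1).restrictScalars R).rTensor M) := by
  intro a b hab
  apply Module.FaithfullyFlat.tensorProduct_mk_injective (A := B) (B := L) (Q ⊗[R] M)
  have key : ∀ w, (AlgebraTensorModule.assoc R B B L Q M) (((TensorProduct.mk B L Q 1).restrictScalars R).rTensor M w) =
      (1 : L) ⊗ₜ[B] w := fun w => by
    induction w using TensorProduct.induction_on with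
    | zero => simp
    | add x y hx hy => simp only [map_add, hx, hy, tmul_add]
    | tmul x m => simp
  show (1 : L) ⊗ₜ[B] a = (1 : L) ⊗ₜ[B] b
  rw [← key, ← key, hab]

/-- The statement proved by induction on the relative dimension. -/
def GoodAt (d : ℕ) : Prop :=
  ∀ (R E : Type u) [CommRing R] [IsLocalRing R] [CommRing E] [Algebra R E] [Algebra (MvPolynomial (Fin d) R) E]
    [IsScalarTower R (MvPolynomial (Fin d) R) E] [Algebra.Etale (MvPolynomial (Fin d) R) E]
    (P : Ideal E) [P.IsPrime], P.comap (algebraMap R E) = maximalIdeal R →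
    ∀ (M : Type u) [AddCommGroup M] [Module E M] [Module R M] [IsScalarTower R E M] [Module.Finite E M],
      Module.Flat R (LocalizedModule P.primeCompl M) → GoodMod R (LocalizedModule P.primeCompl M)

theorem good_step {d : ℕ} (IH : GoodAt.{u} d) {R T : Type u} [CommRing R] [IsLocalRing R] [CommRing T]
    [Algebra R T] [Algebra.FiniteType R T] [Algebra (MvPolynomial (Fin d) R) T]
    [IsScalarTower R (MvPolynomial (Fin d) R) T] (Pb : Ideal T) [Pb.IsPrime]
    (hPb : Pb.comap (algebraMap R T) = maximalIdeal R) [Algebra.QuasiFiniteAt (MvPolynomial (Fin d) R) Pb]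
    (N : Type u) [AddCommGroup N] [Module T N] [Module R N] [IsScalarTower R T N] [Module.Finite T N]
    (hflat : Module.Flat R (LocalizedModule Pb.primeCompl N)) : GoodMod R (LocalizedModule Pb.primeCompl N) := by
  refine of_finite_chart (d := d) Pb hPb ?_
  intro E C _ _ _ _ _ _ _ _ _ _ _ _ _ P' _ hP' P1 _ h1 huniq h2
  haveI := hflat
  let N1 := C ⊗[T] N
  haveI : Module.Flat R (LocalizedModule P1.primeCompl N1) := flat_baseChange Pb P1 h2 N
  haveI : IsScalarTower E C N1 := inferInstance
  haveI : IsScalarTower R E N1 := IsScalarTower.of_algebraMap_smul fun x m => by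
    rw [← algebraMap_smul C (algebraMap R E x) m, ← IsScalarTower.algebraMap_apply, algebraMap_smul]
  haveI : Module.Finite E N1 := Module.Finite.trans C N1
  have hdiv := exists_dvd_of_unique P' P1 huniq
  have hfl : Module.Flat R (LocalizedModule P'.primeCompl N1) := (flat_restrict_iff P' P1 h1 hdiv).1 ‹_›
  have hgood := IH R E P' hP' N1 hfl
  haveI := isLocalizedModule_restrict P' P1 h1 hdiv (M := N1) (M' := LocalizedModule P1.primeCompl N1)
    (LocalizedModule.mkLinearMap P1.primeCompl N1)
  let eE := IsLocalizedModule.iso P'.primeCompl ((LocalizedModule.mkLinearMap P1.primeCompl N1).restrictScalars E)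
  obtain ⟨alg, hff, htow, ⟨e⟩⟩ := baseChange_aux Pb P1 h2 N
  letI := alg
  let TP := Localization.AtPrime Pb
  let L := Localization.AtPrime P1
  haveI : IsScalarTower R TP L := IsScalarTower.of_algebraMap_eq fun x => by
    rw [IsScalarTower.algebraMap_apply R T TP, ← IsScalarTower.algebraMap_apply T TP L,
      IsScalarTower.algebraMap_apply R C L, IsScalarTower.algebraMap_apply R T C,
      ← IsScalarTower.algebraMap_apply T C L]
  refine GoodMod.of_univInjective ((TensorProduct.mk TP L (LocalizedModule Pb.primeCompl N) 1).restrictScalars R)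
    (fun M _ _ => rTensor_mk_injective M) ?_
  exact GoodMod.of_equiv ((e.restrictScalars R).trans (eE.restrictScalars R).symm) hgood

theorem goodAt : ∀ d, GoodAt.{u} d := by
  intro d
  induction d using Nat.strong_induction_on with
  | _ d IH => ?_
  intro R E _ _ _ _ _ _ _ P _ hP N _ _ _ _ _ hflat
  classical
  haveI : Algebra.FiniteType R E := Algebra.FiniteType.trans (S := MvPolynomial (Fin d) R) inferInstance inferInstance
  let B := Localization.AtPrime P
  obtain ⟨c, β, hβinj, hQflat, s, hsp, hsQ⟩ := exists_free_part (d := d) P hP N hflat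
  let Q := N ⧸ LinearMap.range β
  let iQ := LocalizedModule.mkLinearMap P.primeCompl Q
  let iF := LocalizedModule.mkLinearMap P.primeCompl (Fin c → E)
  let iP := LocalizedModule.mkLinearMap P.primeCompl N
  let βP := IsLocalizedModule.map P.primeCompl iF iP β
  let πP := IsLocalizedModule.map P.primeCompl iP iQ (LinearMap.range β).mkQ
  have hexP : Function.Exact βP πP :=
    IsLocalizedModule.map_exact P.primeCompl iF iP iQ β _ (LinearMap.exact_map_mkQ_range β)
  have hπP : Function.Surjective πP :=
    IsLocalizedModule.map_surjective P.primeCompl iP iQ _ (Submodule.mkQ_surjective _)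
  have hF : GoodMod R (LocalizedModule P.primeCompl (Fin c → E)) := by
    let pf : (Fin c → E) →ₗ[E] (Fin c → LocalizedModule P.primeCompl E) :=
      LinearMap.pi fun i => (LocalizedModule.mkLinearMap P.primeCompl E).comp (LinearMap.proj i)
    haveI : IsLocalizedModule P.primeCompl pf := inferInstance
    exact GoodMod.of_equiv ((IsLocalizedModule.iso P.primeCompl pf).restrictScalars R)
      (GoodMod.pi c (good_etale (d := d) P hP))
  have hQ : GoodMod R (LocalizedModule P.primeCompl Q) := by
    by_cases hsP : s ∈ P
    · obtain ⟨d', hd', θ, hθ⟩ := exists_cut (d := d) P hP s hsP hsp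
      let T := E ⧸ Ideal.span {s}
      letI : Algebra (MvPolynomial (Fin d') R) T := θ.toRingHom.toAlgebra
      haveI : IsScalarTower R (MvPolynomial (Fin d') R) T := IsScalarTower.of_algebraMap_eq fun r => (θ.commutes r).symm
      have hann : Module.IsTorsionBySet E Q (Ideal.span {s} : Ideal E) := by
        rintro y ⟨z, hz⟩
        obtain ⟨w, rfl⟩ := Ideal.mem_span_singleton'.1 hz
        show (w * s) • y = 0
        rw [mul_smul, hsQ, smul_zero]
      letI : Module T Q := hann.module
      haveI : IsScalarTower E T Q := hann.isScalarTower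
      haveI : IsScalarTower R T Q := hann.isScalarTower
      haveI : Module.Finite T Q := Module.Finite.of_restrictScalars_finite E T Q
      let Pb : Ideal T := P.map (Ideal.Quotient.mk (Ideal.span {s}))
      have hle : Ideal.span {s} ≤ P := (Ideal.span_singleton_le_iff_mem _).2 hsP
      haveI : Pb.IsPrime := Ideal.map_isPrime_of_surjective Ideal.Quotient.mk_surjective (by rwa [Ideal.mk_ker])
      have hPbP : Pb.comap (algebraMap E T) = P := by
        show (P.map (Ideal.Quotient.mk (Ideal.span {s}))).comap (Ideal.Quotient.mk _) = P
        rw [Ideal.comap_map_of_surjective _ Ideal.Quotient.mk_surjective, ← RingHom.ker_eq_comap_bot, Ideal.mk_ker]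
        exact sup_eq_left.2 hle
      haveI := hθ Pb hPbP
      have hPbR : Pb.comap (algebraMap R T) = maximalIdeal R := by
        rw [IsScalarTower.algebraMap_eq R E T, ← Ideal.comap_comap, hPbP, hP]
      have hdiv : ∀ z ∉ Pb, ∃ u ∉ P, ∃ z', z * z' = algebraMap E T u := fun z hz => by
        obtain ⟨u, rfl⟩ := Ideal.Quotient.mk_surjective z
        exact ⟨u, fun h => hz (Ideal.mem_map_of_mem _ h), 1, mul_one _⟩
      haveI := isLocalizedModule_restrict P Pb hPbP hdiv (LocalizedModule.mkLinearMap Pb.primeCompl Q)
      exact GoodMod.of_equiv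
        ((IsLocalizedModule.iso P.primeCompl ((LocalizedModule.mkLinearMap Pb.primeCompl Q).restrictScalars E)).restrictScalars R)
        (good_step (IH d' hd') Pb hPbR Q ((flat_restrict_iff P Pb hPbP hdiv).2 hQflat))
    · haveI : Subsingleton (LocalizedModule P.primeCompl Q) :=
        LocalizedModule.subsingleton_iff.2 fun y => ⟨s, hsP, hsQ y⟩
      intro M _ _ z hz _
      have hall : ∀ w : LocalizedModule P.primeCompl Q ⊗[R] M, w = 0 := fun w => by
        induction w using TensorProduct.induction_on with
        | zero => rfl
        | add a b ha hb => rw [ha, hb, add_zero]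
        | tmul q m => rw [Subsingleton.elim q 0, zero_tmul]
      exact absurd (hall z) hz
  exact GoodMod.of_exact (βP.restrictScalars R) (πP.restrictScalars R) hβinj hexP hπP hF hQ

end Groth.Agent.H4RG
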