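import Groth.Prelude
import Groth.Agent.GeomLoci.SectNhdFlat
import Groth.Agent.DescLib.Reduced
import Groth.Agent.S15351
import Groth.Agent.Hensel.SmoothLift
import Groth.Agent.Hensel.Local
import Groth.Agent.CAlgOdd.FiniteResidue
import Groth.Agent.DiagThree.Sym
import Groth.Agent.H4RG.SmoothPrime
import Mathlib

/-!
# Generic points of fibres of a smooth algebra over a henselian base near a prime of the closed fibre

Near a prime `P` of the closed fibre, every prime which is minimal in its fibre is contained in `P`.  After a finite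
free local extension of the base the smooth algebra gets a section through a closed specialisation of `P`; the
components of the section form an open set, and in each fibre such a component is irreducible.
-/

set_option autoImplicit false
set_option linter.style.haveILetI false
set_option backward.isDefEq.respectTransparency.types false

universe u

open TensorProduct IsLocalRing AlgebraicGeometry CategoryTheory

namespace Groth.Agent.H4RG

/-- A prime which is minimal in its fibre. -/
def MinInFibre (A : Type u) {E : Type u} [CommRing A] [CommRing E] [Algebra A E] (η : Ideal E) : Prop :=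
  ∀ η' : Ideal E, η'.IsPrime → η' ≤ η → η'.comap (algebraMap A E) = η.comap (algebraMap A E) → η' = η

section fibre

variable {A E : Type u} [CommRing A] [CommRing E] [Algebra A E]

theorem fiberPoint_mem_minimalPrimes {η : PrimeSpectrum E} {pp : PrimeSpectrum A}
    (hη : PrimeSpectrum.comap (algebraMap A E) η = pp) (h : MinInFibre A η.asIdeal) :
    (PrimeSpectrum.preimageOrderIsoFiber A E pp ⟨η, hη⟩).asIdeal ∈ minimalPrimes (pp.asIdeal.Fiber E) := by
  set o := PrimeSpectrum.preimageOrderIsoFiber A E pp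
  rw [minimalPrimes_eq_minimals]
  refine ⟨(o ⟨η, hη⟩).2, fun J hJ hle => ?_⟩
  have hle' : o.symm ⟨J, hJ⟩ ≤ (⟨η, hη⟩ : ↥(PrimeSpectrum.comap (algebraMap A E) ⁻¹' {pp})) :=
    o.symm_apply_le.2 hle
  obtain ⟨⟨ζ, hζ⟩, hζe⟩ : ∃ z, z = o.symm ⟨J, hJ⟩ := ⟨_, rfl⟩
  rw [← hζe] at hle'
  have : ζ = η := PrimeSpectrum.ext (h ζ.asIdeal ζ.2 hle'
    (congrArg PrimeSpectrum.asIdeal ((hζ : PrimeSpectrum.comap (algebraMap A E) ζ = pp).trans hη.symm)))
  subst this
  have h2 := congrArg o hζe
  rw [OrderIso.apply_symm_apply] at h2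
  exact (congrArg PrimeSpectrum.asIdeal h2).le

theorem exists_minInFibre_le [Algebra.FiniteType A E] (x : PrimeSpectrum E) :
    ∃ η : PrimeSpectrum E, η.asIdeal ≤ x.asIdeal ∧
      η.asIdeal.comap (algebraMap A E) = x.asIdeal.comap (algebraMap A E) ∧ MinInFibre A η.asIdeal := by
  let pp := PrimeSpectrum.comap (algebraMap A E) x
  let o := PrimeSpectrum.preimageOrderIsoFiber A E pp
  let X := o ⟨x, rfl⟩
  haveI := X.2
  obtain ⟨J, hJ, hJX⟩ := Ideal.exists_minimalPrimes_le (bot_le (a := X.asIdeal))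
  let z := o.symm ⟨J, hJ.1.1⟩
  have hzx : z ≤ (⟨x, rfl⟩ : ↥(PrimeSpectrum.comap (algebraMap A E) ⁻¹' {pp})) := o.symm_apply_le.2 hJX
  refine ⟨z.1, hzx, congrArg PrimeSpectrum.asIdeal z.2, fun η' hη' hle hc => ?_⟩
  let w : ↥(PrimeSpectrum.comap (algebraMap A E) ⁻¹' {pp}) :=
    ⟨⟨η', hη'⟩, PrimeSpectrum.ext (hc.trans (congrArg PrimeSpectrum.asIdeal z.2))⟩
  have hwz : w ≤ z := hle
  have h1 : o w ≤ ⟨J, hJ.1.1⟩ := o.le_symm_apply.1 hwz
  have h2 : (⟨J, hJ.1.1⟩ : PrimeSpectrum (pp.asIdeal.Fiber E)) ≤ o w := hJ.2 ⟨(o w).2, bot_le⟩ h1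
  have h3 : z ≤ w := o.symm_apply_le.2 h2
  exact le_antisymm hle h3

theorem finite_minInFibre [Algebra.FiniteType A E] (pp : PrimeSpectrum A) :
    {η : PrimeSpectrum E | PrimeSpectrum.comap (algebraMap A E) η = pp ∧ MinInFibre A η.asIdeal}.Finite := by
  haveI : IsNoetherianRing (pp.asIdeal.Fiber E) := Algebra.FiniteType.isNoetherianRing pp.asIdeal.ResidueField _
  let o := PrimeSpectrum.preimageOrderIsoFiber A E pp
  have hfin : {X : PrimeSpectrum (pp.asIdeal.Fiber E) | X.asIdeal ∈ minimalPrimes (pp.asIdeal.Fiber E)}.Finite :=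
    (minimalPrimes.finite_of_isNoetherianRing _).preimage fun a _ b _ h => PrimeSpectrum.ext h
  refine ((hfin.image fun X => (o.symm X).1)).subset ?_
  rintro η ⟨hη, h⟩
  exact ⟨o ⟨η, hη⟩, fiberPoint_mem_minimalPrimes hη h, congrArg Subtype.val (o.symm_apply_apply ⟨η, hη⟩)⟩

/-- In a smooth fibre every prime contains only one minimal prime. -/
theorem minInFibre_unique [Algebra.Smooth A E] {x η η' : PrimeSpectrum E} (h1 : η.asIdeal ≤ x.asIdeal)
    (h2 : η'.asIdeal ≤ x.asIdeal) (hη : PrimeSpectrum.comap (algebraMap A E) η = PrimeSpectrum.comap (algebraMap A E) x)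
    (hη' : PrimeSpectrum.comap (algebraMap A E) η' = PrimeSpectrum.comap (algebraMap A E) x)
    (hm : MinInFibre A η.asIdeal) (hm' : MinInFibre A η'.asIdeal) : η = η' := by
  let pp := PrimeSpectrum.comap (algebraMap A E) x
  let o := PrimeSpectrum.preimageOrderIsoFiber A E pp
  let F := pp.asIdeal.Fiber E
  haveI : Nontrivial F := (o ⟨x, rfl⟩).nontrivial
  haveI := DiagThree.isRegularRing_of_smooth_field pp.asIdeal.ResidueField F
  let X := o ⟨x, rfl⟩
  haveI := X.2
  haveI : IsRegularLocalRing (Localization.AtPrime X.asIdeal) := IsRegularRing.isRegularLocalRing_localization X.asIdeal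
  haveI := RegLoc6.isDomain_of_isRegularLocalRing (Localization.AtPrime X.asIdeal)
  let K := RingHom.ker (algebraMap F (Localization.AtPrime X.asIdeal))
  haveI : K.IsPrime := RingHom.ker_isPrime _
  have key : ∀ (ζ : PrimeSpectrum E) (hz : PrimeSpectrum.comap (algebraMap A E) ζ = pp), MinInFibre A ζ.asIdeal →
      ζ.asIdeal ≤ x.asIdeal → o ⟨ζ, hz⟩ = ⟨K, inferInstance⟩ := by
    intro ζ hz hmin hle
    have hle' : o ⟨ζ, hz⟩ ≤ X := o.le_iff_le.2 (Subtype.mk_le_mk.2 hle)
    have hK : K ≤ (o ⟨ζ, hz⟩).asIdeal := fun t ht => by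
      obtain ⟨⟨s, hs⟩, hst⟩ := (IsLocalization.map_eq_zero_iff X.asIdeal.primeCompl (Localization.AtPrime X.asIdeal) t).1 ht
      have h0 : s * t ∈ (o ⟨ζ, hz⟩).asIdeal := by rw [hst]; exact zero_mem _
      exact ((o ⟨ζ, hz⟩).2.mem_or_mem h0).resolve_left fun h => hs (hle' h)
    exact PrimeSpectrum.ext (le_antisymm ((fiberPoint_mem_minimalPrimes hz hmin).2 ⟨inferInstance, bot_le⟩ hK) hK)
  have := o.injective ((key η hη hm h1).trans (key η' hη' hm' h2).symm)
  exact congrArg Subtype.val this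

/-- A connected subset of a smooth fibre contains only one prime which is minimal in the fibre. -/
theorem minInFibre_eq_of_preconnected [Algebra.Smooth A E] {pp : PrimeSpectrum A} {C : Set (PrimeSpectrum E)}
    (hC : _root_.IsPreconnected C) (hsub : ∀ x ∈ C, PrimeSpectrum.comap (algebraMap A E) x = pp)
    {a b : PrimeSpectrum E} (ha : a ∈ C) (hb : b ∈ C) (hma : MinInFibre A a.asIdeal) (hmb : MinInFibre A b.asIdeal) :
    a = b := by
  by_contra hab
  let S := {η : PrimeSpectrum E | PrimeSpectrum.comap (algebraMap A E) η = pp ∧ MinInFibre A η.asIdeal} \ {a}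
  have hS : S.Finite := (finite_minInFibre pp).subset Set.sdiff_subset
  let T : Set (PrimeSpectrum E) := ⋃ η ∈ S, PrimeSpectrum.zeroLocus (η.asIdeal : Set E)
  have hT : IsClosed T := hS.isClosed_biUnion fun η _ => PrimeSpectrum.isClosed_zeroLocus _
  have hcov : C ⊆ PrimeSpectrum.zeroLocus (a.asIdeal : Set E) ∪ T := by
    intro x hx
    obtain ⟨η, hle, hc, hmin⟩ := exists_minInFibre_le (A := A) x
    by_cases hηa : η = a
    · exact Or.inl (hηa ▸ hle)
    · exact Or.inr (Set.mem_biUnion ⟨⟨(PrimeSpectrum.ext hc : PrimeSpectrum.comap _ η = PrimeSpectrum.comap _ x).trans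
        (hsub x hx), hmin⟩, hηa⟩ hle)
  obtain ⟨x, hx, hxa, hxT⟩ := isPreconnected_closed_iff.1 hC _ _ (PrimeSpectrum.isClosed_zeroLocus _) hT hcov
    ⟨a, ha, le_refl a.asIdeal⟩ ⟨b, hb, Set.mem_biUnion ⟨⟨hsub b hb, hmb⟩, fun h => hab h.symm⟩ (le_refl b.asIdeal)⟩
  obtain ⟨η, ⟨⟨hη, hmin⟩, hηa⟩, hle⟩ := Set.mem_iUnion₂.1 hxT
  exact hηa (minInFibre_unique hle hxa (hη.trans (hsub x hx).symm) ((hsub a ha).trans (hsub x hx).symm) hmin hma)

end fibre

/-- A henselian local ring has finite free local extensions with a given finite residue field extension. -/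
theorem exists_local_extension {A : Type u} [CommRing A] [HenselianLocalRing A] (L : Type u) [Field L] [Algebra A L]
    (hp : RingHom.ker (algebraMap A L) = maximalIdeal A) [Algebra.FiniteType A L] :
    ∃ (A' : Type u) (_ : CommRing A') (_ : Algebra A A') (_ : HenselianLocalRing A') (χ : A' →ₐ[A] L),
      Module.Finite A A' ∧ Module.Free A A' ∧ Function.Surjective χ ∧ RingHom.ker χ.toRingHom = maximalIdeal A' := by
  classical
  let k := A ⧸ maximalIdeal A
  letI : Field k := Ideal.Quotient.field _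
  letI : Algebra k L := (Ideal.Quotient.lift (maximalIdeal A) (algebraMap A L) fun a ha => by
    rw [← RingHom.mem_ker, hp]; exact ha).toAlgebra
  haveI : IsScalarTower A k L := IsScalarTower.of_algebraMap_eq fun _ => rfl
  haveI : Algebra.FiniteType k L := Algebra.FiniteType.of_restrictScalars_finiteType A k L
  haveI : Module.Finite k L := finite_of_finite_type_of_isJacobsonRing k L
  haveI : Module.Finite A L := Module.Finite.trans k L
  obtain ⟨T, hT⟩ := (Module.Finite.fg_top : (⊤ : Submodule A L).FG)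
  obtain ⟨S, _, _, χ, hf, hfr, hker, hmem⟩ := CAlgOdd.FiniteResidue.exists_finite_free (maximalIdeal A) hp T
    fun x _ => ⟨1, (IsLocalRing.maximalIdeal.isMaximal A).isPrime.one_notMem, Algebra.IsIntegral.isIntegral _⟩
  have hs : Function.Surjective χ := by
    intro z
    suffices Submodule.span A (T : Set L) ≤ χ.range.toSubmodule from this (hT.symm ▸ Submodule.mem_top)
    rw [Submodule.span_le]
    intro x hx
    obtain ⟨a, ha, s, hs⟩ := hmem x hx
    have hu : IsUnit a := IsLocalRing.notMem_maximalIdeal.1 ha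
    refine ⟨(↑hu.unit⁻¹ : A) • s, ?_⟩
    change χ (_ • s) = x
    rw [map_smul, show χ s = a • x from hs, smul_smul, IsUnit.val_inv_mul, one_smul]
  have hmaxq : ((maximalIdeal A).map (algebraMap A S)).IsMaximal := hker ▸ RingHom.ker_isMaximal_of_surjective χ hs
  haveI : Algebra.IsIntegral A S := Algebra.IsIntegral.of_finite A S
  haveI : IsLocalRing S := IsLocalRing.of_unique_max_ideal ⟨_, hmaxq, fun J hJ =>
    (hmaxq.eq_of_le hJ.ne_top (Ideal.map_le_iff_le_comap.2
      (IsLocalRing.eq_maximalIdeal (Ideal.isMaximal_comap_of_isIntegral_of_isMaximal J)).ge)).symm⟩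
  haveI := Hensel.henselianLocalRing_of_finite A S
  exact ⟨S, inferInstance, inferInstance, inferInstance, χ, hf, hfr, hs, hker.trans (IsLocalRing.eq_maximalIdeal hmaxq)⟩

open MoreMor in
/-- Near a prime of the closed fibre of a smooth algebra over a henselian local ring, every prime minimal in its fibre
is contained in it. -/
theorem exists_nhd_generic_le {A E : Type u} [CommRing A] [HenselianLocalRing A] [CommRing E] [Algebra A E]
    [Algebra.Smooth A E] (P : Ideal E) [P.IsPrime] (hP : P.comap (algebraMap A E) = maximalIdeal A) :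
    ∃ g ∉ P, ∀ η : Ideal E, η.IsPrime → g ∉ η → MinInFibre A η → η ≤ P := by
  -- a closed specialisation
  obtain ⟨Z, hZ, hPZ⟩ := Ideal.exists_le_maximal P ‹P.IsPrime›.ne_top
  have hZA : Z.comap (algebraMap A E) = maximalIdeal A :=
    ((maximalIdeal.isMaximal A).eq_of_le (Ideal.IsPrime.comap (hK := hZ.isPrime) (algebraMap A E)).ne_top
      (hP ▸ Ideal.comap_mono hPZ)).symm
  letI : Field (E ⧸ Z) := Ideal.Quotient.field Z
  have hp : RingHom.ker (algebraMap A (E ⧸ Z)) = maximalIdeal A := by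
    rw [IsScalarTower.algebraMap_eq A E (E ⧸ Z), Ideal.Quotient.algebraMap_eq, ← RingHom.comap_ker, Ideal.mk_ker, hZA]
  haveI : Algebra.FiniteType A (E ⧸ Z) :=
    Algebra.FiniteType.of_surjective (Ideal.Quotient.mkₐ A Z) Ideal.Quotient.mk_surjective
  obtain ⟨A', _, _, _, χ, _, _, hχ, hker⟩ := exists_local_extension (E ⧸ Z) hp
  haveI : Module.Flat A A' := inferInstance
  haveI : Algebra.FinitePresentation A A' := by
    haveI : Module.FinitePresentation A A' := Module.finitePresentation_of_projective A A'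
    exact Algebra.FinitePresentation.of_finitePresentation A A'
  let E' := A' ⊗[A] E
  haveI : Algebra.Smooth A' E' := inferInstance
  let ι : E →ₐ[A] E' := Algebra.TensorProduct.includeRight
  letI : Algebra A' (E ⧸ Z) := χ.toRingHom.toAlgebra
  haveI : IsScalarTower A A' (E ⧸ Z) := IsScalarTower.of_algebraMap_eq fun a => (χ.commutes a).symm
  let σ0 : E' →ₐ[A'] E ⧸ Z :=
    Algebra.TensorProduct.lift (Algebra.ofId A' (E ⧸ Z)) (Ideal.Quotient.mkₐ A Z) fun _ _ => .all _ _
  let θ := (Ideal.quotEquivOfEq hker).symm.trans (RingHom.quotientKerEquivOfSurjective hχ)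
  have hθ : ∀ a : A', θ (Ideal.Quotient.mk _ a) = χ a := fun a => rfl
  let σ1 : E' →ₐ[A'] A' ⧸ maximalIdeal A' :=
    { θ.symm.toRingHom.comp σ0.toRingHom with
      commutes' := fun a => by
        show θ.symm (σ0 (algebraMap A' E' a)) = _
        rw [AlgHom.commutes, Ideal.Quotient.algebraMap_eq, RingEquiv.symm_apply_eq, hθ]
        rfl }
  haveI : HenselianRing A' (maximalIdeal A') := inferInstance
  obtain ⟨τ, hτ⟩ := Hensel.exists_smooth_lift (maximalIdeal A') σ1
  have hτ' : ∀ e : E', τ e ∈ maximalIdeal A' ↔ σ0 e = 0 := fun e => by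
    rw [← Ideal.Quotient.eq_zero_iff_mem]
    show (Ideal.Quotient.mkₐ A' (maximalIdeal A')).comp τ e = 0 ↔ _
    rw [hτ]
    exact θ.symm.map_eq_zero_iff
  -- the section
  let f : Spec (CommRingCat.of E') ⟶ Spec (CommRingCat.of A') := Spec.map (CommRingCat.ofHom (algebraMap A' E'))
  let e : Spec (CommRingCat.of A') ⟶ Spec (CommRingCat.of E') := Spec.map (CommRingCat.ofHom τ.toRingHom)
  have he : e ≫ f = 𝟙 _ := by
    rw [← Spec.map_comp, ← Spec.map_id, ← CommRingCat.ofHom_comp,
      show τ.toRingHom.comp (algebraMap A' E') = RingHom.id A' from RingHom.ext τ.commutes]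
    rfl
  haveI : AlgebraicGeometry.Smooth f :=
    (HasRingHomProperty.Spec_iff (P := @AlgebraicGeometry.Smooth)).2 (RingHom.smooth_algebraMap.2 inferInstance)
  let U : Set (PrimeSpectrum E') := sectionComponents f e
  have hU : IsOpen U := S15351.result f e he
  have hfx : ∀ x : PrimeSpectrum E', f x = PrimeSpectrum.comap (algebraMap A' E') x := fun x => rfl
  have hgen : ∀ {x y : PrimeSpectrum E'}, x ∈ U → y.asIdeal ≤ x.asIdeal → y ∈ U := fun hx hle =>
    hU.stableUnderGeneralization ((PrimeSpectrum.le_iff_specializes _ _).1 hle) hx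
  let Z' : PrimeSpectrum E' := PrimeSpectrum.comap τ.toRingHom (IsLocalRing.closedPoint A')
  have hZ'U : Z' ∈ U := by
    have h : f (e (IsLocalRing.closedPoint A')) = IsLocalRing.closedPoint A' := by
      rw [← Scheme.Hom.comp_apply, he]; rfl
    show Z' ∈ connectedComponentIn (f ⁻¹' {f Z'}) (e (f Z'))
    rw [show e (f Z') = Z' from congrArg e h]
    exact mem_connectedComponentIn rfl
  have hZ'E : Z'.asIdeal.comap ι.toRingHom = Z := by
    ext x
    show τ (ι x) ∈ maximalIdeal A' ↔ _
    rw [hτ', show σ0 (ι x) = Ideal.Quotient.mk Z x from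
      (Algebra.TensorProduct.lift_tmul _ _ _ (1 : A') x).trans (by rw [map_one, one_mul]; rfl),
      Ideal.Quotient.eq_zero_iff_mem]
  letI : Algebra E E' := Algebra.TensorProduct.rightAlgebra
  haveI : Module.Flat E E' := Module.Flat.of_linearEquiv (Algebra.TensorProduct.commRight A E A').symm.toLinearEquiv
  haveI : Algebra.FinitePresentation E E' := Algebra.FinitePresentation.equiv (Algebra.TensorProduct.commRight A E A')
  haveI : Z'.asIdeal.LiesOver Z := ⟨hZ'E.symm⟩
  obtain ⟨P'i, hP'Z', hP'p, hP'P⟩ := Ideal.exists_ideal_le_liesOver_of_le (p := P) (q := Z) Z'.asIdeal hPZ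
  let P' : PrimeSpectrum E' := ⟨P'i, hP'p⟩
  have hP'U : P' ∈ U := hgen hZ'U hP'Z'
  have hP'A : P'i.comap (algebraMap A' E') = maximalIdeal A' := by
    haveI := hP'p
    haveI : Algebra.IsIntegral A A' := Algebra.IsIntegral.of_finite A A'
    refine IsLocalRing.eq_maximalIdeal (Ideal.isMaximal_of_isIntegral_of_isMaximal_comap (R := A) _ ?_)
    rw [Ideal.comap_comap, ← IsScalarTower.algebraMap_eq,
      show algebraMap A E' = (algebraMap E E').comp (algebraMap A E) from ι.comp_algebraMap.symm,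
      ← Ideal.comap_comap, show P'i.comap (algebraMap E E') = P from hP'P.over.symm, hP]
    exact maximalIdeal.isMaximal A
  -- the image of the components
  have hopen : IsOpen (PrimeSpectrum.comap (algebraMap E E') '' U) :=
    (PrimeSpectrum.isOpenMap_comap_of_hasGoingDown_of_finitePresentation (R := E) (S := E')) U hU
  have hPim : (⟨P, inferInstance⟩ : PrimeSpectrum E) ∈ PrimeSpectrum.comap (algebraMap E E') '' U :=
    ⟨P', hP'U, PrimeSpectrum.ext hP'P.over.symm⟩
  obtain ⟨_, ⟨g, rfl⟩, hPg, hgU⟩ :=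
    PrimeSpectrum.isTopologicalBasis_basic_opens.exists_subset_of_mem_open hPim hopen
  refine ⟨g, hPg, fun η hη hgη hmin => ?_⟩
  obtain ⟨η', hη'U, hη'⟩ := hgU (show (⟨η, hη⟩ : PrimeSpectrum E) ∈ _ from hgη)
  obtain ⟨η'', hle, hc, hmin''⟩ := exists_minInFibre_le (A := A') η'
  have hη''U : η'' ∈ U := hgen hη'U hle
  have hη''η : η''.asIdeal.comap (algebraMap E E') = η := by
    have h1 : η''.asIdeal.comap (algebraMap E E') ≤ η :=
      le_of_le_of_eq (Ideal.comap_mono hle) (congrArg PrimeSpectrum.asIdeal hη')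
    refine hmin _ (Ideal.comap_isPrime _ _) h1 ?_
    rw [← show η'.asIdeal.comap (algebraMap E E') = η from congrArg PrimeSpectrum.asIdeal hη', Ideal.comap_comap,
      Ideal.comap_comap, show (algebraMap E E').comp (algebraMap A E) = algebraMap A E' from ι.comp_algebraMap,
      IsScalarTower.algebraMap_eq A A' E', ← Ideal.comap_comap, ← Ideal.comap_comap, hc]
  haveI : Module.Flat A' E' := inferInstance
  haveI := hP'p
  haveI : P'i.LiesOver (maximalIdeal A') := ⟨hP'A.symm⟩
  let pp := PrimeSpectrum.comap (algebraMap A' E') η''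
  haveI := pp.2
  obtain ⟨η0, hη0P, hη0p, hη0pp⟩ := Ideal.exists_ideal_le_liesOver_of_le (p := pp.asIdeal) (q := maximalIdeal A') P'i
    (IsLocalRing.le_maximalIdeal pp.2.ne_top)
  obtain ⟨η1, hle1, hc1, hmin1⟩ := exists_minInFibre_le (A := A') (⟨η0, hη0p⟩ : PrimeSpectrum E')
  have hη1U : η1 ∈ U := hgen hP'U (hle1.trans hη0P)
  have hpp1 : PrimeSpectrum.comap (algebraMap A' E') η1 = pp := PrimeSpectrum.ext (hc1.trans hη0pp.over.symm)
  have hC : ∀ y ∈ U, PrimeSpectrum.comap (algebraMap A' E') y = pp →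
      y ∈ connectedComponentIn (f ⁻¹' {pp}) (e pp) := fun y hy hyp => by
    rw [← hyp]
    exact hy
  have heq : η'' = η1 := minInFibre_eq_of_preconnected isPreconnected_connectedComponentIn
    (fun x hx => connectedComponentIn_subset (f ⁻¹' {pp}) (e pp) hx) (hC η'' hη''U rfl) (hC η1 hη1U hpp1) hmin'' hmin1
  rw [← hη''η, show P = P'i.comap (algebraMap E E') from hP'P.over, heq]
  exact Ideal.comap_mono (hle1.trans hη0P)

end Groth.Agent.H4RG
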