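import Groth.Agent.H4RG.Devissage
import Mathlib

/-!
# Flatness at a prime gives finite presentation at that prime
-/

set_option autoImplicit false
set_option linter.style.haveILetI false
set_option backward.isDefEq.respectTransparency.types false

universe u

open TensorProduct MvPolynomial

namespace Groth.Agent.H4RG

attribute [local instance] MvPolynomial.algebraMvPolynomial

/-- A finite module over a polynomial ring which is flat at a prime is finitely presented there. -/
theorem fp_of_flat_poly {R : Type u} [CommRing R] {n : ℕ} (P : Ideal (MvPolynomial (Fin n) R)) [P.IsPrime]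
    (N : Type u) [AddCommGroup N] [Module (MvPolynomial (Fin n) R) N] [Module R N]
    [IsScalarTower R (MvPolynomial (Fin n) R) N] [Module.Finite (MvPolynomial (Fin n) R) N]
    (hflat : Module.Flat R (LocalizedModule P.primeCompl N)) :
    Module.FinitePresentation (Localization.AtPrime P) (LocalizedModule P.primeCompl N) := by
  haveI := hflat
  let A := MvPolynomial (Fin n) R
  let p := P.comap (algebraMap R A)
  haveI : p.IsPrime := Ideal.comap_isPrime _ _
  let Rp := Localization.AtPrime p
  let Ap := MvPolynomial (Fin n) Rp
  haveI hloc : IsLocalization (p.primeCompl.map (C (σ := Fin n))) Ap := MvPolynomial.isLocalization p.primeCompl Rp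
  haveI : Module.Flat A Ap := IsLocalization.flat Ap (p.primeCompl.map (C (σ := Fin n)))
  haveI : IsScalarTower R A Ap := IsScalarTower.of_algebraMap_eq fun r => by
    show _ = MvPolynomial.map (algebraMap R Rp) (C r)
    rw [map_C]
    rfl
  have hd : Disjoint (p.primeCompl.map (C (σ := Fin n)) : Set A) P := by
    rw [Set.disjoint_left]
    rintro x ⟨r, hr, rfl⟩ hx
    exact hr hx
  let P' : Ideal Ap := P.map (algebraMap A Ap)
  haveI : P'.IsPrime := IsLocalization.isPrime_of_isPrime_disjoint (p.primeCompl.map (C (σ := Fin n))) Ap P ‹_› hd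
  have hP' : P'.comap (algebraMap A Ap) = P :=
    IsLocalization.comap_map_of_isPrime_disjoint (p.primeCompl.map (C (σ := Fin n))) Ap ‹_› hd
  have hP'p : P'.comap (algebraMap Rp Ap) = IsLocalRing.maximalIdeal Rp := by
    refine (IsLocalization.orderEmbedding p.primeCompl Rp).injective ?_
    show (P'.comap (algebraMap Rp Ap)).comap (algebraMap R Rp) = (IsLocalRing.maximalIdeal Rp).comap (algebraMap R Rp)
    rw [Ideal.comap_comap, ← IsScalarTower.algebraMap_eq, IsScalarTower.algebraMap_eq R A Ap, ← Ideal.comap_comap, hP']
    exact (Localization.AtPrime.under_maximalIdeal (I := p)).symm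
  haveI : Module.Flat R (LocalizedModule P'.primeCompl (Ap ⊗[A] N)) := flat_baseChange P P' hP' N
  have hfl : Module.Flat Rp (LocalizedModule P'.primeCompl (Ap ⊗[A] N)) :=
    (Module.flat_iff_of_isLocalization Rp p.primeCompl _).2 ‹_›
  exact fp_of_baseChange P P' hP' N (fpAt n Rp Ap P' hP'p (Ap ⊗[A] N) hfl)

/-- Finite modules over algebras of finite type which are flat at a prime are finitely presented there, relative
to a polynomial presentation of the algebra. -/
theorem fp_of_flat {R S : Type u} [CommRing R] [CommRing S] [Algebra R S] [Algebra.FiniteType R S]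
    (N : Type u) [AddCommGroup N] [Module S N] [Module R N] [IsScalarTower R S N] [Module.Finite S N]
    (q : Ideal S) [q.IsPrime] (hflat : Module.Flat R (LocalizedModule q.primeCompl N)) :
    Module.FinitePresentation (Localization.AtPrime q) (LocalizedModule q.primeCompl N) := by
  obtain ⟨n, φ, hφ⟩ := Algebra.FiniteType.iff_quotient_mvPolynomial''.1 ‹Algebra.FiniteType R S›
  let A := MvPolynomial (Fin n) R
  letI : Algebra A S := φ.toRingHom.toAlgebra
  haveI : IsScalarTower R A S := IsScalarTower.of_algebraMap_eq fun r => (φ.commutes r).symm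
  letI : Module A N := Module.compHom N φ.toRingHom
  haveI : IsScalarTower A S N := ⟨fun x y m => mul_smul (φ x) y m⟩
  haveI : IsScalarTower R A N := IsScalarTower.of_algebraMap_smul fun r m => by
    show φ (algebraMap R A r) • m = r • m
    rw [φ.commutes, algebraMap_smul]
  haveI : Module.Finite A S := Module.Finite.of_surjective (Algebra.linearMap A S) hφ
  haveI : Module.Finite A N := Module.Finite.trans S N
  let P := q.comap (algebraMap A S)
  haveI : P.IsPrime := Ideal.comap_isPrime _ _
  have hdiv : ∀ z ∉ q, ∃ u ∉ P, ∃ z', z * z' = algebraMap A S u := fun z hz => by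
    obtain ⟨u, hu⟩ := hφ z
    exact ⟨u, fun h => hz (hu ▸ h), 1, (mul_one z).trans hu.symm⟩
  have hfl : Module.Flat R (LocalizedModule P.primeCompl N) := (flat_restrict_iff P q rfl hdiv).1 hflat
  exact fp_of_fp_finite P q rfl hdiv (fp_of_flat_poly P N hfl)

end Groth.Agent.H4RG
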