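import Groth.Agent.H4RG.RegFlat
import Groth.Agent.EssFPDescent.Model
import Mathlib

/-!
# Flatness from flatness after inverting elements regular on the closed fibre: descent to Noetherian stages
-/

set_option autoImplicit false
set_option linter.style.haveILetI false

universe u

open TensorProduct IsLocalRing
attribute [local instance] Algebra.TensorProduct.rightAlgebra

namespace Groth.Agent.H4RG

open Groth.Agent.EssFPDescent

section Stage

variable {R₀ : Type u} [CommRing R₀] {R : Type u} [CommRing R] [Algebra R₀ R] [IsLocalRing R]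

theorem isLocalRing_stage (t : Finset R) : IsLocalRing (stage R₀ t) := by
  refine IsLocalRing.of_unique_max_ideal ⟨stageIdeal (stage R₀ t), isMaximal_stageIdeal t, fun J hJ => ?_⟩
  refine hJ.eq_of_le (isMaximal_stageIdeal t).ne_top fun x hx => ?_
  by_contra hnm
  refine hJ.ne_top (Ideal.eq_top_of_isUnit_mem _ hx (isUnit_of_isUnit_coe x ?_))
  by_contra hu
  exact hnm ((IsLocalRing.mem_maximalIdeal _).2 hu)

end Stage

variable {R₀ : Type u} [CommRing R₀] (T₀ : Type u) [CommRing T₀] [Algebra R₀ T₀]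
  (C₀ : Type u) [AddCommGroup C₀] [Module R₀ C₀] [Module T₀ C₀] [IsScalarTower R₀ T₀ C₀]

/-- Membership in `J (C₀ ⊗ A)`. -/
theorem mem_smul_top_iff {A : Type u} [CommRing A] [Algebra R₀ A] (J : Ideal A) (z : C₀ ⊗[R₀] A) :
    toCT T₀ C₀ z ∈ J • (⊤ : Submodule A (CT (R₀ := R₀) T₀ C₀ A)) ↔
      ((Ideal.Quotient.mkₐ R₀ J).toLinearMap).lTensor C₀ z = 0 := by
  constructor
  · intro h
    let g : CT (R₀ := R₀) T₀ C₀ A →+ C₀ ⊗[R₀] (A ⧸ J) :=
      (((Ideal.Quotient.mkₐ R₀ J).toLinearMap).lTensor C₀).toAddMonoidHom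
    suffices ∀ w ∈ J • (⊤ : Submodule A (CT (R₀ := R₀) T₀ C₀ A)), g w = 0 from this _ h
    intro w hw
    refine Submodule.smul_induction_on hw (fun r hr y _ => ?_)
      (fun a b ha hb => by rw [map_add, ha, hb, add_zero])
    suffices ∀ y : C₀ ⊗[R₀] A, g (r • toCT T₀ C₀ y) = 0 from this y
    intro y
    induction y using TensorProduct.induction_on with
    | zero =>
      show g (r • (0 : CT (R₀ := R₀) T₀ C₀ A)) = 0
      rw [smul_zero, map_zero]
    | add a b ha hb =>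
      show g (r • (toCT T₀ C₀ a + toCT T₀ C₀ b)) = 0
      rw [smul_add, map_add, ha, hb, add_zero]
    | tmul c b =>
      rw [smul_toCT]
      show c ⊗ₜ[R₀] Ideal.Quotient.mk J (r * b) = 0
      rw [Ideal.Quotient.eq_zero_iff_mem.2 (Ideal.mul_mem_right _ _ hr), tmul_zero]
  · intro h
    obtain ⟨w, rfl⟩ := (lTensor_exact C₀ (f := incl R₀ J) (g := (Ideal.Quotient.mkₐ R₀ J).toLinearMap)
      (fun a => ⟨fun ha => ⟨⟨a, Ideal.Quotient.eq_zero_iff_mem.1 ha⟩, rfl⟩, fun ⟨b, hb⟩ => by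
        rw [← hb]; exact Ideal.Quotient.eq_zero_iff_mem.2 b.2⟩) Ideal.Quotient.mk_surjective z).1 h
    clear h
    induction w using TensorProduct.induction_on with
    | zero => rw [map_zero]; exact zero_mem _
    | add a b ha hb => rw [map_add]; exact add_mem ha hb
    | tmul c j =>
      rw [LinearMap.lTensor_tmul]
      show toCT T₀ C₀ (c ⊗ₜ[R₀] (j.1 : A)) ∈ _
      rw [← smul_emb T₀ C₀ j.1 c]
      exact Submodule.smul_mem_smul j.2 Submodule.mem_top

variable {R : Type u} [CommRing R] [Algebra R₀ R] [IsLocalRing R]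

/-- Regularity on the closed fibre descends to every stage. -/
theorem regular_stage (Q : Ideal (T₀ ⊗[R₀] R)) [Q.IsPrime]
    (hQ : (maximalIdeal R).map (algebraMap R _) ≤ Q) (A : Subalgebra R₀ R) [(stageIdeal A).IsMaximal]
    (w : T₀ ⊗[R₀] A)
    (hreg : ∀ x : CT (R₀ := R₀) T₀ C₀ R, toTop T₀ A w • x ∈ maximalIdeal R • (⊤ : Submodule R _) →
      ∃ t ∉ Q, t • x ∈ maximalIdeal R • (⊤ : Submodule R (CT (R₀ := R₀) T₀ C₀ R)))
    (x : CT (R₀ := R₀) T₀ C₀ A) (hx : w • x ∈ stageIdeal A • (⊤ : Submodule A _)) :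
    ∃ t ∉ Q.comap (toTop T₀ A), t • x ∈ stageIdeal A • (⊤ : Submodule A (CT (R₀ := R₀) T₀ C₀ A)) := by
  classical
  let p := stageIdeal A
  let m := maximalIdeal R
  let πA := ((Ideal.Quotient.mkₐ R₀ p).toLinearMap).lTensor C₀
  let πR := ((Ideal.Quotient.mkₐ R₀ m).toLinearMap).lTensor C₀
  let qk : (A ⧸ p) →+* (R ⧸ m) := Ideal.quotientMap m A.val.toRingHom (fun a ha => ha)
  letI : Field (A ⧸ p) := Ideal.Quotient.field p
  letI : Algebra (A ⧸ p) (R ⧸ m) := qk.toAlgebra
  haveI : IsScalarTower A (A ⧸ p) (R ⧸ m) := IsScalarTower.of_algebraMap_eq fun a => rfl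
  haveI : IsScalarTower R₀ A (R ⧸ m) := IsScalarTower.of_algebraMap_eq fun a => rfl
  change C₀ ⊗[R₀] A at x
  have h1 : toTop T₀ A w • toCT T₀ C₀ (A.val.toLinearMap.lTensor C₀ x) ∈
      m • (⊤ : Submodule R (CT (R₀ := R₀) T₀ C₀ R)) := by
    have hmap : toTop T₀ A w • toCT T₀ C₀ (A.val.toLinearMap.lTensor C₀ x) =
        toCT T₀ C₀ (A.val.toLinearMap.lTensor C₀ (ρ T₀ C₀ A A w x)) :=
      (ρ_map T₀ C₀ A.val A.val.toLinearMap (fun a y => by simp [smul_eq_mul]) w x).symm
    rw [hmap, mem_smul_top_iff T₀ C₀ m]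
    have hA := (mem_smul_top_iff T₀ C₀ p (ρ T₀ C₀ A A w x)).1 hx
    have hcomm : (Ideal.Quotient.mkₐ R₀ m).toLinearMap ∘ₗ A.val.toLinearMap =
        ((IsScalarTower.toAlgHom A (A ⧸ p) (R ⧸ m)).toLinearMap.restrictScalars R₀) ∘ₗ
          (Ideal.Quotient.mkₐ R₀ p).toLinearMap := LinearMap.ext fun a => rfl
    rw [← LinearMap.comp_apply, ← LinearMap.lTensor_comp, hcomm, LinearMap.lTensor_comp, LinearMap.comp_apply,
      hA, map_zero]
  obtain ⟨s, hs, hsx⟩ := hreg _ h1
  obtain ⟨ι, hι⟩ := TensorProduct.exists_finset s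
  let V : Submodule (A ⧸ p) (R ⧸ m) :=
    Submodule.span (A ⧸ p) (ι.image fun i => Ideal.Quotient.mk m i.2 : Finset (R ⧸ m))
  haveI : Module.Finite (A ⧸ p) V := Module.Finite.span_of_finite _ (Finset.finite_toSet _)
  let b := Module.finBasis (A ⧸ p) V
  let f : (Fin (Module.finrank (A ⧸ p) V) → A ⧸ p) →ₗ[A] R ⧸ m :=
    (V.subtype.comp b.equivFun.symm.toLinearMap).restrictScalars A
  have hf : Function.Injective f := Subtype.val_injective.comp b.equivFun.symm.injective
  have hrange : ∀ i ∈ ι, ∃ a : Fin (Module.finrank (A ⧸ p) V) → A,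
      f (fun j => Ideal.Quotient.mk p (a j)) = Ideal.Quotient.mk m i.2 := by
    intro i hi
    have hmem : Ideal.Quotient.mk m i.2 ∈ V :=
      Submodule.subset_span (Finset.mem_image_of_mem (fun i => Ideal.Quotient.mk m i.2) hi)
    choose a ha using fun j => Ideal.Quotient.mk_surjective (b.equivFun ⟨_, hmem⟩ j)
    refine ⟨a, ?_⟩
    rw [show (fun j => Ideal.Quotient.mk p (a j)) = b.equivFun ⟨_, hmem⟩ from funext ha]
    show (b.equivFun.symm (b.equivFun ⟨_, hmem⟩)).1 = _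
    rw [LinearEquiv.symm_apply_apply]
  choose! a ha using hrange
  choose e he using fun j => Ideal.Quotient.mk_surjective (f (Pi.single j 1))
  let t : Fin (Module.finrank (A ⧸ p) V) → T₀ ⊗[R₀] A := fun j => ∑ i ∈ ι, i.1 ⊗ₜ[R₀] a i j
  have hall : ∀ j, t j • toCT T₀ C₀ x ∈ p • (⊤ : Submodule A (CT (R₀ := R₀) T₀ C₀ A)) := by
    intro j
    rw [show t j • toCT T₀ C₀ x = toCT T₀ C₀ (ρ T₀ C₀ A A (t j) x) from rfl, mem_smul_top_iff T₀ C₀ p]
    let sgl : Fin (Module.finrank (A ⧸ p) V) → (A ⧸ p) →ₗ[R₀] (Fin (Module.finrank (A ⧸ p) V) → A ⧸ p) :=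
      fun j => LinearMap.single R₀ (fun _ => A ⧸ p) j
    let G : C₀ ⊗[R₀] A →ₗ[R₀] C₀ ⊗[R₀] (Fin (Module.finrank (A ⧸ p) V) → A ⧸ p) :=
      ∑ j, (sgl j).lTensor C₀ ∘ₗ πA ∘ₗ (ρ T₀ C₀ A A (t j) : C₀ ⊗[R₀] A →ₗ[R₀] C₀ ⊗[R₀] A)
    have hG : (f.restrictScalars R₀).lTensor C₀ ∘ₗ G =
        πR ∘ₗ (ρ T₀ C₀ R R s : C₀ ⊗[R₀] R →ₗ[R₀] C₀ ⊗[R₀] R) ∘ₗ A.val.toLinearMap.lTensor C₀ := by
      refine TensorProduct.ext' fun c y => ?_
      simp only [G, LinearMap.comp_apply, LinearMap.coe_sum, Finset.sum_apply, map_sum, LinearMap.lTensor_tmul,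
        AlgHom.toLinearMap_apply]
      rw [hι]
      simp only [t, map_sum, LinearMap.coe_sum, Finset.sum_apply, ρ_tmul, πA, πR, LinearMap.lTensor_tmul, sgl,
        AlgHom.toLinearMap_apply, Ideal.Quotient.mkₐ_eq_mk]
      rw [Finset.sum_comm]
      refine Finset.sum_congr rfl fun i hi => ?_
      rw [← TensorProduct.tmul_sum]
      congr 1
      rw [← map_sum, show (∑ k, LinearMap.single R₀ (fun _ => A ⧸ p) k (Ideal.Quotient.mk p (a i k • y))) =
          y • fun k => Ideal.Quotient.mk p (a i k) from by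
        funext l
        rw [Finset.sum_apply, Finset.sum_eq_single l]
        · simp [Algebra.smul_def, mul_comm]
        · intro k _ hk
          simp [Pi.single_eq_of_ne (Ne.symm hk)]
        · simp, LinearMap.restrictScalars_apply, map_smul, ha i hi]
      show Ideal.Quotient.mk m (y : R) * Ideal.Quotient.mk m i.2 = Ideal.Quotient.mk m (i.2 * (y : R))
      rw [← map_mul, mul_comm]
    have h0 : (f.restrictScalars R₀).lTensor C₀ (G x) = 0 := by
      rw [← LinearMap.comp_apply, hG]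
      exact (mem_smul_top_iff T₀ C₀ m _).1 hsx
    have htV : Module.IsTorsionBySet A (Fin (Module.finrank (A ⧸ p) V) → A ⧸ p) p := by
      rintro v ⟨r, hr⟩
      funext k
      show r • v k = 0
      obtain ⟨y, hy⟩ := Ideal.Quotient.mk_surjective (v k)
      rw [← hy]
      exact Ideal.Quotient.eq_zero_iff_mem.2 (Ideal.mul_mem_right _ _ hr)
    have htW : Module.IsTorsionBySet A (R ⧸ m) p := by
      rintro v ⟨r, hr⟩
      obtain ⟨y, rfl⟩ := Ideal.Quotient.mk_surjective v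
      show Ideal.Quotient.mk m (r : R) * Ideal.Quotient.mk m y = 0
      rw [Ideal.Quotient.eq_zero_iff_mem.2 (show (r : R) ∈ m from hr), zero_mul]
    have hGx : G x = 0 := lTensor_injective_of_torsion C₀ p f hf htV htW (h0.trans (map_zero _).symm)
    have := congrArg ((LinearMap.proj (R := R₀) (φ := fun _ : Fin (Module.finrank (A ⧸ p) V) => A ⧸ p) j).lTensor C₀) hGx
    simp only [G, LinearMap.coe_sum, Finset.sum_apply, map_sum, map_zero, LinearMap.comp_apply] at this
    rw [Finset.sum_eq_single j (fun k _ hk => by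
        rw [← LinearMap.comp_apply, ← LinearMap.lTensor_comp,
          show LinearMap.proj j ∘ₗ sgl k = 0 from LinearMap.ext fun v => by simp [sgl, Pi.single_eq_of_ne (Ne.symm hk)],
          LinearMap.lTensor_zero, LinearMap.zero_apply]) (fun h => absurd (Finset.mem_univ j) h),
      ← LinearMap.comp_apply, ← LinearMap.lTensor_comp,
      show LinearMap.proj j ∘ₗ sgl j = LinearMap.id from LinearMap.ext fun v => by simp [sgl],
      LinearMap.lTensor_id, LinearMap.id_apply] at this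
    exact this
  by_contra hno
  push Not at hno
  have hin : ∀ j, t j ∈ Q.comap (toTop T₀ A) := fun j => by
    by_contra hj
    exact hno (t j) hj (hall j)
  refine hs ?_
  rw [hι]
  have hdecomp : ∀ i ∈ ι, i.1 ⊗ₜ[R₀] i.2 - ∑ j, i.1 ⊗ₜ[R₀] ((a i j : R) * e j) ∈ Q := by
    intro i hi
    refine hQ ?_
    rw [← TensorProduct.tmul_sum, ← TensorProduct.tmul_sub]
    have hmem : i.2 - ∑ j, (a i j : R) * e j ∈ m := by
      rw [← Ideal.Quotient.eq_zero_iff_mem, map_sub, map_sum, sub_eq_zero, ← ha i hi]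
      conv_lhs => rw [pi_eq_sum_univ' (fun j => Ideal.Quotient.mk p (a i j)), map_sum]
      refine Finset.sum_congr rfl fun j _ => ?_
      have : Ideal.Quotient.mk p (a i j) • (Pi.single j 1 : Fin (Module.finrank (A ⧸ p) V) → A ⧸ p) =
          (a i j) • Pi.single j 1 := by
        funext k
        simp [Algebra.smul_def]
      rw [this, map_smul, map_mul, he]
      rfl
    rw [show i.1 ⊗ₜ[R₀] (i.2 - ∑ j, (a i j : R) * e j) =
      (i.1 ⊗ₜ[R₀] (1 : R)) * algebraMap R (T₀ ⊗[R₀] R) (i.2 - ∑ j, (a i j : R) * e j) from by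
        show _ = (i.1 ⊗ₜ[R₀] (1 : R)) * ((1 : T₀) ⊗ₜ[R₀] _)
        rw [Algebra.TensorProduct.tmul_mul_tmul, mul_one, one_mul]]
    exact Ideal.mul_mem_left _ _ (Ideal.mem_map_of_mem _ hmem)
  have hsum : ∑ i ∈ ι, ∑ j, i.1 ⊗ₜ[R₀] ((a i j : R) * e j) ∈ Q := by
    rw [Finset.sum_comm]
    refine Q.sum_mem fun j _ => ?_
    have : ∑ i ∈ ι, i.1 ⊗ₜ[R₀] ((a i j : R) * e j) = toTop T₀ A (t j) * ((1 : T₀) ⊗ₜ[R₀] e j) := by
      rw [map_sum, Finset.sum_mul]
      refine Finset.sum_congr rfl fun i _ => ?_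
      show _ = (i.1 ⊗ₜ[R₀] (a i j : R)) * _
      rw [Algebra.TensorProduct.tmul_mul_tmul, mul_one]
    rw [this]
    exact Ideal.mul_mem_right _ _ (hin j)
  have h3 := add_mem (Q.sum_mem hdecomp) hsum
  rwa [← Finset.sum_add_distrib, Finset.sum_congr rfl (fun i _ => sub_add_cancel _ _)] at h3

variable [IsNoetherianRing R₀] [Algebra.FiniteType R₀ T₀] [Module.Finite T₀ C₀]

/-- The criterion for the model module. -/
theorem killed_of_regular (Q : Ideal (T₀ ⊗[R₀] R)) [Q.IsPrime]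
    (hQ : (maximalIdeal R).map (algebraMap R _) ≤ Q) (W : Submonoid (T₀ ⊗[R₀] R))
    (hk : Killed T₀ C₀ (maximalIdeal R) W)
    (hreg : ∀ w ∈ W, ∀ x : CT (R₀ := R₀) T₀ C₀ R, w • x ∈ maximalIdeal R • (⊤ : Submodule R _) →
      ∃ t ∉ Q, t • x ∈ maximalIdeal R • (⊤ : Submodule R (CT (R₀ := R₀) T₀ C₀ R))) :
    Killed T₀ C₀ (maximalIdeal R) Q.primeCompl := by
  classical
  obtain ⟨s₂, hs₂⟩ := exists_stage_killed T₀ C₀ W hk
  intro y hy
  obtain ⟨P, hP, hyP⟩ := TensorProduct.exists_finite_submodule_right_of_setFinite {y} (Set.finite_singleton _)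
  obtain ⟨w, hw⟩ := hyP (Set.mem_singleton _)
  haveI := hP
  let g : P →ₗ[R₀] Submodule.map (incl R₀ (maximalIdeal R)) P := (incl R₀ (maximalIdeal R)).submoduleMap P
  obtain ⟨P', hPP', hP', hzero⟩ :=
    AssFiber.exists_fg_lTensor_inclusion_eq_zero (N := C₀) (Submodule.map (incl R₀ (maximalIdeal R)) P)
      (Submodule.FG.map _ (Module.Finite.iff_fg.1 hP)) (g.lTensor C₀ w) (by
        rw [← LinearMap.comp_apply, ← LinearMap.lTensor_comp,
          show (Submodule.map (incl R₀ (maximalIdeal R)) P).subtype ∘ₗ g = incl R₀ (maximalIdeal R) ∘ₗ P.subtype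
            from rfl,
          LinearMap.lTensor_comp, LinearMap.comp_apply]
        exact (congrArg _ hw).trans hy)
  obtain ⟨G, hG⟩ := hP'
  let t := s₂ ∪ G
  let A := stage R₀ t
  haveI : IsNoetherianRing A := isNoetherianRing_stage _
  haveI := isMaximal_stageIdeal (R₀ := R₀) t
  haveI : IsLocalRing A := isLocalRing_stage t
  haveI := isNoetherianRing_tensor (R₀ := R₀) T₀ (A := A)
  haveI := finite_CT (R₀ := R₀) T₀ C₀ (A := A)
  let Qt : Ideal (T₀ ⊗[R₀] A) := Q.comap (toTop T₀ A)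
  have hmax : maximalIdeal A = stageIdeal A :=
    (IsLocalRing.eq_maximalIdeal (isMaximal_stageIdeal (R₀ := R₀) t)).symm
  haveI hflat : Module.Flat A (LocalizedModule Qt.primeCompl (CT (R₀ := R₀) T₀ C₀ A)) := by
    refine flat_of_regular_noeth Qt ?_ (W.comap (toTop T₀ A)) ?_ ?_
    · rw [hmax]
      exact Ideal.map_le_iff_le_comap.2 fun x hx => hQ (Ideal.mem_map_of_mem (algebraMap R _) hx)
    · rw [hmax]
      exact (killed_iff T₀ C₀ _ _).1 (hs₂ t Finset.subset_union_left)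
    · rw [hmax]
      exact fun v hv x hx => regular_stage T₀ C₀ Q hQ A v (hreg _ hv) x hx
  have hPA : ∀ x ∈ P', x ∈ A := by
    intro x hx
    rw [← hG] at hx
    exact Submodule.span_le (p := Subalgebra.toSubmodule A) |>.2
      (fun a ha => subset_stage t (Finset.mem_union_right _ ha)) hx
  let J' : Ideal A := stageIdeal A
  let gA : P →ₗ[R₀] J' :=
    { toFun := fun x => ⟨⟨((x : maximalIdeal R) : R), hPA _ (hPP' ⟨x.1, x.2, rfl⟩)⟩, x.1.2⟩
      map_add' := fun _ _ => rfl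
      map_smul' := fun _ _ => rfl }
  let hA : P' →ₗ[R₀] A :=
    { toFun := fun x => ⟨x.1, hPA _ x.2⟩
      map_add' := fun _ _ => rfl
      map_smul' := fun _ _ => rfl }
  obtain ⟨s, hs, hsy⟩ := (flat_iff_killed T₀ C₀ Qt.primeCompl).1 hflat J' (gA.lTensor C₀ w) (by
    rw [← LinearMap.comp_apply, ← LinearMap.lTensor_comp,
      show incl R₀ J' ∘ₗ gA = hA ∘ₗ Submodule.inclusion hPP' ∘ₗ g from rfl,
      LinearMap.lTensor_comp, LinearMap.lTensor_comp, LinearMap.comp_apply, LinearMap.comp_apply, hzero, map_zero])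
  refine ⟨toTop T₀ A s, hs, ?_⟩
  have hyw : y = (toMax A).lTensor C₀ (gA.lTensor C₀ w) := by
    rw [← LinearMap.comp_apply, ← LinearMap.lTensor_comp, ← hw]
    rfl
  rw [hyw]
  show ρ T₀ C₀ R _ (Algebra.TensorProduct.map (AlgHom.id R₀ T₀) A.val s) _ = 0
  rw [← ρ_map T₀ C₀ A.val (toMax A) (fun a x => rfl) s, hsy, map_zero]

end Groth.Agent.H4RG

namespace Groth.Agent.H4RG

open Groth.Agent.EssFPDescent MvPolynomial

/-- A module with relations defined over `R₀` is a model module. -/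
theorem exists_model_of {R₀ R S : Type u} [CommRing R₀] [CommRing R] [Algebra R₀ R] [CommRing S] [Algebra R S]
    {n a : ℕ} (φ : MvPolynomial (Fin n) R →ₐ[R] S) (hφ : Function.Surjective φ)
    {N : Type u} [AddCommGroup N] [Module S N] [Module (MvPolynomial (Fin n) R) N]
    (hsm : ∀ (p : MvPolynomial (Fin n) R) (y : N), p • y = φ p • y)
    (π : (Fin a → MvPolynomial (Fin n) R) →ₗ[MvPolynomial (Fin n) R] N) (hπ : Function.Surjective π)
    (G : Finset (Fin a → MvPolynomial (Fin n) R)) (hG : Submodule.span _ (G : Set (Fin a → _)) = LinearMap.ker π)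
    (b₀ : G → Fin a → MvPolynomial (Fin n) R₀)
    (hb₀ : ∀ v i, MvPolynomial.map (algebraMap R₀ R) (b₀ v i) = v.1 i) :
    ∃ (C₀ : Type u) (_ : AddCommGroup C₀) (_ : Module R₀ C₀)
      (_ : Module (MvPolynomial (Fin n) R₀) C₀) (_ : IsScalarTower R₀ (MvPolynomial (Fin n) R₀) C₀)
      (ψ : MvPolynomial (Fin n) R₀ ⊗[R₀] R →+* S) (Φ : CT (R₀ := R₀) (MvPolynomial (Fin n) R₀) C₀ R ≃+ N),
      Module.Finite (MvPolynomial (Fin n) R₀) C₀ ∧ Function.Surjective ψ ∧
        (∀ r : R, ψ (algebraMap R _ r) = algebraMap R S r) ∧ ∀ s x, Φ (s • x) = ψ s • Φ x := by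
  classical
  let T₀ := MvPolynomial (Fin n) R₀
  let e₁ : T₀ ⊗[R₀] R ≃ₐ[R₀] R ⊗[R₀] T₀ := Algebra.TensorProduct.comm R₀ T₀ R
  let e₂ : R ⊗[R₀] T₀ ≃ₐ[R] MvPolynomial (Fin n) R := MvPolynomial.algebraTensorAlgEquiv R₀ R
  let e : T₀ ⊗[R₀] R ≃+* MvPolynomial (Fin n) R := e₁.toRingEquiv.trans e₂.toRingEquiv
  have he : ∀ t : T₀, e (t ⊗ₜ 1) = MvPolynomial.map (algebraMap R₀ R) t := fun t => by
    show MvPolynomial.algebraTensorAlgEquiv R₀ R ((1 : R) ⊗ₜ[R₀] t) = _
    rw [MvPolynomial.algebraTensorAlgEquiv_tmul, one_smul]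
  let K₀ : Submodule T₀ (Fin a → T₀) := Submodule.span T₀ (Set.range fun v : G => b₀ v)
  let C₀ := (Fin a → T₀) ⧸ K₀
  let ψ : T₀ ⊗[R₀] R →+* S := φ.toRingHom.comp e.toRingHom
  let g : Fin a → N := fun i => π (Pi.single i 1)
  have hπg : ∀ v : Fin a → MvPolynomial (Fin n) R, π v = ∑ i, φ (v i) • g i := fun v => by
    conv_lhs => rw [pi_eq_sum_univ' v, map_sum]
    exact Finset.sum_congr rfl fun i _ => (π.map_smul (v i) _).trans (hsm _ _)
  let π' : (Fin a → T₀) →+ N :=
    { toFun := fun v => ∑ i, ψ (v i ⊗ₜ 1) • g i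
      map_zero' := by simp
      map_add' := fun v w => by simp [TensorProduct.add_tmul, add_smul, Finset.sum_add_distrib] }
  have hπ'smul : ∀ (t : T₀) (v : Fin a → T₀), π' (t • v) = ψ (t ⊗ₜ 1) • π' v := by
    intro t v
    show ∑ i, ψ ((t * v i) ⊗ₜ[R₀] (1 : R)) • g i = ψ (t ⊗ₜ[R₀] (1 : R)) • ∑ i, ψ (v i ⊗ₜ[R₀] (1 : R)) • g i
    rw [Finset.smul_sum]
    refine Finset.sum_congr rfl fun i _ => ?_
    rw [smul_smul, ← map_mul, Algebra.TensorProduct.tmul_mul_tmul, mul_one]
  have hK : K₀.toAddSubgroup ≤ π'.ker := by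
    intro v hv
    refine Submodule.span_induction ?_ (map_zero π') (fun x y _ _ hx hy => ?_) (fun t x _ hx => ?_) hv
    · rintro _ ⟨β, rfl⟩
      show ∑ i, φ (e (b₀ β i ⊗ₜ 1)) • g i = 0
      simp only [he, hb₀]
      rw [← hπg]
      exact LinearMap.mem_ker.1 (hG ▸ Submodule.subset_span β.2)
    · show π' (x + y) = 0
      rw [map_add, show π' x = 0 from hx, show π' y = 0 from hy, add_zero]
    · show π' (t • x) = 0
      rw [hπ'smul, show π' x = 0 from hx, smul_zero]
  let π₀ : C₀ →+ N := QuotientAddGroup.lift K₀.toAddSubgroup π' hK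
  have hπ₀ : ∀ (t : T₀) (x : C₀), π₀ (t • x) = ψ (t ⊗ₜ 1) • π₀ x := by
    intro t x
    induction x using Submodule.Quotient.induction_on with
    | _ v => exact hπ'smul t v
  obtain ⟨Φ, hΦe, hΦs⟩ := exists_modelMap (R := R) ψ π₀ hπ₀
  let v : Fin a → C₀ := fun i => Submodule.Quotient.mk (Pi.single i 1)
  have hΦv : ∀ i, Φ (emb T₀ C₀ (v i)) = g i := by
    intro i
    rw [hΦe]
    show ∑ j, ψ ((Pi.single i (1 : T₀) : Fin a → T₀) j ⊗ₜ[R₀] (1 : R)) • g j = g i
    rw [Finset.sum_eq_single i (fun j _ hj => by rw [Pi.single_eq_of_ne hj, TensorProduct.zero_tmul, map_zero, zero_smul])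
      (fun h => absurd (Finset.mem_univ i) h), Pi.single_eq_same, ← Algebra.TensorProduct.one_def, map_one, one_smul]
  have hsurj : Function.Surjective Φ := fun y => by
    obtain ⟨z, rfl⟩ := hπ y
    refine ⟨∑ i, e.symm (z i) • emb T₀ C₀ (v i), ?_⟩
    rw [map_sum, hπg]
    refine Finset.sum_congr rfl fun i _ => ?_
    rw [hΦs, hΦv]
    show φ (e (e.symm (z i))) • g i = _
    rw [e.apply_symm_apply]
  have hinj : Function.Injective Φ := by
    refine (injective_iff_map_eq_zero Φ).2 fun x hx => ?_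
    obtain ⟨z, hz⟩ := exists_eq_sum_smul v (by
      rw [eq_top_iff]
      rintro x -
      induction x using Submodule.Quotient.induction_on with
      | _ f =>
        rw [show (Submodule.Quotient.mk f : C₀) = ∑ i, f i • v i from by
          show K₀.mkQ f = ∑ i, f i • K₀.mkQ (Pi.single i 1)
          simp only [← map_smul, ← map_sum]
          congr 1
          exact pi_eq_sum_univ' f]
        exact Submodule.sum_mem _ fun i _ => Submodule.smul_mem _ _ (Submodule.subset_span ⟨i, rfl⟩)) x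
    have h0 : π (fun i => e (z i)) = 0 := by
      rw [hπg, ← hx, hz, map_sum]
      exact Finset.sum_congr rfl fun i _ => by rw [hΦs, hΦv]; rfl
    let E : (Fin a → MvPolynomial (Fin n) R) →+ CT (R₀ := R₀) T₀ C₀ R :=
      { toFun := fun f => ∑ i, e.symm (f i) • emb T₀ C₀ (v i)
        map_zero' := Finset.sum_eq_zero fun i _ => by rw [Pi.zero_apply, map_zero]; exact zero_smul (T₀ ⊗[R₀] R) (emb (R₀ := R₀) T₀ C₀ (A := R) (v i))
        map_add' := fun f f' => by simp [add_smul, Finset.sum_add_distrib] }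
    have hE0 : ∀ f ∈ Submodule.span (MvPolynomial (Fin n) R) (G : Set (Fin a → MvPolynomial (Fin n) R)), E f = 0 := by
      intro f hf
      refine Submodule.span_induction ?_ (map_zero E) (fun x y _ _ hx hy => by rw [map_add, hx, hy, add_zero])
        (fun p x _ hx => ?_) hf
      · intro β hβ
        show ∑ i, e.symm (β i) • emb T₀ C₀ (v i) = 0
        have hterm : ∀ i, e.symm (β i) • emb T₀ C₀ (A := R) (v i) = emb T₀ C₀ (b₀ ⟨β, hβ⟩ i • v i) := fun i => by
          rw [show e.symm (β i) = b₀ ⟨β, hβ⟩ i ⊗ₜ[R₀] (1 : R) from e.symm_apply_eq.2 ((he _).trans (hb₀ ⟨β, hβ⟩ i)).symm]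
          exact tmul_one_smul_emb _ _
        rw [Finset.sum_congr rfl fun i _ => hterm i, ← map_sum,
          show ∑ i, b₀ ⟨β, hβ⟩ i • v i = 0 from by
            show ∑ i, b₀ ⟨β, hβ⟩ i • K₀.mkQ (Pi.single i 1) = 0
            simp only [← map_smul, ← map_sum]
            rw [← pi_eq_sum_univ' (b₀ ⟨β, hβ⟩)]
            exact (Submodule.Quotient.mk_eq_zero _).2 (Submodule.subset_span ⟨⟨β, hβ⟩, rfl⟩), map_zero]
      · show ∑ i, e.symm (p * x i) • emb T₀ C₀ (v i) = 0
        calc ∑ i, e.symm (p * x i) • emb T₀ C₀ (A := R) (v i) = ∑ i, e.symm p • (e.symm (x i) • emb T₀ C₀ (A := R) (v i)) :=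
              Finset.sum_congr rfl fun i _ => by rw [map_mul, mul_smul]
          _ = e.symm p • E x := Finset.smul_sum.symm
          _ = 0 := by rw [hx, smul_zero]
    have hEx : E (fun i => e (z i)) = x := by
      rw [hz]
      show ∑ i, e.symm (e (z i)) • emb T₀ C₀ (v i) = _
      simp only [e.symm_apply_apply]
    rw [← hEx]
    exact hE0 _ (hG ▸ LinearMap.mem_ker.2 h0)
  refine ⟨C₀, inferInstance, inferInstance, inferInstance, inferInstance, ψ,
    AddEquiv.ofBijective Φ ⟨hinj, hsurj⟩, inferInstance,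
    hφ.comp e.surjective, fun r => ?_, hΦs⟩
  show φ (MvPolynomial.algebraTensorAlgEquiv R₀ R (r ⊗ₜ[R₀] (1 : T₀))) = _
  rw [MvPolynomial.algebraTensorAlgEquiv_tmul, map_one, map_smul, map_one, Algebra.algebraMap_eq_smul_one]

/-- A module of finite presentation over an algebra of finite presentation is a model module. -/
theorem exists_model {R S : Type u} [CommRing R] [CommRing S] [Algebra R S] [Algebra.FinitePresentation R S]
    (N : Type u) [AddCommGroup N] [Module S N] [Module R N] [IsScalarTower R S N] [Module.FinitePresentation S N] :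
    ∃ (R₀ : Type u) (_ : CommRing R₀) (_ : Algebra R₀ R) (n : ℕ) (C₀ : Type u) (_ : AddCommGroup C₀) (_ : Module R₀ C₀)
      (_ : Module (MvPolynomial (Fin n) R₀) C₀) (_ : IsScalarTower R₀ (MvPolynomial (Fin n) R₀) C₀)
      (ψ : MvPolynomial (Fin n) R₀ ⊗[R₀] R →+* S) (Φ : CT (R₀ := R₀) (MvPolynomial (Fin n) R₀) C₀ R ≃+ N),
      IsNoetherianRing R₀ ∧ Module.Finite (MvPolynomial (Fin n) R₀) C₀ ∧ Function.Surjective ψ ∧
        (∀ r : R, ψ (algebraMap R _ r) = algebraMap R S r) ∧ ∀ s x, Φ (s • x) = ψ s • Φ x := by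
  classical
  obtain ⟨n, φ, hφ, hkerφ⟩ := Algebra.FinitePresentation.out (R := R) (A := S)
  letI : Algebra (MvPolynomial (Fin n) R) S := φ.toRingHom.toAlgebra
  letI : Module (MvPolynomial (Fin n) R) N := Module.compHom N φ.toRingHom
  haveI : IsScalarTower (MvPolynomial (Fin n) R) S N := IsScalarTower.of_algebraMap_smul fun _ _ => rfl
  haveI : Module.FinitePresentation (MvPolynomial (Fin n) R) S :=
    Module.finitePresentation_of_surjective (Algebra.linearMap (MvPolynomial (Fin n) R) S) hφ hkerφ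
  haveI : Module.FinitePresentation (MvPolynomial (Fin n) R) N := Module.FinitePresentation.trans _ N S
  obtain ⟨a, π, hπ⟩ := Module.Finite.exists_fin' (MvPolynomial (Fin n) R) N
  obtain ⟨G, hG⟩ := Module.FinitePresentation.fg_ker π hπ
  let c : Finset R := G.biUnion fun v => Finset.univ.biUnion fun i => (v i).coeffs
  let R₀ : Subalgebra ℤ R := Algebra.adjoin ℤ (c : Set R)
  haveI : Algebra.FiniteType ℤ R₀ := (Subalgebra.fg_iff_finiteType R₀).1 (Subalgebra.fg_adjoin_finset c)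
  have hdesc : ∀ v : G, ∀ i, ∃ b : MvPolynomial (Fin n) R₀, MvPolynomial.map (algebraMap R₀ R) b = v.1 i := fun v i =>
    MvPolynomial.mem_range_map_iff_coeffs_subset.2 fun x hx =>
      ⟨⟨x, Algebra.subset_adjoin (Finset.mem_biUnion.2 ⟨v.1, v.2, Finset.mem_biUnion.2 ⟨i, Finset.mem_univ _, hx⟩⟩)⟩, rfl⟩
  choose b₀ hb₀ using hdesc
  obtain ⟨C₀, _, _, _, _, ψ, Φ, hfin, hψ, hψR, hΦ⟩ :=
    exists_model_of φ hφ (N := N) (fun _ _ => rfl) π hπ G hG b₀ hb₀
  exact ⟨R₀, inferInstance, inferInstance, n, C₀, inferInstance, inferInstance, inferInstance, inferInstance, ψ, Φ,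
    Algebra.FiniteType.isNoetherianRing ℤ R₀, hfin, hψ, hψR, hΦ⟩

/-- If `Tor₁(N, k)` is killed by elements regular on the closed fibre at `q`, then `N` is flat at `q`. -/
theorem flatAt_of_killed {R S : Type u} [CommRing R] [IsLocalRing R] [CommRing S] [Algebra R S]
    [Algebra.FinitePresentation R S] (N : Type u) [AddCommGroup N] [Module S N] [Module R N] [IsScalarTower R S N]
    [Module.FinitePresentation S N] (q : Ideal S) [q.IsPrime] (hq : (maximalIdeal R).map (algebraMap R S) ≤ q)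
    (W : Submonoid S)
    (hk : ∀ y : N ⊗[R] (maximalIdeal R), (maximalIdeal R).subtype.lTensor N y = 0 → ∃ w ∈ W, w • y = 0)
    (hreg : ∀ w ∈ W, ∀ x : N, w • x ∈ maximalIdeal R • (⊤ : Submodule R N) →
      ∃ t ∉ q, t • x ∈ maximalIdeal R • (⊤ : Submodule R N)) :
    Module.Flat R (LocalizedModule q.primeCompl N) := by
  classical
  obtain ⟨R₀, _, _, n, C₀, _, _, _, _, ψ, Φ, hR₀, hfin, hψ, hψR, hΦ⟩ := exists_model (R := R) (S := S) N
  let T := MvPolynomial (Fin n) R₀ ⊗[R₀] R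
  let CC := CT (R₀ := R₀) (MvPolynomial (Fin n) R₀) C₀ R
  haveI := hR₀
  haveI := hfin
  letI : Algebra T S := ψ.toAlgebra
  letI : Module T N := Module.compHom N ψ
  haveI : IsScalarTower T S N := IsScalarTower.of_algebraMap_smul fun _ _ => rfl
  haveI : IsScalarTower R T N := IsScalarTower.of_algebraMap_smul fun r y => by
    show ψ (algebraMap R T r) • y = r • y
    rw [hψR, algebraMap_smul]
  let ΦL : CC ≃ₗ[T] N := { Φ with map_smul' := fun s x => hΦ s x }
  have hsmul : ∀ (J : Ideal R) (s : T) (y : N ⊗[R] J), ψ s • y = s • y := by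
    intro J s y
    induction y using TensorProduct.induction_on with
    | zero => simp
    | tmul m j => rfl
    | add y z hy hz => rw [smul_add, smul_add, hy, hz]
  let E : ∀ J : Ideal R, CC ⊗[R] J ≃ₗ[T] N ⊗[R] J := fun J =>
    AlgebraTensorModule.congr ΦL (LinearEquiv.refl R J)
  have hE : ∀ (J : Ideal R) (y : CC ⊗[R] J), J.subtype.lTensor N (E J y) =
      AlgebraTensorModule.congr ΦL (LinearEquiv.refl R R) (J.subtype.lTensor CC y) := by
    intro J y
    induction y using TensorProduct.induction_on with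
    | zero => simp
    | tmul m j => rfl
    | add y z hy hz => simp only [map_add, hy, hz]
  have htop : ∀ x : CC, ΦL x ∈ maximalIdeal R • (⊤ : Submodule R N) ↔
      x ∈ maximalIdeal R • (⊤ : Submodule R CC) := by
    intro x
    refine ⟨fun h => ?_, fun h => Submodule.smul_top_le_comap_smul_top _ (ΦL.toLinearMap.restrictScalars R) h⟩
    have := Submodule.smul_top_le_comap_smul_top (maximalIdeal R) (ΦL.symm.toLinearMap.restrictScalars R) h
    rw [Submodule.mem_comap] at this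
    simpa using this
  let Q : Ideal T := q.comap ψ
  haveI : Q.IsPrime := Ideal.comap_isPrime _ _
  have hQ : (maximalIdeal R).map (algebraMap R T) ≤ Q := Ideal.map_le_iff_le_comap.2 fun r hr => by
    show ψ (algebraMap R T r) ∈ q
    rw [hψR]
    exact hq (Ideal.mem_map_of_mem _ hr)
  have hk' : Killed (R₀ := R₀) (MvPolynomial (Fin n) R₀) C₀ (maximalIdeal R) (W.comap ψ) := by
    refine (killed_iff _ C₀ _ _).2 fun y hy => ?_
    obtain ⟨w, hw, hwy⟩ := hk (E _ y) (by rw [hE, hy, map_zero])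
    obtain ⟨s, rfl⟩ := hψ w
    refine ⟨s, hw, (E _).injective ?_⟩
    rw [map_smul, map_zero, ← hsmul]
    exact hwy
  have hreg' : ∀ w ∈ W.comap ψ, ∀ x : CC, w • x ∈ maximalIdeal R • (⊤ : Submodule R CC) →
      ∃ t ∉ Q, t • x ∈ maximalIdeal R • (⊤ : Submodule R CC) := by
    intro w hw x hx
    rw [← htop, map_smul] at hx
    obtain ⟨t, ht, htx⟩ := hreg (ψ w) hw (ΦL x) hx
    obtain ⟨t, rfl⟩ := hψ t
    refine ⟨t, ht, ?_⟩
    rw [← htop, map_smul]
    exact htx
  have hflat := flat_localized (MvPolynomial (Fin n) R₀) C₀ Q hQ (killed_of_regular _ C₀ Q hQ _ hk' hreg')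
  rw [FlatModel.flat_localized_iff q.primeCompl (LocalizedModule.mkLinearMap q.primeCompl N)]
  intro J y hy
  obtain ⟨y', rfl⟩ := (E J).surjective y
  obtain ⟨s, hs, hsy⟩ := (FlatModel.flat_localized_iff Q.primeCompl (LocalizedModule.mkLinearMap Q.primeCompl CC)).1
    hflat J y' (by
      refine (AlgebraTensorModule.congr ΦL (LinearEquiv.refl R R)).injective ?_
      rw [← hE, hy, map_zero])
  refine ⟨ψ s, hs, ?_⟩
  rw [hsmul, ← map_smul, hsy, map_zero]

end Groth.Agent.H4RG
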