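import Groth.Prelude
import Groth.Agent.S2107
import Groth.Agent.H4RG.LocalFP
import Groth.Agent.H4RG.RegDescent
import Groth.Agent.EssFPDescent.AssUniv
import Groth.Agent.FlatModel.Open
import Mathlib

/-!
# Flatness is detected at the associated points of the fibre
-/

set_option autoImplicit false
set_option linter.style.haveILetI false
set_option backward.isDefEq.respectTransparency.types false

universe u

open TensorProduct IsLocalRing MvPolynomial

namespace Groth.Agent.H4RG

/-- Flatness over the base descends along a faithfully flat extension of scalars. -/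
theorem flat_of_ff_tensor {R B L Q : Type u} [CommRing R] [CommRing B] [CommRing L] [Algebra R B]
    [Algebra B L] [Algebra R L] [IsScalarTower R B L] [Module.FaithfullyFlat B L] [AddCommGroup Q] [Module B Q]
    [Module R Q] [IsScalarTower R B Q] [Module.Flat R (L ⊗[B] Q)] : Module.Flat R Q := by
  rw [Module.Flat.iff_lTensor_injective']
  intro J
  let φ := AlgebraTensorModule.lTensor B Q J.subtype
  have h1 := Module.Flat.lTensor_preserves_injective_linearMap (R := R) (M := L ⊗[B] Q) J.subtype J.injective_subtype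
  have h2 : Function.Injective (φ.lTensor L) := by
    intro a b hab
    obtain ⟨a, rfl⟩ := (AlgebraTensorModule.assoc R B B L Q J).surjective a
    obtain ⟨b, rfl⟩ := (AlgebraTensorModule.assoc R B B L Q J).surjective b
    have hcomm : ∀ z, (AlgebraTensorModule.assoc R B B L Q R) (J.subtype.lTensor (L ⊗[B] Q) z) =
        φ.lTensor L (AlgebraTensorModule.assoc R B B L Q J z) := fun z => by
      induction z using TensorProduct.induction_on with
      | zero => simp
      | add a b ha hb => simp only [map_add, ha, hb]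
      | tmul w k =>
        induction w using TensorProduct.induction_on with
        | zero => simp
        | add a b ha hb => simp only [TensorProduct.add_tmul, map_add, ha, hb]
        | tmul l x => simp [φ]
    rw [← hcomm, ← hcomm] at hab
    rw [h1 ((AlgebraTensorModule.assoc R B B L Q R).injective hab)]
  exact (Module.FaithfullyFlat.lTensor_injective_iff_injective B L φ).1 h2

/-- A quotient by the extended maximal ideal of a finite type algebra is noetherian. -/
theorem isNoetherianRing_quot {R S : Type u} [CommRing R] [CommRing S] [Algebra R S] [Algebra.FiniteType R S]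
    (m : Ideal R) [m.IsMaximal] : IsNoetherianRing (S ⧸ m.map (algebraMap R S)) := by
  haveI : IsNoetherianRing (R ⧸ m) := by
    letI := Ideal.Quotient.field m
    infer_instance
  haveI : Algebra.FiniteType (R ⧸ m) (S ⧸ m.map (algebraMap R S)) :=
    Algebra.FiniteType.of_restrictScalars_finiteType R (R ⧸ m) (S ⧸ m.map (algebraMap R S))
  exact Algebra.FiniteType.isNoetherianRing (R ⧸ m) _

/-- A finite set of primes controls zero divisors modulo an ideal near a prime. -/
theorem exists_finset_ass {S : Type u} [CommRing S] (I : Ideal S) [IsNoetherianRing (S ⧸ I)] {N : Type u} [AddCommGroup N]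
    [Module S N] [Module.Finite S N] (P : Ideal S) [P.IsPrime] :
    ∃ Qs : Finset (Ideal S), (∀ q ∈ Qs, q.IsPrime ∧ q ≤ P ∧ I ≤ q ∧
        ∃ x : N, ∀ a, a • x ∈ I • (⊤ : Submodule S N) ↔ a ∈ q) ∧
      ∀ (a : S) (x : N), (∀ q ∈ Qs, a ∉ q) → a • x ∈ I • (⊤ : Submodule S N) →
        ∃ t ∉ P, t • x ∈ I • (⊤ : Submodule S N) := by
  classical
  let Sb := S ⧸ I
  let Nb := N ⧸ (I • (⊤ : Submodule S N))
  haveI : Module.Finite Sb Nb := Module.Finite.of_restrictScalars_finite S Sb Nb
  let T := (associatedPrimes.finite Sb Nb).toFinset.filter fun r => r.comap (Ideal.Quotient.mk I) ≤ P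
  refine ⟨T.image fun r => r.comap (Ideal.Quotient.mk I), fun q hq => ?_, fun a x ha hax => ?_⟩
  · obtain ⟨r, hr, rfl⟩ := Finset.mem_image.1 hq
    obtain ⟨hr, hrP⟩ := Finset.mem_filter.1 hr
    rw [Set.Finite.mem_toFinset] at hr
    obtain ⟨hrprime, y, hy⟩ := isAssociatedPrime_iff.1 hr
    obtain ⟨x, rfl⟩ := Submodule.Quotient.mk_surjective _ y
    refine ⟨Ideal.IsPrime.comap _, hrP, fun a ha => ?_, x, fun a => ?_⟩
    · show Ideal.Quotient.mk I a ∈ r
      rw [Ideal.Quotient.eq_zero_iff_mem.2 ha]
      exact zero_mem _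
    · rw [Ideal.mem_comap, hy, Submodule.mem_colon_singleton, Submodule.mem_bot,
        ← Submodule.Quotient.mk_eq_zero, Submodule.Quotient.mk_smul]
      rfl
  · by_contra hne
    push Not at hne
    let y : Nb := Submodule.Quotient.mk x
    let Y := Submodule.span Sb {y}
    have hsm : ∀ b : S, Ideal.Quotient.mk I b • y = Submodule.Quotient.mk (b • x) := fun b => rfl
    have hle : Y.annihilator.comap (Ideal.Quotient.mk I) ≤ P := fun t ht => by
      by_contra htP
      refine hne t htP ?_
      rw [← Submodule.Quotient.mk_eq_zero, ← hsm]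
      exact Submodule.mem_annihilator.1 ht y (Submodule.mem_span_singleton_self y)
    have hdisj : Disjoint (Y.annihilator : Set Sb) ((P.primeCompl.map (Ideal.Quotient.mk I) : Submonoid Sb) : Set Sb) := by
      rw [Set.disjoint_left]
      rintro _ hx ⟨t, ht, rfl⟩
      exact ht (hle hx)
    obtain ⟨P', hP', hYP, hPd⟩ := Ideal.exists_le_prime_disjoint _ _ hdisj
    obtain ⟨r, hr, hrP⟩ := Ideal.exists_minimalPrimes_le hYP
    haveI : Module.Finite Sb Y := Module.Finite.iff_fg.2 (Submodule.fg_span_singleton y)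
    have hrass : r ∈ associatedPrimes Sb Nb :=
      associatedPrimes.subset_of_injective (f := Y.subtype) (Submodule.injective_subtype _)
        (Module.associatedPrimes.minimalPrimes_annihilator_subset_associatedPrimes Sb Y hr)
    have hrP' : r.comap (Ideal.Quotient.mk I) ≤ P := fun t ht => by
      by_contra htP
      exact Set.disjoint_left.1 hPd (hrP ht) ⟨t, htP, rfl⟩
    refine ha (r.comap (Ideal.Quotient.mk I)) (Finset.mem_image_of_mem _ (Finset.mem_filter.2
      ⟨(Set.Finite.mem_toFinset _).2 hrass, hrP'⟩)) ?_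
    refine hr.1.2 (Submodule.mem_annihilator.2 fun z hz => ?_)
    obtain ⟨b, rfl⟩ := Submodule.mem_span_singleton.1 hz
    rw [smul_comm, hsm, (Submodule.Quotient.mk_eq_zero _).2 hax, smul_zero]

/-- The relations of a finite module which is finitely presented at a prime are generated there by finitely many. -/
theorem exists_relations_at {S N : Type u} [CommRing S] [AddCommGroup N] [Module S N] {c : ℕ}
    (π : (Fin c → S) →ₗ[S] N) (hπ : Function.Surjective π) (q : Ideal S) [q.IsPrime]
    [Module.FinitePresentation (Localization.AtPrime q) (LocalizedModule q.primeCompl N)] :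
    ∃ G : Finset (Fin c → S), (∀ v ∈ G, π v = 0) ∧
      ∀ k, π k = 0 → ∃ s ∉ q, s • k ∈ Submodule.span S (G : Set (Fin c → S)) := by
  classical
  let Sq := Localization.AtPrime q
  let iF := LocalizedModule.mkLinearMap q.primeCompl (Fin c → S)
  let iN := LocalizedModule.mkLinearMap q.primeCompl N
  let πq := IsLocalizedModule.map q.primeCompl iF iN π
  let πE := πq.extendScalarsOfIsLocalization q.primeCompl Sq
  haveI : Module.Finite Sq (LocalizedModule q.primeCompl (Fin c → S)) :=
    Module.Finite.of_isLocalizedModule q.primeCompl iF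
  obtain ⟨G', hG'⟩ := Module.FinitePresentation.fg_ker πE
    (IsLocalizedModule.map_surjective q.primeCompl iF iN π hπ)
  have hrel : ∀ z : G', ∃ v : Fin c → S, π v = 0 ∧ ∃ u ∉ q, (u : S) • z.1 = iF v := by
    intro z
    obtain ⟨⟨v, s⟩, hvs⟩ := IsLocalizedModule.surj q.primeCompl iF z.1
    have hz : πq z.1 = 0 := LinearMap.mem_ker.1 (hG' ▸ Submodule.subset_span z.2 : z.1 ∈ LinearMap.ker πE)
    have h0 : iN (π v) = 0 := by
      rw [← IsLocalizedModule.map_apply q.primeCompl iF iN π v, ← hvs, Submonoid.smul_def, map_smul, hz, smul_zero]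
    obtain ⟨t, ht⟩ := (IsLocalizedModule.eq_zero_iff q.primeCompl iN).1 h0
    refine ⟨(t : S) • v, by rw [map_smul]; exact ht, (t * s : q.primeCompl), (t * s : q.primeCompl).2, ?_⟩
    rw [map_smul, Submonoid.coe_mul, mul_smul, ← hvs]
    rfl
  choose v hv0 u hu huv using hrel
  refine ⟨Finset.univ.image v, fun w hw => ?_, fun k hk => ?_⟩
  · obtain ⟨z, -, rfl⟩ := Finset.mem_image.1 hw
    exact hv0 z
  have h1 : iF k ∈ LinearMap.ker πE := by
    show πq (iF k) = 0
    rw [IsLocalizedModule.map_apply, hk, map_zero]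
  have h2 : iF k ∈ (Submodule.span S ((Finset.univ.image v : Finset (Fin c → S)) : Set (Fin c → S))).localized'
      Sq q.primeCompl iF := by
    rw [Submodule.localized'_span]
    rw [← hG'] at h1
    refine Submodule.span_le.2 (fun z hz => ?_) h1
    have hun : IsUnit (algebraMap S Sq (u ⟨z, hz⟩)) := IsLocalization.map_units Sq (⟨_, hu ⟨z, hz⟩⟩ : q.primeCompl)
    refine ((Submodule.span Sq _).smul_mem_iff_of_isUnit hun).1 (Submodule.subset_span ⟨v ⟨z, hz⟩, ?_, ?_⟩)
    · simp
    · rw [algebraMap_smul]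
      exact (huv ⟨z, hz⟩).symm
  obtain ⟨w, hw, s, hs⟩ := h2
  rw [IsLocalizedModule.mk'_eq_iff, Submonoid.smul_def, ← map_smul] at hs
  obtain ⟨t, ht⟩ := IsLocalizedModule.exists_of_eq (S := q.primeCompl) hs
  refine ⟨(t * s : q.primeCompl), (t * s : q.primeCompl).2, ?_⟩
  rw [Submonoid.coe_mul, mul_smul, ← Submonoid.smul_def t, ← ht]
  exact Submodule.smul_mem _ _ hw

/-- Finitely many relations suffice modulo an ideal with noetherian quotient. -/
theorem exists_relations_mod {S N : Type u} [CommRing S] [AddCommGroup N] [Module S N] (I : Ideal S)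
    [IsNoetherianRing (S ⧸ I)] {c : ℕ} (π : (Fin c → S) →ₗ[S] N) :
    ∃ G : Finset (Fin c → S), (∀ v ∈ G, π v = 0) ∧
      ∀ k, π k = 0 → ∃ w ∈ Submodule.span S (G : Set (Fin c → S)), k - w ∈ I • (⊤ : Submodule S (Fin c → S)) := by
  classical
  let M := (Fin c → S) ⧸ (I • (⊤ : Submodule S (Fin c → S)))
  haveI : Module.Finite (S ⧸ I) M := Module.Finite.of_restrictScalars_finite S (S ⧸ I) M
  let φ : (Fin c → S) →ₗ[S] M := Submodule.mkQ _
  have hfg : (Submodule.span (S ⧸ I) (φ '' {k | π k = 0})).FG := IsNoetherian.noetherian _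
  obtain ⟨T, hT, hTspan⟩ := Submodule.fg_span_iff_fg_span_finset_subset _ |>.1 hfg
  obtain ⟨G, hG, hGT⟩ := Finset.subset_set_image_iff.1 hT
  refine ⟨G, fun v hv => hG hv, fun k hk => ?_⟩
  have h1 : φ k ∈ Submodule.span (S ⧸ I) (φ '' (G : Set (Fin c → S))) := by
    rw [← Finset.coe_image, hGT, ← hTspan]
    exact Submodule.subset_span ⟨k, hk, rfl⟩
  rw [← Submodule.restrictScalars_mem S, Submodule.restrictScalars_span S (S ⧸ I) Ideal.Quotient.mk_surjective,
    ← Submodule.map_span] at h1
  obtain ⟨w, hw, hwk⟩ := h1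
  refine ⟨w, hw, ?_⟩
  rw [← Submodule.Quotient.mk_eq_zero, Submodule.Quotient.mk_sub, sub_eq_zero]
  exact hwk.symm

/-- Flatness at a prime over the closed point follows from flatness at the associated primes of the closed
fibre below it. -/
theorem flatAt_of_ass_local {R S : Type u} [CommRing R] [IsLocalRing R] [CommRing S] [Algebra R S]
    [Algebra.FinitePresentation R S] (N : Type u) [AddCommGroup N] [Module S N] [Module R N] [IsScalarTower R S N]
    [Module.Finite S N] (P : Ideal S) [P.IsPrime] (hP : P.comap (algebraMap R S) = maximalIdeal R)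
    (H : ∀ (q : Ideal S) [q.IsPrime], q ≤ P → q.comap (algebraMap R S) = maximalIdeal R →
      (∃ x : N, ∀ a : S, a • x ∈ AssFiber.pN (maximalIdeal R) (S := S) N ↔ a ∈ q) →
      Module.Flat R (LocalizedModule q.primeCompl N)) :
    Module.Flat R (LocalizedModule P.primeCompl N) := by
  classical
  let m := maximalIdeal R
  let I := m.map (algebraMap R S)
  haveI : IsNoetherianRing (S ⧸ I) := isNoetherianRing_quot m
  obtain ⟨Qs, hQs, hreg0⟩ := exists_finset_ass I (N := N) P
  obtain ⟨c, π, hπ⟩ := Module.Finite.exists_fin' S N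
  have hQR : ∀ q ∈ Qs, q.comap (algebraMap R S) = m := fun q hq =>
    le_antisymm ((Ideal.comap_mono (hQs q hq).2.1).trans hP.le) (Ideal.map_le_iff_le_comap.1 (hQs q hq).2.2.1)
  have hflatQ : ∀ q : Qs, (haveI := (hQs q q.2).1; Module.Flat R (LocalizedModule q.1.primeCompl N)) := fun q =>
    haveI := (hQs q q.2).1
    H q.1 (hQs q q.2).2.1 (hQR q q.2) (hQs q q.2).2.2.2
  -- finitely many relations
  obtain ⟨Gm, hGm0, hGm⟩ := exists_relations_mod I π
  have hGq : ∀ q : Qs, ∃ G : Finset (Fin c → S), (∀ v ∈ G, π v = 0) ∧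
      ∀ k, π k = 0 → ∃ s ∉ q.1, s • k ∈ Submodule.span S (G : Set (Fin c → S)) := fun q => by
    haveI := (hQs q q.2).1
    haveI := fp_of_flat (R := R) N q.1 (hflatQ q)
    exact exists_relations_at π hπ q.1
  choose Gq hGq0 hGqs using hGq
  let K0 := Submodule.span S ((Gm ∪ Finset.univ.biUnion Gq : Finset (Fin c → S)) : Set (Fin c → S))
  have hK0 : K0 ≤ LinearMap.ker π := Submodule.span_le.2 fun v hv => by
    rcases Finset.mem_union.1 (Finset.mem_coe.1 hv) with h | h
    · exact hGm0 v h
    · obtain ⟨q, -, hq⟩ := Finset.mem_biUnion.1 h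
      exact hGq0 q v hq
  let N1 := (Fin c → S) ⧸ K0
  haveI : Module.FinitePresentation S N1 :=
    Module.finitePresentation_of_surjective K0.mkQ K0.mkQ_surjective (by rw [Submodule.ker_mkQ]; exact ⟨_, rfl⟩)
  let μ : N1 →ₗ[S] N := K0.liftQ π hK0
  have hμ : Function.Surjective μ := fun y => by
    obtain ⟨v, rfl⟩ := hπ y
    exact ⟨Submodule.Quotient.mk v, rfl⟩
  have hμm : ∀ x : N1, μ x ∈ I • (⊤ : Submodule S N) → x ∈ I • (⊤ : Submodule S N1) := by
    intro x hx
    obtain ⟨v, rfl⟩ := Submodule.Quotient.mk_surjective _ x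
    have hx' : π v ∈ (I • (⊤ : Submodule S (Fin c → S))).map π := by
      rw [Submodule.map_smul'', Submodule.map_top, LinearMap.range_eq_top.2 hπ]
      exact hx
    obtain ⟨w, hw, hwv⟩ := hx'
    obtain ⟨w', hw', hww⟩ := hGm (v - w) (by rw [map_sub, hwv, sub_self])
    have hw0 : Submodule.Quotient.mk (p := K0) w' = 0 := (Submodule.Quotient.mk_eq_zero _).2
      (Submodule.span_mono (by intro z hz; exact Finset.mem_coe.2 (Finset.mem_union_left _ hz)) hw')
    have hv : (Submodule.Quotient.mk v : N1) = K0.mkQ (v - w - w') + K0.mkQ w := by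
      rw [← map_add, show v - w - w' + w = v - w' by abel, map_sub, Submodule.mkQ_apply, Submodule.mkQ_apply, hw0, sub_zero]
    rw [hv]
    exact add_mem (Submodule.smul_top_le_comap_smul_top _ K0.mkQ hww) (Submodule.smul_top_le_comap_smul_top _ K0.mkQ hw)
  have hμq : ∀ q : Qs, ∀ x : N1, μ x = 0 → ∃ s ∉ q.1, s • x = 0 := by
    intro q x hx
    obtain ⟨v, rfl⟩ := Submodule.Quotient.mk_surjective _ x
    obtain ⟨s, hs, hsv⟩ := hGqs q v hx
    refine ⟨s, hs, ?_⟩
    rw [← Submodule.Quotient.mk_smul, Submodule.Quotient.mk_eq_zero]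
    exact Submodule.span_mono (by
      intro z hz
      exact Finset.mem_coe.2 (Finset.mem_union_right _ (Finset.mem_biUnion.2 ⟨q, Finset.mem_univ _, hz⟩))) hsv
  -- an element regular on the closed fibre outside whose zero locus the new module is flat
  let y0 := fun y : N1 ⊗[R] m => m.subtype.lTensor N1 y = 0
  let G : Ideal S := ⨅ y : {y // y0 y}, Ideal.radical (LinearMap.ker (LinearMap.toSpanSingleton S (N1 ⊗[R] m) y.1) : Ideal S)
  have hG : ∀ g : S, g ∈ G ↔ ∀ y, y0 y → ∃ i : ℕ, g ^ i • y = 0 := fun g => by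
    simp only [G, Submodule.mem_iInf, Subtype.forall, Ideal.mem_radical_iff, LinearMap.mem_ker,
      LinearMap.toSpanSingleton_apply]
  obtain ⟨g, hgG, hgQ⟩ : ∃ g ∈ G, ∀ q ∈ Qs, g ∉ q := by
    by_contra hne
    push Not at hne
    obtain ⟨q, hq, hle⟩ := (Ideal.subset_union_prime (f := fun q => q) ⊥ ⊥ (fun q hq _ _ => (hQs q hq).1)).1
      (fun g hg => by
        obtain ⟨q, hq, hgq⟩ := hne g hg
        exact Set.mem_biUnion hq hgq : (G : Set S) ⊆ ⋃ q ∈ (Qs : Set (Ideal S)), (q : Set S))
    haveI := (hQs q hq).1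
    have hfl : Module.Flat R (LocalizedModule q.primeCompl N1) := by
      let f : N1 →ₗ[S] LocalizedModule q.primeCompl N := (LocalizedModule.mkLinearMap q.primeCompl N).comp μ
      haveI : IsLocalizedModule q.primeCompl f := by
        refine ⟨fun u => IsLocalizedModule.map_units (LocalizedModule.mkLinearMap q.primeCompl N) u, fun z => ?_,
          fun {a b} hab => ?_⟩
        · obtain ⟨⟨n, s⟩, hns⟩ := IsLocalizedModule.surj q.primeCompl (LocalizedModule.mkLinearMap q.primeCompl N) z
          obtain ⟨x, rfl⟩ := hμ n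
          exact ⟨⟨x, s⟩, hns⟩
        · obtain ⟨s, hs⟩ := IsLocalizedModule.exists_of_eq (S := q.primeCompl)
            (f := LocalizedModule.mkLinearMap q.primeCompl N) hab
          obtain ⟨t, ht, htx⟩ := hμq ⟨q, hq⟩ ((s : S) • a - (s : S) • b)
            (by rw [map_sub, map_smul, map_smul, sub_eq_zero]; exact hs)
          refine ⟨⟨t, ht⟩ * s, ?_⟩
          rw [smul_sub, sub_eq_zero] at htx
          rw [Submonoid.smul_def, Submonoid.smul_def, Submonoid.coe_mul, mul_smul, mul_smul]
          exact htx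
      haveI := hflatQ ⟨q, hq⟩
      exact Module.Flat.of_linearEquiv ((IsLocalizedModule.iso q.primeCompl f).restrictScalars R)
    obtain ⟨g, hgq, hg⟩ := FlatModel.exists_flat_nhd N1 q hfl
    refine hgq (hle ((hG g).2 fun y hy => ?_))
    obtain ⟨_, ⟨i, rfl⟩, hi⟩ := (FlatModel.flat_localized_iff (Submonoid.powers g)
      (LocalizedModule.mkLinearMap (Submonoid.powers g) N1)).1 (hg _ (Submonoid.mem_powers g)) m y hy
    exact ⟨i, hi⟩
  -- the new module is flat at `P`
  have hreg : ∀ a : S, (∀ q ∈ Qs, a ∉ q) → ∀ x : N1, a • x ∈ I • (⊤ : Submodule S N1) →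
      ∃ t ∉ P, t • x ∈ I • (⊤ : Submodule S N1) := by
    intro a ha x hx
    obtain ⟨t, ht, htx⟩ := hreg0 a (μ x) ha (by
      rw [← map_smul]
      exact Submodule.smul_top_le_comap_smul_top _ μ hx)
    exact ⟨t, ht, hμm _ (by rwa [map_smul])⟩
  haveI hN1P : Module.Flat R (LocalizedModule P.primeCompl N1) := by
    refine flatAt_of_killed N1 P (Ideal.map_le_iff_le_comap.2 hP.ge) (Submonoid.powers g) (fun y hy => ?_)
      (fun w hw x hx => ?_)
    · obtain ⟨i, hi⟩ := (hG g).1 hgG y hy
      exact ⟨g ^ i, ⟨i, rfl⟩, hi⟩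
    · obtain ⟨i, rfl⟩ := hw
      obtain ⟨t, ht, htx⟩ := hreg (g ^ i) (fun q hq h => hgQ q hq ((hQs q hq).1.mem_of_pow_mem i h)) x
        (AssFiber.smul_mem_pN m N1 hx)
      exact ⟨t, ht, AssFiber.mem_smul_top_of_mem_pN m N1 htx⟩
  -- the kernel vanishes at `P`
  let f : N1 →ₗ[S] LocalizedModule P.primeCompl N := (LocalizedModule.mkLinearMap P.primeCompl N).comp μ
  have hker : ∀ x : N1, μ x = 0 → ∃ t ∉ P, t • x = 0 := by
    intro x hx
    let A := LinearMap.ker (LinearMap.toSpanSingleton S N1 x)
    obtain ⟨s, hsA, hsQ⟩ : ∃ s ∈ A, ∀ q ∈ Qs, s ∉ q := by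
      by_contra hne
      push Not at hne
      obtain ⟨q, hq, hle⟩ := (Ideal.subset_union_prime (f := fun q => q) ⊥ ⊥ (fun q hq _ _ => (hQs q hq).1)).1
        (fun g hg => by
          obtain ⟨q, hq, hgq⟩ := hne g hg
          exact Set.mem_biUnion hq hgq : (A : Set S) ⊆ ⋃ q ∈ (Qs : Set (Ideal S)), (q : Set S))
      obtain ⟨s, hs, hsx⟩ := hμq ⟨q, hq⟩ x hx
      exact hs (hle hsx)
    let SP := Localization.AtPrime P
    let NP := LocalizedModule P.primeCompl N1
    haveI : P.LiesOver m := ⟨hP.symm⟩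
    haveI : IsLocalHom (algebraMap R SP) := ⟨fun r hr => by
      by_contra h
      have h1 : algebraMap R S r ∈ P := hP.ge h
      rw [IsScalarTower.algebraMap_apply R S SP] at hr
      exact (IsLocalization.AtPrime.to_map_mem_maximal_iff SP P _).2 h1 hr⟩
    have hinj : Function.Injective (algebraMap S SP s • (LinearMap.id : NP →ₗ[SP] NP)) := by
      refine (S2107.result (R := R) (S := SP)
        ⟨S, inferInstance, inferInstance, inferInstance, inferInstance, P.primeCompl, inferInstance, inferInstance⟩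
        _ fun z hz => ?_).1
      obtain ⟨⟨v, u⟩, hvu⟩ := IsLocalizedModule.surj P.primeCompl (LocalizedModule.mkLinearMap P.primeCompl N1) z
      have hz' : LocalizedModule.mkLinearMap P.primeCompl N1 (s • v) ∈
          m.map (algebraMap R SP) • (⊤ : Submodule SP NP) := by
        rw [map_smul, ← hvu, Submonoid.smul_def, smul_comm, ← algebraMap_smul SP (u : S)]
        refine Submodule.smul_mem _ _ ?_
        rw [← algebraMap_smul SP s z]
        exact hz
      obtain ⟨u1, hu1, n, hn, e⟩ := EssFPDescent.exists_mem_pN_of_mem N1 m P hz'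
      rw [← map_smul] at e
      obtain ⟨t, ht⟩ := IsLocalizedModule.exists_of_eq (S := P.primeCompl) e
      have h1 : s • ((t : S) • u1 • v) ∈ I • (⊤ : Submodule S N1) := by
        rw [smul_comm s, smul_comm s, ← Submonoid.smul_def, ht]
        exact Submodule.smul_mem _ _ hn
      obtain ⟨t2, ht2, h2⟩ := hreg s hsQ _ h1
      have h3 := EssFPDescent.mkLinearMap_mem N1 m P h2
      rw [map_smul, map_smul, map_smul, ← hvu, Submonoid.smul_def, smul_smul, smul_smul, smul_smul,
        ← algebraMap_smul SP] at h3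
      exact ((m.map (algebraMap R SP) • (⊤ : Submodule SP NP)).smul_mem_iff_of_isUnit
        (IsLocalization.map_units SP (⟨_, mul_mem (mul_mem (mul_mem (show t2 ∈ P.primeCompl from ht2) t.2)
          (show u1 ∈ P.primeCompl from hu1)) u.2⟩ : P.primeCompl))).1 h3
    have h0 : LocalizedModule.mkLinearMap P.primeCompl N1 x = 0 := hinj (by
      rw [LinearMap.smul_apply, LinearMap.id_apply, LinearMap.smul_apply, LinearMap.id_apply, smul_zero,
        algebraMap_smul, ← map_smul, show s • x = 0 from hsA, map_zero])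
    obtain ⟨t, ht⟩ := (IsLocalizedModule.eq_zero_iff P.primeCompl (LocalizedModule.mkLinearMap P.primeCompl N1)).1 h0
    exact ⟨t, t.2, ht⟩
  haveI : IsLocalizedModule P.primeCompl f := by
    refine ⟨fun u => IsLocalizedModule.map_units (LocalizedModule.mkLinearMap P.primeCompl N) u, fun z => ?_,
      fun {a b} hab => ?_⟩
    · obtain ⟨⟨n, s⟩, hns⟩ := IsLocalizedModule.surj P.primeCompl (LocalizedModule.mkLinearMap P.primeCompl N) z
      obtain ⟨x, rfl⟩ := hμ n
      exact ⟨⟨x, s⟩, hns⟩
    · obtain ⟨s, hs⟩ := IsLocalizedModule.exists_of_eq (S := P.primeCompl)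
        (f := LocalizedModule.mkLinearMap P.primeCompl N) hab
      obtain ⟨t, ht, htx⟩ := hker ((s : S) • a - (s : S) • b)
        (by rw [map_sub, map_smul, map_smul, sub_eq_zero]; exact hs)
      refine ⟨⟨t, ht⟩ * s, ?_⟩
      rw [smul_sub, sub_eq_zero] at htx
      rw [Submonoid.smul_def, Submonoid.smul_def, Submonoid.coe_mul, mul_smul, mul_smul]
      exact htx
  exact Module.Flat.of_linearEquiv ((IsLocalizedModule.iso P.primeCompl f).restrictScalars R).symm

end Groth.Agent.H4RG
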