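import Groth.Prelude
import Groth.Agent.H4RG.AssFlat
import Mathlib

/-!
# Flatness at the associated points of a fibre below a prime gives flatness at that prime
-/

set_option autoImplicit false
set_option linter.style.haveILetI false
set_option backward.isDefEq.respectTransparency.types false

universe u

open TensorProduct MvPolynomial

namespace Groth.Agent.H4RG

attribute [local instance] MvPolynomial.algebraMvPolynomial Algebra.TensorProduct.rightAlgebra

/-- An associated prime of the fibre module, read in the algebra, gives an associated prime of the fibre ring. -/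
theorem fiberIdeal_mem_associatedPrimes {R S : Type u} [CommRing R] [CommRing S] [Algebra R S] (p : Ideal R) [p.IsPrime]
    (N : Type u) [AddCommGroup N] [Module S N] [Module R N] [IsScalarTower R S N] (q : Ideal S) [hq : q.IsPrime]
    (x : N) (hx : ∀ a : S, FlatCA.toFiberMod p (S := S) N (a • x) = 0 ↔ a ∈ q) :
    FlatCA.fiberIdeal p q ∈ associatedPrimes (p.Fiber S) (FlatCA.fiberMod p S N) := by
  have h1 : q ∈ FlatCA.ass S (FlatCA.fiberMod p S N) := by
    refine ⟨hq, FlatCA.toFiberMod p (S := S) N x, ?_⟩
    ext a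
    rw [Submodule.mem_annihilator_span_singleton, ← map_smul, hx]
  rw [AssFiber.ass_fiberMod_eq p N] at h1
  obtain ⟨r, ⟨hr, y, hy⟩, hrq⟩ := h1
  rw [show FlatCA.fiberIdeal p q = r from EssFPDescent.map_includeRight_eq p r q hrq]
  refine ⟨hr, y, ?_⟩
  rw [← Ideal.IsPrime.radical hr]
  conv_lhs => rw [hy]
  congr 1
  ext a
  rw [Submodule.mem_colon_singleton, Submodule.mem_bot, Submodule.mem_annihilator_span_singleton]

/-- Finite modules over finite type algebras which are flat at the associated points of the fibre below a prime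
are flat there. -/
theorem flatAt_of_ass {R S : Type u} [CommRing R] [CommRing S] [Algebra R S] [Algebra.FiniteType R S]
    (N : Type u) [AddCommGroup N] [Module S N] [Module R N] [IsScalarTower R S N] [Module.Finite S N]
    (p : Ideal R) [p.IsPrime] (q : Ideal S) [q.IsPrime] [q.LiesOver p]
    (H : ∀ (q' : Ideal S) [q'.IsPrime], q' ≤ q → q'.LiesOver p →
      FlatCA.fiberIdeal p q' ∈ associatedPrimes (p.Fiber S) (FlatCA.fiberMod p S N) →
      Module.Flat R (LocalizedModule q'.primeCompl N)) :
    Module.Flat R (LocalizedModule q.primeCompl N) := by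
  classical
  obtain ⟨n, φ, hφ⟩ := Algebra.FiniteType.iff_quotient_mvPolynomial''.1 ‹Algebra.FiniteType R S›
  let A := MvPolynomial (Fin n) R
  letI : Algebra A S := φ.toRingHom.toAlgebra
  haveI : IsScalarTower R A S := IsScalarTower.of_algebraMap_eq fun r => (φ.commutes r).symm
  letI : Module A N := Module.compHom N φ.toRingHom
  haveI : IsScalarTower A S N := ⟨fun x y m => mul_smul (φ x) y m⟩
  haveI : IsScalarTower R A N := IsScalarTower.of_algebraMap_smul fun r m => by
    show φ (algebraMap R A r) • m = r • m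
    rw [φ.commutes, algebraMap_smul]
  haveI : Module.Finite A S := Module.Finite.of_surjective (Algebra.linearMap A S) hφ
  haveI : Module.Finite A N := Module.Finite.trans S N
  let P := q.comap (algebraMap A S)
  haveI : P.IsPrime := Ideal.comap_isPrime _ _
  have hPp : P.comap (algebraMap R A) = p := by
    show (q.comap (algebraMap A S)).comap (algebraMap R A) = p
    rw [Ideal.comap_comap, ← IsScalarTower.algebraMap_eq]
    exact (Ideal.LiesOver.over (P := q) (p := p)).symm
  let Rp := Localization.AtPrime p
  let Ap := MvPolynomial (Fin n) Rp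
  let M0 := p.primeCompl.map (C (σ := Fin n))
  haveI hloc : IsLocalization M0 Ap := MvPolynomial.isLocalization p.primeCompl Rp
  haveI : Module.Flat A Ap := IsLocalization.flat Ap M0
  haveI : IsScalarTower R A Ap := IsScalarTower.of_algebraMap_eq fun r => by
    show _ = MvPolynomial.map (algebraMap R Rp) (C r)
    rw [map_C]
    rfl
  have hd : Disjoint (M0 : Set A) P := by
    rw [Set.disjoint_left]
    rintro x ⟨r, hr, rfl⟩ hx
    exact hr (hPp.le (Ideal.mem_comap.2 hx))
  let P' : Ideal Ap := P.map (algebraMap A Ap)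
  haveI : P'.IsPrime := IsLocalization.isPrime_of_isPrime_disjoint M0 Ap P ‹_› hd
  have hP' : P'.comap (algebraMap A Ap) = P := IsLocalization.comap_map_of_isPrime_disjoint M0 Ap ‹_› hd
  have hP'p : P'.comap (algebraMap Rp Ap) = IsLocalRing.maximalIdeal Rp := by
    refine (IsLocalization.orderEmbedding p.primeCompl Rp).injective ?_
    show (P'.comap (algebraMap Rp Ap)).comap (algebraMap R Rp) = (IsLocalRing.maximalIdeal Rp).comap (algebraMap R Rp)
    rw [Ideal.comap_comap, ← IsScalarTower.algebraMap_eq, IsScalarTower.algebraMap_eq R A Ap, ← Ideal.comap_comap, hP', hPp]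
    exact (Localization.AtPrime.under_maximalIdeal (I := p)).symm
  let N' := Ap ⊗[A] N
  let ι : N →ₗ[A] N' := TensorProduct.mk A Ap N 1
  haveI : IsLocalizedModule M0 ι := (isLocalizedModule_iff_isBaseChange M0 Ap ι).2 (TensorProduct.isBaseChange A N Ap)
  -- membership in the extended maximal ideal times the module
  have hmap : (IsLocalRing.maximalIdeal Rp).map (algebraMap Rp Ap) =
      (p.map (algebraMap R A)).map (algebraMap A Ap) := by
    rw [← Localization.AtPrime.map_eq_maximalIdeal, Ideal.map_map, Ideal.map_map, ← IsScalarTower.algebraMap_eq,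
      ← IsScalarTower.algebraMap_eq]
  have hmem : ∀ z, z ∈ AssFiber.pN (IsLocalRing.maximalIdeal Rp) (S := Ap) N' →
      ∃ u ∈ M0, ∃ m ∈ AssFiber.pN p (S := A) N, u • z = ι m := by
    intro z hz
    refine Submodule.smul_induction_on hz (fun b hb w _ => ?_) (fun a b ha hb => ?_)
    · rw [hmap] at hb
      obtain ⟨⟨⟨a, ha⟩, u⟩, hau⟩ := (IsLocalization.mem_map_algebraMap_iff M0 Ap).1 hb
      obtain ⟨⟨m, v⟩, hmv⟩ := IsLocalizedModule.surj M0 ι w
      refine ⟨u * v, mul_mem u.2 v.2, a • m, Submodule.smul_mem_smul ha Submodule.mem_top, ?_⟩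
      rw [map_smul, ← hmv, Submonoid.smul_def, mul_smul, ← algebraMap_smul Ap a, ← hau, mul_comm,
        mul_smul, algebraMap_smul, smul_comm b]
    · obtain ⟨u, hu, m, hm, e⟩ := ha
      obtain ⟨v, hv, m', hm', e'⟩ := hb
      refine ⟨v * u, mul_mem hv hu, v • m + u • m',
        add_mem (Submodule.smul_mem _ _ hm) (Submodule.smul_mem _ _ hm'), ?_⟩
      rw [map_add, map_smul, map_smul, ← e, ← e', smul_add, smul_smul, smul_smul, mul_comm v u]
  have hmem2 : ∀ m ∈ AssFiber.pN p (S := A) N, ι m ∈ AssFiber.pN (IsLocalRing.maximalIdeal Rp) (S := Ap) N' := by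
    intro m hm
    refine Submodule.smul_induction_on hm (fun a ha w _ => ?_) (fun a b ha hb => ?_)
    · rw [map_smul, ← algebraMap_smul Ap a]
      refine Submodule.smul_mem_smul ?_ Submodule.mem_top
      rw [hmap]
      exact Ideal.mem_map_of_mem _ ha
    · rw [map_add]
      exact add_mem ha hb
  haveI : Module.Flat Rp (LocalizedModule P'.primeCompl N') := by
    refine flatAt_of_ass_local N' P' hP'p fun q2 _ hq2P hq2 ⟨x, hx⟩ => ?_
    obtain ⟨⟨x0, u⟩, hux⟩ := IsLocalizedModule.surj M0 ι x
    have hu : IsUnit (algebraMap A Ap u) := IsLocalization.map_units Ap u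
    have hx0 : ∀ b : Ap, b • ι x0 ∈ AssFiber.pN (IsLocalRing.maximalIdeal Rp) (S := Ap) N' ↔ b ∈ q2 := fun b => by
      rw [← hux, Submonoid.smul_def, ← algebraMap_smul Ap (u : A), smul_comm,
        Submodule.smul_mem_iff_of_isUnit _ hu, hx]
    let qA := q2.comap (algebraMap A Ap)
    haveI : qA.IsPrime := Ideal.comap_isPrime _ _
    have hqAP : qA ≤ P := (Ideal.comap_mono hq2P).trans hP'.le
    have hqAp : qA.comap (algebraMap R A) = p := by
      show (q2.comap (algebraMap A Ap)).comap (algebraMap R A) = p
      rw [Ideal.comap_comap, ← IsScalarTower.algebraMap_eq, IsScalarTower.algebraMap_eq R Rp Ap, ← Ideal.comap_comap, hq2]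
      exact Localization.AtPrime.under_maximalIdeal (I := p)
    have hA : ∀ a : A, a ∈ qA ↔ ∃ r ∉ p, (algebraMap R A r * a) • x0 ∈ AssFiber.pN p (S := A) N := by
      intro a
      show algebraMap A Ap a ∈ q2 ↔ _
      rw [← hx0, algebraMap_smul, ← map_smul]
      constructor
      · intro h
        obtain ⟨v, hv, m, hm, e⟩ := hmem _ h
        rw [← map_smul] at e
        obtain ⟨t, ht⟩ := IsLocalizedModule.exists_of_eq (S := M0) e
        obtain ⟨r, hr, hrv⟩ := mul_mem t.2 hv
        refine ⟨r, hr, ?_⟩
        rw [show algebraMap R A r = (t : A) * v from hrv, mul_smul, mul_smul]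
        rw [Submonoid.smul_def, Submonoid.smul_def] at ht
        rw [ht]
        exact Submodule.smul_mem _ _ hm
      · rintro ⟨r, hr, h⟩
        have h2 := hmem2 _ h
        rw [mul_smul, map_smul, ← algebraMap_smul Ap (algebraMap R A r)] at h2
        exact (Submodule.smul_mem_iff_of_isUnit _ (IsLocalization.map_units Ap (⟨_, r, hr, rfl⟩ : M0))).1 h2
    have hker : ∀ a : A, φ a = 0 → a ∈ qA := fun a ha => (hA a).2 ⟨1, fun h => ‹p.IsPrime›.ne_top
      ((Ideal.eq_top_iff_one _).2 h), by
        rw [map_one, one_mul]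
        show φ a • x0 ∈ _
        rw [ha, zero_smul]
        exact zero_mem _⟩
    let qS := qA.map φ.toRingHom
    haveI : qS.IsPrime := Ideal.map_isPrime_of_surjective hφ fun a ha => hker a ha
    have hqS : qS.comap (algebraMap A S) = qA := by
      show (qA.map φ.toRingHom).comap φ.toRingHom = qA
      rw [Ideal.comap_map_of_surjective φ.toRingHom hφ]
      exact sup_eq_left.2 fun a ha => hker a (by simpa using ha)
    have hdiv : ∀ z ∉ qS, ∃ u ∉ qA, ∃ z', z * z' = algebraMap A S u := fun z hz => by
      obtain ⟨u, rfl⟩ := hφ z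
      exact ⟨u, fun h => hz (Ideal.mem_map_of_mem _ h), 1, mul_one _⟩
    have hqSq : qS ≤ q := Ideal.map_le_iff_le_comap.2 hqAP
    have hqSp : qS.LiesOver p := ⟨by
      show p = qS.comap (algebraMap R S)
      rw [IsScalarTower.algebraMap_eq R A S, ← Ideal.comap_comap, hqS, hqAp]⟩
    have hass := fiberIdeal_mem_associatedPrimes p N qS x0 fun s => by
      obtain ⟨a, rfl⟩ := hφ s
      have hsA : φ a ∈ qS ↔ a ∈ qA := (SetLike.ext_iff.1 hqS a)
      rw [hsA, hA]
      have key : ∀ r : R, algebraMap R S r • φ a • x0 = (algebraMap R A r * a) • x0 := fun r => by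
        show _ = φ (algebraMap R A r * a) • x0
        rw [map_mul, φ.commutes, mul_smul]
      constructor
      · intro h
        obtain ⟨r, hr, hm⟩ := AssFiber.exists_smul_mem_of_toFiberMod_eq_zero p (S := S) N h
        exact ⟨r, hr, key r ▸ AssFiber.smul_mem_pN p N (AssFiber.mem_smul_top_of_mem_pN p N hm)⟩
      · rintro ⟨r, hr, hm⟩
        rw [← key] at hm
        have h0 := AssFiber.toFiberMod_eq_zero_of_mem p (S := S) N
          (AssFiber.smul_mem_pN p N (AssFiber.mem_smul_top_of_mem_pN p N hm))
        rw [map_smul, ← AssFiber.algebraMap_smul_fiberMod] at h0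
        have hu : IsUnit (algebraMap S (p.Fiber S) (algebraMap R S r)) := by
          show IsUnit ((1 : p.ResidueField) ⊗ₜ[R] algebraMap R S r)
          rw [Algebra.algebraMap_eq_smul_one, ← smul_tmul, ← Algebra.algebraMap_eq_smul_one]
          exact (isUnit_iff_ne_zero.2 fun h => hr (Ideal.algebraMap_residueField_eq_zero.1 h)).map
            (Algebra.TensorProduct.includeLeftRingHom (R := R) (A := p.ResidueField) (B := S))
        exact hu.smul_eq_zero.1 h0
    have hflS := H qS hqSq hqSp hass
    haveI : Module.Flat R (LocalizedModule qA.primeCompl N) := (flat_restrict_iff qA qS hqS hdiv).1 hflS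
    haveI : Module.Flat R (LocalizedModule q2.primeCompl N') := flat_baseChange qA q2 rfl N
    exact (Module.flat_iff_of_isLocalization Rp p.primeCompl _).2 ‹_›
  haveI hP'R : Module.Flat R (LocalizedModule P'.primeCompl N') := by
    haveI : Module.Flat R Rp := IsLocalization.flat Rp p.primeCompl
    exact Module.Flat.trans R Rp _
  have hP : Module.Flat R (LocalizedModule P.primeCompl N) := by
    obtain ⟨alg, hff, htow, ⟨e⟩⟩ := baseChange_aux P P' hP' N
    letI := alg
    let TP := Localization.AtPrime P
    let L := Localization.AtPrime P'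
    haveI : IsScalarTower R TP L := IsScalarTower.of_algebraMap_eq fun x => by
      rw [IsScalarTower.algebraMap_apply R A TP, ← IsScalarTower.algebraMap_apply A TP L,
        IsScalarTower.algebraMap_apply R Ap L, IsScalarTower.algebraMap_apply R A Ap,
        ← IsScalarTower.algebraMap_apply A Ap L]
    haveI : Module.Flat R (L ⊗[TP] LocalizedModule P.primeCompl N) := Module.Flat.of_linearEquiv (e.restrictScalars R)
    exact flat_of_ff_tensor (L := L) (B := TP)
  have hdiv : ∀ z ∉ q, ∃ u ∉ P, ∃ z', z * z' = algebraMap A S u := fun z hz => by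
    obtain ⟨u, hu⟩ := hφ z
    exact ⟨u, fun h => hz (hu ▸ h), 1, (mul_one z).trans hu.symm⟩
  exact (flat_restrict_iff P q rfl hdiv).2 hP

/-- Flatness at a prime passes to smaller primes. -/
theorem flatAt_mono {R S : Type u} [CommRing R] [CommRing S] [Algebra R S] {N : Type u} [AddCommGroup N] [Module S N]
    [Module R N] [IsScalarTower R S N] {q q' : Ideal S} [q.IsPrime] [q'.IsPrime] (hle : q' ≤ q)
    (h : Module.Flat R (LocalizedModule q.primeCompl N)) : Module.Flat R (LocalizedModule q'.primeCompl N) := by
  rw [FlatModel.flat_localized_iff q'.primeCompl (LocalizedModule.mkLinearMap q'.primeCompl N)]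
  intro J y hy
  obtain ⟨s, hs, hsy⟩ := (FlatModel.flat_localized_iff q.primeCompl (LocalizedModule.mkLinearMap q.primeCompl N)).1 h J y hy
  exact ⟨s, fun h' => hs (hle h'), hsy⟩

end Groth.Agent.H4RG
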