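import Groth.Prelude
import Groth.Agent.AssFiber.Basic
import Groth.Agent.WeakAss.Basic
import Groth.Agent.EssFPDescent.AssUniv
import Mathlib

/-!
# Elements witnessing associated primes of fibre modules
-/

set_option autoImplicit false
set_option linter.style.haveILetI false
set_option backward.isDefEq.respectTransparency.types false

universe u

open TensorProduct Groth.Agent.WeakAss

attribute [local instance] Algebra.TensorProduct.rightAlgebra

namespace Groth.Agent.H4RG

variable {R S : Type u} [CommRing R] [CommRing S] [Algebra R S] (p : Ideal R) [p.IsPrime]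

/-- A prime over `p` is contracted from the fibre ring. -/
theorem mem_of_mem_fiberIdeal (q : Ideal S) [q.IsPrime] [q.LiesOver p] {a : S}
    (h : algebraMap S (p.Fiber S) a ∈ FlatCA.fiberIdeal p q) : a ∈ q := by
  let f : p.ResidueField →ₐ[R] q.ResidueField := Ideal.ResidueField.mapₐ p q (Algebra.ofId R S) (Ideal.LiesOver.over (P := q) (p := p))
  let g : S →ₐ[R] q.ResidueField := IsScalarTower.toAlgHom R S q.ResidueField
  let F : p.Fiber S →ₐ[R] q.ResidueField := Algebra.TensorProduct.lift f g fun _ _ => Commute.all _ _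
  have hF : ∀ s, F ((1 : p.ResidueField) ⊗ₜ[R] s) = algebraMap S q.ResidueField s := fun s => by
    rw [Algebra.TensorProduct.lift_tmul, map_one, one_mul]
    rfl
  have hle : FlatCA.fiberIdeal p q ≤ RingHom.ker F.toRingHom := Ideal.map_le_iff_le_comap.2 fun s hs => by
    show F ((1 : p.ResidueField) ⊗ₜ[R] s) = 0
    rw [hF]
    exact Ideal.algebraMap_residueField_eq_zero.2 hs
  have h0 : F ((1 : p.ResidueField) ⊗ₜ[R] a) = 0 := hle h
  rw [hF] at h0
  exact Ideal.algebraMap_residueField_eq_zero.1 h0

theorem isUnit_fiber {r : R} (hr : r ∉ p) : IsUnit (algebraMap S (p.Fiber S) (algebraMap R S r)) := by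
  show IsUnit ((1 : p.ResidueField) ⊗ₜ[R] algebraMap R S r)
  rw [Algebra.algebraMap_eq_smul_one, ← smul_tmul, ← Algebra.algebraMap_eq_smul_one]
  exact (isUnit_iff_ne_zero.2 fun h => hr (Ideal.algebraMap_residueField_eq_zero.1 h)).map
    (Algebra.TensorProduct.includeLeftRingHom (R := R) (A := p.ResidueField) (B := S))

variable (N : Type u) [AddCommGroup N] [Module S N] [Module R N] [IsScalarTower R S N]

/-- Vanishing in the fibre module. -/
theorem toFiberMod_eq_zero_iff (n : N) :
    FlatCA.toFiberMod p (S := S) N n = 0 ↔ ∃ c ∉ p, c • n ∈ p • (⊤ : Submodule R N) := by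
  constructor
  · intro h
    obtain ⟨c, hc, hcn⟩ := AssFiber.exists_smul_mem_of_toFiberMod_eq_zero p (S := S) N h
    rw [algebraMap_smul] at hcn
    exact ⟨c, hc, AssFiber.mem_smul_top_of_mem_pN p N hcn⟩
  · rintro ⟨c, hc, hcn⟩
    rw [← algebraMap_smul S c n] at hcn
    have h0 := AssFiber.toFiberMod_eq_zero_of_mem p (S := S) N (AssFiber.smul_mem_pN p N hcn)
    rw [map_smul, ← AssFiber.algebraMap_smul_fiberMod] at h0
    exact (isUnit_fiber p hc).smul_eq_zero.1 h0

/-- An associated prime of the fibre is the annihilator of the image of an element. -/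
theorem exists_witness [Algebra.FiniteType R S] {r : Ideal (p.Fiber S)}
    (hr : r ∈ associatedPrimes (p.Fiber S) (FlatCA.fiberMod p S N)) (q : Ideal S) [q.IsPrime] [q.LiesOver p]
    (hq : r.comap (algebraMap S (p.Fiber S)) = q) :
    ∃ x : N, ∀ a : S, FlatCA.toFiberMod p (S := S) N (a • x) = 0 ↔ a ∈ q := by
  haveI : IsNoetherianRing (p.Fiber S) := Algebra.FiniteType.isNoetherianRing p.ResidueField _
  obtain ⟨-, y, hy⟩ := isAssociatedPrime_iff.1 hr
  haveI := AssFiber.isLocalizedModule_quotToFiber p (S := S) N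
  obtain ⟨⟨x', σ⟩, hx⟩ := IsLocalizedModule.surj (Algebra.algebraMapSubmonoid S p.primeCompl)
    (AssFiber.quotToFiber p (S := S) N) y
  obtain ⟨x, rfl⟩ := Submodule.Quotient.mk_surjective _ x'
  refine ⟨x, fun a => ?_⟩
  have h1 : FlatCA.toFiberMod p (S := S) N (a • x) = algebraMap S (p.Fiber S) (a * σ) • y := by
    rw [map_smul, show FlatCA.toFiberMod p (S := S) N x = (σ : S) • y from hx.symm, smul_smul,
      AssFiber.algebraMap_smul_fiberMod]
  rw [h1, ← Submodule.mem_bot (p.Fiber S), ← Submodule.mem_colon_singleton, ← hy, ← Ideal.mem_comap, hq]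
  refine ⟨fun h => (‹q.IsPrime›.mem_or_mem h).resolve_right fun hσ => ?_, fun h => Ideal.mul_mem_right _ _ h⟩
  exact Set.disjoint_left.1 (AssFiber.disjoint_of_comap_eq p (Ideal.LiesOver.over (P := q) (p := p)).symm) σ.2 hσ

end Groth.Agent.H4RG
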