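import Groth.Prelude
import Groth.Agent.H4RG.LocalFP
import Mathlib

/-!
# Presentations of modules whose relations are locally finitely generated
-/

set_option autoImplicit false
set_option linter.style.haveILetI false
set_option backward.isDefEq.respectTransparency.types false

universe u

open TensorProduct

namespace Groth.Agent.H4RG

variable {S N : Type u} [CommRing S] [AddCommGroup N] [Module S N] {c : ℕ}

/-- The relations of a module which is finitely presented after localisation are generated there by finitely many. -/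
theorem exists_relations_loc (π : (Fin c → S) →ₗ[S] N) (hπ : Function.Surjective π) (W : Submonoid S)
    [Module.FinitePresentation (Localization W) (LocalizedModule W N)] :
    ∃ G : Finset (Fin c → S), (∀ v ∈ G, π v = 0) ∧
      ∀ k, π k = 0 → ∃ s ∈ W, s • k ∈ Submodule.span S (G : Set (Fin c → S)) := by
  classical
  let Sq := Localization W
  let iF := LocalizedModule.mkLinearMap W (Fin c → S)
  let iN := LocalizedModule.mkLinearMap W N
  let πq := IsLocalizedModule.map W iF iN π
  let πE := πq.extendScalarsOfIsLocalization W Sq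
  haveI : Module.Finite Sq (LocalizedModule W (Fin c → S)) := Module.Finite.of_isLocalizedModule W iF
  obtain ⟨G', hG'⟩ := Module.FinitePresentation.fg_ker πE (IsLocalizedModule.map_surjective W iF iN π hπ)
  have hrel : ∀ z : G', ∃ v : Fin c → S, π v = 0 ∧ ∃ u ∈ W, (u : S) • z.1 = iF v := by
    intro z
    obtain ⟨⟨v, s⟩, hvs⟩ := IsLocalizedModule.surj W iF z.1
    have hz : πq z.1 = 0 := LinearMap.mem_ker.1 (hG' ▸ Submodule.subset_span z.2 : z.1 ∈ LinearMap.ker πE)
    have h0 : iN (π v) = 0 := by
      rw [← IsLocalizedModule.map_apply W iF iN π v, ← hvs, Submonoid.smul_def, map_smul, hz, smul_zero]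
    obtain ⟨t, ht⟩ := (IsLocalizedModule.eq_zero_iff W iN).1 h0
    refine ⟨(t : S) • v, by rw [map_smul]; exact ht, (t * s : W), (t * s : W).2, ?_⟩
    rw [map_smul, Submonoid.coe_mul, mul_smul, ← hvs]
    rfl
  choose v hv0 u hu huv using hrel
  refine ⟨Finset.univ.image v, fun w hw => ?_, fun k hk => ?_⟩
  · obtain ⟨z, -, rfl⟩ := Finset.mem_image.1 hw
    exact hv0 z
  have h1 : iF k ∈ LinearMap.ker πE := by
    show πq (iF k) = 0
    rw [IsLocalizedModule.map_apply, hk, map_zero]
  have h2 : iF k ∈ (Submodule.span S ((Finset.univ.image v : Finset (Fin c → S)) : Set (Fin c → S))).localized' Sq W iF := by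
    rw [Submodule.localized'_span]
    rw [← hG'] at h1
    refine Submodule.span_le.2 (fun z hz => ?_) h1
    have hun : IsUnit (algebraMap S Sq (u ⟨z, hz⟩)) := IsLocalization.map_units Sq (⟨_, hu ⟨z, hz⟩⟩ : W)
    refine ((Submodule.span Sq _).smul_mem_iff_of_isUnit hun).1 (Submodule.subset_span ⟨v ⟨z, hz⟩, ?_, ?_⟩)
    · simp
    · rw [algebraMap_smul]
      exact (huv ⟨z, hz⟩).symm
  obtain ⟨w, hw, s, hs⟩ := h2
  rw [IsLocalizedModule.mk'_eq_iff, Submonoid.smul_def, ← map_smul] at hs
  obtain ⟨t, ht⟩ := IsLocalizedModule.exists_of_eq (S := W) hs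
  refine ⟨(t * s : W), (t * s : W).2, ?_⟩
  rw [Submonoid.coe_mul, mul_smul, ← Submonoid.smul_def t, ← ht]
  exact Submodule.smul_mem _ _ hw

/-- The module presented by a set of relations. -/
abbrev Pres (G : Set (Fin c → S)) : Type u := (Fin c → S) ⧸ Submodule.span S G

variable (π : (Fin c → S) →ₗ[S] N) {G : Finset (Fin c → S)} (hG : ∀ v ∈ G, π v = 0)

instance pres_fp : Module.FinitePresentation S (Pres (G : Set (Fin c → S))) :=
  Module.finitePresentation_of_surjective _ (Submodule.mkQ_surjective _) (by rw [Submodule.ker_mkQ]; exact ⟨G, rfl⟩)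

/-- The map from a presented module. -/
def presMap : Pres (G : Set (Fin c → S)) →ₗ[S] N :=
  (Submodule.span S (G : Set (Fin c → S))).liftQ π (Submodule.span_le.2 fun v hv => hG v hv)

theorem presMap_mk (v : Fin c → S) : presMap π hG (Submodule.Quotient.mk v) = π v := rfl

theorem presMap_surjective (hπ : Function.Surjective π) : Function.Surjective (presMap π hG) := fun y => by
  obtain ⟨v, rfl⟩ := hπ y
  exact ⟨Submodule.Quotient.mk v, rfl⟩

/-- A surjection whose kernel is killed by localisation identifies the localised modules. -/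
theorem isLocalizedModule_comp {M : Type u} [AddCommGroup M] [Module S M] (μ : M →ₗ[S] N) (hμ : Function.Surjective μ)
    (W : Submonoid S) (hker : ∀ x, μ x = 0 → ∃ t ∈ W, t • x = 0) :
    IsLocalizedModule W ((LocalizedModule.mkLinearMap W N).comp μ) := by
  refine ⟨fun u => IsLocalizedModule.map_units (LocalizedModule.mkLinearMap W N) u, fun z => ?_, fun {a b} hab => ?_⟩
  · obtain ⟨⟨n, s⟩, hns⟩ := IsLocalizedModule.surj W (LocalizedModule.mkLinearMap W N) z
    obtain ⟨x, rfl⟩ := hμ n
    exact ⟨⟨x, s⟩, hns⟩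
  · obtain ⟨s, hs⟩ := IsLocalizedModule.exists_of_eq (S := W) (f := LocalizedModule.mkLinearMap W N) hab
    obtain ⟨t, ht, htx⟩ := hker ((s : S) • a - (s : S) • b) (by rw [map_sub, map_smul, map_smul, sub_eq_zero]; exact hs)
    refine ⟨⟨t, ht⟩ * s, ?_⟩
    rw [smul_sub, sub_eq_zero] at htx
    rw [Submonoid.smul_def, Submonoid.smul_def, Submonoid.coe_mul, mul_smul, mul_smul]
    exact htx

theorem presMap_killed (W : Submonoid S) (hk : ∀ k, π k = 0 → ∃ s ∈ W, s • k ∈ Submodule.span S (G : Set (Fin c → S)))
    (x : Pres (G : Set (Fin c → S))) (hx : presMap π hG x = 0) : ∃ t ∈ W, t • x = 0 := by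
  obtain ⟨v, rfl⟩ := Submodule.Quotient.mk_surjective _ x
  obtain ⟨s, hs, hsv⟩ := hk v hx
  exact ⟨s, hs, by rw [← Submodule.Quotient.mk_smul, Submodule.Quotient.mk_eq_zero]; exact hsv⟩

include hG in
/-- Locally finitely many relations give finite presentation of the localised module. -/
theorem fp_localized_of_relations (hπ : Function.Surjective π) (W : Submonoid S)
    (hk : ∀ k, π k = 0 → ∃ s ∈ W, s • k ∈ Submodule.span S (G : Set (Fin c → S))) :
    Module.FinitePresentation (Localization W) (LocalizedModule W N) := by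
  haveI := isLocalizedModule_comp (presMap π hG) (presMap_surjective π hG hπ) W (presMap_killed π hG W hk)
  exact Module.FinitePresentation.of_equiv
    ((IsLocalizedModule.iso W ((LocalizedModule.mkLinearMap W N).comp (presMap π hG))).extendScalarsOfIsLocalization W
      (Localization W))

/-- Finite presentation is local. -/
theorem fp_of_local {π : (Fin c → S) →ₗ[S] N} (hπ : Function.Surjective π)
    (H : ∀ q : Ideal S, q.IsPrime → ∃ g ∉ q, ∃ G : Finset (Fin c → S), (∀ v ∈ G, π v = 0) ∧
      ∀ k, π k = 0 → ∃ i : ℕ, g ^ i • k ∈ Submodule.span S (G : Set (Fin c → S))) :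
    Module.FinitePresentation S N := by
  classical
  choose g hg G hG hk using fun q : PrimeSpectrum S => H q.asIdeal q.2
  have htop : Ideal.span (Set.range g) = ⊤ := by
    by_contra h
    obtain ⟨M, hM, hle⟩ := Ideal.exists_le_maximal _ h
    exact hg ⟨M, hM.isPrime⟩ (hle (Ideal.subset_span ⟨_, rfl⟩))
  obtain ⟨T, hT⟩ := (Ideal.eq_top_iff_one _).1 htop |> Submodule.mem_span_finite_of_mem_span
  have hT' : ∀ x ∈ T, ∃ q, g q = x := fun x hx => hT.1 hx
  choose qx hqx using hT'
  refine Module.finitePresentation_of_surjective π hπ ⟨T.attach.biUnion fun x => G (qx x.1 x.2), le_antisymm ?_ ?_⟩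
  · refine Submodule.span_le.2 fun v hv => ?_
    obtain ⟨x, -, hx⟩ := Finset.mem_biUnion.1 (Finset.mem_coe.1 hv)
    exact hG _ v hx
  · intro k hk'
    set K := Submodule.span S ((T.attach.biUnion fun x => G (qx x.1 x.2) : Finset (Fin c → S)) : Set (Fin c → S))
    have hle : Ideal.span (T : Set S) ≤ Ideal.radical (Submodule.comap (LinearMap.toSpanSingleton S (Fin c → S) k) K) := by
      refine Ideal.span_le.2 fun x hx => ?_
      obtain ⟨i, hi⟩ := hk (qx x hx) k hk'
      refine ⟨i, ?_⟩
      rw [hqx] at hi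
      refine Submodule.span_mono ?_ hi
      intro v hv
      exact Finset.mem_coe.2 (Finset.mem_biUnion.2 ⟨⟨x, hx⟩, Finset.mem_attach _ _, hv⟩)
    obtain ⟨i, hi⟩ := hle hT.2
    rw [one_pow] at hi
    simpa using hi

end Groth.Agent.H4RG
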