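import Groth.Prelude
import Groth.Agent.H4RG.Relations
import Groth.Agent.EssFPDescent.AssUniv
import Groth.Agent.FlatModel.Open
import Mathlib

/-!
# Neighbourhoods on which a finite module flat at a prime is finitely presented and flat
-/

set_option autoImplicit false
set_option linter.style.haveILetI false
set_option backward.isDefEq.respectTransparency.types false

universe u

open TensorProduct

attribute [local instance] Algebra.TensorProduct.rightAlgebra

namespace Groth.Agent.H4RG

/-- Over a flat module, a family with no common annihilator in the ring has none on the module. -/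
theorem eq_zero_of_flat_of_smul {R F : Type u} [CommRing R] [AddCommGroup F] [Module R F] [Module.Flat R F] {k : ℕ}
    (r : Fin k → R) (hr : Function.Injective fun (a : R) (i : Fin k) => r i * a) (x : F) (hx : ∀ i, r i • x = 0) :
    x = 0 := by
  classical
  let φ : R →ₗ[R] (Fin k → R) := LinearMap.pi fun i => LinearMap.mulLeft R (r i)
  have hinj : Function.Injective φ := hr
  have h1 := Module.Flat.lTensor_preserves_injective_linearMap (M := F) φ hinj
  have h2 : φ.lTensor F (x ⊗ₜ[R] (1 : R)) = 0 := by
    rw [LinearMap.lTensor_tmul, ← Finset.univ_sum_single (φ 1), tmul_sum]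
    refine Finset.sum_eq_zero fun i _ => ?_
    have : Pi.single i (φ 1 i) = r i • (Pi.single i 1 : Fin k → R) := by
      rw [← Pi.single_smul]
      simp [φ]
    rw [this, ← smul_tmul, hx, zero_tmul]
  have h3 : x ⊗ₜ[R] (1 : R) = 0 := h1 (h2.trans (map_zero _).symm)
  simpa using congrArg (TensorProduct.rid R F) h3

/-- Flatness of a localised module spreads from a presentation with the same localisation. -/
theorem flat_of_presentation {R S N : Type u} [CommRing R] [CommRing S] [Algebra R S] [AddCommGroup N] [Module S N]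
    [Module R N] [IsScalarTower R S N] {c : ℕ} (π : (Fin c → S) →ₗ[S] N) (hπ : Function.Surjective π)
    {G : Finset (Fin c → S)} (hG : ∀ v ∈ G, π v = 0) (W : Submonoid S)
    (hk : ∀ k, π k = 0 → ∃ s ∈ W, s • k ∈ Submodule.span S (G : Set (Fin c → S))) :
    Module.Flat R (LocalizedModule W (Pres (G : Set (Fin c → S)))) ↔ Module.Flat R (LocalizedModule W N) := by
  haveI := isLocalizedModule_comp (presMap π hG) (presMap_surjective π hG hπ) W (presMap_killed π hG W hk)
  let e := IsLocalizedModule.iso W ((LocalizedModule.mkLinearMap W N).comp (presMap π hG))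
  exact ⟨fun _ => Module.Flat.of_linearEquiv (e.restrictScalars R).symm,
    fun _ => Module.Flat.of_linearEquiv (e.restrictScalars R)⟩

/-- A finite module flat at a prime, whose torsion relative to some finite presentation is killed by families
without common annihilator, is finitely presented and flat nearby. -/
theorem exists_nhd_of_dense {R S : Type u} [CommRing R] [CommRing S] [Algebra R S] [Algebra.FinitePresentation R S]
    (N : Type u) [AddCommGroup N] [Module S N] [Module R N] [IsScalarTower R S N] [Module.Finite S N]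
    {c : ℕ} (π : (Fin c → S) →ₗ[S] N) (hπ : Function.Surjective π) (G0 : Finset (Fin c → S))
    (hG0 : ∀ v ∈ G0, π v = 0)
    (hdense : ∀ k, π k = 0 → ∃ (j : ℕ) (r : Fin j → R), Function.Injective (fun (a : R) (i : Fin j) => r i * a) ∧
      ∀ i, r i • k ∈ Submodule.span S (G0 : Set (Fin c → S)))
    (q : Ideal S) [q.IsPrime] (hflat : Module.Flat R (LocalizedModule q.primeCompl N)) :
    ∃ g ∉ q, ∃ G : Finset (Fin c → S), (∀ v ∈ G, π v = 0) ∧
      (∀ k, π k = 0 → ∃ i : ℕ, g ^ i • k ∈ Submodule.span S (G : Set (Fin c → S))) ∧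
      Module.Flat R (LocalizedModule (Submonoid.powers g) N) := by
  classical
  haveI := fp_of_flat (R := R) N q hflat
  obtain ⟨Gq, hGq, hkq⟩ := exists_relations_loc π hπ q.primeCompl
  let G := G0 ∪ Gq
  have hG : ∀ v ∈ G, π v = 0 := fun v hv => (Finset.mem_union.1 hv).elim (hG0 v) (hGq v)
  have hkG : ∀ k, π k = 0 → ∃ s ∈ q.primeCompl, s • k ∈ Submodule.span S (G : Set (Fin c → S)) := fun k hk => by
    obtain ⟨s, hs, hsk⟩ := hkq k hk
    exact ⟨s, hs, Submodule.span_mono (Finset.coe_subset.2 Finset.subset_union_right) hsk⟩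
  have hfl := (flat_of_presentation (R := R) π hπ hG q.primeCompl hkG).2 hflat
  obtain ⟨g, hgq, hg⟩ := FlatModel.exists_flat_nhd (Pres (G : Set (Fin c → S))) q hfl
  haveI := hg _ (Submonoid.mem_powers g)
  have hk : ∀ k, π k = 0 → ∃ s ∈ Submonoid.powers g, s • k ∈ Submodule.span S (G : Set (Fin c → S)) := by
    intro k hk
    obtain ⟨j, r, hr, hrk⟩ := hdense k hk
    let ι := LocalizedModule.mkLinearMap (Submonoid.powers g) (Pres (G : Set (Fin c → S)))
    have h0 : ι (Submodule.Quotient.mk k) = 0 := eq_zero_of_flat_of_smul r hr _ fun i => by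
      rw [← LinearMap.map_smul_of_tower, ← Submodule.Quotient.mk_smul,
        (Submodule.Quotient.mk_eq_zero _).2 (Submodule.span_mono (Finset.coe_subset.2 Finset.subset_union_left) (hrk i)),
        map_zero]
    obtain ⟨s, hs⟩ := (IsLocalizedModule.eq_zero_iff (Submonoid.powers g) ι).1 h0
    refine ⟨s, s.2, ?_⟩
    rw [← Submodule.Quotient.mk_eq_zero, Submodule.Quotient.mk_smul]
    exact hs
  refine ⟨g, hgq, G, hG, fun k hk' => ?_, (flat_of_presentation (R := R) π hπ hG (Submonoid.powers g) hk).1 inferInstance⟩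
  obtain ⟨_, ⟨i, rfl⟩, hi⟩ := hk k hk'
  exact ⟨i, hi⟩

section weakAss

variable {R S : Type u} [CommRing R] [CommRing S] [Algebra R S]
  (N : Type u) [AddCommGroup N] [Module S N] [Module R N] [IsScalarTower R S N]

/-- Elements regular on the fibre act universally injectively on a flat stalk of a finitely presented module. -/
theorem univInj_stalk [Algebra.FinitePresentation R S] [Module.FinitePresentation S N]
    (p : Ideal R) [p.IsPrime] (q : Ideal S) [q.IsPrime] [q.LiesOver p]
    [Module.Flat R (LocalizedModule q.primeCompl N)] (s : S)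
    (hs : ∀ y : FlatCA.fiberMod p S N, s • y = 0 → ∃ t ∉ q, t • y = 0) :
    FlatCA.UnivInj R ((LinearMap.lsmul S (LocalizedModule q.primeCompl N) s).restrictScalars R) := by
  classical
  have hpq : p = q.comap (algebraMap R S) := Ideal.LiesOver.over
  let R₁ := Localization.AtPrime p
  let S₁ := Localization.AtPrime q
  let N₁ := LocalizedModule q.primeCompl N
  letI : Algebra R₁ S₁ := (Localization.localRingHom p q (algebraMap R S) hpq).toAlgebra
  haveI : IsScalarTower R R₁ S₁ := IsScalarTower.of_algebraMap_eq fun x => by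
    rw [IsScalarTower.algebraMap_apply R S S₁]
    exact (Localization.localRingHom_to_map p q (algebraMap R S) hpq x).symm
  haveI : IsLocalHom (algebraMap R₁ S₁) := Localization.isLocalHom_localRingHom p q (algebraMap R S) hpq
  letI : Module R₁ N₁ := Module.compHom N₁ (algebraMap R₁ S₁)
  haveI : IsScalarTower R₁ S₁ N₁ := IsScalarTower.of_algebraMap_smul fun r x => rfl
  haveI : IsScalarTower R R₁ N₁ := IsScalarTower.of_algebraMap_smul fun r x => by
    show algebraMap R₁ S₁ (algebraMap R R₁ r) • x = r • x
    rw [← IsScalarTower.algebraMap_apply, IsScalarTower.algebraMap_apply R S S₁, algebraMap_smul, algebraMap_smul]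
  haveI : Module.Flat R₁ N₁ := (Module.flat_iff_of_isLocalization R₁ p.primeCompl N₁).2 inferInstance
  have hmap : (IsLocalRing.maximalIdeal R₁).map (algebraMap R₁ S₁) = p.map (algebraMap R S₁) := by
    rw [← Localization.AtPrime.map_eq_maximalIdeal, Ideal.map_map, ← IsScalarTower.algebraMap_eq]
  have hS₁ : CAlgX.IsEssFinitePresentation R₁ S₁ :=
    EssFPDescent.isEssFinitePresentation_of_comp (R := R) (S := R₁) (S' := S₁)
      ⟨R, inferInstance, inferInstance, inferInstance, inferInstance, p.primeCompl, inferInstance, inferInstance⟩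
      ⟨S, inferInstance, inferInstance, inferInstance, inferInstance, q.primeCompl, inferInstance, inferInstance⟩
  have key := EssFPDescent.univInj_of_local (R := R) (R₁ := R₁) (S₁ := S₁) (M₁ := N₁) (N₁ := N₁) p.primeCompl hS₁
    (LinearMap.lsmul S₁ N₁ (algebraMap S S₁ s))
    (fun x hx => by
      rw [hmap] at hx ⊢
      rw [LinearMap.lsmul_apply, algebraMap_smul] at hx
      exact EssFPDescent.mem_of_smul_mem N p q s hs hx)
  rw [show (LinearMap.lsmul S N₁ s).restrictScalars R = (LinearMap.lsmul S₁ N₁ (algebraMap S S₁ s)).restrictScalars R from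
    LinearMap.ext fun x => (algebraMap_smul S₁ s x).symm]
  exact key

/-- With finitely many weakly associated primes, an element of a flat stalk with annihilator primary to the stalk
lies over a weakly associated prime. -/
theorem mem_weakAss_of_flat_stalk (hR : (FlatCA.weakAss R R).Finite) (p : Ideal R) [p.IsPrime] (q : Ideal S) [q.IsPrime]
    [q.LiesOver p] [Module.Flat R (LocalizedModule q.primeCompl N)] (x : N)
    (hx : q ∈ (Submodule.span S {x}).annihilator.minimalPrimes) : p ∈ FlatCA.weakAss R R := by
  classical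
  by_contra hp
  obtain ⟨r, hrp, hr⟩ : ∃ r ∈ p, ∀ p' ∈ FlatCA.weakAss R R, p' ≤ p → r ∉ p' := by
    by_contra hne
    push Not at hne
    obtain ⟨p', hp', hle⟩ := (Ideal.subset_union_prime (s := hR.toFinset.filter fun p' => p' ≤ p) (f := fun p' => p') ⊥ ⊥
      (fun p' hp' _ _ => by
        obtain ⟨m, hm⟩ := (Set.Finite.mem_toFinset _).1 (Finset.mem_filter.1 hp').1
        exact hm.1.1)).1
      (fun g hg => by
        obtain ⟨p', hp', hle, hgp⟩ := hne g hg
        exact Set.mem_biUnion (Finset.mem_coe.2 (Finset.mem_filter.2 ⟨(Set.Finite.mem_toFinset _).2 hp', hle⟩)) hgp :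
        (p : Set R) ⊆ ⋃ p' ∈ ((hR.toFinset.filter fun p' => p' ≤ p : Finset (Ideal R)) : Set (Ideal R)), (p' : Set R))
    obtain ⟨h1, h2⟩ := Finset.mem_filter.1 hp'
    exact hp (le_antisymm hle h2 ▸ (Set.Finite.mem_toFinset _).1 h1)
  have hreg : ∀ b : R, r * b = 0 → ∃ d ∉ p, d * b = 0 := by
    intro b hb
    by_contra hne
    push Not at hne
    have hle : (Submodule.span R {b}).annihilator ≤ p := fun d hd => by
      by_contra hdp
      exact hne d hdp (Submodule.mem_annihilator.1 hd b (Submodule.mem_span_singleton_self b))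
    obtain ⟨p', hp', hle'⟩ := Ideal.exists_minimalPrimes_le hle
    refine hr p' ⟨b, hp'⟩ hle' (hp'.1.2 ((Submodule.mem_annihilator_span_singleton _ _).2 hb))
  let F := LocalizedModule q.primeCompl N
  have hrF : ∀ z : F, r • z = 0 → z = 0 := by
    intro z hz
    let μr : R →ₗ[R] R := LinearMap.mulLeft R r
    have hex : Function.Exact (LinearMap.ker μr).subtype μr := LinearMap.exact_subtype_ker_map μr
    have hexF := Module.Flat.lTensor_exact F hex
    have h1 : μr.lTensor F (z ⊗ₜ[R] (1 : R)) = 0 := by
      rw [LinearMap.lTensor_tmul]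
      show z ⊗ₜ[R] (r * 1) = 0
      rw [← smul_eq_mul, ← smul_tmul, hz, zero_tmul]
    obtain ⟨w, hw⟩ := (hexF _).1 h1
    have hall : ∀ w : F ⊗[R] LinearMap.ker μr, TensorProduct.rid R F ((LinearMap.ker μr).subtype.lTensor F w) = 0 := by
      intro w
      induction w using TensorProduct.induction_on with
      | zero => simp
      | add a b ha hb => simp [ha, hb]
      | tmul f b =>
        obtain ⟨d, hd, hdb⟩ := hreg b.1 b.2
        have hu : IsUnit (algebraMap S (Module.End S F) (algebraMap R S d)) :=
          IsLocalizedModule.map_units (LocalizedModule.mkLinearMap q.primeCompl N)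
            (⟨_, EssFPDescent.algebraMap_mem_primeCompl p q hd⟩ : q.primeCompl)
        refine ((Module.End.isUnit_iff _).1 hu).1 ?_
        show algebraMap R S d • ((b : R) • f) = algebraMap R S d • (0 : F)
        rw [smul_zero, algebraMap_smul, smul_smul, hdb, zero_smul]
    have h2 := hall w
    rw [hw] at h2
    simpa using h2
  obtain ⟨u, hu, i, hi⟩ : ∃ u ∉ q, ∃ i : ℕ, u * algebraMap R S r ^ i ∈ (Submodule.span S {x}).annihilator := by
    by_contra hcon
    push Not at hcon
    obtain ⟨P, hP, hIP, hPd⟩ := Ideal.exists_le_prime_disjoint (Submodule.span S {x}).annihilator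
      (q.primeCompl ⊔ Submonoid.powers (algebraMap R S r)) (by
      rw [Set.disjoint_left]
      intro t htI htM
      obtain ⟨u, hu, _, ⟨i, rfl⟩, rfl⟩ := Submonoid.mem_sup.1 htM
      exact hcon u hu i htI)
    have hPq : P ≤ q := fun t ht => by
      by_contra htq
      exact Set.disjoint_left.1 hPd ht (Submonoid.mem_sup_left htq)
    have hrq : algebraMap R S r ∈ q := by
      rw [Ideal.LiesOver.over (p := p) (P := q)] at hrp
      exact hrp
    exact Set.disjoint_left.1 hPd (hx.2 ⟨hP, hIP⟩ hPq hrq) (Submonoid.mem_sup_right (Submonoid.mem_powers _))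
  let ι := LocalizedModule.mkLinearMap q.primeCompl N
  have h0 : ι x = 0 := by
    have hpow : ∀ i : ℕ, r ^ i • ι (u • x) = 0 → ι (u • x) = 0 := by
      intro i
      induction i with
      | zero => simp
      | succ i ih => exact fun h => ih (hrF _ (by rw [smul_smul, ← pow_succ']; exact h))
    have h1 := hpow i (by
      rw [← LinearMap.map_smul_of_tower, ← algebraMap_smul S (r ^ i), smul_smul, map_pow, mul_comm,
        Submodule.mem_annihilator.1 hi x (Submodule.mem_span_singleton_self x), map_zero])
    rw [map_smul] at h1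
    exact ((Module.End.isUnit_iff _).1 (IsLocalizedModule.map_units ι (⟨u, hu⟩ : q.primeCompl))).1
      (h1.trans (map_zero _).symm)
  obtain ⟨t, ht⟩ := (IsLocalizedModule.eq_zero_iff q.primeCompl ι).1 h0
  exact t.2 (hx.1.2 ((Submodule.mem_annihilator_span_singleton _ _).2 ht))

end weakAss

/-- With finitely many weakly associated primes, a finite module flat at a prime is finitely presented and flat nearby. -/
theorem exists_nhd_of_weakAss {R S : Type u} [CommRing R] [CommRing S] [Algebra R S] [Algebra.FinitePresentation R S]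
    (hR : (FlatCA.weakAss R R).Finite)
    (N : Type u) [AddCommGroup N] [Module S N] [Module R N] [IsScalarTower R S N] [Module.Finite S N]
    {c : ℕ} (π : (Fin c → S) →ₗ[S] N) (hπ : Function.Surjective π)
    (q : Ideal S) [q.IsPrime] (hflat : Module.Flat R (LocalizedModule q.primeCompl N)) :
    ∃ g ∉ q, ∃ G : Finset (Fin c → S), (∀ v ∈ G, π v = 0) ∧
      (∀ k, π k = 0 → ∃ i : ℕ, g ^ i • k ∈ Submodule.span S (G : Set (Fin c → S))) ∧
      Module.Flat R (LocalizedModule (Submonoid.powers g) N) := by
  classical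
  haveI := fp_of_flat (R := R) N q hflat
  obtain ⟨G, hG, hkq⟩ := exists_relations_loc π hπ q.primeCompl
  let N2 := Pres (G : Set (Fin c → S))
  have hfl := (flat_of_presentation (R := R) π hπ hG q.primeCompl hkq).2 hflat
  obtain ⟨g, hgq, hg⟩ := FlatModel.exists_flat_nhd N2 q hfl
  -- the possible associated primes
  let Q : Set (Ideal S) := ⋃ p ∈ FlatCA.weakAss R R, {q' | ∃ (_ : p.IsPrime),
    q' ∈ (fun r : Ideal (p.Fiber S) => r.comap (Algebra.TensorProduct.includeRight (R := R) (A := p.ResidueField) (B := S)).toRingHom) ''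
      associatedPrimes (p.Fiber S) (FlatCA.fiberMod p S N2)}
  have hQ : Q.Finite := hR.biUnion fun p _ => by
    by_cases hp : p.IsPrime
    · haveI : IsNoetherianRing (p.Fiber S) := Algebra.FiniteType.isNoetherianRing p.ResidueField _
      haveI : Module.Finite (p.Fiber S) (FlatCA.fiberMod p S N2) :=
        inferInstanceAs (Module.Finite (p.Fiber S) (TensorProduct S (p.Fiber S) N2))
      refine ((associatedPrimes.finite (p.Fiber S) (FlatCA.fiberMod p S N2)).image
        (fun r : Ideal (p.Fiber S) => r.comap (Algebra.TensorProduct.includeRight (R := R) (A := p.ResidueField) (B := S)).toRingHom)).subset ?_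
      rintro q' ⟨_, hq'⟩
      exact hq'
    · exact Set.Finite.subset Set.finite_empty fun q' ⟨h, _⟩ => (hp h).elim
  have hsep : ∀ q' ∈ hQ.toFinset.filter (fun q' => ¬ q' ≤ q), ∃ t ∈ q', t ∉ q := fun q' hq' =>
    Set.not_subset.1 (Finset.mem_filter.1 hq').2
  choose t ht htq using hsep
  let g' := ∏ q' ∈ (hQ.toFinset.filter fun q' => ¬ q' ≤ q).attach, t q'.1 q'.2
  have hg'q : g' ∉ q := fun h => by
    obtain ⟨q', -, hq'⟩ := ‹q.IsPrime›.prod_mem_iff.1 h
    exact htq _ _ hq'
  have hg' : ∀ q' ∈ Q, ¬ q' ≤ q → g' ∈ q' := fun q' hq' hle =>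
    Ideal.mem_of_dvd _ (Finset.dvd_prod_of_mem _ (Finset.mem_attach _ ⟨q', Finset.mem_filter.2 ⟨hQ.mem_toFinset.2 hq', hle⟩⟩))
      (ht q' _)
  have hk : ∀ k, π k = 0 → ∃ s ∈ Submonoid.powers (g * g'), s • k ∈ Submodule.span S (G : Set (Fin c → S)) := by
    intro k hk
    by_contra hne
    push Not at hne
    let x : N2 := Submodule.Quotient.mk k
    have hann : ∀ s, s ∈ (Submodule.span S {x}).annihilator ↔ s • k ∈ Submodule.span S (G : Set (Fin c → S)) := fun s => by
      rw [Submodule.mem_annihilator_span_singleton, ← Submodule.Quotient.mk_smul, Submodule.Quotient.mk_eq_zero]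
    have hdisj : Disjoint ((Submodule.span S {x}).annihilator : Set S) (Submonoid.powers (g * g') : Set S) := by
      rw [Set.disjoint_left]
      intro s hs hs'
      exact hne s hs' ((hann s).1 hs)
    obtain ⟨P, hP, hle, hPd⟩ := Ideal.exists_le_prime_disjoint _ _ hdisj
    obtain ⟨q', hq', hq'P⟩ := Ideal.exists_minimalPrimes_le hle
    haveI : q'.IsPrime := hq'.1.1
    have hgg : g * g' ∉ q' := fun h => Set.disjoint_left.1 hPd (hq'P h) (Submonoid.mem_powers _)
    let p := q'.comap (algebraMap R S)
    haveI : p.IsPrime := Ideal.comap_isPrime _ _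
    haveI : q'.LiesOver p := ⟨rfl⟩
    haveI : Module.Flat R (LocalizedModule q'.primeCompl N2) :=
      hg _ (fun h => hgg (Ideal.mul_mem_right _ _ h))
    have hp := mem_weakAss_of_flat_stalk N2 hR p q' x hq'
    haveI : IsNoetherianRing (p.Fiber S) := Algebra.FiniteType.isNoetherianRing p.ResidueField _
    have hz : q' ∈ (Submodule.span S {x ⊗ₜ[R] (1 : R)}).annihilator.minimalPrimes := by
      have : (Submodule.span S {x ⊗ₜ[R] (1 : R)}).annihilator = (Submodule.span S {x}).annihilator := by
        ext s
        rw [Submodule.mem_annihilator_span_singleton, Submodule.mem_annihilator_span_singleton, smul_tmul']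
        exact ⟨fun h => by simpa using congrArg (TensorProduct.rid R N2) h, fun h => by rw [h, zero_tmul]⟩
      rwa [this]
    obtain ⟨r, hr, hrq⟩ := EssFPDescent.exists_ass_fiber_of N2 R (x ⊗ₜ[R] (1 : R)) p q'
      (fun s hs => univInj_stalk N2 p q' s hs) hz
    by_cases hle' : q' ≤ q
    · obtain ⟨s, hs, hsk⟩ := hkq k hk
      exact hs (hle' (hq'.1.2 ((hann s).2 hsk)))
    · exact hgg (Ideal.mul_mem_left _ _ (hg' q' (Set.mem_biUnion hp ⟨inferInstance, r, hr, hrq⟩) hle'))
  refine ⟨g * g', fun h => (‹q.IsPrime›.mem_or_mem h).elim hgq hg'q, G, hG, fun k hk' => ?_, ?_⟩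
  · obtain ⟨_, ⟨i, rfl⟩, hi⟩ := hk k hk'
    exact ⟨i, hi⟩
  · refine (flat_of_presentation (R := R) π hπ hG (Submonoid.powers (g * g')) hk).1 ?_
    haveI := hg _ (Submonoid.mem_powers g)
    rw [FlatModel.flat_localized_iff (Submonoid.powers (g * g')) (LocalizedModule.mkLinearMap _ N2)]
    intro J y hy
    obtain ⟨_, ⟨i, rfl⟩, hi⟩ := (FlatModel.flat_localized_iff (Submonoid.powers g)
      (LocalizedModule.mkLinearMap (Submonoid.powers g) N2)).1 (hg _ (Submonoid.mem_powers g)) J y hy
    exact ⟨(g * g') ^ i, ⟨i, rfl⟩, by rw [mul_comm, mul_pow, mul_smul, hi, smul_zero]⟩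

end Groth.Agent.H4RG
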