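import Groth.Prelude
import Groth.Agent.H4RG.DevissageGood
import Groth.Agent.H4RG.FibreAss
import Groth.Agent.H4RG.FlatNhd
import Groth.Agent.H4RG.AssFlatGen
import Mathlib

/-!
# Weakly associated primes of tensor products with a flat module
-/

set_option autoImplicit false
set_option linter.style.haveILetI false
set_option backward.isDefEq.respectTransparency.types false

universe u

open TensorProduct MvPolynomial Groth.Agent.WeakAss

namespace Groth.Agent.H4RG

attribute [local instance] MvPolynomial.algebraMvPolynomial Algebra.TensorProduct.rightAlgebra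

/-- The contraction of a weakly associated prime at a flat stalk, through an etale model over the localised base. -/
theorem mem_weakAss_of_stalk {R Rp T C : Type u} [CommRing R] [CommRing Rp] [IsLocalRing Rp] [CommRing T] [CommRing C]
    [Algebra R Rp] (p : Ideal R) [p.IsPrime] [IsLocalization.AtPrime Rp p] [Algebra R T] [Algebra T C] [Module.Flat T C]
    [Algebra R C] [IsScalarTower R T C] [Algebra Rp C] [IsScalarTower R Rp C] {n : ℕ}
    [Algebra (MvPolynomial (Fin n) Rp) C] [IsScalarTower Rp (MvPolynomial (Fin n) Rp) C]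
    [Algebra.Etale (MvPolynomial (Fin n) Rp) C]
    (N : Type u) [AddCommGroup N] [Module T N] [Module R N] [IsScalarTower R T N] [Module.Finite T N]
    (M : Type u) [AddCommGroup M] [Module R M] (P : Ideal T) [P.IsPrime] [P.LiesOver p]
    [Module.Flat R (LocalizedModule P.primeCompl N)] (P' : Ideal C) [P'.IsPrime]
    (hP' : P'.comap (algebraMap T C) = P) (hP'p : P'.comap (algebraMap Rp C) = IsLocalRing.maximalIdeal Rp)
    (z : N ⊗[R] M) (hz : P ∈ (annEl T z).minimalPrimes) : p ∈ FlatCA.weakAss R M := by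
  have hPp : P.comap (algebraMap R T) = p := (Ideal.LiesOver.over (P := P) (p := p)).symm
  let N' := C ⊗[T] N
  haveI : Module.Flat R (LocalizedModule P'.primeCompl N') := flat_baseChange P P' hP' N
  have hfl : Module.Flat Rp (LocalizedModule P'.primeCompl N') :=
    (Module.flat_iff_of_isLocalization Rp p.primeCompl _).2 ‹_›
  let F := LocalizedModule P'.primeCompl N'
  have hgood : GoodMod Rp (LocalizedModule P'.primeCompl (C ⊗[T] N)) := goodAt n Rp C P' hP'p N' hfl
  obtain ⟨alg, hff, htow, ⟨e⟩⟩ := baseChange_aux P P' hP' N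
  letI := alg
  let TP := Localization.AtPrime P
  let L := Localization.AtPrime P'
  haveI : IsScalarTower R TP L := IsScalarTower.of_algebraMap_eq fun x => by
    rw [IsScalarTower.algebraMap_apply R T TP, ← IsScalarTower.algebraMap_apply T TP L,
      IsScalarTower.algebraMap_apply R C L, IsScalarTower.algebraMap_apply R T C,
      ← IsScalarTower.algebraMap_apply T C L]
  let NP := LocalizedModule P.primeCompl N
  let f : NP →ₗ[R] F := (e.restrictScalars R).toLinearMap.comp ((TensorProduct.mk TP L NP 1).restrictScalars R)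
  have hf : Function.Injective (f.rTensor M) := by
    rw [LinearMap.rTensor_comp]
    exact ((e.restrictScalars R).rTensor M).injective.comp (rTensor_mk_injective M)
  let φ : N ⊗[R] M →ₗ[T] NP ⊗[R] M := AlgebraTensorModule.rTensor R M (LocalizedModule.mkLinearMap P.primeCompl N)
  have hz0 : φ z ≠ 0 := fun h0 => by
    obtain ⟨t, ht⟩ := (IsLocalizedModule.eq_zero_iff P.primeCompl φ).1 h0
    exact t.2 (hz.1.2 (mem_annEl.2 ht))
  have hk : ∀ r ∈ p, ∃ k : ℕ, r ^ k • φ z = 0 := by
    intro r hr
    obtain ⟨s, hs, k, hsk⟩ := exists_mul_pow_mem hz (hPp.ge hr : algebraMap R T r ∈ P)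
    refine ⟨k, ?_⟩
    rw [← LinearMap.map_smul_of_tower]
    refine (IsLocalizedModule.eq_zero_iff P.primeCompl φ).2 ⟨⟨s, hs⟩, ?_⟩
    show s • r ^ k • z = 0
    rw [← algebraMap_smul T (r ^ k) z, smul_smul, map_pow]
    exact mem_annEl.1 hsk
  let w := f.rTensor M (φ z)
  let e2 : F ⊗[Rp] (Rp ⊗[R] M) ≃ₗ[Rp] F ⊗[R] M := AlgebraTensorModule.cancelBaseChange R Rp Rp F M
  have hw0 : e2.symm w ≠ 0 := fun h0 => hz0 (hf ((e2.symm.injective (h0.trans (map_zero _).symm)).trans (map_zero _).symm))
  have hmp := hgood (Rp ⊗[R] M) (e2.symm w) hw0 fun x hx => by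
    obtain ⟨a, u, rfl⟩ := IsLocalization.exists_mk'_eq p.primeCompl x
    obtain ⟨k, hk⟩ := hk a ((IsLocalization.AtPrime.mk'_mem_maximal_iff Rp p a u).1 hx)
    refine ⟨k, ?_⟩
    have hw : algebraMap R Rp (a ^ k) • w = 0 := by rw [algebraMap_smul, ← map_smul, hk, map_zero]
    have hsplit : IsLocalization.mk' Rp a u ^ k * algebraMap R Rp u ^ k = algebraMap R Rp (a ^ k) := by
      rw [← mul_pow, IsLocalization.mk'_spec, map_pow]
    have hu : IsUnit (algebraMap R Rp u ^ k) := (IsLocalization.map_units Rp u).pow k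
    rw [← map_smul, ← hu.smul_eq_zero, ← map_smul, smul_smul, mul_comm, hsplit, hw, map_zero]
  haveI : IsLocalizedModule p.primeCompl (TensorProduct.mk R Rp M 1) :=
    (isLocalizedModule_iff_isBaseChange p.primeCompl Rp _).2 (TensorProduct.isBaseChange R M Rp)
  refine (mem_weakAss_iff_map p.primeCompl (R' := Rp) (f := TensorProduct.mk R Rp M 1) ?_).2 ?_
  · rw [Set.disjoint_left]
    exact fun x hx hx' => hx hx'
  · rwa [IsLocalization.AtPrime.map_eq_maximalIdeal p Rp]


section poly

variable {R : Type u} [CommRing R] {n : ℕ} (N : Type u) [AddCommGroup N] [Module (MvPolynomial (Fin n) R) N]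
  [Module R N] [IsScalarTower R (MvPolynomial (Fin n) R) N] [Module.Finite (MvPolynomial (Fin n) R) N]
  (M : Type u) [AddCommGroup M] [Module R M] (p : Ideal R) [p.IsPrime] (P : Ideal (MvPolynomial (Fin n) R)) [P.IsPrime]
  [P.LiesOver p] [Module.Flat R (LocalizedModule P.primeCompl N)]

/-- The contraction of a weakly associated prime is weakly associated. -/
theorem mem_weakAss_of_tensor (h : P ∈ FlatCA.weakAss (MvPolynomial (Fin n) R) (N ⊗[R] M)) :
    p ∈ FlatCA.weakAss R M := by
  let A := MvPolynomial (Fin n) R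
  obtain ⟨z, hz⟩ := mem_weakAss_iff.1 h
  have hPp : P.comap (algebraMap R A) = p := (Ideal.LiesOver.over (P := P) (p := p)).symm
  let Rp := Localization.AtPrime p
  let Ap := MvPolynomial (Fin n) Rp
  let M0 := p.primeCompl.map (C (σ := Fin n))
  haveI hloc : IsLocalization M0 Ap := MvPolynomial.isLocalization p.primeCompl Rp
  haveI : Module.Flat A Ap := IsLocalization.flat Ap M0
  haveI : IsScalarTower R A Ap := IsScalarTower.of_algebraMap_eq fun r => by
    show _ = MvPolynomial.map (algebraMap R Rp) (C r)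
    rw [map_C]
    rfl
  have hd : Disjoint (M0 : Set A) P := by
    rw [Set.disjoint_left]
    rintro x ⟨r, hr, rfl⟩ hx
    exact hr (hPp.le (Ideal.mem_comap.2 hx))
  let P' : Ideal Ap := P.map (algebraMap A Ap)
  haveI : P'.IsPrime := IsLocalization.isPrime_of_isPrime_disjoint M0 Ap P ‹_› hd
  have hP' : P'.comap (algebraMap A Ap) = P := IsLocalization.comap_map_of_isPrime_disjoint M0 Ap ‹_› hd
  have hP'p : P'.comap (algebraMap Rp Ap) = IsLocalRing.maximalIdeal Rp := by
    refine (IsLocalization.orderEmbedding p.primeCompl Rp).injective ?_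
    show (P'.comap (algebraMap Rp Ap)).comap (algebraMap R Rp) = (IsLocalRing.maximalIdeal Rp).comap (algebraMap R Rp)
    rw [Ideal.comap_comap, ← IsScalarTower.algebraMap_eq, IsScalarTower.algebraMap_eq R A Ap, ← Ideal.comap_comap, hP', hPp]
    exact (Localization.AtPrime.under_maximalIdeal (I := p)).symm
  exact mem_weakAss_of_stalk (Rp := Rp) (C := Ap) (n := n) p N M P P' hP' hP'p z hz

/-- A weakly associated prime of the tensor product gives an associated prime of the fibre. -/
theorem exists_witness_of_tensor (h : P ∈ FlatCA.weakAss (MvPolynomial (Fin n) R) (N ⊗[R] M)) :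
    ∃ x : N, ∀ a : MvPolynomial (Fin n) R, FlatCA.toFiberMod p (S := MvPolynomial (Fin n) R) N (a • x) = 0 ↔ a ∈ P := by
  classical
  let A := MvPolynomial (Fin n) R
  obtain ⟨z, hz⟩ := mem_weakAss_iff.1 h
  haveI := fp_of_flat (R := R) N P inferInstance
  obtain ⟨c, π, hπ⟩ := Module.Finite.exists_fin' A N
  obtain ⟨G, hG, hk⟩ := exists_relations_loc π hπ P.primeCompl
  let N1 := Pres (G : Set (Fin c → A))
  let μ := presMap π hG
  have hμ : Function.Surjective μ := presMap_surjective π hG hπ
  have hker : ∀ x, μ x = 0 → ∃ t ∈ P.primeCompl, t • x = 0 := presMap_killed π hG P.primeCompl hk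
  haveI : Module.Flat R (LocalizedModule P.primeCompl N1) :=
    (flat_of_presentation (R := R) π hπ hG P.primeCompl hk).2 inferInstance
  let μM : N1 ⊗[R] M →ₗ[A] N ⊗[R] M := AlgebraTensorModule.rTensor R M μ
  have hkerM : ∀ w, μM w = 0 → ∃ t ∈ P.primeCompl, t • w = 0 := by
    intro w hw
    obtain ⟨v, rfl⟩ := (rTensor_exact M (LinearMap.exact_subtype_ker_map (μ.restrictScalars R))
      (show Function.Surjective (μ.restrictScalars R) from hμ) w).1 hw
    induction v using TensorProduct.induction_on with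
    | zero => exact ⟨1, one_mem _, by rw [map_zero, smul_zero]⟩
    | add a b ha hb =>
      have hzero : ∀ v, μM ((LinearMap.ker (μ.restrictScalars R)).subtype.rTensor M v) = 0 := fun v =>
        (rTensor_exact M (LinearMap.exact_subtype_ker_map (μ.restrictScalars R))
          (show Function.Surjective (μ.restrictScalars R) from hμ) _).2 ⟨v, rfl⟩
      obtain ⟨t, ht, hta⟩ := ha (hzero a)
      obtain ⟨t', ht', htb⟩ := hb (hzero b)
      refine ⟨t' * t, mul_mem ht' ht, ?_⟩
      rw [map_add, smul_add, mul_smul, hta, smul_zero, mul_comm, mul_smul, htb, smul_zero, add_zero]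
    | tmul x m =>
      obtain ⟨t, ht, htx⟩ := hker x.1 x.2
      refine ⟨t, ht, ?_⟩
      show (t • (x.1 : N1)) ⊗ₜ[R] m = 0
      rw [htx, zero_tmul]
  obtain ⟨z1, hz1⟩ : ∃ z1, μM z1 = z := LinearMap.rTensor_surjective M (show Function.Surjective (μ.restrictScalars R) from hμ) z
  have hann : P ∈ (annEl A z1).minimalPrimes := by
    refine ⟨⟨inferInstance, fun a ha => hz.1.2 (mem_annEl.2 (by rw [← hz1, ← map_smul, mem_annEl.1 ha, map_zero]))⟩,
      fun P'' hP'' hle => hz.2 ⟨hP''.1, fun a ha => ?_⟩ hle⟩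
    obtain ⟨t, ht, hta⟩ := hkerM (a • z1) (by rw [map_smul, hz1]; exact mem_annEl.1 ha)
    exact (hP''.1.mem_or_mem (hP''.2 (mem_annEl.2 (by rw [mul_smul]; exact hta)))).resolve_left fun h => ht (hle h)
  haveI : IsNoetherianRing (p.Fiber A) := Algebra.FiniteType.isNoetherianRing p.ResidueField _
  obtain ⟨r, hr, hrP⟩ := EssFPDescent.exists_ass_fiber_of N1 M z1 p P (fun s hs => univInj_stalk N1 p P s hs) hann
  obtain ⟨x1, hx1⟩ := exists_witness p N1 hr P hrP
  refine ⟨μ x1, fun a => ⟨fun h0 => ?_, fun ha => ?_⟩⟩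
  · obtain ⟨d, hd, hdx⟩ := (toFiberMod_eq_zero_iff p N _).1 h0
    have hmem : d • a • μ x1 ∈ (p • (⊤ : Submodule R N1)).map (μ.restrictScalars R) := by
      rw [Submodule.map_smul'', Submodule.map_top,
        LinearMap.range_eq_top.2 (show Function.Surjective (μ.restrictScalars R) from hμ)]
      exact hdx
    obtain ⟨w, hw, hwe⟩ := hmem
    obtain ⟨t, ht, htx⟩ := hker (d • a • x1 - w) (by
      rw [map_sub, LinearMap.map_smul_of_tower, map_smul, sub_eq_zero]
      exact hwe.symm)
    rw [smul_sub, sub_eq_zero] at htx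
    have h1 : FlatCA.toFiberMod p (S := A) N1 ((t * algebraMap R A d * a) • x1) = 0 := by
      rw [mul_smul, mul_smul, algebraMap_smul, htx]
      refine (toFiberMod_eq_zero_iff p N1 _).2 ⟨1, fun h => ‹p.IsPrime›.ne_top ((Ideal.eq_top_iff_one _).2 h), ?_⟩
      rw [one_smul]
      exact Submodule.smul_top_le_comap_smul_top p ((LinearMap.lsmul A N1 t).restrictScalars R) hw
    refine (‹P.IsPrime›.mem_or_mem ((hx1 _).1 h1)).resolve_left fun h2 => ?_
    exact (‹P.IsPrime›.mem_or_mem h2).elim ht fun h3 =>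
      hd (by rw [Ideal.LiesOver.over (P := P) (p := p)]; exact h3)
  · obtain ⟨d, hd, hdx⟩ := (toFiberMod_eq_zero_iff p N1 _).1 ((hx1 a).2 ha)
    refine (toFiberMod_eq_zero_iff p N _).2 ⟨d, hd, ?_⟩
    rw [← map_smul, ← LinearMap.map_smul_of_tower]
    exact Submodule.smul_top_le_comap_smul_top p (μ.restrictScalars R) hdx

end poly

/-- One element replacing an element with weakly associated prime, killed near the prime by given elements. -/
theorem exists_killed_near {R : Type u} [CommRing R] (M : Type u) [AddCommGroup M] [Module R M] {p : Ideal R} [p.IsPrime] {m : M} (hm : p ∈ (annEl R m).minimalPrimes) (J : Finset R)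
    (hJ : ∀ r ∈ J, r ∈ p) :
    ∃ m' : M, p ∈ (annEl R m').minimalPrimes ∧ ∀ r ∈ J, ∃ d ∉ p, (d * r) • m' = 0 := by
  classical
  induction J using Finset.induction with
  | empty => exact ⟨m, hm, by simp⟩
  | @insert r J hr ih =>
    obtain ⟨m', hm', hk⟩ := ih fun x hx => hJ x (Finset.mem_insert_of_mem hx)
    have hex : ∃ k : ℕ, ∃ d ∉ p, (d * r ^ k) • m' = 0 := by
      obtain ⟨s, hs, k, hk⟩ := exists_mul_pow_mem hm' (hJ r (Finset.mem_insert_self r J))
      exact ⟨k, s, hs, mem_annEl.1 hk⟩
    obtain ⟨d, hd, hd0⟩ := Nat.find_spec hex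
    have hk0 : Nat.find hex ≠ 0 := fun h0 => by
      rw [h0, pow_zero, mul_one] at hd0
      exact hd (hm'.1.2 (mem_annEl.2 hd0))
    obtain ⟨k, hk'⟩ : ∃ k, Nat.find hex = k + 1 := ⟨Nat.find hex - 1, by omega⟩
    refine ⟨r ^ k • m', ⟨⟨inferInstance, fun a ha => by_contra fun hap => ?_⟩, fun q hq hle => ?_⟩, fun x hx => ?_⟩
    · exact Nat.find_min hex (m := k) (by omega) ⟨a, hap, by rw [mul_smul]; exact mem_annEl.1 ha⟩
    · exact hm'.2 ⟨hq.1, fun a ha => hq.2 (mem_annEl.2 (by rw [smul_comm, mem_annEl.1 ha, smul_zero]))⟩ hle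
    · rcases Finset.mem_insert.1 hx with rfl | hx
      · exact ⟨d, hd, by rw [smul_smul, mul_assoc, ← pow_succ', ← hk']; exact hd0⟩
      · obtain ⟨e, he, he0⟩ := hk x hx
        exact ⟨e, he, by rw [smul_comm, he0, smul_zero]⟩

variable {R S : Type u} [CommRing R] [CommRing S] [Algebra R S]
  (N : Type u) [AddCommGroup N] [Module S N] [Module R N] [IsScalarTower R S N]
  (M : Type u) [AddCommGroup M] [Module R M] (p : Ideal R) [p.IsPrime] (q : Ideal S) [q.IsPrime] [q.LiesOver p]

/-- Weakly associated primes of a tensor product with a module flat at the prime. -/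
theorem weakAss_tensor_forward [Algebra.FiniteType R S] [Module.Finite S N]
    (hflat : Module.Flat R (LocalizedModule q.primeCompl N)) (h : q ∈ FlatCA.weakAss S (N ⊗[R] M)) :
    p ∈ FlatCA.weakAss R M ∧ FlatCA.fiberIdeal p q ∈ associatedPrimes (p.Fiber S) (FlatCA.fiberMod p S N) := by
  obtain ⟨n, φ, hφ⟩ := Algebra.FiniteType.iff_quotient_mvPolynomial''.1 ‹Algebra.FiniteType R S›
  let A := MvPolynomial (Fin n) R
  letI : Algebra A S := φ.toRingHom.toAlgebra
  haveI : IsScalarTower R A S := IsScalarTower.of_algebraMap_eq fun r => (φ.commutes r).symm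
  letI : Module A N := Module.compHom N φ.toRingHom
  haveI : IsScalarTower A S N := ⟨fun x y m => mul_smul (φ x) y m⟩
  haveI : IsScalarTower R A N := IsScalarTower.of_algebraMap_smul fun r m => by
    show φ (algebraMap R A r) • m = r • m
    rw [φ.commutes, algebraMap_smul]
  haveI : Module.Finite A S := Module.Finite.of_surjective (Algebra.linearMap A S) hφ
  haveI : Module.Finite A N := Module.Finite.trans S N
  let P := q.comap (algebraMap A S)
  haveI : P.IsPrime := Ideal.comap_isPrime _ _
  haveI : P.LiesOver p := ⟨by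
    show p = (q.comap (algebraMap A S)).comap (algebraMap R A)
    rw [Ideal.comap_comap, ← IsScalarTower.algebraMap_eq]
    exact Ideal.LiesOver.over (P := q) (p := p)⟩
  have hdiv : ∀ z ∉ q, ∃ u ∉ P, ∃ z', z * z' = algebraMap A S u := fun z hz => by
    obtain ⟨u, hu⟩ := hφ z
    exact ⟨u, fun hh => hz (hu ▸ hh), 1, (mul_one z).trans hu.symm⟩
  haveI : Module.Flat R (LocalizedModule P.primeCompl N) := (flat_restrict_iff P q rfl hdiv).1 hflat
  obtain ⟨z, hz⟩ := mem_weakAss_iff.1 h
  have hsm : ∀ (a : A) (w : N ⊗[R] M), a • w = φ a • w := fun a w => by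
    induction w using TensorProduct.induction_on with
    | zero => simp
    | add x y hx hy => rw [smul_add, smul_add, hx, hy]
    | tmul x m => rfl
  have hann : annEl A z = (annEl S z).comap (algebraMap A S) := by
    ext a
    rw [mem_annEl, Ideal.mem_comap, mem_annEl, hsm]
    rfl
  have hP : P ∈ FlatCA.weakAss A (N ⊗[R] M) := by
    refine mem_weakAss_iff.2 ⟨z, ?_⟩
    rw [hann, Ideal.comap_minimalPrimes_eq_of_surjective (f := algebraMap A S) hφ]
    exact ⟨q, hz, rfl⟩
  refine ⟨mem_weakAss_of_tensor N M p P hP, ?_⟩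
  obtain ⟨x, hx⟩ := exists_witness_of_tensor N M p P hP
  refine fiberIdeal_mem_associatedPrimes p N q x fun s => ?_
  obtain ⟨a, rfl⟩ := hφ s
  show FlatCA.toFiberMod p (S := S) N (a • x) = 0 ↔ a ∈ P
  rw [← hx a, toFiberMod_eq_zero_iff, toFiberMod_eq_zero_iff]

/-- Associated primes of the fibre over weakly associated primes are weakly associated. -/
theorem weakAss_tensor_backward [Algebra.FiniteType R S] (hflat : Module.Flat R (LocalizedModule q.primeCompl N))
    (hp : p ∈ FlatCA.weakAss R M)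
    (hq : FlatCA.fiberIdeal p q ∈ associatedPrimes (p.Fiber S) (FlatCA.fiberMod p S N)) :
    q ∈ FlatCA.weakAss S (N ⊗[R] M) := by
  classical
  haveI := hflat
  have hcomap : (FlatCA.fiberIdeal p q).comap (algebraMap S (p.Fiber S)) = q :=
    le_antisymm (fun a ha => mem_of_mem_fiberIdeal p q ha) fun a ha => Ideal.mem_map_of_mem _ ha
  obtain ⟨x, hx⟩ := exists_witness p N hq q hcomap
  obtain ⟨m, hm⟩ := mem_weakAss_iff.1 hp
  haveI : IsNoetherianRing (p.Fiber S) := Algebra.FiniteType.isNoetherianRing p.ResidueField _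
  have hfg : (Ideal.span ((algebraMap S (p.Fiber S)) '' (q : Set S))).FG := IsNoetherian.noetherian _
  obtain ⟨T, hT, hTspan⟩ := (Submodule.fg_span_iff_fg_span_finset_subset _).1 hfg
  obtain ⟨Sg, hSg, hSgT⟩ := Finset.subset_set_image_iff.1 hT
  have hc : ∀ s : Sg, ∃ c ∉ p, c • (s : S) • x ∈ p • (⊤ : Submodule R N) := fun s =>
    (toFiberMod_eq_zero_iff p N _).1 ((hx _).2 (hSg s.2))
  choose c hc hcx using hc
  have hJ : ∀ s : Sg, ∃ J : Finset R, (∀ r ∈ J, r ∈ p) ∧
      c s • (s : S) • x ∈ Ideal.span (J : Set R) • (⊤ : Submodule R N) := fun s => by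
    refine Submodule.smul_induction_on (hcx s) (fun r hr y _ => ⟨{r}, by simpa using hr,
      Submodule.smul_mem_smul (Ideal.subset_span (by simp)) Submodule.mem_top⟩) ?_
    rintro a a' ⟨G, hG, ha⟩ ⟨G', hG', ha'⟩
    exact ⟨G ∪ G', fun r hr => (Finset.mem_union.1 hr).elim (hG r) (hG' r),
      add_mem (Submodule.smul_mono_left (Ideal.span_mono (by simp)) ha)
        (Submodule.smul_mono_left (Ideal.span_mono (by simp)) ha')⟩
  choose J hJp hJx using hJ
  obtain ⟨m', hm', hkill⟩ := exists_killed_near M hm (Finset.univ.biUnion J)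
    (fun r hr => by
      obtain ⟨s, -, hs⟩ := Finset.mem_biUnion.1 hr
      exact hJp s r hs)
  refine mem_weakAss_iff.2 ⟨x ⊗ₜ[R] m', ⟨inferInstance, fun s hs => ?_⟩, fun P'' hP'' hle => ?_⟩
  · by_contra hsq
    let Nq := LocalizedModule q.primeCompl N
    let ι := LocalizedModule.mkLinearMap q.primeCompl N
    let iI : R ⧸ annEl R m' →ₗ[R] M := (annEl R m').liftQ (LinearMap.toSpanSingleton R M m') fun r hr => mem_annEl.1 hr
    have hiI : Function.Injective iI := by
      rw [← LinearMap.ker_eq_bot]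
      exact Submodule.ker_liftQ_eq_bot _ _ _ fun r hr => mem_annEl.2 hr
    have hmk : iI (Submodule.Quotient.mk (1 : R)) = m' :=
      (Submodule.liftQ_apply _ _ _).trans (by simp)
    have h0 : ι (s • x) ⊗ₜ[R] (Submodule.Quotient.mk (1 : R) : R ⧸ annEl R m') = 0 := by
      refine Module.Flat.lTensor_preserves_injective_linearMap (M := Nq) iI hiI ?_
      rw [map_zero, LinearMap.lTensor_tmul, hmk]
      have h1 := congrArg (ι.restrictScalars R |>.rTensor M) (mem_annEl.1 hs)
      rw [map_zero, smul_tmul', LinearMap.rTensor_tmul] at h1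
      exact h1
    have h2 : ι (s • x) ∈ annEl R m' • (⊤ : Submodule R Nq) := by
      have h3 := congrArg (TensorProduct.tensorQuotEquivQuotSMul Nq (annEl R m')) h0
      rw [map_zero, show (Submodule.Quotient.mk (1 : R) : R ⧸ annEl R m') = Ideal.Quotient.mk _ 1 from rfl,
        TensorProduct.tensorQuotEquivQuotSMul_tmul_mk, one_smul, Submodule.Quotient.mk_eq_zero] at h3
      exact h3
    have h4 : ι (s • x) ∈ p.map (algebraMap R (Localization.AtPrime q)) •
        (⊤ : Submodule (Localization.AtPrime q) Nq) :=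
      AssFiber.smul_mem_pN p Nq (Submodule.smul_mono_left hm'.1.2 h2)
    obtain ⟨u, hu, nn, hn, e⟩ := EssFPDescent.exists_mem_pN_of_mem N p q h4
    rw [← map_smul] at e
    obtain ⟨t, ht⟩ := IsLocalizedModule.exists_of_eq (S := q.primeCompl) e
    have h5 : FlatCA.toFiberMod p (S := S) N (((t : S) * u * s) • x) = 0 := by
      rw [mul_smul, mul_smul, ← Submonoid.smul_def, ht]
      exact AssFiber.toFiberMod_eq_zero_of_mem p N (Submodule.smul_mem _ _ hn)
    exact (‹q.IsPrime›.mem_or_mem ((hx _).1 h5)).elim (fun h6 => (‹q.IsPrime›.mem_or_mem h6).elim t.2 hu) hsq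
  · have hR : ∀ r : R, r • m' = 0 → algebraMap R S r ∈ P'' := fun r hr => hP''.2 (mem_annEl.2 (by
      rw [algebraMap_smul, ← tmul_smul, hr, tmul_zero]))
    have hnot : ∀ d ∉ p, algebraMap R S d ∉ P'' := fun d hd hd' =>
      hd (by rw [Ideal.LiesOver.over (P := q) (p := p)]; exact hle hd')
    have hpP : ∀ r ∈ p, algebraMap R S r ∈ P'' := by
      intro r hr
      obtain ⟨d, hd, k, hdk⟩ := exists_mul_pow_mem hm' hr
      have h1 := hR _ (mem_annEl.1 hdk)
      rw [map_mul, map_pow] at h1
      exact hP''.1.mem_of_pow_mem k ((hP''.1.mem_or_mem h1).resolve_left (hnot d hd))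
    haveI := hP''.1
    haveI : P''.LiesOver p := ⟨le_antisymm hpP fun r hr => by
      rw [Ideal.LiesOver.over (P := q) (p := p)]
      exact hle hr⟩
    have hgen : ∀ s : Sg, (s : S) ∈ P'' := by
      intro s
      have hd : ∀ r : J s, ∃ d ∉ p, (d * r.1) • m' = 0 := fun r =>
        hkill r.1 (Finset.mem_biUnion.2 ⟨s, Finset.mem_univ _, r.2⟩)
      choose d hd hd0 using hd
      let D := ∏ r : J s, d r
      have hD : D ∉ p := fun hh => by
        obtain ⟨r, -, hr⟩ := ‹p.IsPrime›.prod_mem_iff.1 hh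
        exact hd r hr
      have hDr : ∀ r ∈ Ideal.span (J s : Set R), (D * r) • m' = 0 := by
        intro r hr
        have hle' : Ideal.span (J s : Set R) ≤ Submodule.comap (LinearMap.mulLeft R D) (annEl R m') :=
          Ideal.span_le.2 fun r hr => mem_annEl.2 (by
            show (D * r) • m' = 0
            rw [show D = (∏ x ∈ Finset.univ.erase (⟨r, hr⟩ : J s), d x) * d ⟨r, hr⟩ from
              (Finset.prod_erase_mul _ _ (Finset.mem_univ _)).symm, mul_assoc, mul_smul, hd0 ⟨r, hr⟩, smul_zero])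
        exact mem_annEl.1 (hle' hr)
      have hzero : ∀ y ∈ Ideal.span (J s : Set R) • (⊤ : Submodule R N), (D • y) ⊗ₜ[R] m' = (0 : N ⊗[R] M) := by
        intro y hy
        refine Submodule.smul_induction_on hy (fun r hr y _ => ?_) fun a b ha hb => by rw [smul_add, add_tmul, ha, hb, add_zero]
        rw [smul_smul, smul_tmul, hDr r hr, tmul_zero]
      have hmem : algebraMap R S (D * c s) * (s : S) ∈ P'' := hP''.2 (mem_annEl.2 (by
        rw [smul_tmul', mul_smul, algebraMap_smul, mul_smul]
        exact hzero _ (hJx s)))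
      exact (hP''.1.mem_or_mem hmem).resolve_left (hnot _ fun hh => (‹p.IsPrime›.mem_or_mem hh).elim hD (hc s))
    intro a ha
    refine mem_of_mem_fiberIdeal p P'' ?_
    have h1 : algebraMap S (p.Fiber S) a ∈ Submodule.span (p.Fiber S) (T : Set (p.Fiber S)) := by
      rw [← hTspan]
      exact Submodule.subset_span ⟨a, ha, rfl⟩
    refine Submodule.span_le.2 (fun z hz => ?_) h1
    rw [← hSgT, Finset.coe_image] at hz
    obtain ⟨s, hs, rfl⟩ := hz
    exact Ideal.mem_map_of_mem _ (hgen ⟨s, hs⟩)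

end Groth.Agent.H4RG
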