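import Groth.Prelude
import Groth.Agent.H4RG.DevissageGood
import Groth.Agent.H4RG.SmoothNear
import Groth.Agent.H4RG.WeakAssTensor
import Groth.Agent.EssFPDescent.Criterion
import Mathlib

/-!
# Purity near a point of flatness over a henselian base

If a finite module over a finite type algebra over a henselian local ring is flat at a point of the closed fibre, then
on some neighbourhood of that point it maps universally injectively into its stalk.
-/

set_option autoImplicit false
set_option linter.style.haveILetI false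
set_option backward.isDefEq.respectTransparency.types false

universe u

open TensorProduct IsLocalRing MvPolynomial Groth.Agent.WeakAss

namespace Groth.Agent.H4RG

attribute [local instance] Algebra.TensorProduct.rightAlgebra

/-- Near the prime, sections of every tensor product which vanish at the prime vanish. -/
def PureNear (R : Type u) {S : Type u} [CommRing R] [CommRing S] [Algebra R S] (N : Type u) [AddCommGroup N]
    [Module S N] [Module R N] [IsScalarTower R S N] (P : Ideal S) : Prop :=
  ∃ g ∉ P, ∀ (M : Type u) [AddCommGroup M] [Module R M] (w : N ⊗[R] M),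
    (∃ t ∉ P, t • w = 0) → ∃ i : ℕ, g ^ i • w = 0

theorem PureNear.pi {R S : Type u} [CommRing R] [CommRing S] [Algebra R S] {N : Type u} [AddCommGroup N]
    [Module S N] [Module R N] [IsScalarTower R S N] (P : Ideal S) (c : ℕ) (h : PureNear R N P) :
    PureNear R (Fin c → N) P := by
  obtain ⟨g, hg, hk⟩ := h
  refine ⟨g, hg, fun M _ _ w ⟨t, ht, htw⟩ => ?_⟩
  let π : Fin c → ((Fin c → N) ⊗[R] M →ₗ[S] N ⊗[R] M) := fun i =>
    AlgebraTensorModule.rTensor R M (LinearMap.proj i : (Fin c → N) →ₗ[S] N)
  let ι : Fin c → (N ⊗[R] M →ₗ[S] (Fin c → N) ⊗[R] M) := fun i =>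
    AlgebraTensorModule.rTensor R M (LinearMap.single S (fun _ : Fin c => N) i)
  have hsum : ∀ v : (Fin c → N) ⊗[R] M, v = ∑ i, ι i (π i v) := by
    intro v
    induction v using TensorProduct.induction_on with
    | zero => simp
    | add a b ha hb =>
      conv_lhs => rw [ha, hb]
      simp [map_add, Finset.sum_add_distrib]
    | tmul v m =>
      show v ⊗ₜ[R] m = ∑ i, (LinearMap.single S (fun _ : Fin c => N) i (v i)) ⊗ₜ[R] m
      rw [← TensorProduct.sum_tmul]
      rw [show ∑ i, (LinearMap.single S (fun _ : Fin c => N) i) (v i) = v from Finset.univ_sum_single v]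
  choose n hn using fun i => hk M (π i w) ⟨t, ht, by rw [← map_smul, htw, map_zero]⟩
  refine ⟨Finset.univ.sum n, ?_⟩
  rw [hsum w, Finset.smul_sum]
  refine Finset.sum_eq_zero fun i _ => ?_
  obtain ⟨k, hk'⟩ := Nat.exists_eq_add_of_le (Finset.single_le_sum (fun j _ => Nat.zero_le (n j)) (Finset.mem_univ i))
  rw [← map_smul, hk', add_comm, pow_add, mul_smul, hn, smul_zero, map_zero]

theorem PureNear.of_exact {R E : Type u} [CommRing R] [CommRing E] [Algebra R E] {F N : Type u} [AddCommGroup F]
    [Module E F] [Module R F] [IsScalarTower R E F] [AddCommGroup N] [Module E N] [Module R N] [IsScalarTower R E N]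
    (P : Ideal E) [P.IsPrime] (β : F →ₗ[E] N)
    (hβ : Function.Injective (IsLocalizedModule.map P.primeCompl (LocalizedModule.mkLinearMap P.primeCompl F)
        (LocalizedModule.mkLinearMap P.primeCompl N) β))
    (hQ : Module.Flat R (LocalizedModule P.primeCompl (N ⧸ LinearMap.range β)))
    (hF : PureNear R F P) (hQn : PureNear R (N ⧸ LinearMap.range β) P) : PureNear R N P := by
  haveI := hQ
  obtain ⟨g1, hg1, hk1⟩ := hQn
  obtain ⟨g2, hg2, hk2⟩ := hF
  let π := (LinearMap.range β).mkQ
  let iF := LocalizedModule.mkLinearMap P.primeCompl F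
  let iN := LocalizedModule.mkLinearMap P.primeCompl N
  let iQ := LocalizedModule.mkLinearMap P.primeCompl (N ⧸ LinearMap.range β)
  let βP := IsLocalizedModule.map P.primeCompl iF iN β
  let πP := IsLocalizedModule.map P.primeCompl iN iQ π
  have hexP : Function.Exact βP πP :=
    IsLocalizedModule.map_exact P.primeCompl iF iN iQ β _ (LinearMap.exact_map_mkQ_range β)
  have hπP : Function.Surjective πP := IsLocalizedModule.map_surjective P.primeCompl iN iQ _ (Submodule.mkQ_surjective _)
  refine ⟨g1 * g2, fun h => (‹P.IsPrime›.mem_or_mem h).elim hg1 hg2, fun M _ _ w ⟨t, ht, htw⟩ => ?_⟩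
  obtain ⟨i, hi⟩ := hk1 M (AlgebraTensorModule.rTensor R M π w) ⟨t, ht, by rw [← map_smul, htw, map_zero]⟩
  rw [← map_smul] at hi
  have hexR : Function.Exact (β.restrictScalars R) (π.restrictScalars R) := LinearMap.exact_map_mkQ_range β
  obtain ⟨v, hv⟩ := (rTensor_exact (R := R) M hexR (Submodule.mkQ_surjective _) (g1 ^ i • w)).1 hi
  have hinj : Function.Injective ((βP.restrictScalars R).rTensor M) :=
    (LinearMap.lTensor_inj_iff_rTensor_inj M (βP.restrictScalars R)).1
      (W4Lib.lTensor_injective_of_flat_quotient (g := πP.restrictScalars R) hβ hexP hπP M)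
  let φ : F ⊗[R] M →ₗ[E] LocalizedModule P.primeCompl F ⊗[R] M := AlgebraTensorModule.rTensor R M iF
  have hcomm : ∀ y : F ⊗[R] M, (βP.restrictScalars R).rTensor M (φ y) =
      AlgebraTensorModule.rTensor R M iN ((β.restrictScalars R).rTensor M y) := fun y => by
    induction y using TensorProduct.induction_on with
    | zero => simp
    | add a b ha hb => simp only [map_add, ha, hb]
    | tmul a m =>
      show βP (iF a) ⊗ₜ[R] m = iN (β a) ⊗ₜ[R] m
      rw [IsLocalizedModule.map_apply]
  have h0 : φ (t • v) = 0 := hinj (by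
    rw [map_zero, hcomm, show (β.restrictScalars R).rTensor M (t • v) = t • (β.restrictScalars R).rTensor M v from
      (AlgebraTensorModule.rTensor R M β).map_smul t v, hv, smul_comm t, htw, smul_zero, map_zero])
  obtain ⟨t', ht'⟩ := (IsLocalizedModule.eq_zero_iff P.primeCompl φ).1 h0
  obtain ⟨j, hj⟩ := hk2 M v ⟨(t' : E) * t, fun h => (‹P.IsPrime›.mem_or_mem h).elim t'.2 ht, by
    rw [mul_smul]; exact ht'⟩
  refine ⟨i + j, ?_⟩
  have h3 : g2 ^ j • (g1 ^ i • w) = 0 := by
    rw [← hv, show g2 ^ j • (β.restrictScalars R).rTensor M v = (β.restrictScalars R).rTensor M (g2 ^ j • v) from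
      ((AlgebraTensorModule.rTensor R M β).map_smul _ v).symm, hj, map_zero]
  rw [mul_pow, pow_add g1, pow_add g2, show g1 ^ i * g1 ^ j * (g2 ^ i * g2 ^ j) = (g1 ^ j * g2 ^ i) * (g2 ^ j * g1 ^ i) by ring,
    mul_smul, mul_smul (g2 ^ j), h3, smul_zero]

/-- An associated prime of a regular ring is minimal. -/
theorem minimal_of_isAssociatedPrime {F : Type u} [CommRing F] [IsNoetherianRing F] [IsRegularRing F] {r : Ideal F}
    (h : r ∈ associatedPrimes F F) : r ∈ minimalPrimes F := by
  haveI := h.isPrime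
  obtain ⟨x, hx⟩ := h.2
  haveI : IsRegularLocalRing (Localization.AtPrime r) := IsRegularRing.isRegularLocalRing_localization r
  haveI := RegLoc6.isDomain_of_isRegularLocalRing (Localization.AtPrime r)
  let L := Localization.AtPrime r
  haveI : (RingHom.ker (algebraMap F L)).IsPrime := RingHom.ker_isPrime _
  obtain ⟨μ, hμ, hle⟩ := Ideal.exists_minimalPrimes_le (bot_le (a := r))
  suffices r ≤ μ from (le_antisymm hle this) ▸ hμ
  haveI := hμ.1.1
  intro a ha
  rw [hx] at ha
  obtain ⟨n, hn⟩ := ha
  have hn' : a ^ n * x = 0 := by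
    rw [Submodule.mem_colon_singleton] at hn
    simpa using hn
  have hL : algebraMap F L a ^ n * algebraMap F L x = 0 := by rw [← map_pow, ← map_mul, hn', map_zero]
  rcases mul_eq_zero.1 hL with h1 | h1
  · obtain ⟨⟨s, hs⟩, hst⟩ := (IsLocalization.map_eq_zero_iff r.primeCompl L a).1 (eq_zero_of_pow_eq_zero h1)
    exact (hμ.1.1.mem_or_mem (show s * a ∈ μ by rw [hst]; exact zero_mem μ)).resolve_left fun h => hs (hle h)
  · obtain ⟨⟨s, hs⟩, hst⟩ := (IsLocalization.map_eq_zero_iff r.primeCompl L x).1 h1
    refine absurd ?_ hs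
    rw [hx]
    exact Ideal.le_radical (Submodule.mem_colon_singleton.2 (by simpa using hst))

/-- Etale algebras over affine space are pure near every prime of the closed fibre. -/
theorem pureNear_etale {R E : Type u} [CommRing R] [HenselianLocalRing R] [CommRing E] [Algebra R E] {d : ℕ}
    [Algebra (MvPolynomial (Fin d) R) E] [IsScalarTower R (MvPolynomial (Fin d) R) E]
    [Algebra.Etale (MvPolynomial (Fin d) R) E] (P : Ideal E) [P.IsPrime]
    (hP : P.comap (algebraMap R E) = maximalIdeal R) : PureNear R E P := by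
  haveI : Algebra.Smooth R (MvPolynomial (Fin d) R) := ⟨inferInstance, inferInstance⟩
  haveI : Algebra.Smooth R E := Algebra.Smooth.comp R (MvPolynomial (Fin d) R) E
  obtain ⟨g, hg, hgen⟩ := exists_nhd_generic_le P hP
  refine ⟨g, hg, fun M _ _ w ⟨t, ht, htw⟩ => ?_⟩
  by_contra hne
  push Not at hne
  obtain ⟨Q0, hQ0, hle0, hdisj⟩ := Ideal.exists_le_prime_disjoint (annEl E w) (Submonoid.powers g)
    (Set.disjoint_left.2 fun _ h1 ⟨i, hi⟩ => hne i (by subst hi; exact mem_annEl.1 h1))
  haveI := hQ0
  obtain ⟨Q, hQ, hQle⟩ := Ideal.exists_minimalPrimes_le hle0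
  haveI : Q.IsPrime := hQ.1.1
  have hgQ : g ∉ Q := fun h => Set.disjoint_left.1 hdisj (hQle h) (Submonoid.mem_powers g)
  let p := Q.comap (algebraMap R E)
  haveI : p.IsPrime := Ideal.comap_isPrime _ _
  haveI : Q.LiesOver p := ⟨rfl⟩
  haveI : Module.Flat R E := inferInstance
  obtain ⟨-, hass⟩ := weakAss_tensor_forward E M p Q (EssFPDescent.flat_localizedModule E Q.primeCompl)
    (mem_weakAss_iff.2 ⟨w, hQ⟩)
  let F := p.Fiber E
  let rid : FlatCA.fiberMod p E E ≃ₗ[F] F := AlgebraTensorModule.rid E (p.Fiber E) (p.Fiber E)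
  have hassF : FlatCA.fiberIdeal p Q ∈ associatedPrimes F F := LinearEquiv.AssociatedPrimes.eq rid ▸ hass
  haveI : IsNoetherianRing F := Algebra.FiniteType.isNoetherianRing p.ResidueField _
  haveI : Nontrivial F := nontrivial_of_ne 0 1 fun h0 => hass.isPrime.ne_top ((Ideal.eq_top_iff_one _).2 (h0 ▸ zero_mem _))
  haveI := DiagThree.isRegularRing_of_smooth_field p.ResidueField F
  have hmin := minimal_of_isAssociatedPrime hassF
  have hQP : Q ≤ P := hgen Q inferInstance hgQ fun η' hη' hle hc => by
    let o := PrimeSpectrum.preimageOrderIsoFiber R E ⟨p, inferInstance⟩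
    let z := o.symm ⟨FlatCA.fiberIdeal p Q, hass.isPrime⟩
    have hz : z.1.asIdeal = Q :=
      le_antisymm (fun a ha => mem_of_mem_fiberIdeal p Q ha) fun a ha => Ideal.mem_map_of_mem _ ha
    let v : ↥(PrimeSpectrum.comap (algebraMap R E) ⁻¹' {⟨p, inferInstance⟩}) := ⟨⟨η', hη'⟩, PrimeSpectrum.ext hc⟩
    have hvz : v ≤ z := hle.trans_eq hz.symm
    have h1 : o v ≤ ⟨FlatCA.fiberIdeal p Q, hass.isPrime⟩ := o.le_symm_apply.1 hvz
    have h2 : z ≤ v := o.symm_apply_le.2 (hmin.2 ⟨(o v).2, bot_le⟩ h1)
    exact le_antisymm hle (hz.symm.le.trans h2)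
  exact ht (hQP (hQ.1.2 (mem_annEl.2 htw)))

/-- An etale neighbourhood of the contraction of a quasi-finite point over which the algebra becomes finite. -/
theorem of_finite_chart_fp {d : ℕ} {R T : Type u} [CommRing R] [IsLocalRing R] [CommRing T]
    [Algebra R T] [Algebra.FiniteType R T] [Algebra (MvPolynomial (Fin d) R) T]
    [IsScalarTower R (MvPolynomial (Fin d) R) T] (Pb : Ideal T) [Pb.IsPrime]
    (hPb : Pb.comap (algebraMap R T) = maximalIdeal R) [Algebra.QuasiFiniteAt (MvPolynomial (Fin d) R) Pb] {Φ : Prop}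
    (H : ∀ (E C : Type u) [CommRing E] [Algebra R E] [Algebra (MvPolynomial (Fin d) R) E]
      [IsScalarTower R (MvPolynomial (Fin d) R) E] [Algebra.Etale (MvPolynomial (Fin d) R) E]
      [CommRing C] [Algebra E C] [Module.Finite E C] [Algebra T C] [Module.Flat T C] [Algebra.FinitePresentation T C] [Algebra R C]
      [IsScalarTower R E C] [IsScalarTower R T C] (P' : Ideal E) [P'.IsPrime]
      (_ : P'.comap (algebraMap R E) = maximalIdeal R) (P1 : Ideal C) [P1.IsPrime]
      (_ : P1.comap (algebraMap E C) = P')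
      (_ : ∀ Q : Ideal C, Q.IsPrime → Q.comap (algebraMap E C) = P' → Q = P1)
      (_ : P1.comap (algebraMap T C) = Pb), Φ) : Φ := by
  let A := MvPolynomial (Fin d) R
  haveI : Algebra.FiniteType A T := Algebra.FiniteType.of_restrictScalars_finiteType R A T
  obtain ⟨E, _, _, hE, P', hP', hP'p, e, -, P1, hP1, hP1P', hP1q, heP1, -, hfin, huniq⟩ :=
    Algebra.exists_etale_isIdempotentElem_forall_liesOver_eq (Pb.under A) Pb
  letI : Algebra R E := ((algebraMap A E).comp (algebraMap R A)).toAlgebra
  haveI : IsScalarTower R A E := IsScalarTower.of_algebraMap_eq fun _ => rfl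
  let W := E ⊗[A] T
  let C := Localization.Away e
  let ι : T →+* W := Algebra.TensorProduct.includeRight.toRingHom
  haveI : Module.Flat A E := inferInstance
  letI : Algebra T W := Algebra.TensorProduct.rightAlgebra
  haveI : Module.Flat T W := flat_tensor_right
  haveI : IsScalarTower T W C := inferInstance
  haveI : Module.Flat W C := IsLocalization.flat C (Submonoid.powers e)
  haveI : Module.Flat T C := Module.Flat.trans T W C
  haveI : Algebra.FinitePresentation T W :=
    Algebra.FinitePresentation.equiv (Algebra.TensorProduct.commRight A T E)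
  haveI : Algebra.FinitePresentation W C := IsLocalization.Away.finitePresentation e
  haveI : Algebra.FinitePresentation T C := Algebra.FinitePresentation.trans T W C
  haveI : Module.Finite E C := hfin
  haveI : IsScalarTower R E C := inferInstance
  haveI : IsScalarTower R T C := IsScalarTower.of_algebraMap_eq fun r => by
    rw [IsScalarTower.algebraMap_apply R W C, IsScalarTower.algebraMap_apply T W C,
      IsScalarTower.algebraMap_apply R E W, IsScalarTower.algebraMap_apply R A T]
    congr 1
    show algebraMap E W (algebraMap A E (algebraMap R A r)) = ι (algebraMap A T (algebraMap R A r))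
    rw [← IsScalarTower.algebraMap_apply A E W]
    exact (Algebra.TensorProduct.includeRight.commutes _).symm
  have hd : Disjoint (Submonoid.powers e : Set W) P1 := (Ideal.disjoint_powers_iff_notMem e hP1.isRadical).2 heP1
  let P1c : Ideal C := P1.map (algebraMap W C)
  haveI : P1c.IsPrime := IsLocalization.isPrime_of_isPrime_disjoint (Submonoid.powers e) C P1 hP1 hd
  have hcm : P1c.comap (algebraMap W C) = P1 :=
    IsLocalization.comap_map_of_isPrime_disjoint (Submonoid.powers e) C hP1 hd
  have hP'R : P'.comap (algebraMap R E) = maximalIdeal R := by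
    show P'.comap ((algebraMap A E).comp (algebraMap R A)) = _
    rw [← Ideal.comap_comap, ← hPb, IsScalarTower.algebraMap_eq R A T, ← Ideal.comap_comap]
    congr 1
    exact (hP'p.over).symm
  refine H E C P' hP'R P1c ?_ (fun Q hQ hQP' => ?_) ?_
  · rw [IsScalarTower.algebraMap_eq E W C, ← Ideal.comap_comap, hcm]
    exact hP1P'.over.symm
  · haveI := hQ
    have hQ' : (Q.comap (algebraMap W C)) = P1 := by
      refine huniq _ (Ideal.comap_isPrime _ _) ⟨?_⟩ fun he => ?_
      · show P' = (Q.comap (algebraMap W C)).comap (algebraMap E W)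
        rw [Ideal.comap_comap, ← IsScalarTower.algebraMap_eq, hQP']
      · exact hQ.ne_top (Ideal.eq_top_of_isUnit_mem _ he (IsLocalization.Away.algebraMap_isUnit e))
    show Q = P1.map (algebraMap W C)
    rw [← hQ', IsLocalization.map_comap (Submonoid.powers e) C Q]
  · rw [IsScalarTower.algebraMap_eq T W C, ← Ideal.comap_comap, hcm]
    exact hP1q

/-- The statement proved by induction on the relative dimension. -/
def PureNearAt (d : ℕ) : Prop :=
  ∀ (R E : Type u) [CommRing R] [HenselianLocalRing R] [CommRing E] [Algebra R E] [Algebra (MvPolynomial (Fin d) R) E]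
    [IsScalarTower R (MvPolynomial (Fin d) R) E] [Algebra.Etale (MvPolynomial (Fin d) R) E]
    (P : Ideal E) [P.IsPrime], P.comap (algebraMap R E) = maximalIdeal R →
    ∀ (M : Type u) [AddCommGroup M] [Module E M] [Module R M] [IsScalarTower R E M] [Module.Finite E M],
      Module.Flat R (LocalizedModule P.primeCompl M) → PureNear R M P

theorem pureNear_step {d : ℕ} (IH : PureNearAt.{u} d) {R T : Type u} [CommRing R] [HenselianLocalRing R] [CommRing T]
    [Algebra R T] [Algebra.FiniteType R T] [Algebra (MvPolynomial (Fin d) R) T]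
    [IsScalarTower R (MvPolynomial (Fin d) R) T] (Pb : Ideal T) [Pb.IsPrime]
    (hPb : Pb.comap (algebraMap R T) = maximalIdeal R) [Algebra.QuasiFiniteAt (MvPolynomial (Fin d) R) Pb]
    (N : Type u) [AddCommGroup N] [Module T N] [Module R N] [IsScalarTower R T N] [Module.Finite T N]
    (hflat : Module.Flat R (LocalizedModule Pb.primeCompl N)) : PureNear R N Pb := by
  refine of_finite_chart_fp (d := d) Pb hPb ?_
  intro E C _ _ _ _ _ _ _ _ _ _ _ _ _ _ P' _ hP' P1 _ h1 huniq h2
  haveI := hflat
  let N1 := C ⊗[T] N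
  haveI : Module.Flat R (LocalizedModule P1.primeCompl N1) := flat_baseChange Pb P1 h2 N
  haveI : IsScalarTower E C N1 := inferInstance
  haveI : IsScalarTower R E N1 := IsScalarTower.of_algebraMap_smul fun x m => by
    rw [← algebraMap_smul C (algebraMap R E x) m, ← IsScalarTower.algebraMap_apply, algebraMap_smul]
  haveI : Module.Finite E N1 := Module.Finite.trans C N1
  have hdiv := exists_dvd_of_unique P' P1 huniq
  have hfl : Module.Flat R (LocalizedModule P'.primeCompl N1) := (flat_restrict_iff P' P1 h1 hdiv).1 ‹_›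
  obtain ⟨g, hg, hk⟩ := IH R E P' hP' N1 hfl
  let G := algebraMap E C g
  have hG : G ∉ P1 := fun h => hg (h1 ▸ h)
  have hopen : IsOpen (PrimeSpectrum.comap (algebraMap T C) '' (PrimeSpectrum.basicOpen G : Set (PrimeSpectrum C))) :=
    PrimeSpectrum.isOpenMap_comap_of_hasGoingDown_of_finitePresentation (R := T) (S := C) _ (PrimeSpectrum.basicOpen G).isOpen
  have hmem : (⟨Pb, inferInstance⟩ : PrimeSpectrum T) ∈
      PrimeSpectrum.comap (algebraMap T C) '' (PrimeSpectrum.basicOpen G : Set (PrimeSpectrum C)) :=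
    ⟨⟨P1, inferInstance⟩, hG, PrimeSpectrum.ext h2⟩
  obtain ⟨_, ⟨g0, rfl⟩, hg0, hg0sub⟩ :=
    PrimeSpectrum.isTopologicalBasis_basic_opens.exists_subset_of_mem_open hmem hopen
  refine ⟨g0, hg0, fun M _ _ w ⟨t, ht, htw⟩ => ?_⟩
  let e := AlgebraTensorModule.assoc R T C C N M
  let w1 : N1 ⊗[R] M := e.symm ((1 : C) ⊗ₜ[T] w)
  obtain ⟨u, hu, z', hz'⟩ := hdiv (algebraMap T C t) (fun h => ht (h2 ▸ h))
  have hw1 : algebraMap T C t • w1 = 0 := by
    rw [← map_smul, smul_tmul', smul_eq_mul, mul_one, Algebra.algebraMap_eq_smul_one, smul_tmul, htw, tmul_zero, map_zero]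
  obtain ⟨i, hi⟩ := hk M w1 ⟨u, hu, by
    rw [← algebraMap_smul C u w1, ← hz', mul_comm, mul_smul, hw1, smul_zero]⟩
  have hi' : (G ^ i) • ((1 : C) ⊗ₜ[T] w) = 0 := by
    rw [← e.apply_symm_apply ((1 : C) ⊗ₜ[T] w), ← map_smul, ← map_pow, algebraMap_smul, hi, map_zero]
  by_contra hne
  push Not at hne
  obtain ⟨Q, hQ, hle, hdisj⟩ := Ideal.exists_le_prime_disjoint (annEl T w) (Submonoid.powers g0)
    (Set.disjoint_left.2 fun _ ha ⟨j, hj⟩ => hne j (by subst hj; exact mem_annEl.1 ha))
  haveI := hQ
  obtain ⟨Q', hQ', hQQ⟩ := hg0sub (show (⟨Q, hQ⟩ : PrimeSpectrum T) ∈ _ from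
    fun h => Set.disjoint_left.1 hdisj h (Submonoid.mem_powers g0))
  let J := annEl T w
  let ρ : T ⧸ J →ₗ[T] N ⊗[R] M :=
    Submodule.liftQ J (LinearMap.toSpanSingleton T _ w) (fun a ha => LinearMap.mem_ker.2 (mem_annEl.1 ha))
  have hρ : Function.Injective ρ := by
    rw [← LinearMap.ker_eq_bot, Submodule.eq_bot_iff]
    intro x hx
    obtain ⟨a, rfl⟩ := Submodule.Quotient.mk_surjective J x
    exact (Submodule.Quotient.mk_eq_zero _).2 (mem_annEl.2 hx)
  have h0 : (G ^ i) ⊗ₜ[T] (Submodule.Quotient.mk 1 : T ⧸ J) = 0 := by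
    refine Module.Flat.lTensor_preserves_injective_linearMap (M := C) ρ hρ ?_
    rw [map_zero, LinearMap.lTensor_tmul, show ρ (Submodule.Quotient.mk 1) = w from one_smul T w, ← hi', smul_tmul',
      smul_eq_mul, mul_one]
  have h1' := congrArg (TensorProduct.tensorQuotEquivQuotSMul C J) h0
  rw [map_zero, show (Submodule.Quotient.mk (1 : T) : T ⧸ J) = Ideal.Quotient.mk J 1 from rfl,
    TensorProduct.tensorQuotEquivQuotSMul_tmul_mk, one_smul, Submodule.Quotient.mk_eq_zero,
    Ideal.smul_top_eq_map, Submodule.restrictScalars_mem] at h1'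
  refine hQ' (Q'.2.mem_of_pow_mem i ?_)
  exact Ideal.map_le_iff_le_comap.2 (hle.trans_eq (congrArg PrimeSpectrum.asIdeal hQQ).symm) h1'

theorem pureNearAt : ∀ d, PureNearAt.{u} d := by
  intro d
  induction d using Nat.strong_induction_on with
  | _ d IH => ?_
  intro R E _ _ _ _ _ _ _ P _ hP N _ _ _ _ _ hflat
  classical
  haveI : Algebra.FiniteType R E := Algebra.FiniteType.trans (S := MvPolynomial (Fin d) R) inferInstance inferInstance
  let B := Localization.AtPrime P
  obtain ⟨c, β, hβinj, hQflat, s, hsp, hsQ⟩ := exists_free_part (d := d) P hP N hflat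
  let Q := N ⧸ LinearMap.range β
  let iQ := LocalizedModule.mkLinearMap P.primeCompl Q
  let iF := LocalizedModule.mkLinearMap P.primeCompl (Fin c → E)
  let iP := LocalizedModule.mkLinearMap P.primeCompl N
  let βP := IsLocalizedModule.map P.primeCompl iF iP β
  let πP := IsLocalizedModule.map P.primeCompl iP iQ (LinearMap.range β).mkQ
  have hexP : Function.Exact βP πP :=
    IsLocalizedModule.map_exact P.primeCompl iF iP iQ β _ (LinearMap.exact_map_mkQ_range β)
  have hπP : Function.Surjective πP :=
    IsLocalizedModule.map_surjective P.primeCompl iP iQ _ (Submodule.mkQ_surjective _)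
  have hF : PureNear R (Fin c → E) P := PureNear.pi P c (pureNear_etale (d := d) P hP)
  have hQ : PureNear R Q P := by
    by_cases hsP : s ∈ P
    · obtain ⟨d', hd', θ, hθ⟩ := exists_cut (d := d) P hP s hsP hsp
      let T := E ⧸ Ideal.span {s}
      letI : Algebra (MvPolynomial (Fin d') R) T := θ.toRingHom.toAlgebra
      haveI : IsScalarTower R (MvPolynomial (Fin d') R) T := IsScalarTower.of_algebraMap_eq fun r => (θ.commutes r).symm
      have hann : Module.IsTorsionBySet E Q (Ideal.span {s} : Ideal E) := by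
        rintro y ⟨z, hz⟩
        obtain ⟨w, rfl⟩ := Ideal.mem_span_singleton'.1 hz
        show (w * s) • y = 0
        rw [mul_smul, hsQ, smul_zero]
      letI : Module T Q := hann.module
      haveI : IsScalarTower E T Q := hann.isScalarTower
      haveI : IsScalarTower R T Q := hann.isScalarTower
      haveI : Module.Finite T Q := Module.Finite.of_restrictScalars_finite E T Q
      let Pb : Ideal T := P.map (Ideal.Quotient.mk (Ideal.span {s}))
      have hle : Ideal.span {s} ≤ P := (Ideal.span_singleton_le_iff_mem _).2 hsP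
      haveI : Pb.IsPrime := Ideal.map_isPrime_of_surjective Ideal.Quotient.mk_surjective (by rwa [Ideal.mk_ker])
      have hPbP : Pb.comap (algebraMap E T) = P := by
        show (P.map (Ideal.Quotient.mk (Ideal.span {s}))).comap (Ideal.Quotient.mk _) = P
        rw [Ideal.comap_map_of_surjective _ Ideal.Quotient.mk_surjective, ← RingHom.ker_eq_comap_bot, Ideal.mk_ker]
        exact sup_eq_left.2 hle
      haveI := hθ Pb hPbP
      have hPbR : Pb.comap (algebraMap R T) = maximalIdeal R := by
        rw [IsScalarTower.algebraMap_eq R E T, ← Ideal.comap_comap, hPbP, hP]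
      have hdiv : ∀ z ∉ Pb, ∃ u ∉ P, ∃ z', z * z' = algebraMap E T u := fun z hz => by
        obtain ⟨u, rfl⟩ := Ideal.Quotient.mk_surjective z
        exact ⟨u, fun h => hz (Ideal.mem_map_of_mem _ h), 1, mul_one _⟩
      obtain ⟨g, hg, hgk⟩ := pureNear_step (IH d' hd') Pb hPbR Q ((flat_restrict_iff P Pb hPbP hdiv).2 hQflat)
      obtain ⟨g, rfl⟩ := Ideal.Quotient.mk_surjective g
      refine ⟨g, fun h => hg (Ideal.mem_map_of_mem _ h), fun M _ _ w ⟨t, ht, htw⟩ => ?_⟩
      obtain ⟨i, hi⟩ := hgk M w ⟨Ideal.Quotient.mk _ t, fun h => ht (hPbP ▸ h), by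
        rw [show Ideal.Quotient.mk (Ideal.span {s}) t = algebraMap E T t from rfl, algebraMap_smul]
        exact htw⟩
      refine ⟨i, ?_⟩
      rw [← algebraMap_smul T (g ^ i) w, map_pow]
      exact hi
    · exact ⟨s, hsP, fun M _ _ w hw => ⟨1, by
        rw [pow_one]
        clear hw
        induction w using TensorProduct.induction_on with
        | zero => rw [smul_zero]
        | add a b ha hb => rw [smul_add, ha, hb, add_zero]
        | tmul q m => rw [smul_tmul', hsQ, zero_tmul]⟩⟩
  exact PureNear.of_exact P β hβinj hQflat hF hQ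

end Groth.Agent.H4RG
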