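import Groth.Prelude
import Groth.Agent.H4RG.SmoothNear
import Groth.Agent.H4RG.PureNear
import Groth.Agent.SmoothSect.Basic
import Groth.Agent.CAlgUI.FlatML
import Groth.Agent.CAlgUI.BaseChange
import Groth.Agent.CAlgUI.Countable
import Mathlib

/-!
# Stalks of smooth algebras over a henselian local ring are Mittag-Leffler

Near a prime of the closed fibre a smooth algebra gets, after a finite free local extension of the base, a section,
and the completion along a section of a smooth algebra over a noetherian ring is a power series ring.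
-/

set_option autoImplicit false
set_option linter.style.haveILetI false
set_option backward.isDefEq.respectTransparency.types false

universe u

open TensorProduct IsLocalRing AlgebraicGeometry CategoryTheory Groth.Agent.WeakAss

namespace Groth.Agent.H4RG

attribute [local instance] Algebra.TensorProduct.rightAlgebra

open MoreMor in
/-- A closed specialisation of a prime of the closed fibre lifts to a section after a finite free local extension, and
near the section every prime minimal in its fibre is contained in a prime over the given one. -/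
theorem exists_section_chart {A E : Type u} [CommRing A] [HenselianLocalRing A] [CommRing E] [Algebra A E]
    [Algebra.Smooth A E] (P : Ideal E) [P.IsPrime] (hP : P.comap (algebraMap A E) = maximalIdeal A)
    (Z : Ideal E) [hZ : Z.IsMaximal] (hPZ : P ≤ Z) :
    ∃ (A' : Type u) (_ : CommRing A') (_ : Algebra A A') (_ : HenselianLocalRing A') (_ : Module.Finite A A')
      (_ : Module.Free A A') (τ : A' ⊗[A] E →ₐ[A'] A') (P' : Ideal (A' ⊗[A] E)),
      P'.IsPrime ∧ P' ≤ (maximalIdeal A').comap τ.toRingHom ∧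
      ((maximalIdeal A').comap τ.toRingHom).comap
        (Algebra.TensorProduct.includeRight (R := A) (A := A') (B := E)).toRingHom = Z ∧
      P'.comap (Algebra.TensorProduct.includeRight (R := A) (A := A') (B := E)).toRingHom = P ∧
      ∃ h ∉ (maximalIdeal A').comap τ.toRingHom,
        ∀ η : Ideal (A' ⊗[A] E), η.IsPrime → h ∉ η → MinInFibre A' η → η ≤ P' := by
  have hZA : Z.comap (algebraMap A E) = maximalIdeal A :=
    ((maximalIdeal.isMaximal A).eq_of_le (Ideal.IsPrime.comap (hK := hZ.isPrime) (algebraMap A E)).ne_top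
      (hP ▸ Ideal.comap_mono hPZ)).symm
  letI : Field (E ⧸ Z) := Ideal.Quotient.field Z
  have hp : RingHom.ker (algebraMap A (E ⧸ Z)) = maximalIdeal A := by
    rw [IsScalarTower.algebraMap_eq A E (E ⧸ Z), Ideal.Quotient.algebraMap_eq, ← RingHom.comap_ker, Ideal.mk_ker, hZA]
  haveI : Algebra.FiniteType A (E ⧸ Z) :=
    Algebra.FiniteType.of_surjective (Ideal.Quotient.mkₐ A Z) Ideal.Quotient.mk_surjective
  obtain ⟨A', _, _, _, χ, hfin, hfree, hχ, hker⟩ := exists_local_extension (E ⧸ Z) hp
  haveI : Module.Flat A A' := inferInstance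
  haveI : Algebra.FinitePresentation A A' := by
    haveI : Module.FinitePresentation A A' := Module.finitePresentation_of_projective A A'
    exact Algebra.FinitePresentation.of_finitePresentation A A'
  let E' := A' ⊗[A] E
  haveI : Algebra.Smooth A' E' := inferInstance
  let ι : E →ₐ[A] E' := Algebra.TensorProduct.includeRight
  letI : Algebra A' (E ⧸ Z) := χ.toRingHom.toAlgebra
  haveI : IsScalarTower A A' (E ⧸ Z) := IsScalarTower.of_algebraMap_eq fun a => (χ.commutes a).symm
  let σ0 : E' →ₐ[A'] E ⧸ Z :=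
    Algebra.TensorProduct.lift (Algebra.ofId A' (E ⧸ Z)) (Ideal.Quotient.mkₐ A Z) fun _ _ => .all _ _
  let θ := (Ideal.quotEquivOfEq hker).symm.trans (RingHom.quotientKerEquivOfSurjective hχ)
  have hθ : ∀ a : A', θ (Ideal.Quotient.mk _ a) = χ a := fun a => rfl
  let σ1 : E' →ₐ[A'] A' ⧸ maximalIdeal A' :=
    { θ.symm.toRingHom.comp σ0.toRingHom with
      commutes' := fun a => by
        show θ.symm (σ0 (algebraMap A' E' a)) = _
        rw [AlgHom.commutes, Ideal.Quotient.algebraMap_eq, RingEquiv.symm_apply_eq, hθ]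
        rfl }
  haveI : HenselianRing A' (maximalIdeal A') := inferInstance
  obtain ⟨τ, hτ⟩ := Hensel.exists_smooth_lift (maximalIdeal A') σ1
  have hτ' : ∀ e : E', τ e ∈ maximalIdeal A' ↔ σ0 e = 0 := fun e => by
    rw [← Ideal.Quotient.eq_zero_iff_mem]
    show (Ideal.Quotient.mkₐ A' (maximalIdeal A')).comp τ e = 0 ↔ _
    rw [hτ]
    exact θ.symm.map_eq_zero_iff
  -- the section
  let f : Spec (CommRingCat.of E') ⟶ Spec (CommRingCat.of A') := Spec.map (CommRingCat.ofHom (algebraMap A' E'))
  let e : Spec (CommRingCat.of A') ⟶ Spec (CommRingCat.of E') := Spec.map (CommRingCat.ofHom τ.toRingHom)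
  have he : e ≫ f = 𝟙 _ := by
    rw [← Spec.map_comp, ← Spec.map_id, ← CommRingCat.ofHom_comp,
      show τ.toRingHom.comp (algebraMap A' E') = RingHom.id A' from RingHom.ext τ.commutes]
    rfl
  haveI : AlgebraicGeometry.Smooth f :=
    (HasRingHomProperty.Spec_iff (P := @AlgebraicGeometry.Smooth)).2 (RingHom.smooth_algebraMap.2 inferInstance)
  let U : Set (PrimeSpectrum E') := sectionComponents f e
  have hU : IsOpen U := S15351.result f e he
  have hfx : ∀ x : PrimeSpectrum E', f x = PrimeSpectrum.comap (algebraMap A' E') x := fun x => rfl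
  have hgen : ∀ {x y : PrimeSpectrum E'}, x ∈ U → y.asIdeal ≤ x.asIdeal → y ∈ U := fun hx hle =>
    hU.stableUnderGeneralization ((PrimeSpectrum.le_iff_specializes _ _).1 hle) hx
  let Z' : PrimeSpectrum E' := PrimeSpectrum.comap τ.toRingHom (IsLocalRing.closedPoint A')
  have hZ'U : Z' ∈ U := by
    have h : f (e (IsLocalRing.closedPoint A')) = IsLocalRing.closedPoint A' := by
      rw [← Scheme.Hom.comp_apply, he]; rfl
    show Z' ∈ connectedComponentIn (f ⁻¹' {f Z'}) (e (f Z'))
    rw [show e (f Z') = Z' from congrArg e h]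
    exact mem_connectedComponentIn rfl
  have hZ'E : Z'.asIdeal.comap ι.toRingHom = Z := by
    ext x
    show τ (ι x) ∈ maximalIdeal A' ↔ _
    rw [hτ', show σ0 (ι x) = Ideal.Quotient.mk Z x from
      (Algebra.TensorProduct.lift_tmul _ _ _ (1 : A') x).trans (by rw [map_one, one_mul]; rfl),
      Ideal.Quotient.eq_zero_iff_mem]
  letI : Algebra E E' := Algebra.TensorProduct.rightAlgebra
  haveI : Module.Flat E E' := Module.Flat.of_linearEquiv (Algebra.TensorProduct.commRight A E A').symm.toLinearEquiv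
  haveI : Algebra.FinitePresentation E E' := Algebra.FinitePresentation.equiv (Algebra.TensorProduct.commRight A E A')
  haveI : Z'.asIdeal.LiesOver Z := ⟨hZ'E.symm⟩
  obtain ⟨P'i, hP'Z', hP'p, hP'P⟩ := Ideal.exists_ideal_le_liesOver_of_le (p := P) (q := Z) Z'.asIdeal hPZ
  let P' : PrimeSpectrum E' := ⟨P'i, hP'p⟩
  have hP'U : P' ∈ U := hgen hZ'U hP'Z'
  have hP'A : P'i.comap (algebraMap A' E') = maximalIdeal A' := by
    haveI := hP'p
    haveI : Algebra.IsIntegral A A' := Algebra.IsIntegral.of_finite A A'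
    refine IsLocalRing.eq_maximalIdeal (Ideal.isMaximal_of_isIntegral_of_isMaximal_comap (R := A) _ ?_)
    rw [Ideal.comap_comap, ← IsScalarTower.algebraMap_eq,
      show algebraMap A E' = (algebraMap E E').comp (algebraMap A E) from ι.comp_algebraMap.symm,
      ← Ideal.comap_comap, show P'i.comap (algebraMap E E') = P from hP'P.over.symm, hP]
    exact maximalIdeal.isMaximal A
  obtain ⟨_, ⟨h, rfl⟩, hZh, hhU⟩ :=
    PrimeSpectrum.isTopologicalBasis_basic_opens.exists_subset_of_mem_open hZ'U hU
  refine ⟨A', inferInstance, inferInstance, inferInstance, hfin, hfree, τ, P'i, hP'p, hP'Z', hZ'E, hP'P.over.symm,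
    h, hZh, fun η hη hhη hmin => ?_⟩
  let η'' : PrimeSpectrum E' := ⟨η, hη⟩
  have hη''U : η'' ∈ U := hhU hhη
  have hmin'' : MinInFibre A' η''.asIdeal := hmin
  haveI : Module.Flat A' E' := inferInstance
  haveI := hP'p
  haveI : P'i.LiesOver (maximalIdeal A') := ⟨hP'A.symm⟩
  let pp := PrimeSpectrum.comap (algebraMap A' E') η''
  haveI := pp.2
  obtain ⟨η0, hη0P, hη0p, hη0pp⟩ := Ideal.exists_ideal_le_liesOver_of_le (p := pp.asIdeal) (q := maximalIdeal A') P'i
    (IsLocalRing.le_maximalIdeal pp.2.ne_top)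
  obtain ⟨η1, hle1, hc1, hmin1⟩ := exists_minInFibre_le (A := A') (⟨η0, hη0p⟩ : PrimeSpectrum E')
  have hη1U : η1 ∈ U := hgen hP'U (hle1.trans hη0P)
  have hpp1 : PrimeSpectrum.comap (algebraMap A' E') η1 = pp := PrimeSpectrum.ext (hc1.trans hη0pp.over.symm)
  have hC : ∀ y ∈ U, PrimeSpectrum.comap (algebraMap A' E') y = pp →
      y ∈ connectedComponentIn (f ⁻¹' {pp}) (e pp) := fun y hy hyp => by
    rw [← hyp]
    exact hy
  have heq : η'' = η1 := minInFibre_eq_of_preconnected isPreconnected_connectedComponentIn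
    (fun x hx => connectedComponentIn_subset (f ⁻¹' {pp}) (e pp) hx) (hC η'' hη''U rfl) (hC η1 hη1U hpp1) hmin'' hmin1
  show η''.asIdeal ≤ P'i
  rw [heq]
  exact hle1.trans hη0P

/-- The cotangent module of a section of a smooth algebra over a local ring is finite free. -/
theorem exists_cotangent_equiv {R S : Type u} [CommRing R] [IsLocalRing R] [CommRing S] [Algebra R S]
    [Algebra.Smooth R S] (σ : S →ₐ[R] R) :
    ∃ d : ℕ, Nonempty ((RingHom.ker σ.toRingHom).Cotangent ≃ₗ[R] (Fin d → R)) := by
  letI : Algebra S R := σ.toRingHom.toAlgebra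
  haveI : IsScalarTower R S R := IsScalarTower.of_algebraMap_eq fun r => (σ.commutes r).symm
  have hsurj : Function.Surjective (algebraMap S R) := fun r => ⟨algebraMap R S r, σ.commutes r⟩
  obtain ⟨l, hl⟩ := (Algebra.FormallySmooth.iff_split_injection (R := R) (P := S) (A := R) hsurj).1 inferInstance
  let I := RingHom.ker σ.toRingHom
  have hI : I.FG := by
    exact Algebra.FinitePresentation.ker_fG_of_surjective σ hsurj
  haveI : Module.Finite S I.Cotangent := by
    haveI : Module.Finite S I := Module.Finite.of_fg hI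
    exact Module.Finite.of_surjective I.toCotangent I.toCotangent_surjective
  let X := R ⊗[S] KaehlerDifferential R S
  let k : I.Cotangent →ₗ[R] X := (KaehlerDifferential.kerCotangentToTensor R S R).restrictScalars R
  let l' : X →ₗ[R] I.Cotangent :=
    { toFun := fun x => l x
      map_add' := l.map_add
      map_smul' := fun r x => by
        show l (r • x) = r • l x
        rw [← algebraMap_smul S r x, ← algebraMap_smul S r (l x), ← map_smul] }
  haveI : Module.Projective R I.Cotangent := Module.Projective.of_split k l' (LinearMap.ext fun c =>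
    show l (KaehlerDifferential.kerCotangentToTensor R S R c) = c from LinearMap.congr_fun hl c)
  haveI : Module.Finite R X := inferInstance
  haveI : Module.Finite R I.Cotangent := Module.Finite.of_surjective l' fun c => ⟨k c, LinearMap.congr_fun hl c⟩
  haveI : Module.Free R I.Cotangent := Module.free_of_flat_of_isLocalRing
  exact ⟨_, ⟨(Module.finBasis R I.Cotangent).equivFun⟩⟩

/-- Over a noetherian local ring the completion of a smooth algebra along a section is Mittag-Leffler, and it detects
elements of tensor products at the point of the section. -/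
theorem exists_detecting_ml {R S : Type u} [CommRing R] [IsLocalRing R] [IsNoetherianRing R] [CommRing S]
    [Algebra R S] [Algebra.Smooth R S] (σ : S →ₐ[R] R) :
    ∃ (C : Type u) (_ : AddCommGroup C) (_ : Module R C) (j : S →ₗ[R] C), CAlg.IsMittagLeffler R C ∧
      ∀ (M : Type u) [AddCommGroup M] [Module R M] (w : S ⊗[R] M), j.rTensor M w = 0 →
        ∃ t : S, σ t ∉ maximalIdeal R ∧ t • w = 0 := by
  obtain ⟨d, ⟨e⟩⟩ := exists_cotangent_equiv σ
  obtain ⟨eC⟩ := SmoothSect.main σ d e
  let I := RingHom.ker σ.toRingHom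
  let C := AdicCompletion I S
  haveI : IsNoetherianRing S := Algebra.FiniteType.isNoetherianRing R S
  haveI : Module.Flat S C := inferInstance
  let j : S →ₗ[R] C := (IsScalarTower.toAlgHom R S C).toLinearMap
  have hC : CAlg.IsMittagLeffler R C := by
    haveI : IsNoetherianRing R := inferInstance
    let e1 : MvPowerSeries (Fin d) R ≃ₗ[R] (ULift.{u} (Fin d →₀ ℕ) → R) :=
      LinearEquiv.funCongrLeft R R Equiv.ulift
    let ec := eC.toLinearEquiv.trans e1
    exact CAlgUI.ml_of_ui ec.toLinearMap (CAlgUI.ui_of_leftInverse ec.symm.toLinearMap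
      (LinearMap.ext fun x => ec.symm_apply_apply x)) (CAlgUI.ml_powers _)
  refine ⟨C, inferInstance, inferInstance, j, hC, fun M _ _ w hw => ?_⟩
  let ρ : C →ₐ[S] S ⧸ I := AdicCompletion.evalOneₐ I
  by_contra hne
  push Not at hne
  let J := annEl S w
  let z : Ideal S := (maximalIdeal R).comap σ.toRingHom
  have hJz : J ≤ z := fun t ht => by
    by_contra h
    exact hne t h (mem_annEl.1 ht)
  let μ : S ⧸ J →ₗ[S] S ⊗[R] M :=
    Submodule.liftQ J (LinearMap.toSpanSingleton S _ w) (fun a ha => LinearMap.mem_ker.2 (mem_annEl.1 ha))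
  have hμ : Function.Injective μ := by
    rw [← LinearMap.ker_eq_bot, Submodule.eq_bot_iff]
    intro x hx
    obtain ⟨a, rfl⟩ := Submodule.Quotient.mk_surjective J x
    exact (Submodule.Quotient.mk_eq_zero _).2 (mem_annEl.2 hx)
  have key : ∀ v : S ⊗[R] M, (AlgebraTensorModule.cancelBaseChange R S S C M) ((1 : C) ⊗ₜ[S] v) = j.rTensor M v := by
    intro v
    induction v using TensorProduct.induction_on with
    | zero => simp
    | add a b ha hb => rw [tmul_add, map_add, ha, hb, map_add]
    | tmul s m =>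
      show _ = algebraMap S C s ⊗ₜ[R] m
      rw [AlgebraTensorModule.cancelBaseChange_tmul, Algebra.algebraMap_eq_smul_one]
  have h0 : (1 : C) ⊗ₜ[S] (Submodule.Quotient.mk 1 : S ⧸ J) = 0 := by
    refine Module.Flat.lTensor_preserves_injective_linearMap (M := C) μ hμ ?_
    rw [map_zero, LinearMap.lTensor_tmul, show μ (Submodule.Quotient.mk 1) = w from one_smul S w]
    refine (AlgebraTensorModule.cancelBaseChange R S S C M).injective ?_
    rw [key, hw, map_zero]
  have h1 := congrArg (TensorProduct.tensorQuotEquivQuotSMul C J) h0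
  rw [map_zero, show (Submodule.Quotient.mk (1 : S) : S ⧸ J) = Ideal.Quotient.mk J 1 from rfl,
    TensorProduct.tensorQuotEquivQuotSMul_tmul_mk, one_smul, Submodule.Quotient.mk_eq_zero,
    Ideal.smul_top_eq_map, Submodule.restrictScalars_mem] at h1
  have hIz : I ≤ z := fun t ht => by
    show σ t ∈ maximalIdeal R
    rw [show σ t = 0 from ht]
    exact zero_mem _
  have h2 := Ideal.mem_map_of_mem ((Ideal.Quotient.factor hIz).comp ρ.toRingHom) h1
  rw [map_one, Ideal.map_map, show ((Ideal.Quotient.factor hIz).comp ρ.toRingHom).comp (algebraMap S C) =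
    Ideal.Quotient.mk z from RingHom.ext fun s => by
      show Ideal.Quotient.factor hIz (ρ (algebraMap S C s)) = _
      rw [AlgHom.commutes]
      rfl, ← Ideal.eq_top_iff_one] at h2
  have h3 : J.map (Ideal.Quotient.mk z) ≤ ⊥ := (Ideal.map_mono hJz).trans (Ideal.map_quotient_self z).le
  rw [h2] at h3
  refine (Ideal.IsPrime.comap (hK := (maximalIdeal.isMaximal R).isPrime) σ.toRingHom).ne_top ((Ideal.eq_top_iff_one _).2 ?_)
  exact Ideal.Quotient.eq_zero_iff_mem.1 ((Submodule.mem_bot _).1 (h3 (Submodule.mem_top (x := Ideal.Quotient.mk z 1))))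

/-- A smooth algebra with a model over a noetherian local ring, compatibly with sections, is Mittag-Leffler when it
embeds universally in its stalk at the point of the section. -/
theorem ml_of_model {A A2 E E2 : Type u} [CommRing A] [IsLocalRing A] [CommRing A2] [IsLocalRing A2] [IsNoetherianRing A2]
    [Algebra A2 A] [CommRing E] [Algebra A E] [CommRing E2] [Algebra A2 E2] [Algebra.Smooth A2 E2]
    (σ2 : E2 →ₐ[A2] A2) (e2 : A ⊗[A2] E2 ≃ₐ[A] E) (τ : E →ₐ[A] A)
    (hτι : ∀ x : E2, τ (e2 ((1 : A) ⊗ₜ[A2] x)) = algebraMap A2 A (σ2 x))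
    (hloc : ∀ a : A2, algebraMap A2 A a ∈ maximalIdeal A → a ∈ maximalIdeal A2)
    (hpure : ∀ (M : Type u) [AddCommGroup M] [Module A M] (w : E ⊗[A] M),
      (∃ t, τ t ∉ maximalIdeal A ∧ t • w = 0) → w = 0) : CAlg.IsMittagLeffler A E := by
  let ι : E2 →+* E := e2.toAlgHom.toRingHom.comp
    (Algebra.TensorProduct.includeRight (R := A2) (A := A) (B := E2)).toRingHom
  obtain ⟨C, _, _, j, hC, hdet⟩ := exists_detecting_ml σ2
  let Φ : A ⊗[A2] E2 →ₗ[A] A ⊗[A2] C := j.baseChange A
  refine CAlgUI.ml_of_ui (Φ.comp e2.symm.toLinearMap) ?_ (CAlgUI.ml_baseChange hC)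
  intro M _ _
  letI : Module A2 M := Module.compHom M (algebraMap A2 A)
  haveI : IsScalarTower A2 A M := IsScalarTower.of_algebraMap_smul fun _ _ => rfl
  let cx : ∀ (X : Type u) [AddCommGroup X] [Module A2 X], (A ⊗[A2] X) ⊗[A] M ≃+ X ⊗[A2] M := fun X _ _ =>
    (TensorProduct.comm A (A ⊗[A2] X) M).toAddEquiv.trans
      ((AlgebraTensorModule.cancelBaseChange A2 A A M X).toAddEquiv.trans (TensorProduct.comm A2 M X).toAddEquiv)
  have hcx : ∀ (X : Type u) [AddCommGroup X] [Module A2 X] (a : A) (x : X) (m : M),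
      cx X ((a ⊗ₜ[A2] x) ⊗ₜ[A] m) = x ⊗ₜ[A2] (a • m) := fun X _ _ a x m => by
    simp [cx]
  have hnat : ∀ v, cx C (Φ.rTensor M v) = j.rTensor M (cx E2 v) := fun v => by
    induction v using TensorProduct.induction_on with
    | zero => simp
    | add a b ha hb => simp only [map_add, ha, hb]
    | tmul y m =>
      induction y using TensorProduct.induction_on with
      | zero => simp
      | add a b ha hb => simp only [add_tmul, map_add, ha, hb]
      | tmul a x => simp [Φ, hcx]
  let eE : E ⊗[A] M ≃ₗ[A] (A ⊗[A2] E2) ⊗[A] M := e2.symm.toLinearEquiv.rTensor M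
  have hlin : ∀ (t : E2) (v : E ⊗[A] M), cx E2 (eE (ι t • v)) = t • cx E2 (eE v) := fun t v => by
    induction v using TensorProduct.induction_on with
    | zero => simp
    | add a b ha hb => simp only [smul_add, map_add, ha, hb]
    | tmul y m =>
      obtain ⟨y, rfl⟩ := e2.surjective y
      induction y using TensorProduct.induction_on with
      | zero => simp
      | add a b ha hb => simp only [map_add, add_tmul, smul_add, ha, hb]
      | tmul a x =>
        rw [smul_tmul', smul_eq_mul, show ι t = e2 ((1 : A) ⊗ₜ t) from rfl, ← map_mul, Algebra.TensorProduct.tmul_mul_tmul,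
          one_mul]
        show cx E2 ((e2.symm (e2 (a ⊗ₜ (t * x)))) ⊗ₜ[A] m) = t • cx E2 ((e2.symm (e2 (a ⊗ₜ x))) ⊗ₜ[A] m)
        rw [AlgEquiv.symm_apply_apply, AlgEquiv.symm_apply_apply, hcx, hcx, smul_tmul', smul_eq_mul]
  have main : ∀ v : E ⊗[A] M, Φ.rTensor M (eE v) = 0 → v = 0 := fun v hv => by
    obtain ⟨t, ht, htv⟩ := hdet M (cx E2 (eE v)) (by rw [← hnat, hv, map_zero])
    refine hpure M v ⟨ι t, fun h => ht (hloc _ ((hτι t) ▸ h)), ?_⟩
    rw [← hlin] at htv
    exact eE.injective ((cx E2).injective (htv.trans (by rw [map_zero, map_zero])))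
  rw [LinearMap.rTensor_comp, LinearMap.coe_comp]
  refine fun a b hab => sub_eq_zero.1 (main (a - b) ?_)
  rw [map_sub, map_sub]
  exact sub_eq_zero.2 hab

/-- The same, for a model obtained by base change from a ring underneath. -/
theorem ml_of_model' {A A0 A2 E E0 : Type u} [CommRing A] [IsLocalRing A] [CommRing A0] [CommRing A2] [IsLocalRing A2]
    [IsNoetherianRing A2] [Algebra A0 A2] [Algebra A2 A] [Algebra A0 A] [IsScalarTower A0 A2 A] [CommRing E] [Algebra A E]
    [CommRing E0] [Algebra A0 E0] [Algebra.Smooth A0 E0] (e : E ≃ₐ[A] A ⊗[A0] E0) (τ : E →ₐ[A] A)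
    (ψ : E0 →ₐ[A0] A2) (hψ : ∀ x, τ (e.symm ((1 : A) ⊗ₜ[A0] x)) = algebraMap A2 A (ψ x))
    (hloc : ∀ a : A2, algebraMap A2 A a ∈ maximalIdeal A → a ∈ maximalIdeal A2)
    (hpure : ∀ (M : Type u) [AddCommGroup M] [Module A M] (w : E ⊗[A] M),
      (∃ t, τ t ∉ maximalIdeal A ∧ t • w = 0) → w = 0) : CAlg.IsMittagLeffler A E := by
  let E2 := A2 ⊗[A0] E0
  haveI : Algebra.Smooth A2 E2 := inferInstance
  let σ2 : E2 →ₐ[A2] A2 := Algebra.TensorProduct.lift (Algebra.ofId A2 A2) ψ fun _ _ => .all _ _
  let e2 : A ⊗[A2] E2 ≃ₐ[A] E := (Algebra.TensorProduct.cancelBaseChange A0 A2 A A E0).trans e.symm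
  have hτι : ∀ x : E2, τ (e2 ((1 : A) ⊗ₜ[A2] x)) = algebraMap A2 A (σ2 x) := fun x => by
    induction x using TensorProduct.induction_on with
    | zero => simp
    | add a b ha hb => simp only [tmul_add, map_add, ha, hb]
    | tmul a x =>
      show τ (e.symm (Algebra.TensorProduct.cancelBaseChange A0 A2 A A E0 ((1 : A) ⊗ₜ (a ⊗ₜ[A0] x)))) = _
      rw [Algebra.TensorProduct.cancelBaseChange_tmul, Algebra.TensorProduct.lift_tmul, map_mul]
      show τ (e.symm ((a • (1 : A)) ⊗ₜ[A0] x)) = algebraMap A2 A a * algebraMap A2 A (ψ x)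
      rw [← Algebra.algebraMap_eq_smul_one,
        show algebraMap A2 A a ⊗ₜ[A0] x = algebraMap A2 A a • ((1 : A) ⊗ₜ[A0] x) by rw [smul_tmul', smul_eq_mul, mul_one],
        map_smul, map_smul, smul_eq_mul]
      congr 1
      exact hψ x
  exact ml_of_model σ2 e2 τ hτι hloc hpure

/-- A smooth algebra with a section over a local ring is Mittag-Leffler when it embeds universally in its stalk at the
point of the section. -/
theorem ml_of_section {A E : Type u} [CommRing A] [IsLocalRing A] [CommRing E] [Algebra A E] [Algebra.Smooth A E]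
    (τ : E →ₐ[A] A)
    (hpure : ∀ (M : Type u) [AddCommGroup M] [Module A M] (w : E ⊗[A] M),
      (∃ t, τ t ∉ maximalIdeal A ∧ t • w = 0) → w = 0) : CAlg.IsMittagLeffler A E := by
  classical
  obtain ⟨A0, E0, _, _, hA0, hsm, ⟨e⟩⟩ := Algebra.Smooth.exists_subalgebra_fg ℤ A E
  haveI : IsNoetherianRing A0 := by
    haveI : Algebra.FiniteType ℤ A0 := (Subalgebra.fg_iff_finiteType A0).1 hA0
    exact Algebra.FiniteType.isNoetherianRing ℤ A0
  obtain ⟨sg, hsg⟩ := (inferInstance : Algebra.FiniteType A0 E0).out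
  let φ : E0 →ₐ[A0] A := ((τ.comp e.symm.toAlgHom).restrictScalars A0).comp Algebra.TensorProduct.includeRight
  let T : Subalgebra A0 A := Algebra.adjoin A0 ((sg.image φ : Finset A) : Set A)
  haveI : Algebra.FiniteType A0 T := (Subalgebra.fg_iff_finiteType T).1 ⟨sg.image φ, rfl⟩
  haveI : IsNoetherianRing T := Algebra.FiniteType.isNoetherianRing A0 T
  have hφT : ∀ x, φ x ∈ T := fun x => by
    have hx : x ∈ Algebra.adjoin A0 (sg : Set E0) := hsg ▸ Algebra.mem_top
    have h1 : φ x ∈ (Algebra.adjoin A0 (sg : Set E0)).map φ := ⟨x, hx, rfl⟩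
    rw [AlgHom.map_adjoin] at h1
    rw [show T = Algebra.adjoin A0 (φ '' (sg : Set E0)) by simp [T]]
    exact h1
  let q : Ideal T := (maximalIdeal A).comap (algebraMap T A)
  haveI : q.IsPrime := Ideal.comap_isPrime _ _
  let A2 := Localization.AtPrime q
  haveI : IsNoetherianRing A2 := IsLocalization.isNoetherianRing q.primeCompl A2 inferInstance
  have huA : ∀ t : q.primeCompl, IsUnit (algebraMap T A t) := fun t => IsLocalRing.notMem_maximalIdeal.1 t.2
  letI : Algebra A2 A := (IsLocalization.lift (g := algebraMap T A) huA).toAlgebra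
  haveI : IsScalarTower T A2 A := IsScalarTower.of_algebraMap_eq fun t => (IsLocalization.lift_eq huA t).symm
  haveI : IsScalarTower A0 A2 A := IsScalarTower.of_algebraMap_eq fun r => by
    rw [IsScalarTower.algebraMap_apply A0 T A2, ← IsScalarTower.algebraMap_apply T A2 A,
      ← IsScalarTower.algebraMap_apply A0 T A]
  have hloc : ∀ a : A2, algebraMap A2 A a ∈ maximalIdeal A → a ∈ maximalIdeal A2 := fun a ha => by
    by_contra h
    exact (IsLocalRing.mem_maximalIdeal _).1 ha ((IsLocalRing.notMem_maximalIdeal.1 h).map (algebraMap A2 A))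
  exact ml_of_model' (A2 := A2) e τ ((IsScalarTower.toAlgHom A0 T A2).comp (φ.codRestrict T hφT))
    (fun x => (IsLocalization.lift_eq huA (⟨φ x, hφT x⟩ : T)).symm) hloc hpure

/-- Weakly associated primes of tensor products with a smooth algebra are minimal in their fibres. -/
theorem minInFibre_of_weakAss {R E : Type u} [CommRing R] [CommRing E] [Algebra R E] [Algebra.Smooth R E]
    (M : Type u) [AddCommGroup M] [Module R M] (Q : Ideal E) [Q.IsPrime] (hQ : Q ∈ FlatCA.weakAss E (E ⊗[R] M)) :
    MinInFibre R Q := by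
  let p := Q.comap (algebraMap R E)
  haveI : p.IsPrime := Ideal.comap_isPrime _ _
  haveI : Q.LiesOver p := ⟨rfl⟩
  haveI : Module.Flat R E := inferInstance
  obtain ⟨-, hass⟩ := weakAss_tensor_forward E M p Q (EssFPDescent.flat_localizedModule E Q.primeCompl) hQ
  let F := p.Fiber E
  let rid : FlatCA.fiberMod p E E ≃ₗ[F] F := AlgebraTensorModule.rid E (p.Fiber E) (p.Fiber E)
  have hassF : FlatCA.fiberIdeal p Q ∈ associatedPrimes F F := LinearEquiv.AssociatedPrimes.eq rid ▸ hass
  haveI : IsNoetherianRing F := Algebra.FiniteType.isNoetherianRing p.ResidueField _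
  haveI : Nontrivial F := nontrivial_of_ne 0 1 fun h0 => hass.isPrime.ne_top ((Ideal.eq_top_iff_one _).2 (h0 ▸ zero_mem _))
  haveI := DiagThree.isRegularRing_of_smooth_field p.ResidueField F
  have hmin := minimal_of_isAssociatedPrime hassF
  intro η' hη' hle hc
  let o := PrimeSpectrum.preimageOrderIsoFiber R E ⟨p, inferInstance⟩
  let z := o.symm ⟨FlatCA.fiberIdeal p Q, hass.isPrime⟩
  have hz : z.1.asIdeal = Q :=
    le_antisymm (fun a ha => mem_of_mem_fiberIdeal p Q ha) fun a ha => Ideal.mem_map_of_mem _ ha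
  let v : ↥(PrimeSpectrum.comap (algebraMap R E) ⁻¹' {⟨p, inferInstance⟩}) := ⟨⟨η', hη'⟩, PrimeSpectrum.ext hc⟩
  have hvz : v ≤ z := hle.trans_eq hz.symm
  have h1 : o v ≤ ⟨FlatCA.fiberIdeal p Q, hass.isPrime⟩ := o.le_symm_apply.1 hvz
  have h2 : z ≤ v := o.symm_apply_le.2 (hmin.2 ⟨(o v).2, bot_le⟩ h1)
  exact le_antisymm hle (hz.symm.le.trans h2)

/-- Near a prime of the closed fibre, a smooth algebra over a henselian local ring is Mittag-Leffler and embeds
universally in its stalk. -/
theorem exists_ml_nhd {A E : Type u} [CommRing A] [HenselianLocalRing A] [CommRing E] [Algebra A E]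
    [Algebra.Smooth A E] (P : Ideal E) [P.IsPrime] (hP : P.comap (algebraMap A E) = maximalIdeal A)
    {h : E} (hh : h ∉ P) :
    ∃ G : E, h ∣ G ∧ G ∉ P ∧ CAlg.IsMittagLeffler A (Localization.Away G) ∧
      ∀ (M : Type u) [AddCommGroup M] [Module A M] (w : Localization.Away G ⊗[A] M),
        (∃ t ∉ P, algebraMap E (Localization.Away G) t • w = 0) → w = 0 := by
  classical
  obtain ⟨Z, hZ, hPZ, hhZ⟩ : ∃ Z : Ideal E, Z.IsMaximal ∧ P ≤ Z ∧ h ∉ Z := by
    let k := A ⧸ maximalIdeal A
    letI : Field k := Ideal.Quotient.field _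
    letI : Algebra k (E ⧸ P) := (Ideal.quotientMap P (algebraMap A E) hP.ge).toAlgebra
    haveI : IsScalarTower A k (E ⧸ P) := IsScalarTower.of_algebraMap_eq fun _ => rfl
    haveI : Algebra.FiniteType A (E ⧸ P) :=
      Algebra.FiniteType.of_surjective (Ideal.Quotient.mkₐ A P) Ideal.Quotient.mk_surjective
    haveI : Algebra.FiniteType k (E ⧸ P) := Algebra.FiniteType.of_restrictScalars_finiteType A k (E ⧸ P)
    haveI : IsJacobsonRing (E ⧸ P) := isJacobsonRing_of_finiteType (A := k)
    by_contra hne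
    push Not at hne
    have hj : Ideal.Quotient.mk P h ∈ (⊥ : Ideal (E ⧸ P)).jacobson := Ideal.mem_sInf.2 fun J ⟨_, hJ⟩ =>
      hne (J.comap (Ideal.Quotient.mk P)) (Ideal.comap_isMaximal_of_surjective _ Ideal.Quotient.mk_surjective (H := hJ))
        (fun x hx => by
          show Ideal.Quotient.mk P x ∈ J
          rw [Ideal.Quotient.eq_zero_iff_mem.2 hx]
          exact zero_mem J)
    rw [IsJacobsonRing.out' _ ((Ideal.isRadical_bot_iff).2 inferInstance)] at hj
    exact hh (Ideal.Quotient.eq_zero_iff_mem.1 hj)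
  haveI := hZ
  obtain ⟨A', _, _, _, _, _, τ, P', hP'p, hP'z, hzE, hP'E, h', hh', hgen⟩ := exists_section_chart P hP Z hPZ
  haveI := hP'p
  haveI : Algebra.FinitePresentation A A' := by
    haveI : Module.FinitePresentation A A' := Module.finitePresentation_of_projective A A'
    exact Algebra.FinitePresentation.of_finitePresentation A A'
  let E' := A' ⊗[A] E
  let ι := (Algebra.TensorProduct.includeRight (R := A) (A := A') (B := E))
  let z' := (maximalIdeal A').comap τ.toRingHom
  haveI : z'.IsPrime := Ideal.IsPrime.comap (hK := (maximalIdeal.isMaximal A').isPrime) _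
  haveI : Module.Flat E E' := Module.Flat.of_linearEquiv (Algebra.TensorProduct.commRight A E A').symm.toLinearEquiv
  haveI : Algebra.FinitePresentation E E' := Algebra.FinitePresentation.equiv (Algebra.TensorProduct.commRight A E A')
  let H0 := h' * ι h
  have hH0 : H0 ∉ z' := fun hm => ((‹z'.IsPrime›).mem_or_mem hm).elim hh' fun h1 => hhZ (hzE ▸ h1)
  have hopen : IsOpen (PrimeSpectrum.comap (algebraMap E E') '' (PrimeSpectrum.basicOpen H0 : Set (PrimeSpectrum E'))) :=
    PrimeSpectrum.isOpenMap_comap_of_hasGoingDown_of_finitePresentation (R := E) (S := E') _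
      (PrimeSpectrum.basicOpen H0).isOpen
  have hmem : (⟨Z, inferInstance⟩ : PrimeSpectrum E) ∈
      PrimeSpectrum.comap (algebraMap E E') '' (PrimeSpectrum.basicOpen H0 : Set (PrimeSpectrum E')) :=
    ⟨⟨z', inferInstance⟩, hH0, PrimeSpectrum.ext hzE⟩
  obtain ⟨_, ⟨g, rfl⟩, hg, hgsub⟩ :=
    PrimeSpectrum.isTopologicalBasis_basic_opens.exists_subset_of_mem_open hmem hopen
  let G := g * h
  have hGZ : G ∉ Z := fun hm => (hZ.isPrime.mem_or_mem hm).elim hg hhZ
  let H := H0 * ι G
  have hH : H ∉ z' := fun hm => ((‹z'.IsPrime›).mem_or_mem hm).elim hH0 fun h1 => hGZ (hzE ▸ h1)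
  let EG := Localization.Away G
  let S := Localization.Away H
  haveI : Algebra.Smooth A' E' := inferInstance
  haveI : Algebra.Smooth A' S := Algebra.Smooth.comp A' E' S
  have hτH : IsUnit (τ H) := IsLocalRing.notMem_maximalIdeal.1 hH
  let τS : S →ₐ[A'] A' := IsLocalization.liftAlgHom (A := A') (S := S) (M := Submonoid.powers H) (f := τ) fun y => by
    obtain ⟨_, n, rfl⟩ := y
    show IsUnit (τ (H ^ n))
    rw [map_pow]
    exact hτH.pow n
  have hPH : ∀ Q : Ideal S, Q.IsPrime → MinInFibre A' Q → Q.comap (algebraMap E' S) ≤ P' := by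
    intro Q hQ hmin
    refine hgen _ (Ideal.comap_isPrime _ _) (fun hm => hQ.ne_top (Ideal.eq_top_of_isUnit_mem _ hm ?_)) ?_
    · exact isUnit_of_dvd_unit (map_dvd _ (Dvd.intro (ι h * ι G) (by simp only [H, H0]; ring)))
        (IsLocalization.Away.algebraMap_isUnit H)
    · intro η' hη' hle hc
      have hH' : Disjoint (Submonoid.powers H : Set E') η' := (Ideal.disjoint_powers_iff_notMem H hη'.isRadical).2
        fun hm => hQ.ne_top (Ideal.eq_top_of_isUnit_mem _ (hle hm) (IsLocalization.Away.algebraMap_isUnit H))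
      have hcomap : (η'.map (algebraMap E' S)).comap (algebraMap E' S) = η' :=
        IsLocalization.comap_map_of_isPrime_disjoint (Submonoid.powers H) S hη' hH'
      have := hmin _ (IsLocalization.isPrime_of_isPrime_disjoint (Submonoid.powers H) S η' hη' hH')
        (Ideal.map_le_iff_le_comap.2 hle) (by
          rw [IsScalarTower.algebraMap_eq A' E' S, ← Ideal.comap_comap, hcomap, ← Ideal.comap_comap, hc])
      rw [← hcomap, this]
  have hpureS : ∀ (M : Type u) [AddCommGroup M] [Module A' M] (w : S ⊗[A'] M),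
      (∃ t : S, ∃ x : E', x ∉ P' ∧ Associated (algebraMap E' S x) t ∧ t • w = 0) → w = 0 := by
    rintro M _ _ w ⟨t, x, hx, hxt, htw⟩
    by_contra hw
    obtain ⟨Q, hQ⟩ := Ideal.nonempty_minimalPrimes (I := annEl S w) fun htop =>
      hw (by simpa using mem_annEl.1 (htop ▸ Submodule.mem_top : (1 : S) ∈ annEl S w))
    haveI : Q.IsPrime := hQ.1.1
    have h1 := hPH Q inferInstance (minInFibre_of_weakAss M Q (mem_weakAss_iff.2 ⟨w, hQ⟩))
    refine hx (h1 ?_)
    show algebraMap E' S x ∈ Q
    obtain ⟨v, hv⟩ := hxt.symm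
    rw [← hv]
    exact Q.mul_mem_right _ (hQ.1.2 (mem_annEl.2 htw))
  have hmlS : CAlg.IsMittagLeffler A' S := ml_of_section τS fun M _ _ w ⟨t, ht, htw⟩ => by
    obtain ⟨⟨x, s⟩, hxs⟩ := IsLocalization.surj (Submonoid.powers H) t
    refine hpureS M w ⟨t, x, fun hm => ?_, ?_, htw⟩
    · have h1 : τS (algebraMap E' S x) ∈ maximalIdeal A' := by
        rw [show τS (algebraMap E' S x) = τ x from IsLocalization.lift_eq _ x]
        exact hP'z hm
      rw [← hxs, map_mul] at h1
      exact ((maximalIdeal.isMaximal A').isPrime.mem_or_mem h1).elim ht fun h2 =>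
        (IsLocalRing.mem_maximalIdeal _).1 h2 ((IsLocalization.map_units S s).map τS)
    · rw [← hxs]
      exact associated_mul_unit_left t _ (IsLocalization.map_units S s)
  haveI : Module.Finite A A' := inferInstance
  haveI : Module.FinitePresentation A A' := Module.finitePresentation_of_projective A A'
  have hml : CAlg.IsMittagLeffler A S := CAlgUI.ml_restrict_of_fp hmlS
  let ρ : E →+* S := (algebraMap E' S).comp (algebraMap E E')
  have hρu : IsUnit (ρ G) := isUnit_of_dvd_unit (map_dvd (algebraMap E' S) (dvd_mul_left (ι G) H0))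
    (IsLocalization.Away.algebraMap_isUnit H)
  letI : Algebra EG S := (IsLocalization.Away.lift (S := EG) G (g := ρ) hρu).toAlgebra
  haveI : IsScalarTower E EG S := IsScalarTower.of_algebraMap_eq fun x => by
    show algebraMap E S x = IsLocalization.Away.lift (S := EG) G (g := ρ) hρu (algebraMap E EG x)
    rw [IsLocalization.Away.lift_eq, IsScalarTower.algebraMap_apply E E' S]
    rfl
  haveI : IsScalarTower A EG S := IsScalarTower.of_algebraMap_eq fun x => by
    rw [IsScalarTower.algebraMap_apply A E EG, ← IsScalarTower.algebraMap_apply E EG S,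
      IsScalarTower.algebraMap_apply E E' S, IsScalarTower.algebraMap_apply A E' S]
    congr 1
    exact (ι.commutes x).symm
  haveI : Module.Flat E' S := IsLocalization.flat S (Submonoid.powers H)
  haveI : Module.Flat E S := Module.Flat.trans E E' S
  haveI : Module.Flat EG S := (Module.flat_iff_of_isLocalization EG (Submonoid.powers G) S).2 inferInstance
  haveI : Module.FaithfullyFlat EG S := by
    refine Module.FaithfullyFlat.of_comap_surjective fun Q => ?_
    have hGQ : G ∉ Q.asIdeal.comap (algebraMap E EG) := fun hm =>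
      Q.2.ne_top (Ideal.eq_top_of_isUnit_mem _ hm (IsLocalization.Away.algebraMap_isUnit G))
    obtain ⟨Q', hQ', hQQ⟩ := hgsub (show PrimeSpectrum.comap (algebraMap E EG) Q ∈ _ from
      fun hm => hGQ (Ideal.mul_mem_right h _ hm))
    have hHQ' : H ∉ Q'.asIdeal := fun hm => (Q'.2.mem_or_mem hm).elim hQ' fun h1 => hGQ (by
      have := congrArg PrimeSpectrum.asIdeal hQQ
      rw [PrimeSpectrum.comap_asIdeal, PrimeSpectrum.comap_asIdeal] at this
      rw [← this]; exact h1)
    have hd : Disjoint (Submonoid.powers H : Set E') Q'.asIdeal := (Ideal.disjoint_powers_iff_notMem H Q'.2.isRadical).2 hHQ'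
    refine ⟨⟨Q'.asIdeal.map (algebraMap E' S), IsLocalization.isPrime_of_isPrime_disjoint _ S _ Q'.2 hd⟩, ?_⟩
    refine PrimeSpectrum.localization_comap_injective EG (Submonoid.powers G) ?_
    rw [← hQQ, ← PrimeSpectrum.comap_comp_apply, ← IsScalarTower.algebraMap_eq, IsScalarTower.algebraMap_eq E E' S,
      PrimeSpectrum.comap_comp_apply]
    congr 1
    exact PrimeSpectrum.ext (IsLocalization.comap_map_of_isPrime_disjoint (Submonoid.powers H) S Q'.2 hd)
  let jS : EG →ₗ[A] S := (IsScalarTower.toAlgHom A EG S).toLinearMap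
  have hui : CAlgX.UniversallyInjective A jS := fun M _ _ a b hab => by
    let e' := (TensorProduct.rid EG S).restrictScalars A
    have hj : jS = e'.toLinearMap.comp ((TensorProduct.mk EG S EG 1).restrictScalars A) := LinearMap.ext fun x => by
      show algebraMap EG S x = TensorProduct.rid EG S ((1 : S) ⊗ₜ x)
      rw [TensorProduct.rid_tmul, Algebra.algebraMap_eq_smul_one]
    rw [hj, LinearMap.rTensor_comp, LinearMap.comp_apply, LinearMap.comp_apply] at hab
    exact rTensor_mk_injective M ((e'.rTensor M).injective hab)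
  refine ⟨G, dvd_mul_left h g, fun hm => (‹P.IsPrime›.mem_or_mem hm).elim (fun h1 => hg (hPZ h1)) hh,
    CAlgUI.ml_of_ui jS hui hml, fun M _ _ w hw => ?_⟩
  obtain ⟨t, ht, htw⟩ := hw
  letI : Module A M := ‹Module A M›
  let eA' : S ⊗[A'] (A' ⊗[A] M) ≃ₗ[S] S ⊗[A] M := AlgebraTensorModule.cancelBaseChange A A' S S M
  have hsm : ∀ (x : EG) (v : EG ⊗[A] M), jS.rTensor M (x • v) = algebraMap EG S x • jS.rTensor M v := fun x v => by
    induction v using TensorProduct.induction_on with
    | zero => simp
    | add a b ha hb => simp only [smul_add, map_add, ha, hb]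
    | tmul y m =>
      show algebraMap EG S (x * y) ⊗ₜ[A] m = (algebraMap EG S x * algebraMap EG S y) ⊗ₜ[A] m
      rw [map_mul]
  refine hui M ?_
  rw [map_zero, ← eA'.apply_symm_apply (jS.rTensor M w)]
  rw [hpureS (A' ⊗[A] M) (eA'.symm (jS.rTensor M w))
    ⟨algebraMap E S t, algebraMap E E' t, fun hm => ht (hP'E ▸ hm),
      (IsScalarTower.algebraMap_apply E E' S t) ▸ Associated.refl _, ?_⟩, map_zero]
  rw [← map_smul, IsScalarTower.algebraMap_apply E EG S, ← hsm, htw, map_zero, map_zero]

end Groth.Agent.H4RG
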