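import Groth.Prelude
import Groth.Agent.FlatModel.Open
import Groth.Agent.FlatSyz5.Basic
import Groth.Agent.W4Lib.Flat
import Mathlib

/-!
# Universal injectivity spreads out from a point of the base

Over a finitely presented algebra, multiplication by an element on a finitely presented module flat over the base is
universally injective near a prime of the base as soon as it is so at that prime.
-/

set_option autoImplicit false
set_option linter.style.haveILetI false
set_option backward.isDefEq.respectTransparency.types false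

universe u

open TensorProduct

namespace Groth.Agent.H4RG

variable {R S : Type u} [CommRing R] [CommRing S] [Algebra R S]

/-- A map of finitely presented modules with cokernel flat over the base has a finitely generated kernel. -/
theorem ker_fg_of_flat_coker [Algebra.FinitePresentation R S] {M M' : Type u} [AddCommGroup M] [Module S M]
    [Module.Finite S M] [AddCommGroup M'] [Module S M'] [Module R M'] [IsScalarTower R S M']
    [Module.FinitePresentation S M'] (u : M →ₗ[S] M') [Module.Flat R (M' ⧸ LinearMap.range u)] :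
    (LinearMap.ker u).FG := by
  haveI : Module.FinitePresentation S (M' ⧸ LinearMap.range u) :=
    Module.finitePresentation_of_surjective _ (LinearMap.range u).mkQ_surjective (by
      rw [Submodule.ker_mkQ, LinearMap.range_eq_map]
      exact Module.Finite.fg_top.map u)
  obtain ⟨a, π, hπ⟩ := Module.Finite.exists_fin' S M'
  let ρ := (LinearMap.range u).mkQ ∘ₗ π
  haveI := FlatSyz5.fp_ker (A := R) ρ ((LinearMap.range u).mkQ_surjective.comp hπ)
  let r : LinearMap.ker ρ →ₗ[S] LinearMap.range u :=
    (π ∘ₗ (LinearMap.ker ρ).subtype).codRestrict _ fun x => (Submodule.Quotient.mk_eq_zero _).1 x.2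
  have hr : Function.Surjective r := fun y => by
    obtain ⟨x, hx⟩ := hπ y.1
    exact ⟨⟨x, (Submodule.Quotient.mk_eq_zero _).2 (hx ▸ y.2)⟩, Subtype.ext hx⟩
  have hrk : (LinearMap.ker r).FG := by
    refine Submodule.fg_of_fg_map_injective (LinearMap.ker ρ).subtype Subtype.val_injective ?_
    have heq : (LinearMap.ker r).map (LinearMap.ker ρ).subtype = LinearMap.ker π := by
      ext x
      refine ⟨?_, fun hx => ⟨⟨x, show (LinearMap.range u).mkQ (π x) = 0 by rw [LinearMap.mem_ker.1 hx, map_zero]⟩,
        Subtype.ext hx, rfl⟩⟩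
      rintro ⟨y, hy, rfl⟩
      exact congrArg Subtype.val hy
    rw [heq]
    exact Module.FinitePresentation.fg_ker π hπ
  haveI := Module.finitePresentation_of_surjective r hr hrk
  have h := Module.FinitePresentation.fg_ker u.rangeRestrict u.surjective_rangeRestrict
  rwa [LinearMap.ker_rangeRestrict] at h

/-- Multiplication on a tensor product. -/
theorem rTensor_lsmul {M : Type u} [AddCommGroup M] [Module R M] [Module S M] [IsScalarTower R S M] (t : S)
    (X : Type u) [AddCommGroup X] [Module R X] (w : M ⊗[R] X) :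
    ((LinearMap.lsmul S M t).restrictScalars R).rTensor X w = t • w := by
  induction w using TensorProduct.induction_on with
  | zero => simp
  | add a b ha hb => simp only [map_add, smul_add, ha, hb]
  | tmul m x => rfl

/-- A module all whose torsion for an ideal test is killed by powers of an element near the flat primes. -/
theorem exists_flat_nhd_of_base {C : Type u} [AddCommGroup C] [Module R C] [Module S C] [IsScalarTower R S C]
    [Algebra.FinitePresentation R S] [Module.FinitePresentation S C] (p : Ideal R) [p.IsPrime]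
    (hp : ∀ (J : Ideal R) (y : C ⊗[R] J), J.subtype.lTensor C y = 0 → ∃ u ∉ p, u • y = 0) :
    ∃ f ∉ p, Module.Flat R (LocalizedModule (Submonoid.powers (algebraMap R S f)) C) := by
  have hclosed := (FlatModel.isOpen_flatLocus (R := R) (S := S) C).isClosed_compl
  obtain ⟨I, hI⟩ := (PrimeSpectrum.isClosed_iff_zeroLocus_ideal _).1 hclosed
  let W : Submonoid S := p.primeCompl.map (algebraMap R S)
  obtain ⟨f, hf, hfI⟩ : ∃ f ∉ p, algebraMap R S f ∈ I := by
    by_contra hne
    push Not at hne
    have hdisj : Disjoint (I : Set S) (W : Set S) := Set.disjoint_left.2 fun x hx hxW => by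
      obtain ⟨r, hr, rfl⟩ := hxW
      exact hne r hr hx
    obtain ⟨Q, hQ, hIQ, hQW⟩ := Ideal.exists_le_prime_disjoint I W hdisj
    have hmem : (⟨Q, hQ⟩ : PrimeSpectrum S) ∈ PrimeSpectrum.zeroLocus (I : Set S) := hIQ
    rw [← hI] at hmem
    refine hmem ((FlatModel.flat_localized_iff Q.primeCompl (LocalizedModule.mkLinearMap Q.primeCompl C)).2
      fun J y hy => ?_)
    obtain ⟨u, hu, huy⟩ := hp J y hy
    exact ⟨algebraMap R S u, fun h => Set.disjoint_left.1 hQW h ⟨u, hu, rfl⟩, by rw [algebraMap_smul, huy]⟩
  refine ⟨f, hf, (FlatModel.flat_localized_iff (Submonoid.powers (algebraMap R S f))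
    (LocalizedModule.mkLinearMap _ C)).2 fun J y hy => ?_⟩
  by_contra hne
  push Not at hne
  let A : Ideal S := (Submodule.span S {y}).annihilator
  obtain ⟨Q, hQ, hAQ, hQf⟩ := Ideal.exists_le_prime_disjoint A (Submonoid.powers (algebraMap R S f))
    (Set.disjoint_left.2 fun x hx hxf => hne x hxf ((Submodule.mem_annihilator_span_singleton _ _).1 hx))
  have hflat : (⟨Q, hQ⟩ : PrimeSpectrum S) ∈
      {q : PrimeSpectrum S | Module.Flat R (LocalizedModule q.asIdeal.primeCompl C)} := by
    by_contra hn
    have hmem : (⟨Q, hQ⟩ : PrimeSpectrum S) ∈ PrimeSpectrum.zeroLocus (I : Set S) := hI ▸ hn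
    exact Set.disjoint_left.1 hQf (hmem hfI) ⟨1, pow_one _⟩
  obtain ⟨s, hs, hsy⟩ :=
    (FlatModel.flat_localized_iff Q.primeCompl (LocalizedModule.mkLinearMap Q.primeCompl C)).1 hflat J y hy
  exact hs (hAQ ((Submodule.mem_annihilator_span_singleton _ _).2 hsy))

section nhd

variable [Algebra.FinitePresentation R S] {M : Type u} [AddCommGroup M] [Module S M] [Module R M]
  [IsScalarTower R S M] [Module.FinitePresentation S M]

/-- With a flat cokernel, universal injectivity spreads out. -/
theorem exists_ui_of_flat_coker (p : Ideal R) [p.IsPrime] (t : S)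
    [Module.Flat R (M ⧸ LinearMap.range (LinearMap.lsmul S M t))]
    (h0 : ∀ x : M, t • x = 0 → ∃ u ∉ p, u • x = 0) :
    ∃ f ∉ p, ∀ (M' : Type u) [AddCommGroup M'] [Module R M'] (w : M ⊗[R] M'), t • w = 0 → f • w = 0 := by
  classical
  let μ := LinearMap.lsmul S M t
  obtain ⟨G, hG⟩ := ker_fg_of_flat_coker (R := R) μ
  choose! v hv hvx using h0
  refine ⟨∏ x ∈ G, v x, fun h => ?_, fun M' _ _ w hw => ?_⟩
  · obtain ⟨x, hx, hxv⟩ := ‹p.IsPrime›.prod_mem_iff.1 h
    exact hv x (LinearMap.mem_ker.1 (hG ▸ Submodule.subset_span hx)) hxv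
  let μR := μ.restrictScalars R
  let ρ := μR.rangeRestrict
  let i := (LinearMap.range μR).subtype
  let q := ((LinearMap.range μ).mkQ).restrictScalars R
  have hex : Function.Exact i q := fun y => by
    refine ⟨fun hy => ?_, ?_⟩
    · obtain ⟨z, hz⟩ := (Submodule.Quotient.mk_eq_zero _).1 hy
      exact ⟨⟨y, z, hz⟩, rfl⟩
    · rintro ⟨⟨_, z, rfl⟩, rfl⟩
      exact (Submodule.Quotient.mk_eq_zero _).2 ⟨z, rfl⟩
  have hinj : Function.Injective (i.rTensor M') := (LinearMap.lTensor_inj_iff_rTensor_inj M' i).1
    (W4Lib.lTensor_injective_of_flat_quotient (LinearMap.range μR).injective_subtype hex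
      (LinearMap.range μ).mkQ_surjective M')
  have hρ : ρ.rTensor M' w = 0 := hinj (by
    rw [map_zero, ← LinearMap.rTensor_comp_apply, show i.comp ρ = μR from rfl, rTensor_lsmul, hw])
  have hexρ : Function.Exact (LinearMap.ker ρ).subtype ρ := LinearMap.exact_subtype_ker_map ρ
  obtain ⟨z, rfl⟩ := (rTensor_exact M' hexρ μR.surjective_rangeRestrict w).1 hρ
  have hkill : ∀ x ∈ LinearMap.ker μ, (∏ y ∈ G, v y) • x = 0 := fun x hx => by
    rw [← hG] at hx
    induction hx using Submodule.span_induction with
    | mem y hy =>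
      rw [← Finset.prod_erase_mul _ _ hy, mul_smul, hvx y (LinearMap.mem_ker.1 (hG ▸ Submodule.subset_span hy)), smul_zero]
    | zero => exact smul_zero _
    | add a b _ _ ha hb => rw [smul_add, ha, hb, add_zero]
    | smul s a _ ha => rw [smul_comm, ha, smul_zero]
  clear hρ hw
  induction z using TensorProduct.induction_on with
  | zero => simp
  | add a b ha hb => rw [map_add, smul_add, ha, hb, add_zero]
  | tmul x m =>
    rw [LinearMap.rTensor_tmul, smul_tmul', Submodule.subtype_apply,
      hkill x.1 (by
        have := x.2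
        rw [LinearMap.mem_ker] at this
        exact LinearMap.mem_ker.2 (congrArg Subtype.val this)), zero_tmul]

/-- Universal injectivity of a multiplication spreads out from a prime of the base. -/
theorem exists_ui_nhd [Module.Flat R M] (p : Ideal R) [p.IsPrime] (t : S)
    (hp : ∀ (M' : Type u) [AddCommGroup M'] [Module R M'] (w : M ⊗[R] M'), t • w = 0 → ∃ u ∉ p, u • w = 0) :
    ∃ f ∉ p, ∀ (M' : Type u) [AddCommGroup M'] [Module R M'] (w : M ⊗[R] M'),
      t • w = 0 → ∃ k : ℕ, f ^ k • w = 0 := by
  classical
  let μ := LinearMap.lsmul S M t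
  let C := M ⧸ LinearMap.range μ
  let μR := μ.restrictScalars R
  let π := ((LinearMap.range μ).mkQ).restrictScalars R
  have hπ : Function.Surjective π := (LinearMap.range μ).mkQ_surjective
  have hexμ : Function.Exact μR π := LinearMap.exact_map_mkQ_range μ
  haveI : Module.FinitePresentation S C := Module.finitePresentation_of_surjective _ (LinearMap.range μ).mkQ_surjective (by
      rw [Submodule.ker_mkQ, LinearMap.range_eq_map]
      exact Module.Finite.fg_top.map μ)
  -- flatness of the cokernel at the prime
  obtain ⟨f0, hf0, hflat⟩ := exists_flat_nhd_of_base (S := S) (C := C) p fun J y hy => by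
    obtain ⟨z, rfl⟩ := LinearMap.rTensor_surjective J hπ y
    have h1 : π.rTensor R (J.subtype.lTensor M z) = 0 := by
      rw [← LinearMap.comp_apply, LinearMap.rTensor_comp_lTensor, ← LinearMap.lTensor_comp_rTensor,
        LinearMap.comp_apply, hy]
    obtain ⟨m, hm⟩ := (rTensor_exact R hexμ hπ _).1 h1
    rw [rTensor_lsmul] at hm
    have hq : ∀ v, t • J.mkQ.lTensor M v = J.mkQ.lTensor M (t • v) := fun v =>
      ((AlgebraTensorModule.lTensor S M J.mkQ).map_smul t v).symm
    obtain ⟨u, hu, hum⟩ := hp (R ⧸ J) (J.mkQ.lTensor M m) (by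
      rw [hq, hm, ← LinearMap.lTensor_comp_apply, (LinearMap.exact_subtype_mkQ J).linearMap_comp_eq_zero,
        LinearMap.lTensor_zero, LinearMap.zero_apply])
    rw [← map_smul] at hum
    obtain ⟨z', hz'⟩ := (lTensor_exact M (LinearMap.exact_subtype_mkQ J) J.mkQ_surjective _).1 hum
    have h2 : t • z' = u • z := by
      refine Module.Flat.lTensor_preserves_injective_linearMap (M := M) J.subtype Subtype.val_injective ?_
      have hjs : J.subtype.lTensor M (t • z') = t • J.subtype.lTensor M z' :=
        (AlgebraTensorModule.lTensor S M J.subtype).map_smul t z'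
      rw [hjs, hz', map_smul, ← hm, smul_comm]
    refine ⟨u, hu, ?_⟩
    rw [← map_smul, ← h2, ← rTensor_lsmul, ← LinearMap.rTensor_comp_apply, hexμ.linearMap_comp_eq_zero,
      LinearMap.rTensor_zero, LinearMap.zero_apply]
  -- localise
  let g := algebraMap R S f0
  let W := Submonoid.powers g
  let S' := Localization.Away g
  let L := LocalizedModule W M
  haveI : Algebra.FinitePresentation R S' := Algebra.FinitePresentation.trans R S S'
  haveI : Module.FinitePresentation S' L := inferInstanceAs (Module.FinitePresentation (Localization W) L)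
  haveI : Module.Flat R L := by
    rw [FlatModel.flat_localized_iff W (LocalizedModule.mkLinearMap W M)]
    intro J y hy
    exact ⟨1, W.one_mem, by rw [one_smul, Module.Flat.lTensor_preserves_injective_linearMap (M := M) J.subtype
      Subtype.val_injective (hy.trans (map_zero _).symm)]⟩
  let iM := LocalizedModule.mkLinearMap W M
  let t' := algebraMap S S' t
  have ht' : ∀ x : L, t' • x = t • x := fun x => algebraMap_smul S' t x
  haveI : Module.Flat R (L ⧸ LinearMap.range (LinearMap.lsmul S' L t')) := by
    haveI := hflat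
    let iC := LocalizedModule.mkLinearMap W C
    let πL := IsLocalizedModule.map W iM iC (LinearMap.range μ).mkQ
    let μL := IsLocalizedModule.map W iM iM μ
    have hexL : Function.Exact μL πL := IsLocalizedModule.map_exact W iM iM iC μ _ (LinearMap.exact_map_mkQ_range μ)
    have hμL : ∀ x, μL x = t • x := fun x => by
      have : μL = LinearMap.lsmul S L t := IsLocalizedModule.ext W iM (IsLocalizedModule.map_units iM)
        (LinearMap.ext fun y => by
          rw [LinearMap.comp_apply, LinearMap.comp_apply, IsLocalizedModule.map_apply]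
          exact map_smul iM t y)
      rw [this]; rfl
    let μ' := (LinearMap.lsmul S' L t').restrictScalars R
    have hex' : Function.Exact μ' (πL.restrictScalars R) := fun y => by
      rw [show (πL.restrictScalars R) y = πL y from rfl, hexL y]
      exact ⟨fun ⟨x, hx⟩ => ⟨x, (ht' x).trans ((hμL x).symm.trans hx)⟩,
        fun ⟨x, hx⟩ => ⟨x, (hμL x).trans ((ht' x).symm.trans hx)⟩⟩
    have hπL : Function.Surjective πL := IsLocalizedModule.map_surjective W iM iC _ (Submodule.mkQ_surjective _)
    exact Module.Flat.of_linearEquiv ((Submodule.Quotient.restrictScalarsEquiv R _).symm.trans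
      ((Submodule.quotEquivOfEq _ (LinearMap.range μ') (SetLike.ext fun _ => Iff.rfl)).trans
        (hex'.linearEquivOfSurjective hπL)))
  obtain ⟨f1, hf1, hkill⟩ := exists_ui_of_flat_coker (R := R) (S := S') (M := L) p t' fun x hx => by
    obtain ⟨⟨n, s⟩, hs⟩ := IsLocalizedModule.surj W iM x
    have h1 : iM (t • n) = 0 := by rw [map_smul, ← hs, smul_comm, ← ht', hx, smul_zero]
    obtain ⟨⟨_, k, rfl⟩, hk⟩ := (IsLocalizedModule.eq_zero_iff W iM).1 h1
    obtain ⟨u, hu, hun⟩ := hp R ((g ^ k • n) ⊗ₜ[R] (1 : R)) (by
      rw [smul_tmul', smul_comm, show g ^ k • t • n = 0 from hk, zero_tmul])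
    refine ⟨u, hu, ?_⟩
    have h2 : u • g ^ k • n = 0 := by
      have := congrArg (TensorProduct.rid R M) hun
      simpa using this
    refine ((Module.End.isUnit_iff _).1 (IsLocalizedModule.map_units iM (⟨g ^ k, k, rfl⟩ * s : W))).1 ?_
    show ((g ^ k * s : S)) • (u • x) = ((g ^ k * s : S)) • (0 : L)
    rw [smul_zero, mul_smul, smul_comm (s : S) u, ← Submonoid.smul_def s x, hs, smul_comm, ← map_smul,
      ← LinearMap.map_smul_of_tower, h2, map_zero]
  refine ⟨f0 * f1, fun h => (‹p.IsPrime›.mem_or_mem h).elim hf0 hf1, fun M' _ _ w hw => ?_⟩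
  let φ : M ⊗[R] M' →ₗ[S] L ⊗[R] M' := AlgebraTensorModule.rTensor R M' iM
  have hφt : t' • φ w = 0 := by rw [algebraMap_smul, ← map_smul, hw, map_zero]
  have h1 : φ (f1 • w) = 0 := by rw [LinearMap.map_smul_of_tower, hkill M' (φ w) hφt]
  obtain ⟨⟨_, k, rfl⟩, hk⟩ := (IsLocalizedModule.eq_zero_iff W φ).1 h1
  refine ⟨k + 1, ?_⟩
  have hk' : (f0 ^ k) • f1 • w = 0 := by
    rw [← algebraMap_smul S (f0 ^ k), map_pow]
    exact hk
  rw [mul_pow, pow_succ f1, show f0 ^ (k + 1) * (f1 ^ k * f1) = (f0 * f1 ^ k) * (f0 ^ k * f1) by ring,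
    mul_smul _ (f0 ^ k * f1), mul_smul (f0 ^ k), hk', smul_zero]

end nhd

section fibre

variable {K : Type u} [Field K] [Algebra R K]

/-- A matrix injective at a point with values in fractions is injective up to an element nonzero at the point. -/
theorem exists_adjugate {m n : Type} [Fintype m] [Fintype n] [DecidableEq m] [DecidableEq n] (A : Matrix m n R)
    (hK : ∀ x : K, ∃ r u : R, algebraMap R K u ≠ 0 ∧ algebraMap R K u * x = algebraMap R K r)
    (h : Function.Injective (A.map (algebraMap R K)).mulVec) :
    ∃ d : R, algebraMap R K d ≠ 0 ∧ ∃ V : Matrix n m R, V * A = d • (1 : Matrix n n R) := by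
  obtain ⟨l, hl⟩ := LinearMap.exists_leftInverse_of_injective (A.map (algebraMap R K)).mulVecLin
    (LinearMap.ker_eq_bot.2 h)
  let L := LinearMap.toMatrix' l
  have hL : L * A.map (algebraMap R K) = 1 := by
    apply Matrix.toLin'.injective
    rw [Matrix.toLin'_mul, Matrix.toLin'_toMatrix', Matrix.toLin'_one]
    exact hl
  choose r v hv hvr using hK
  let c := ∏ i : n × m, v (L i.1 i.2)
  have hc : algebraMap R K c ≠ 0 := by
    rw [map_prod]
    exact Finset.prod_ne_zero_iff.2 fun i _ => hv _
  have hent : ∀ i j, ∃ b : R, algebraMap R K b = algebraMap R K c * L i j := fun i j => by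
    obtain ⟨e, he⟩ := Finset.dvd_prod_of_mem (fun k : n × m => v (L k.1 k.2)) (Finset.mem_univ (i, j))
    refine ⟨e * r (L i j), ?_⟩
    rw [show c = v (L i j) * e from he, map_mul, map_mul, ← hvr (L i j)]
    ring
  choose B hB using hent
  let B' : Matrix n m R := Matrix.of B
  have hBA : (B' * A).map (algebraMap R K) = algebraMap R K c • (1 : Matrix n n K) := by
    rw [Matrix.map_mul, show B'.map (algebraMap R K) = algebraMap R K c • L from Matrix.ext fun i j => hB i j,
      Matrix.smul_mul, hL]
  refine ⟨(B' * A).det, ?_, (B' * A).adjugate * B', ?_⟩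
  · rw [RingHom.map_det]
    show ((B' * A).map (algebraMap R K)).det ≠ 0
    rw [hBA, Matrix.det_smul, Matrix.det_one, mul_one]
    exact pow_ne_zero _ hc
  · rw [Matrix.mul_assoc, Matrix.adjugate_mul]

theorem exists_smul_of_fibre_inj {m n : Type} [Fintype m] [Fintype n] [DecidableEq m] [DecidableEq n]
    (U : (n → R) →ₗ[R] (m → R))
    (hK : ∀ x : K, ∃ r u : R, algebraMap R K u ≠ 0 ∧ algebraMap R K u * x = algebraMap R K r)
    (h : Function.Injective (U.rTensor K)) :
    ∃ d : R, algebraMap R K d ≠ 0 ∧ ∃ V : (m → R) →ₗ[R] (n → R), V.comp U = d • LinearMap.id := by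
  let A := LinearMap.toMatrix' U
  have hinj : Function.Injective (A.map (algebraMap R K)).mulVec := by
    intro v v' hvv
    let e : (n → K) →+ (n → R) ⊗[R] K :=
      { toFun := fun v => ∑ i, (Pi.single i (1 : R) : n → R) ⊗ₜ[R] v i
        map_zero' := by simp
        map_add' := fun a b => by simp [tmul_add, Finset.sum_add_distrib] }
    have hcol : ∀ i, U (Pi.single i 1) = ∑ j, A j i • (Pi.single j (1 : R) : m → R) := fun i => by
      have hA : ∀ j, A j i = U (Pi.single i 1) j := fun j => by
        simp [A, LinearMap.toMatrix'_apply, ← Pi.single_apply]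
      simp_rw [hA]
      exact pi_eq_sum_univ' _
    have he : ∀ v, U.rTensor K (e v) = ∑ j, (Pi.single j (1 : R) : m → R) ⊗ₜ[R] (A.map (algebraMap R K)).mulVec v j := by
      intro v
      show U.rTensor K (∑ i, _) = _
      simp only [map_sum, LinearMap.rTensor_tmul, hcol, sum_tmul, smul_tmul, Matrix.mulVec, dotProduct,
        Matrix.map_apply, tmul_sum, ← Algebra.smul_def]
      exact Finset.sum_comm
    have h1 : e v = e v' := h (by rw [he, he, hvv])
    funext i
    have h2 := congrArg ((TensorProduct.lid R K).toLinearMap.comp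
      ((LinearMap.proj i : (n → R) →ₗ[R] R).rTensor K)) h1
    simpa [e, Pi.single_apply, ite_tmul, Finset.sum_ite_eq, apply_ite] using h2
  obtain ⟨d, hd, V, hV⟩ := exists_adjugate A hK hinj
  refine ⟨d, hd, Matrix.toLin' V, ?_⟩
  rw [← Matrix.toLin'_toMatrix' U, ← Matrix.toLin'_mul, hV, map_smul, Matrix.toLin'_one]

/-- A map of free modules injective at a point is universally injective at that point. -/
theorem exists_smul_eq_zero_of_finsupp {ι κ : Type u}
    (hK : ∀ x : K, ∃ r u : R, algebraMap R K u ≠ 0 ∧ algebraMap R K u * x = algebraMap R K r)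
    (φ : (ι →₀ R) →ₗ[R] (κ →₀ R)) (h : Function.Injective (φ.rTensor K))
    (M' : Type u) [AddCommGroup M'] [Module R M'] (w : (ι →₀ R) ⊗[R] M') (hw : φ.rTensor M' w = 0) :
    ∃ u : R, algebraMap R K u ≠ 0 ∧ u • w = 0 := by
  classical
  obtain ⟨k, x, m, rfl⟩ := TensorProduct.exists_sum_tmul_eq w
  let s : Finset ι := Finset.univ.biUnion fun j => (x j).support
  let n := s.card
  let es : Fin n → ι := fun a => (s.equivFin.symm a).1
  let ext_ : (Fin n → R) →ₗ[R] (ι →₀ R) := Fintype.linearCombination R fun a => Finsupp.single (es a) 1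
  let res : (ι →₀ R) →ₗ[R] (Fin n → R) := LinearMap.pi fun a => Finsupp.lapply (es a)
  have hes : Function.Injective es := fun a b hab => s.equivFin.symm.injective (Subtype.ext hab)
  have hre : res.comp ext_ = LinearMap.id := LinearMap.ext fun v => funext fun a => by
    simp [res, ext_, Fintype.linearCombination_apply, Finsupp.single_apply, hes.eq_iff]
  have her : ∀ j, ext_ (res (x j)) = x j := fun j => Finsupp.ext fun i => by
    simp only [ext_, res, Fintype.linearCombination_apply, LinearMap.pi_apply, Finsupp.lapply_apply,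
      Finsupp.smul_single, smul_eq_mul, mul_one, Finsupp.finset_sum_apply, Finsupp.single_apply]
    by_cases hi : i ∈ s
    · rw [Finset.sum_eq_single (s.equivFin ⟨i, hi⟩)]
      · simp [es]
      · intro b _ hb
        rw [if_neg fun hbi => hb (by
          rw [← s.equivFin.apply_symm_apply b]
          exact congrArg _ (Subtype.ext hbi))]
      · simp
    · rw [Finset.sum_eq_zero fun b _ => if_neg fun hbi : es b = i => hi (hbi ▸ (s.equivFin.symm b).2)]
      symm
      by_contra hne
      exact hi (Finset.mem_biUnion.2 ⟨j, Finset.mem_univ _, Finsupp.mem_support_iff.2 hne⟩)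
  let T : Finset κ := Finset.univ.biUnion fun a : Fin n => (φ (Finsupp.single (es a) 1)).support
  let N := T.card
  let eT : Fin N → κ := fun a => (T.equivFin.symm a).1
  let resT : (κ →₀ R) →ₗ[R] (Fin N → R) := LinearMap.pi fun a => Finsupp.lapply (eT a)
  let extT : (Fin N → R) →ₗ[R] (κ →₀ R) := Fintype.linearCombination R fun a => Finsupp.single (eT a) 1
  have hT : extT.comp (resT.comp (φ.comp ext_)) = φ.comp ext_ := by
    refine LinearMap.pi_ext' fun a => LinearMap.ext_ring ?_
    have hsupp : (φ (Finsupp.single (es a) 1)).support ⊆ T := Finset.subset_biUnion_of_mem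
      (fun a : Fin n => (φ (Finsupp.single (es a) 1)).support) (Finset.mem_univ a)
    have hsingle : ext_ (Pi.single a 1) = Finsupp.single (es a) 1 := by
      simp [ext_, Fintype.linearCombination_apply_single]
    simp only [LinearMap.comp_apply, LinearMap.coe_single, hsingle]
    refine Finsupp.ext fun i => ?_
    simp only [extT, resT, Fintype.linearCombination_apply, LinearMap.pi_apply, Finsupp.lapply_apply,
      Finsupp.smul_single, smul_eq_mul, mul_one, Finsupp.finset_sum_apply, Finsupp.single_apply]
    by_cases hi : i ∈ T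
    · rw [Finset.sum_eq_single (T.equivFin ⟨i, hi⟩)]
      · simp [eT]
      · intro b _ hb
        rw [if_neg fun hbi => hb (by
          rw [← T.equivFin.apply_symm_apply b]
          exact congrArg _ (Subtype.ext hbi))]
      · simp
    · rw [Finset.sum_eq_zero fun b _ => if_neg fun hbi : eT b = i => hi (hbi ▸ (T.equivFin.symm b).2)]
      symm
      by_contra hne
      exact hi (hsupp (Finsupp.mem_support_iff.2 hne))
  let U := resT.comp (φ.comp ext_)
  have hUinj : Function.Injective (U.rTensor K) := by
    have h1 : Function.Injective ((φ.comp ext_).rTensor K) := by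
      rw [LinearMap.rTensor_comp, LinearMap.coe_comp]
      refine h.comp (Function.LeftInverse.injective (g := res.rTensor K) fun v => ?_)
      rw [← LinearMap.rTensor_comp_apply, hre, LinearMap.rTensor_id, LinearMap.id_apply]
    rw [← hT, LinearMap.rTensor_comp, LinearMap.coe_comp] at h1
    exact h1.of_comp
  obtain ⟨d, hd, V, hV⟩ := exists_smul_of_fibre_inj U hK hUinj
  refine ⟨d, hd, ?_⟩
  have hw' : ∑ j, x j ⊗ₜ[R] m j = ext_.rTensor M' (∑ j, res (x j) ⊗ₜ[R] m j) := by
    simp only [map_sum, LinearMap.rTensor_tmul, her]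
  rw [hw'] at hw ⊢
  generalize ∑ j, res (x j) ⊗ₜ[R] m j = v at hw
  have h3 : U.rTensor M' v = 0 := by
    rw [LinearMap.rTensor_comp_apply, LinearMap.rTensor_comp_apply, hw, map_zero]
  have h4 : d • v = 0 := by
    have := congrArg (V.rTensor M') h3
    rwa [← LinearMap.rTensor_comp_apply, hV, LinearMap.rTensor_smul, LinearMap.rTensor_id, map_zero] at this
  rw [← map_smul, h4, map_zero]

/-- An endomorphism of a projective module injective at a point is universally injective at that point. -/
theorem exists_smul_eq_zero_of_projective {M : Type u} [AddCommGroup M] [Module R M] [Module.Projective R M]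
    (hK : ∀ x : K, ∃ r u : R, algebraMap R K u ≠ 0 ∧ algebraMap R K u * x = algebraMap R K r)
    (t : M →ₗ[R] M) (h : Function.Injective (t.rTensor K))
    (M' : Type u) [AddCommGroup M'] [Module R M'] (w : M ⊗[R] M') (hw : t.rTensor M' w = 0) :
    ∃ u : R, algebraMap R K u ≠ 0 ∧ u • w = 0 := by
  classical
  obtain ⟨j, hj⟩ := Module.projective_def'.1 ‹Module.Projective R M›
  let r : (M →₀ R) →ₗ[R] M := Finsupp.linearCombination R id
  let P := (LinearMap.prod (j.comp (t.comp r)) (LinearMap.id - j.comp r) :
    (M →₀ R) →ₗ[R] (M →₀ R) × (M →₀ R))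
  let e := Finsupp.sumFinsuppLEquivProdFinsupp (α := M) (β := M) R (M := R)
  let φ := e.symm.toLinearMap.comp P
  have hrj : ∀ (X : Type u) [AddCommGroup X] [Module R X] (v : M ⊗[R] X), r.rTensor X (j.rTensor X v) = v := by
    intro X _ _ v
    rw [← LinearMap.rTensor_comp_apply, hj, LinearMap.rTensor_id, LinearMap.id_apply]
  have hsplit : ∀ (X : Type u) [AddCommGroup X] [Module R X] (v : (M →₀ R) ⊗[R] X), φ.rTensor X v = 0 →
      t.rTensor X (r.rTensor X v) = 0 ∧ v = j.rTensor X (r.rTensor X v) := by
    intro X _ _ v hv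
    have hv' : P.rTensor X v = 0 := by
      have := congrArg (e.toLinearMap.rTensor X) hv
      rwa [← LinearMap.rTensor_comp_apply, ← LinearMap.comp_assoc, e.comp_symm, LinearMap.id_comp, map_zero] at this
    have h1 := congrArg ((LinearMap.fst R (M →₀ R) (M →₀ R)).rTensor X) hv'
    have h2 := congrArg ((LinearMap.snd R (M →₀ R) (M →₀ R)).rTensor X) hv'
    rw [← LinearMap.rTensor_comp_apply, map_zero, LinearMap.fst_prod] at h1
    rw [← LinearMap.rTensor_comp_apply, map_zero, LinearMap.snd_prod] at h2
    constructor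
    · have := congrArg (r.rTensor X) h1
      rwa [LinearMap.rTensor_comp_apply, LinearMap.rTensor_comp_apply, hrj, map_zero] at this
    · rw [LinearMap.rTensor_sub, LinearMap.rTensor_id] at h2
      change v - (j.comp r).rTensor X v = 0 at h2
      rw [LinearMap.rTensor_comp_apply, sub_eq_zero] at h2
      exact h2
  have hφ : Function.Injective (φ.rTensor K) := by
    rw [injective_iff_map_eq_zero]
    intro v hv
    obtain ⟨h1, h2⟩ := hsplit K v hv
    rw [h2, h (h1.trans (map_zero _).symm), map_zero]
  have h0 : φ.rTensor M' (j.rTensor M' w) = 0 := by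
    rw [← LinearMap.rTensor_comp_apply]
    have : φ.comp j = e.symm.toLinearMap.comp (LinearMap.prod (j.comp t) 0) := LinearMap.ext fun x => by
      have hx : r (j x) = x := LinearMap.congr_fun hj x
      simp [φ, P, hx]
    rw [this, show LinearMap.prod (j.comp t) (0 : M →ₗ[R] (M →₀ R)) = (LinearMap.inl R _ _).comp (j.comp t) from
      LinearMap.ext fun x => by simp, ← LinearMap.comp_assoc, ← LinearMap.comp_assoc, LinearMap.rTensor_comp_apply,
      hw, map_zero]
  obtain ⟨u, hu, huw⟩ := exists_smul_eq_zero_of_finsupp hK φ hφ M' _ h0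
  refine ⟨u, hu, ?_⟩
  rw [← hrj M' w, ← map_smul, huw, map_zero]

end fibre

end Groth.Agent.H4RG
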