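import Groth.Prelude
import Groth.Agent.H4RG.UISpread
import Mathlib

/-!
# Fibre modules as tensor products, and multiplications on projective modules
-/

set_option autoImplicit false
set_option linter.style.haveILetI false
set_option backward.isDefEq.respectTransparency.types false

universe u

open TensorProduct

namespace Groth.Agent.H4RG

attribute [local instance] Algebra.TensorProduct.rightAlgebra

variable {R S : Type u} [CommRing R] [CommRing S] [Algebra R S] (N : Type u) [AddCommGroup N] [Module S N] [Module R N]
  [IsScalarTower R S N]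

/-- The fibre module is the tensor product with the residue field, linearly over the algebra. -/
theorem exists_fiber_equiv (p : Ideal R) [p.IsPrime] : Nonempty (N ⊗[R] p.ResidueField ≃ₗ[S] FlatCA.fiberMod p S N) := by
  let κ := p.ResidueField
  let F := p.Fiber S
  haveI : Algebra.IsPushout R κ S F := inferInstance
  let ψ : N ⊗[R] κ →ₗ[S] F ⊗[S] N :=
    AlgebraTensorModule.lift
      { toFun := fun n =>
          { toFun := fun c => algebraMap κ F c ⊗ₜ[S] n
            map_add' := fun a b => by rw [map_add, add_tmul]
            map_smul' := fun r c => by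
              rw [RingHom.id_apply, Algebra.smul_def, map_mul, ← IsScalarTower.algebraMap_apply, ← Algebra.smul_def,
                smul_tmul'] }
        map_add' := fun a b => LinearMap.ext fun c => tmul_add _ _ _
        map_smul' := fun s a => LinearMap.ext fun c => by
          show algebraMap κ F c ⊗ₜ[S] (s • a) = s • (algebraMap κ F c ⊗ₜ[S] a)
          rw [tmul_smul] }
  refine ⟨LinearEquiv.ofBijective (ψ : N ⊗[R] κ →ₗ[S] F ⊗[S] N) ?_⟩
  let e := (TensorProduct.comm R N κ).toAddEquiv.trans (Algebra.IsPushout.cancelBaseChange R κ S F N).symm.toAddEquiv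
  have he : ∀ w, ψ w = e w := fun w => by
    induction w using TensorProduct.induction_on with
    | zero => simp
    | add a b ha hb => simp only [map_add, ha, hb]
    | tmul n c => exact (Algebra.IsPushout.cancelBaseChange_symm_tmul R κ S F N c n).symm
  rw [show (ψ : N ⊗[R] κ → F ⊗[S] N) = e from funext he]
  exact e.bijective

/-- A multiplication bijective on a field fibre of a projective module is injective on every fibre nearby. -/
theorem eq_zero_of_projective [Module.Projective R N] {K : Type u} [Field K] [Algebra R K]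
    (hK : ∀ x : K, ∃ r u : R, algebraMap R K u ≠ 0 ∧ algebraMap R K u * x = algebraMap R K r) (t : S)
    (ht : ∀ w : N ⊗[R] K, t • w = 0 → w = 0) (M' : Type u) [AddCommGroup M'] [Module R M'] (w : N ⊗[R] M')
    (hw : t • w = 0) : ∃ v : R, algebraMap R K v ≠ 0 ∧ v • w = 0 := by
  let tR := (LinearMap.lsmul S N t).restrictScalars R
  have hinj : Function.Injective (tR.rTensor K) := by
    rw [injective_iff_map_eq_zero]
    intro x hx
    exact ht x (by rw [← rTensor_lsmul]; exact hx)
  exact exists_smul_eq_zero_of_projective hK tR hinj M' w (by rw [rTensor_lsmul, hw])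

omit [Module S N] [IsScalarTower R S N] in
/-- The residue field of a prime is made of fractions. -/
theorem residueField_frac (p : Ideal R) [p.IsPrime] (x : p.ResidueField) :
    ∃ r u : R, algebraMap R p.ResidueField u ≠ 0 ∧ algebraMap R p.ResidueField u * x = algebraMap R p.ResidueField r := by
  obtain ⟨a, b, hb, rfl⟩ := IsFractionRing.div_surjective (R ⧸ p) x
  obtain ⟨a, rfl⟩ := Ideal.Quotient.mk_surjective a
  obtain ⟨b, rfl⟩ := Ideal.Quotient.mk_surjective b
  have hb' : algebraMap (R ⧸ p) p.ResidueField (Ideal.Quotient.mk p b) ≠ 0 :=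
    IsFractionRing.to_map_ne_zero_of_mem_nonZeroDivisors hb
  refine ⟨a, b, ?_, ?_⟩
  · rwa [IsScalarTower.algebraMap_apply R (R ⧸ p) p.ResidueField]
  · rw [IsScalarTower.algebraMap_apply R (R ⧸ p) p.ResidueField, IsScalarTower.algebraMap_apply R (R ⧸ p) p.ResidueField]
    exact mul_div_cancel₀ _ hb'

/-- An element lying in an associated prime annihilates a nonzero element. -/
theorem exists_smul_eq_zero_of_mem_assoc {F M : Type u} [CommRing F] [AddCommGroup M] [Module F M] {P : Ideal F}
    (hP : P ∈ associatedPrimes F M) {x : F} (hx : x ∈ P) : ∃ m : M, m ≠ 0 ∧ x • m = 0 := by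
  obtain ⟨hprime, m, hm⟩ := hP
  have hm0 : m ≠ 0 := fun h0 => hprime.ne_top (by
    rw [hm, h0, Ideal.eq_top_iff_one]
    exact Ideal.le_radical (by simp [Submodule.mem_colon_singleton]))
  rw [hm] at hx
  obtain ⟨k, hk⟩ := hx
  rw [Submodule.mem_colon_singleton, Submodule.mem_bot] at hk
  classical
  obtain ⟨j, hj, hjmin⟩ : ∃ j, x ^ j • m = 0 ∧ ∀ i < j, x ^ i • m ≠ 0 :=
    ⟨Nat.find (p := fun j => x ^ j • m = 0) ⟨k, hk⟩, Nat.find_spec (p := fun j => x ^ j • m = 0) ⟨k, hk⟩,
      fun i hi => Nat.find_min (p := fun j => x ^ j • m = 0) ⟨k, hk⟩ hi⟩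
  rcases j with _ | j
  · rw [pow_zero, one_smul] at hj
    exact absurd hj hm0
  · exact ⟨x ^ j • m, hjmin j (Nat.lt_succ_self j), by rw [smul_smul, ← pow_succ', hj]⟩

end Groth.Agent.H4RG
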