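import Groth.Prelude
import Groth.Agent.H4RG.PureNear
import Mathlib

/-!
# Flatness and tensor products along a base change of the base ring
-/

set_option autoImplicit false
set_option linter.style.haveILetI false
set_option backward.isDefEq.respectTransparency.types false

universe u

open TensorProduct IsLocalRing

namespace Groth.Agent.H4RG

/-- Over a henselian local ring, a finite module flat at a point of the closed fibre is pure near that point. -/
theorem pureNear_of_flatAt {R S : Type u} [CommRing R] [HenselianLocalRing R] [CommRing S] [Algebra R S]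
    [Algebra.FiniteType R S] (N : Type u) [AddCommGroup N] [Module S N] [Module R N] [IsScalarTower R S N]
    [Module.Finite S N] (P : Ideal S) [P.IsPrime] (hP : P.comap (algebraMap R S) = maximalIdeal R)
    (hflat : Module.Flat R (LocalizedModule P.primeCompl N)) : PureNear R N P := by
  obtain ⟨n, φ, hφ⟩ := Algebra.FiniteType.iff_quotient_mvPolynomial''.1 ‹Algebra.FiniteType R S›
  letI : Algebra (MvPolynomial (Fin n) R) S := φ.toRingHom.toAlgebra
  haveI : IsScalarTower R (MvPolynomial (Fin n) R) S := IsScalarTower.of_algebraMap_eq fun r => (φ.commutes r).symm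
  haveI : Module.Finite (MvPolynomial (Fin n) R) S := Module.Finite.of_surjective (Algebra.linearMap _ S) hφ
  exact pureNear_step (pureNearAt n) P hP N hflat

section bc

variable {R S A SA : Type u} [CommRing R] [CommRing S] [CommRing A] [CommRing SA] [Algebra R S] [Algebra R A]
  [Algebra R SA] [Algebra S SA] [Algebra A SA] [IsScalarTower R S SA] [IsScalarTower R A SA]
  [Algebra.IsPushout R S A SA]
  {N : Type u} [AddCommGroup N] [Module S N] [Module R N] [IsScalarTower R S N]
  {NA : Type u} [AddCommGroup NA] [Module SA NA] [Module S NA] [IsScalarTower S SA NA]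
  [Module A NA] [IsScalarTower A SA NA]
  (M : Type u) [AddCommGroup M] [Module A M] [Module R M] [IsScalarTower R A M]

/-- A base change along a pushout of rings is a base change along the base. -/
theorem exists_tensor_equiv (f : N →ₗ[S] NA) (hf : IsBaseChange SA f) :
    ∃ ψ : N ⊗[R] M →+ NA ⊗[A] M, Function.Bijective ψ ∧ (∀ n m, ψ (n ⊗ₜ[R] m) = f n ⊗ₜ[A] m) ∧
      ∀ (s : S) z, ψ (s • z) = algebraMap S SA s • ψ z := by
  haveI : Algebra.IsPushout R A S SA := Algebra.IsPushout.symm inferInstance
  letI : Module R NA := Module.compHom NA (algebraMap R A)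
  haveI : IsScalarTower R A NA := IsScalarTower.of_algebraMap_smul fun _ _ => rfl
  haveI : IsScalarTower R S NA := IsScalarTower.of_algebraMap_smul fun r x => by
    show algebraMap R S r • x = algebraMap R A r • x
    rw [← algebraMap_smul SA (algebraMap R S r) x, ← algebraMap_smul SA (algebraMap R A r) x,
      ← IsScalarTower.algebraMap_apply, ← IsScalarTower.algebraMap_apply]
  let e1 : SA ⊗[S] N ≃ₗ[A] A ⊗[R] N := Algebra.IsPushout.cancelBaseChange R A S SA N
  let e : A ⊗[R] N ≃ₗ[A] NA := e1.symm.trans (hf.equiv.restrictScalars A)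
  have he : ∀ n, e ((1 : A) ⊗ₜ[R] n) = f n := fun n => by
    show hf.equiv (e1.symm ((1 : A) ⊗ₜ[R] n)) = f n
    rw [Algebra.IsPushout.cancelBaseChange_symm_tmul, map_one, hf.equiv_tmul, one_smul]
  let ψ0 : N ⊗[R] M ≃+ NA ⊗[A] M :=
    (TensorProduct.comm R N M).toAddEquiv.trans
      (((AlgebraTensorModule.cancelBaseChange R A A M N).symm.trans (LinearEquiv.lTensor M e)).trans
        (TensorProduct.comm A M NA)).toAddEquiv
  have hψ : ∀ n m, ψ0 (n ⊗ₜ[R] m) = f n ⊗ₜ[A] m := fun n m => by
    show (TensorProduct.comm A M NA) (LinearEquiv.lTensor M e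
      ((AlgebraTensorModule.cancelBaseChange R A A M N).symm (m ⊗ₜ[R] n))) = _
    rw [AlgebraTensorModule.cancelBaseChange_symm_tmul]
    simp [he]
  refine ⟨ψ0.toAddMonoidHom, ψ0.bijective, hψ, fun s z => ?_⟩
  induction z using TensorProduct.induction_on with
  | zero => simp
  | add a b ha hb => rw [smul_add, map_add, map_add, ha, hb, smul_add]
  | tmul n m =>
    show ψ0 (s • n ⊗ₜ[R] m) = algebraMap S SA s • ψ0 (n ⊗ₜ[R] m)
    rw [smul_tmul', hψ, hψ, smul_tmul', map_smul, algebraMap_smul]

/-- Flatness at a prime survives a base change of the base. -/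
theorem flat_at_bc (f : N →ₗ[S] NA) (hf : IsBaseChange SA f) (q : Ideal S) [q.IsPrime] (Q : Ideal SA) [Q.IsPrime]
    (hQ : Q.comap (algebraMap S SA) ≤ q) [Module.Flat R (LocalizedModule q.primeCompl N)] :
    Module.Flat A (LocalizedModule Q.primeCompl NA) := by
  rw [FlatModel.flat_localized_iff Q.primeCompl (LocalizedModule.mkLinearMap Q.primeCompl NA)]
  intro J y hy
  obtain ⟨ψ, hψ, hψt, hψs⟩ := exists_tensor_equiv (R := R) (A := A) J f hf
  obtain ⟨ψ', hψ', hψt', -⟩ := exists_tensor_equiv (R := R) (A := A) A f hf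
  obtain ⟨z, rfl⟩ := hψ.2 y
  let j : J →ₗ[R] A := J.subtype.restrictScalars R
  have h1 : ψ' (j.lTensor N z) = 0 := by
    rw [← hy]
    clear hy
    induction z using TensorProduct.induction_on with
    | zero => simp
    | add a b ha hb => simp only [map_add, ha, hb]
    | tmul n m =>
      rw [LinearMap.lTensor_tmul, hψt, hψt']
      rfl
  have h2 : j.lTensor N z = 0 := hψ'.1 (h1.trans (map_zero _).symm)
  let iN := LocalizedModule.mkLinearMap q.primeCompl N
  let φ : N ⊗[R] J →ₗ[S] LocalizedModule q.primeCompl N ⊗[R] J := AlgebraTensorModule.rTensor R J iN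
  have h3 : j.lTensor _ (φ z) = 0 := by
    rw [show j.lTensor _ (φ z) = (iN.restrictScalars R).rTensor A (j.lTensor N z) from ?_, h2, map_zero]
    show ((j.lTensor _).comp ((iN.restrictScalars R).rTensor J)) z = (((iN.restrictScalars R).rTensor A).comp (j.lTensor N)) z
    rw [LinearMap.lTensor_comp_rTensor, LinearMap.rTensor_comp_lTensor]
  obtain ⟨t, ht⟩ := (IsLocalizedModule.eq_zero_iff q.primeCompl φ).1
    (Module.Flat.lTensor_preserves_injective_linearMap (M := LocalizedModule q.primeCompl N) j Subtype.val_injective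
      (h3.trans (map_zero _).symm))
  exact ⟨algebraMap S SA t, fun h => t.2 (hQ h), by rw [← hψs, show (t : S) • z = 0 from ht, map_zero]⟩

end bc

/-- A flat stalk and purity give flatness on the neighbourhood. -/
theorem flat_of_pure {A SA : Type u} [CommRing A] [CommRing SA] [Algebra A SA] (NA : Type u) [AddCommGroup NA]
    [Module SA NA] [Module A NA] [IsScalarTower A SA NA] (Q : Ideal SA) [Q.IsPrime] (g : SA)
    (hk : ∀ (M : Type u) [AddCommGroup M] [Module A M] (w : NA ⊗[A] M), (∃ t ∉ Q, t • w = 0) → ∃ i : ℕ, g ^ i • w = 0)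
    (hflat : Module.Flat A (LocalizedModule Q.primeCompl NA)) :
    Module.Flat A (LocalizedModule (Submonoid.powers g) NA) := by
  rw [FlatModel.flat_localized_iff (Submonoid.powers g) (LocalizedModule.mkLinearMap (Submonoid.powers g) NA)]
  intro J y hy
  obtain ⟨t, ht, hty⟩ := (FlatModel.flat_localized_iff Q.primeCompl (LocalizedModule.mkLinearMap Q.primeCompl NA)).1 hflat J y hy
  obtain ⟨i, hi⟩ := hk J y ⟨t, ht, hty⟩
  exact ⟨g ^ i, ⟨i, rfl⟩, hi⟩

end Groth.Agent.H4RG
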