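import Groth.Prelude
import Groth.Agent.H4RG.PureBC
import Groth.Agent.H4RG.LocalFP
import Groth.Agent.H4RG.Relations
import Groth.Agent.Hensel.Henselization
import Groth.Agent.Hensel.Colim
import Mathlib

/-!
# Purity near a point of flatness after an etale localisation of the base
-/

set_option autoImplicit false
set_option linter.style.haveILetI false
set_option backward.isDefEq.respectTransparency.types false

universe u

open TensorProduct IsLocalRing

namespace Groth.Agent.H4RG

attribute [local instance] Algebra.TensorProduct.rightAlgebra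

variable {R : Type u} [CommRing R]

/-- The universal henselian neighbourhood of a residue field is a henselian local ring. -/
theorem henz_local (p : Ideal R) [p.IsPrime] :
    ∃ _ : HenselianLocalRing (Hensel.Henz R p.ResidueField),
      maximalIdeal (Hensel.Henz R p.ResidueField) = RingHom.ker (Hensel.Henz.proj R p.ResidueField) := by
  haveI : Nontrivial (Hensel.Henz R p.ResidueField) := (Hensel.Henz.proj R p.ResidueField).toRingHom.domain_nontrivial
  haveI hloc : IsLocalRing (Hensel.Henz R p.ResidueField) := .of_nonunits_add fun a b ha hb => by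
    simp only [mem_nonunits_iff, Hensel.Henz.isUnit_iff, isUnit_iff_ne_zero, not_not] at ha hb ⊢
    rw [map_add, ha, hb, add_zero]
  have hmax : maximalIdeal (Hensel.Henz R p.ResidueField) = RingHom.ker (Hensel.Henz.proj R p.ResidueField) := by
    ext x
    rw [IsLocalRing.mem_maximalIdeal, mem_nonunits_iff, Hensel.Henz.isUnit_iff, isUnit_iff_ne_zero, not_not, RingHom.mem_ker]
  haveI : HenselianRing (Hensel.Henz R p.ResidueField) (maximalIdeal _) := hmax ▸ Hensel.Henz.henselianRing
  exact ⟨Hensel.henselianLocalRing_of_henselianRing _, hmax⟩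

/-- An etale neighbourhood with a point at the residue field is an etale neighbourhood in the sense of the prelude. -/
theorem isEtaleNhd_nbhd (p : Ideal R) [p.IsPrime] (B : Hensel.Nbhd R p.ResidueField) :
    ∃ _ : (RingHom.ker B.toK).IsPrime, FlatCA.IsEtaleNhd R B.B p (RingHom.ker B.toK) := by
  haveI hp' : (RingHom.ker B.toK).IsPrime := RingHom.ker_isPrime _
  have hover : (RingHom.ker B.toK).LiesOver p := ⟨by
    ext r
    rw [Ideal.mem_comap, RingHom.mem_ker, AlgHom.commutes, Ideal.algebraMap_residueField_eq_zero]⟩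
  refine ⟨hp', inferInstance, hover, ?_⟩
  let P := RingHom.ker B.toK
  let f := Ideal.ResidueField.mapₐ p P (Algebra.ofId R B.B) hover.over
  let ψ : P.ResidueField →ₐ[R] p.ResidueField := Ideal.ResidueField.liftₐ P B.toK le_rfl fun x hx =>
    isUnit_iff_ne_zero.2 fun h => hx (RingHom.mem_ker.2 h)
  refine ⟨f.toRingHom.injective, fun y => ⟨ψ y, ψ.toRingHom.injective ?_⟩⟩
  have : ψ.comp f = AlgHom.id R p.ResidueField := Ideal.ResidueField.algHom_ext (Subsingleton.elim _ _)
  exact congr($this (ψ y))

/-- Membership in a prime over `q` and the maximal ideal is detected at any further local extension. -/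
theorem mem_iff_of_map {R S A SA SH : Type u} [CommRing R] [CommRing S] [CommRing A] [IsLocalRing A] [CommRing SA]
    [CommRing SH] [Algebra R S] [Algebra R A] [Algebra R SA] [Algebra S SA] [Algebra A SA] [IsScalarTower R S SA]
    [IsScalarTower R A SA] [Algebra.IsPushout R S A SA] (p : Ideal R) [p.IsPrime] (q : Ideal S) [q.IsPrime] [q.LiesOver p]
    (hres : ∀ a : A, ∃ u ∉ p, ∃ r : R, algebraMap R A u * a - algebraMap R A r ∈ maximalIdeal A)
    (Q : Ideal SA) [Q.IsPrime] [Q.LiesOver q] [Q.LiesOver (maximalIdeal A)]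
    (θ : SA →+* SH) (QH : Ideal SH) [QH.IsPrime] (hθS : (QH.comap θ).comap (algebraMap S SA) = q)
    (hθA : maximalIdeal A ≤ (QH.comap θ).comap (algebraMap A SA)) (x : SA) : x ∈ Q ↔ θ x ∈ QH := by
  haveI : Algebra.IsPushout R A S SA := Algebra.IsPushout.symm inferInstance
  let I := (maximalIdeal A).map (algebraMap A SA)
  have key : ∀ y : SA, ∃ u ∉ p, ∃ s : S, algebraMap R SA u * y - algebraMap S SA s ∈ I := by
    intro y
    obtain ⟨y, rfl⟩ := (Algebra.IsPushout.equiv R A S SA).surjective y
    induction y using TensorProduct.induction_on with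
    | zero => exact ⟨1, ‹p.IsPrime›.one_notMem, 0, by simp⟩
    | add a b ha hb =>
      obtain ⟨u, hu, s, hs⟩ := ha
      obtain ⟨v, hv, t, ht⟩ := hb
      refine ⟨u * v, fun h => (‹p.IsPrime›.mem_or_mem h).elim hu hv, algebraMap R S v * s + algebraMap R S u * t, ?_⟩
      have := add_mem (I.mul_mem_left (algebraMap R SA v) hs) (I.mul_mem_left (algebraMap R SA u) ht)
      convert this using 1
      simp only [map_add, map_mul, ← IsScalarTower.algebraMap_apply]
      ring
    | tmul a s =>
      obtain ⟨u, hu, r, hr⟩ := hres a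
      refine ⟨u, hu, algebraMap R S r * s, ?_⟩
      have := I.mul_mem_right (algebraMap S SA s) (Ideal.mem_map_of_mem (algebraMap A SA) hr)
      convert this using 1
      rw [Algebra.IsPushout.equiv_tmul, map_mul, map_sub, map_mul, ← IsScalarTower.algebraMap_apply,
        ← IsScalarTower.algebraMap_apply, ← IsScalarTower.algebraMap_apply]
      ring
  obtain ⟨u, hu, s, hs⟩ := key x
  have main : ∀ (P : Ideal SA), P.IsPrime → P.comap (algebraMap S SA) = q → I ≤ P → (x ∈ P ↔ s ∈ q) := by
    intro P hP hPq hI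
    have huP : algebraMap R SA u ∉ P := fun h => hu (by
      rw [Ideal.LiesOver.over (P := q) (p := p), Ideal.mem_comap, ← hPq, Ideal.mem_comap, ← IsScalarTower.algebraMap_apply]
      exact h)
    rw [← hPq, Ideal.mem_comap]
    refine ⟨fun hx => ?_, fun hsP => (hP.mem_or_mem ?_).resolve_left huP⟩
    · simpa using sub_mem (P.mul_mem_left (algebraMap R SA u) hx) (hI hs)
    · simpa using add_mem (hI hs) hsP
  exact (main Q inferInstance (Ideal.LiesOver.over (P := Q) (p := q)).symm
    (Ideal.map_le_iff_le_comap.2 (Ideal.LiesOver.over (P := Q) (p := maximalIdeal A)).le)).trans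
    (main (QH.comap θ) (Ideal.comap_isPrime _ _) hθS (Ideal.map_le_iff_le_comap.2 hθA)).symm

section main

variable {S : Type u} [CommRing S] [Algebra R S]

/-- The conclusion of purity for the base change to the local ring of an etale neighbourhood, on a given element. -/
def PureOnNbhds (N : Type u) [AddCommGroup N] [Module S N] (p : Ideal R) [p.IsPrime] (q : Ideal S)
    (B : Hensel.Nbhd R p.ResidueField) [(RingHom.ker B.toK).IsPrime] (g : B.B ⊗[R] S) : Prop :=
  ∀ (SA NA : Type u) [CommRing SA] [Algebra R SA] [Algebra S SA]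
    [Algebra (Localization.AtPrime (RingHom.ker B.toK)) SA] [IsScalarTower R S SA]
    [IsScalarTower R (Localization.AtPrime (RingHom.ker B.toK)) SA]
    [Algebra.IsPushout R (Localization.AtPrime (RingHom.ker B.toK)) S SA]
    [AddCommGroup NA] [Module SA NA] [Module S NA] [IsScalarTower S SA NA]
    [Module (Localization.AtPrime (RingHom.ker B.toK)) NA]
    [IsScalarTower (Localization.AtPrime (RingHom.ker B.toK)) SA NA]
    (f : N →ₗ[S] NA), IsBaseChange SA f → ∀ (Q : Ideal SA) [Q.IsPrime], Q.LiesOver q →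
      Q.LiesOver (maximalIdeal (Localization.AtPrime (RingHom.ker B.toK))) →
      let gA := Algebra.IsPushout.equiv R (Localization.AtPrime (RingHom.ker B.toK)) S SA
        (Algebra.TensorProduct.map (IsScalarTower.toAlgHom R B.B _) (AlgHom.id R S) g)
      gA ∉ Q ∧ ∀ (M : Type u) [AddCommGroup M] [Module (Localization.AtPrime (RingHom.ker B.toK)) M]
        (w : NA ⊗[Localization.AtPrime (RingHom.ker B.toK)] M), (∃ t ∉ Q, t • w = 0) → ∃ i : ℕ, gA ^ i • w = 0

/-- An element of a base change to the henselisation comes from an etale neighbourhood. -/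
theorem exists_stage_tensor {K : Type u} [CommRing K] [Algebra R K] (x : Hensel.Henz R K ⊗[R] S) :
    ∃ (B : Hensel.Nbhd R K) (y : B.B ⊗[R] S),
      Algebra.TensorProduct.map (Hensel.Henz.ofB B) (AlgHom.id R S) y = x := by
  induction x using TensorProduct.induction_on with
  | zero => exact ⟨Classical.arbitrary _, 0, map_zero _⟩
  | tmul h s =>
    obtain ⟨B, b, rfl⟩ := Hensel.Henz.exists_ofB h
    exact ⟨B, b ⊗ₜ s, rfl⟩
  | add a b ha hb =>
    obtain ⟨B, y, rfl⟩ := ha
    obtain ⟨B', y', rfl⟩ := hb
    obtain ⟨P, α, β, hα, hβ⟩ := B.exists_hom₂ B'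
    refine ⟨P, Algebra.TensorProduct.map α (AlgHom.id R S) y + Algebra.TensorProduct.map β (AlgHom.id R S) y', ?_⟩
    rw [map_add, ← AlgHom.comp_apply, ← Algebra.TensorProduct.map_comp, Hensel.Henz.ofB_comp α hα,
      ← AlgHom.comp_apply, ← Algebra.TensorProduct.map_comp, Hensel.Henz.ofB_comp β hβ, AlgHom.comp_id]

/-- Near a point of flatness a finite module becomes pure after an etale localisation of the base. -/
theorem exists_pureOnNbhds [Algebra.FiniteType R S] (N : Type u) [AddCommGroup N] [Module S N] [Module R N]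
    [IsScalarTower R S N] [Module.Finite S N] (p : Ideal R) [p.IsPrime] (q : Ideal S) [q.IsPrime] [q.LiesOver p]
    (hflat : Module.Flat R (LocalizedModule q.primeCompl N)) :
    ∃ (B₀ : Hensel.Nbhd R p.ResidueField) (g : B₀.B ⊗[R] S),
      ∀ (B : Hensel.Nbhd R p.ResidueField) [(RingHom.ker B.toK).IsPrime] (α : B₀.B →ₐ[R] B.B), B.toK.comp α = B₀.toK →
        PureOnNbhds N p q B (Algebra.TensorProduct.map α (AlgHom.id R S) g) := by
  haveI := hflat
  obtain ⟨hH, hmax⟩ := henz_local p
  haveI := hH
  let H := Hensel.Henz R p.ResidueField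
  let SH := H ⊗[R] S
  let NH := SH ⊗[S] N
  let fH : N →ₗ[S] NH := TensorProduct.mk S SH N 1
  have hfH : IsBaseChange SH fH := TensorProduct.isBaseChange S N SH
  let ι := Ideal.ResidueField.mapₐ p q (Algebra.ofId R S) (Ideal.LiesOver.over (P := q) (p := p))
  let σ : SH →ₐ[R] q.ResidueField := Algebra.TensorProduct.lift (ι.comp (Hensel.Henz.proj R p.ResidueField))
    (IsScalarTower.toAlgHom R S q.ResidueField) fun _ _ => .all _ _
  let QH : Ideal SH := RingHom.ker σ
  haveI : QH.IsPrime := RingHom.ker_isPrime _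
  have hQS : QH.comap (algebraMap S SH) = q := by
    ext s
    show σ ((1 : H) ⊗ₜ[R] s) = 0 ↔ _
    rw [Algebra.TensorProduct.lift_tmul, map_one, one_mul, IsScalarTower.coe_toAlgHom',
      Ideal.algebraMap_residueField_eq_zero]
  have hQH : QH.comap (algebraMap H SH) = maximalIdeal H := by
    ext h
    show σ (h ⊗ₜ[R] (1 : S)) = 0 ↔ _
    rw [Algebra.TensorProduct.lift_tmul, map_one, mul_one, hmax, RingHom.mem_ker, AlgHom.comp_apply]
    exact map_eq_zero ι.toRingHom
  haveI : Algebra.IsPushout R S H SH := Algebra.IsPushout.symm inferInstance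
  haveI : Module.Finite SH NH := inferInstance
  obtain ⟨gH, hgH, hkH⟩ := pureNear_of_flatAt (R := H) NH QH hQH
    (flat_at_bc (R := R) (A := H) fH hfH q QH hQS.le)
  obtain ⟨B₀, g, hg⟩ := exists_stage_tensor gH
  refine ⟨B₀, g, fun B _ α hα SA NA _ _ _ _ _ _ _ _ _ _ _ _ _ f hf Q _ hQq hQm => ?_⟩
  haveI := hQq
  haveI := hQm
  let P := RingHom.ker B.toK
  let A := Localization.AtPrime P
  have hu : ∀ b : P.primeCompl, IsUnit (Hensel.Henz.ofB B b.1) := fun b =>
    Hensel.Henz.isUnit_ofB (isUnit_iff_ne_zero.2 fun h => b.2 (RingHom.mem_ker.2 h))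
  let ofA : A →ₐ[R] H := IsLocalization.liftAlgHom (A := R) (S := A) (M := P.primeCompl) (f := Hensel.Henz.ofB B) hu
  have hofA : ∀ b : B.B, ofA (algebraMap B.B A b) = Hensel.Henz.ofB B b := fun b => by
    show IsLocalization.lift hu (algebraMap B.B A b) = _
    exact IsLocalization.lift_eq _ b
  letI : Algebra A H := ofA.toRingHom.toAlgebra
  haveI : IsScalarTower R A H := IsScalarTower.of_algebraMap_eq fun r => (ofA.commutes r).symm
  letI : Algebra B.B H := (Hensel.Henz.ofB B).toRingHom.toAlgebra
  haveI : IsScalarTower R B.B H := IsScalarTower.of_algebraMap_eq fun r => ((Hensel.Henz.ofB B).commutes r).symm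
  haveI : IsScalarTower B.B A H := IsScalarTower.of_algebraMap_eq fun b => (hofA b).symm
  haveI : Module.Flat B.B H := Algebra.FormallyUnramified.flat_of_restrictScalars R B.B H
  haveI : Module.Flat A H := (Module.flat_iff_of_isLocalization A P.primeCompl H).2 inferInstance
  have hmA : ∀ a : A, a ∈ maximalIdeal A ↔ Hensel.Henz.proj R p.ResidueField (ofA a) = 0 := fun a => by
    obtain ⟨b, s, rfl⟩ := IsLocalization.exists_mk'_eq P.primeCompl a
    rw [IsLocalization.AtPrime.mk'_mem_maximal_iff A P b s, RingHom.mem_ker]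
    have h := congrArg (Hensel.Henz.proj R p.ResidueField ∘ ofA) (IsLocalization.mk'_spec A b s)
    simp only [Function.comp_apply, map_mul, hofA, Hensel.Henz.proj_ofB] at h
    rw [← h]
    exact mul_eq_zero.trans (or_iff_left fun h0 => s.2 (RingHom.mem_ker.2 h0))
  haveI : IsLocalHom (algebraMap A H) := ⟨fun a ha => by
    by_contra hna
    exact (IsLocalRing.mem_maximalIdeal _).1 (hmax ▸ RingHom.mem_ker.2 ((hmA a).1 hna)) ha⟩
  haveI : Module.FaithfullyFlat A H := Module.FaithfullyFlat.of_flat_of_isLocalHom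
  have hres : ∀ a : A, ∃ u ∉ p, ∃ r : R, algebraMap R A u * a - algebraMap R A r ∈ maximalIdeal A := fun a => by
    obtain ⟨x, y, hy, hxy⟩ := IsFractionRing.div_surjective (R ⧸ p) (Hensel.Henz.proj R p.ResidueField (ofA a))
    obtain ⟨r, rfl⟩ := Ideal.Quotient.mk_surjective x
    obtain ⟨u, rfl⟩ := Ideal.Quotient.mk_surjective y
    have hu' : algebraMap R p.ResidueField u ≠ 0 := fun h =>
      nonZeroDivisors.ne_zero hy (Ideal.Quotient.eq_zero_iff_mem.2 (Ideal.algebraMap_residueField_eq_zero.1 h))
    refine ⟨u, fun h => hu' (Ideal.algebraMap_residueField_eq_zero.2 h), r, (hmA _).2 ?_⟩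
    rw [map_sub, map_mul, AlgHom.commutes, AlgHom.commutes, map_sub, map_mul, AlgHom.commutes, AlgHom.commutes, ← hxy]
    show algebraMap R p.ResidueField u * (algebraMap R p.ResidueField r / algebraMap R p.ResidueField u) - _ = 0
    rw [mul_div_cancel₀ _ hu', sub_self]
  haveI : Algebra.IsPushout R S A SA := Algebra.IsPushout.symm inferInstance
  let e := Algebra.IsPushout.equiv R A S SA
  let θ : SA →+* SH := (Algebra.TensorProduct.map ofA (AlgHom.id R S)).toRingHom.comp e.symm.toRingEquiv.toRingHom
  have hθe : ∀ x, θ (e x) = Algebra.TensorProduct.map ofA (AlgHom.id R S) x := fun x => by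
    show Algebra.TensorProduct.map ofA (AlgHom.id R S) (e.symm (e x)) = _
    rw [AlgEquiv.symm_apply_apply]
  have hes : ∀ (a : A) (s : S), algebraMap A SA a * algebraMap S SA s = e (a ⊗ₜ[R] s) := fun a s =>
    (Algebra.IsPushout.equiv_tmul R A S SA a s).symm
  have hθS : ∀ s, θ (algebraMap S SA s) = algebraMap S SH s := fun s => by
    rw [← one_mul (algebraMap S SA s), ← map_one (algebraMap A SA), hes, hθe, Algebra.TensorProduct.map_tmul, map_one]
    rfl
  have hθA : ∀ a, θ (algebraMap A SA a) = algebraMap H SH (ofA a) := fun a => by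
    rw [← mul_one (algebraMap A SA a), ← map_one (algebraMap S SA), hes, hθe, Algebra.TensorProduct.map_tmul, map_one]
    rfl
  have hmem : ∀ x : SA, x ∈ Q ↔ θ x ∈ QH := fun x => by
    refine mem_iff_of_map p q hres Q θ QH ?_ ?_ x
    · ext s
      rw [Ideal.mem_comap, Ideal.mem_comap, hθS, ← Ideal.mem_comap, hQS]
    · intro a ha
      rw [Ideal.mem_comap, Ideal.mem_comap, hθA, ← Ideal.mem_comap, hQH, hmax]
      exact RingHom.mem_ker.2 ((hmA a).1 ha)
  have hgA : θ (e (Algebra.TensorProduct.map (IsScalarTower.toAlgHom R B.B A) (AlgHom.id R S)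
      (Algebra.TensorProduct.map α (AlgHom.id R S) g))) = gH := by
    rw [hθe, ← AlgHom.comp_apply, ← Algebra.TensorProduct.map_comp,
      show ofA.comp (IsScalarTower.toAlgHom R B.B A) = Hensel.Henz.ofB B from AlgHom.ext hofA, ← AlgHom.comp_apply,
      ← Algebra.TensorProduct.map_comp, Hensel.Henz.ofB_comp α hα, AlgHom.comp_id, AlgHom.comp_id, hg]
  dsimp only
  refine ⟨fun h => hgH (hgA ▸ (hmem _).1 h), fun M _ _ w hw => ?_⟩
  obtain ⟨t, ht, htw⟩ := hw
  letI : Module R M := Module.compHom M (algebraMap R A)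
  haveI : IsScalarTower R A M := IsScalarTower.of_algebraMap_smul fun _ _ => rfl
  let M' := H ⊗[A] M
  haveI : IsScalarTower R A M' := inferInstance
  haveI : IsScalarTower R H M' := inferInstance
  obtain ⟨ψ, hψ, hψt, hψs⟩ := exists_tensor_equiv (R := R) (A := A) M f hf
  obtain ⟨ψ', hψ', hψt', hψs'⟩ := exists_tensor_equiv (R := R) (A := H) M' fH hfH
  let j : M →ₗ[R] M' := (TensorProduct.mk A H M 1).restrictScalars R
  have hj : Function.Injective (j.lTensor N) := by
    letI : Module A (M ⊗[R] N) := TensorProduct.leftModule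
    intro a b hab
    let c := TensorProduct.comm R N M
    have key : ∀ y : N ⊗[R] M, (AlgebraTensorModule.assoc R A A H M N) ((TensorProduct.comm R N M') (j.lTensor N y)) =
        (1 : H) ⊗ₜ[A] c y := fun y => by
      induction y using TensorProduct.induction_on with
      | zero => simp
      | add a b ha hb => simp only [map_add, ha, hb, tmul_add]
      | tmul n m =>
        simp [j, c]
        rfl
    refine c.injective (Module.FaithfullyFlat.tensorProduct_mk_injective (A := A) (B := H) (M ⊗[R] N) ?_)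
    show (1 : H) ⊗ₜ[A] c a = (1 : H) ⊗ₜ[A] c b
    rw [← key, ← key, hab]
  let ψe := Equiv.ofBijective ψ hψ
  let Ξ : NA ⊗[A] M →+ NH ⊗[H] M' :=
    ψ'.comp ((j.lTensor N).toAddMonoidHom.comp (AddEquiv.ofBijective ψ hψ).symm.toAddMonoidHom)
  have hΞ : ∀ z, Ξ (ψ z) = ψ' (j.lTensor N z) := fun z => by
    show ψ' (j.lTensor N ((AddEquiv.ofBijective ψ hψ).symm (ψ z))) = _
    rw [show (AddEquiv.ofBijective ψ hψ).symm (ψ z) = z from (AddEquiv.ofBijective ψ hψ).symm_apply_apply z]
  have hΞinj : Function.Injective Ξ :=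
    hψ'.1.comp (hj.comp (AddEquiv.ofBijective ψ hψ).symm.injective)
  have hlin : ∀ (x : SA) (y : NA ⊗[A] M), Ξ (x • y) = θ x • Ξ y := by
    intro x y
    obtain ⟨x, rfl⟩ := e.surjective x
    obtain ⟨z, rfl⟩ := hψ.2 y
    induction x using TensorProduct.induction_on with
    | zero => simp
    | add a b ha hb => rw [map_add, add_smul, map_add, ha, hb, map_add, add_smul]
    | tmul a s =>
      induction z using TensorProduct.induction_on with
      | zero => simp
      | add z z' h h' => simp only [map_add, smul_add, h, h']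
      | tmul n m =>
        rw [← hes, mul_smul, ← hψs, smul_tmul', hψt, smul_tmul', algebraMap_smul, smul_tmul,
          ← hψt, hΞ, LinearMap.lTensor_tmul, hψt', map_mul, hθA, hθS, mul_smul, hΞ, LinearMap.lTensor_tmul,
          ← hψs', smul_tmul', hψt', smul_tmul', algebraMap_smul, smul_tmul]
        congr 1
        show (1 : H) ⊗ₜ[A] (a • m) = ofA a • ((1 : H) ⊗ₜ[A] m)
        rw [← smul_tmul, smul_tmul', Algebra.smul_def, smul_eq_mul]
        rfl
  obtain ⟨i, hi⟩ := hkH M' (Ξ w) ⟨θ t, fun h => ht ((hmem t).2 h), by rw [← hlin, htw, map_zero]⟩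
  exact ⟨i, hΞinj (by rw [hlin, map_pow, hgA, hi, map_zero])⟩

end main

end Groth.Agent.H4RG
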