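import Groth.Prelude
import Groth.Agent.H4RG.UISpread
import Groth.Agent.H4RG.PureBC
import Groth.Agent.CAlgUI.FlatML
import Groth.Agent.CAlgUI.Countable
import Groth.Agent.CAlgUI.Projective
import Groth.Agent.CAlgUI.Flat
import Mathlib

/-!
# Neighbourhoods on which a module is projective over the base and focused at a point

A neighbourhood is focused at a point over a point of the base when every element of the fibre module vanishing at the
point vanishes on the neighbourhood.
-/

set_option autoImplicit false
set_option linter.style.haveILetI false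
set_option backward.isDefEq.respectTransparency.types false

universe u

open TensorProduct

namespace Groth.Agent.H4RG

/-- Every element of `K` is a fraction of elements of `R`. -/
def FracPoint (R K : Type u) [CommRing R] [Field K] [Algebra R K] : Prop :=
  ∀ x : K, ∃ r u : R, algebraMap R K u ≠ 0 ∧ algebraMap R K u * x = algebraMap R K r

/-- On `D(g)` every element of the fibre module at `K` vanishing at `q` vanishes. -/
def Foc (R K : Type u) [CommRing R] [Field K] [Algebra R K] {S : Type u} [CommRing S] [Algebra R S] (N : Type u)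
    [AddCommGroup N] [Module S N] [Module R N] [IsScalarTower R S N] (q : Ideal S) (g : S) : Prop :=
  ∀ (w : N ⊗[R] K) (t : S), t ∉ q → t • w = 0 → ∃ k : ℕ, g ^ k • w = 0

/-- `D(g)` is a neighbourhood of `q` on which the module is projective over the base and focused at `q`. -/
structure Good (R K : Type u) [CommRing R] [Field K] [Algebra R K] {S : Type u} [CommRing S] [Algebra R S] (N : Type u)
    [AddCommGroup N] [Module S N] [Module R N] [IsScalarTower R S N] (q : Ideal S) (g : S) : Prop where
  notMem : g ∉ q
  proj : Module.Projective R (LocalizedModule (Submonoid.powers g) N)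
  foc : Foc R K N q g

section basic

variable {R S : Type u} [CommRing R] [CommRing S] [Algebra R S] {N : Type u} [AddCommGroup N] [Module S N] [Module R N]
  [IsScalarTower R S N]

/-- A finite module over a finite type algebra is countably generated over the base. -/
theorem countablyGenerated_of_finite (R : Type u) [CommRing R] {S : Type u} [CommRing S] [Algebra R S]
    [Algebra.FiniteType R S] (N : Type u) [AddCommGroup N] [Module S N] [Module R N] [IsScalarTower R S N]
    [Module.Finite S N] : CAlg.IsCountablyGenerated R N := by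
  obtain ⟨n, φ, hφ⟩ := Algebra.FiniteType.iff_quotient_mvPolynomial''.1 ‹Algebra.FiniteType R S›
  obtain ⟨c, a, ha⟩ := Module.Finite.exists_fin (R := S) (M := N)
  let v : (Fin n →₀ ℕ) × Fin c → N := fun x => φ (MvPolynomial.monomial x.1 1) • a x.2
  refine ⟨Set.range v, Set.countable_range v, eq_top_iff.2 fun x htop => ?_⟩
  clear htop
  have hx : x ∈ Submodule.span S (Set.range a) := ha ▸ Submodule.mem_top
  induction hx using Submodule.span_induction with
  | mem y hy =>
    obtain ⟨i, rfl⟩ := hy
    exact Submodule.subset_span ⟨(0, i), by simp [v]⟩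
  | zero => exact zero_mem _
  | add y z _ _ hy hz => exact add_mem hy hz
  | smul s y hy0 hy =>
    clear hy0
    induction hy using Submodule.span_induction with
    | mem z hz =>
      obtain ⟨⟨m, i⟩, rfl⟩ := hz
      obtain ⟨P, rfl⟩ := hφ s
      induction P using MvPolynomial.induction_on' with
      | monomial m' r =>
        have h1 : φ (MvPolynomial.monomial m' r) • v (m, i) = r • v (m' + m, i) := by
          show φ _ • φ _ • a i = r • φ _ • a i
          rw [smul_smul, ← map_mul, MvPolynomial.monomial_mul, mul_one, ← algebraMap_smul S r, smul_smul,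
            ← φ.commutes r, ← map_mul, MvPolynomial.algebraMap_eq, MvPolynomial.C_mul_monomial, mul_one]
        rw [h1]
        exact Submodule.smul_mem _ _ (Submodule.subset_span ⟨_, rfl⟩)
      | add p q hp hq => rw [map_add, add_smul]; exact add_mem hp hq
    | zero => rw [smul_zero]; exact zero_mem _
    | add y z _ _ hy hz => rw [smul_add]; exact add_mem hy hz
    | smul r y _ hy => rw [smul_comm]; exact Submodule.smul_mem _ _ hy

/-- The map between localisations. -/
theorem exists_loc_map {g g' : S} (h : g ∣ g') :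
    ∃ j : LocalizedModule (Submonoid.powers g) N →ₗ[S] LocalizedModule (Submonoid.powers g') N,
      ∀ n, j (LocalizedModule.mkLinearMap _ N n) = LocalizedModule.mkLinearMap _ N n := by
  have hunits : ∀ x : Submonoid.powers g,
      IsUnit (algebraMap S (Module.End S (LocalizedModule (Submonoid.powers g') N)) x) := by
    rintro ⟨_, n, rfl⟩
    obtain ⟨c, hc⟩ := h
    have hu : IsUnit (algebraMap S (Module.End S (LocalizedModule (Submonoid.powers g') N)) (g ^ n * c ^ n)) := by
      rw [← mul_pow, ← hc]
      exact IsLocalizedModule.map_units (LocalizedModule.mkLinearMap (Submonoid.powers g') N)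
        (⟨g' ^ n, ⟨n, rfl⟩⟩ : Submonoid.powers g')
    rw [map_mul] at hu
    exact ((Commute.map (Commute.all _ _) _).isUnit_mul_iff.1 hu).1
  exact ⟨IsLocalizedModule.lift _ (LocalizedModule.mkLinearMap (Submonoid.powers g) N)
    (LocalizedModule.mkLinearMap (Submonoid.powers g') N) hunits, IsLocalizedModule.lift_apply _ _ _ hunits⟩

/-- A flat localisation gives flatness criterion on tensors. -/
theorem exists_pow_of_flat_localized (g : S) [Module.Flat R (LocalizedModule (Submonoid.powers g) N)] (J : Ideal R)
    (y : N ⊗[R] J) (hy : J.subtype.lTensor N y = 0) : ∃ k : ℕ, g ^ k • y = 0 := by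
  obtain ⟨_, ⟨k, rfl⟩, hk⟩ := (FlatModel.flat_localized_iff (Submonoid.powers g)
    (LocalizedModule.mkLinearMap (Submonoid.powers g) N)).1 inferInstance J y hy
  exact ⟨k, hk⟩

/-- Powers of a universally injective element. -/
theorem exists_pow_of_pow {g t : S}
    (hui : ∀ (M' : Type u) [AddCommGroup M'] [Module R M'] (w : N ⊗[R] M'), t • w = 0 → ∃ k : ℕ, g ^ k • w = 0)
    (M' : Type u) [AddCommGroup M'] [Module R M'] :
    ∀ (k : ℕ) (w : N ⊗[R] M'), t ^ k • w = 0 → ∃ i : ℕ, g ^ i • w = 0 := by
  intro k
  induction k with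
  | zero => intro w hw; exact ⟨0, by simpa using hw⟩
  | succ k ih =>
    intro w hw
    rw [pow_succ, mul_smul] at hw
    obtain ⟨i, hi⟩ := ih _ hw
    rw [smul_comm] at hi
    obtain ⟨i', hi'⟩ := hui M' _ hi
    exact ⟨i' + i, by rw [pow_add, mul_smul, hi']⟩

/-- A neighbourhood shrinks along an element acting universally injectively. -/
theorem projective_mul_of_ui [Algebra.FiniteType R S] [Module.Finite S N] {g t : S}
    [Module.Projective R (LocalizedModule (Submonoid.powers g) N)]
    (hui : ∀ (M' : Type u) [AddCommGroup M'] [Module R M'] (w : N ⊗[R] M'), t • w = 0 → ∃ k : ℕ, g ^ k • w = 0) :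
    Module.Projective R (LocalizedModule (Submonoid.powers (g * t)) N) := by
  let W := Submonoid.powers (g * t)
  let L := LocalizedModule (Submonoid.powers g) N
  let L2 := LocalizedModule W N
  let i1 := LocalizedModule.mkLinearMap (Submonoid.powers g) N
  let i2 := LocalizedModule.mkLinearMap W N
  obtain ⟨j, hj⟩ := exists_loc_map (N := N) (dvd_mul_right g t)
  haveI hflat : Module.Flat R L2 := by
    rw [FlatModel.flat_localized_iff W i2]
    intro J y hy
    obtain ⟨k, hk⟩ := exists_pow_of_flat_localized g J y hy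
    exact ⟨(g * t) ^ k, ⟨k, rfl⟩, by rw [mul_pow, mul_comm, mul_smul, hk, smul_zero]⟩
  let jR := j.restrictScalars R
  have hjc : ∀ (M' : Type u) [AddCommGroup M'] [Module R M'] (w : N ⊗[R] M'),
      jR.rTensor M' (AlgebraTensorModule.rTensor R M' i1 w) = AlgebraTensorModule.rTensor R M' i2 w := fun M' _ _ w => by
    induction w using TensorProduct.induction_on with
    | zero => simp
    | add a b ha hb => simp only [map_add, ha, hb]
    | tmul a m => exact congrArg (· ⊗ₜ[R] m) (hj a)
  have hinj : ∀ (M' : Type u) [AddCommGroup M'] [Module R M'] (w : N ⊗[R] M'),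
      AlgebraTensorModule.rTensor R M' i2 w = 0 → AlgebraTensorModule.rTensor R M' i1 w = 0 := by
    intro M' _ _ w hw
    obtain ⟨⟨_, k, rfl⟩, hk⟩ := (IsLocalizedModule.eq_zero_iff W _).1 hw
    have hk' : t ^ k • (g ^ k • w) = 0 := by
      rw [smul_smul, mul_comm, ← mul_pow]
      exact hk
    obtain ⟨i, hi⟩ := exists_pow_of_pow hui M' k _ hk'
    refine (IsLocalizedModule.eq_zero_iff (Submonoid.powers g) _).2 ⟨⟨g ^ (i + k), _, rfl⟩, ?_⟩
    show g ^ (i + k) • w = 0
    rw [pow_add, mul_smul, hi]
  have hml : CAlg.IsMittagLeffler R L := CAlgUI.ml_of_projective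
  have hml2 : CAlg.IsMittagLeffler R L2 := by
    rw [CAlgUI.ml_iff]
    intro ι Q _ _ w hw
    obtain ⟨⟨w0, s⟩, hs⟩ := IsLocalizedModule.surj W (AlgebraTensorModule.rTensor R (∀ i, Q i) i2) w
    have hw0 : AlgebraTensorModule.rTensor R (∀ i, Q i) i1 w0 = 0 := CAlgUI.ml_iff.1 hml ι Q _ fun i => by
      have hA : TensorProduct.piRightHom R R L Q (AlgebraTensorModule.rTensor R (∀ i, Q i) i1 w0) i =
          AlgebraTensorModule.rTensor R (Q i) i1 (TensorProduct.piRightHom R R N Q w0 i) :=
        CAlgUI.piRightHom_rTensor (i1.restrictScalars R) w0 i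
      rw [hA]
      refine hinj (Q i) _ ?_
      have hB : AlgebraTensorModule.rTensor R (Q i) i2 (TensorProduct.piRightHom R R N Q w0 i) =
          TensorProduct.piRightHom R R L2 Q (AlgebraTensorModule.rTensor R (∀ i, Q i) i2 w0) i :=
        (CAlgUI.piRightHom_rTensor (i2.restrictScalars R) w0 i).symm
      rw [hB, ← hs]
      let μ := (LinearMap.lsmul S L2 (s : S)).restrictScalars R
      rw [Submonoid.smul_def, ← rTensor_lsmul (R := R) (s : S) (∀ i, Q i) w, CAlgUI.piRightHom_rTensor, hw, map_zero]
    refine ((Module.End.isUnit_iff _).1 (IsLocalizedModule.map_units (AlgebraTensorModule.rTensor R (∀ i, Q i) i2) s)).1 ?_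
    show s • w = (s : S) • (0 : L2 ⊗[R] ∀ i, Q i)
    rw [smul_zero, hs, ← hjc, hw0, map_zero]
  haveI : Algebra.FiniteType R (Localization W) :=
    Algebra.FiniteType.trans (S := S) (inferInstance : Algebra.FiniteType R S)
      (haveI := IsLocalization.Away.finitePresentation (g * t) (S := Localization W); inferInstance)
  haveI : Module.Finite (Localization W) L2 := Module.Finite.of_isLocalizedModule W i2
  exact CAlgUI.projective_of_flat_ml_countablyGenerated hml2 (countablyGenerated_of_finite R (S := Localization W) L2)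

variable {K : Type u} [Field K] [Algebra R K]

/-- A good neighbourhood shrinks along an element acting universally injectively. -/
theorem Good.mul_of_ui [Algebra.FiniteType R S] [Module.Finite S N] {q : Ideal S} [q.IsPrime] {g t : S}
    (h : Good R K N q g) (ht : t ∉ q)
    (hui : ∀ (M' : Type u) [AddCommGroup M'] [Module R M'] (w : N ⊗[R] M'), t • w = 0 → ∃ k : ℕ, g ^ k • w = 0) :
    Good R K N q (g * t) := by
  haveI := h.proj
  refine ⟨fun hm => (‹q.IsPrime›.mem_or_mem hm).elim h.notMem ht, projective_mul_of_ui hui, fun w s hs hsw => ?_⟩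
  obtain ⟨k, hk⟩ := h.foc w s hs hsw
  exact ⟨k, by rw [mul_pow, mul_comm, mul_smul, hk, smul_zero]⟩

/-- An element injective on the fibre acts universally injectively after shrinking the base. -/
theorem Good.exists_ui [Algebra.FinitePresentation R S] [Module.FinitePresentation S N] (hK : FracPoint R K)
    {q : Ideal S} {g t : S} (h : Good R K N q g)
    (ht : ∀ w : N ⊗[R] K, t • w = 0 → ∃ k : ℕ, g ^ k • w = 0) :
    ∃ f : R, algebraMap R K f ≠ 0 ∧ ∀ (M' : Type u) [AddCommGroup M'] [Module R M'] (w : N ⊗[R] M'),
      t • w = 0 → ∃ k : ℕ, (algebraMap R S f * g) ^ k • w = 0 := by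
  haveI := h.proj
  let p := RingHom.ker (algebraMap R K)
  haveI : p.IsPrime := RingHom.ker_isPrime _
  let W := Submonoid.powers g
  let Sg := Localization.Away g
  let L := LocalizedModule W N
  let iN := LocalizedModule.mkLinearMap W N
  haveI : Algebra.FinitePresentation R Sg := Algebra.FinitePresentation.trans R S Sg
  haveI : Module.FinitePresentation Sg L := inferInstanceAs (Module.FinitePresentation (Localization W) L)
  let t' := algebraMap S Sg t
  let tR := (LinearMap.lsmul S L t).restrictScalars R
  have hinj : Function.Injective (tR.rTensor K) := by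
    rw [injective_iff_map_eq_zero]
    intro w hw
    obtain ⟨⟨w0, s⟩, hs⟩ := IsLocalizedModule.surj W (AlgebraTensorModule.rTensor R K iN) w
    rw [rTensor_lsmul] at hw
    have h1 : AlgebraTensorModule.rTensor R K iN (t • w0) = 0 := by
      rw [map_smul, ← hs, smul_comm, hw, smul_zero]
    obtain ⟨⟨_, k, rfl⟩, hk⟩ := (IsLocalizedModule.eq_zero_iff W _).1 h1
    obtain ⟨i, hi⟩ := ht (g ^ k • w0) (by rw [smul_comm]; exact hk)
    have h2 : AlgebraTensorModule.rTensor R K iN w0 = 0 :=
      (IsLocalizedModule.eq_zero_iff W _).2 ⟨⟨g ^ (i + k), _, rfl⟩, by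
        show g ^ (i + k) • w0 = 0
        rw [pow_add, mul_smul, hi]⟩
    refine ((Module.End.isUnit_iff _).1 (IsLocalizedModule.map_units (AlgebraTensorModule.rTensor R K iN) s)).1 ?_
    show s • w = (s : S) • (0 : L ⊗[R] K)
    rw [smul_zero, hs, h2]
  obtain ⟨f, hf, hk⟩ := exists_ui_nhd (R := R) (S := Sg) (M := L) p t' fun M' _ _ w hw => by
    obtain ⟨u, hu, huw⟩ := exists_smul_eq_zero_of_projective hK tR hinj M' w
      (by rw [rTensor_lsmul]; exact (algebraMap_smul Sg t w).symm.trans hw)
    exact ⟨u, fun hm => hu (RingHom.mem_ker.1 hm), huw⟩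
  refine ⟨f, fun hm => hf (RingHom.mem_ker.2 hm), fun M' _ _ w hw => ?_⟩
  let φ : N ⊗[R] M' →ₗ[S] L ⊗[R] M' := AlgebraTensorModule.rTensor R M' iN
  obtain ⟨k, hkw⟩ := hk M' (φ w) (by rw [algebraMap_smul, ← map_smul, hw, map_zero])
  have h1 : φ (f ^ k • w) = 0 := by rw [LinearMap.map_smul_of_tower, hkw]
  obtain ⟨⟨_, i, rfl⟩, hi⟩ := (IsLocalizedModule.eq_zero_iff W φ).1 h1
  refine ⟨k + i, ?_⟩
  have hi' : (g ^ i * algebraMap R S f ^ k) • w = 0 := by
    rw [mul_smul, ← map_pow, algebraMap_smul]
    exact hi
  rw [mul_pow, show algebraMap R S f ^ (k + i) * g ^ (k + i) = algebraMap R S f ^ i * g ^ k * (g ^ i * algebraMap R S f ^ k) by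
    ring, mul_smul, hi', smul_zero]

end basic

section descend

variable {R K T C : Type u} [CommRing R] [CommRing T] [Algebra R T] [CommRing C] [Algebra R C] [Algebra T C]
  [IsScalarTower R T C] [Module.Flat T C] {N NC : Type u} [AddCommGroup N] [Module T N] [Module R N]
  [IsScalarTower R T N] [AddCommGroup NC] [Module C NC] [Module T NC] [IsScalarTower T C NC] [Module R NC]
  [IsScalarTower R C NC] [IsScalarTower R T NC]
  (f : N →ₗ[T] NC) (hf : IsBaseChange C f) {g : T} (G : C)
  (hcov : ∀ Q : Ideal T, Q.IsPrime → g ∉ Q → ∃ Q' : Ideal C, Q'.IsPrime ∧ Q'.comap (algebraMap T C) = Q ∧ G ∉ Q')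

include hf hcov in
/-- An element vanishing above a covering neighbourhood vanishes on the neighbourhood. -/
theorem exists_pow_of_cover (M' : Type u) [AddCommGroup M'] [Module R M'] (w : N ⊗[R] M') (k : ℕ)
    (hk : (G * algebraMap T C g) ^ k • (f.restrictScalars R).rTensor M' w = 0) : ∃ i : ℕ, g ^ i • w = 0 := by
  let Gg := G * algebraMap T C g
  let fR := f.restrictScalars R
  let e1 : NC ⊗[R] M' ≃ₗ[C] (C ⊗[T] N) ⊗[R] M' := AlgebraTensorModule.congr hf.equiv.symm (LinearEquiv.refl R M')
  let e2 : (C ⊗[T] N) ⊗[R] M' ≃ₗ[C] C ⊗[T] (N ⊗[R] M') := AlgebraTensorModule.assoc R T C C N M'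
  have he : ∀ v, e2 (e1 (fR.rTensor M' v)) = (1 : C) ⊗ₜ[T] v := fun v => by
    induction v using TensorProduct.induction_on with
    | zero => simp
    | add a b ha hb => simp only [map_add, ha, hb, tmul_add]
    | tmul n m =>
      show e2 ((hf.equiv.symm (f n)) ⊗ₜ[R] m) = _
      rw [IsBaseChange.equiv_symm_apply]
      rfl
  let J : Ideal T := (Submodule.span T {w}).annihilator
  have hJ : ∀ x, x ∈ J ↔ x • w = 0 := fun x => Submodule.mem_annihilator_span_singleton _ _
  let μ : T ⧸ J →ₗ[T] N ⊗[R] M' :=
    Submodule.liftQ J (LinearMap.toSpanSingleton T _ w) (fun a ha => LinearMap.mem_ker.2 ((hJ a).1 ha))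
  have hμ : Function.Injective μ := by
    rw [← LinearMap.ker_eq_bot, Submodule.eq_bot_iff]
    intro x hx
    obtain ⟨a, rfl⟩ := Submodule.Quotient.mk_surjective J x
    exact (Submodule.Quotient.mk_eq_zero _).2 ((hJ a).2 hx)
  have h0 : (Gg ^ k) ⊗ₜ[T] (Submodule.Quotient.mk 1 : T ⧸ J) = 0 := by
    refine Module.Flat.lTensor_preserves_injective_linearMap (M := C) μ hμ ?_
    rw [map_zero, LinearMap.lTensor_tmul, show μ (Submodule.Quotient.mk 1) = w from one_smul T w,
      ← mul_one (Gg ^ k), ← smul_eq_mul, ← smul_tmul', ← he, ← map_smul, ← map_smul, hk, map_zero, map_zero]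
  have h1 := congrArg (TensorProduct.tensorQuotEquivQuotSMul C J) h0
  rw [map_zero, show (Submodule.Quotient.mk (1 : T) : T ⧸ J) = Ideal.Quotient.mk J 1 from rfl,
    TensorProduct.tensorQuotEquivQuotSMul_tmul_mk, one_smul, Submodule.Quotient.mk_eq_zero,
    Ideal.smul_top_eq_map, Submodule.restrictScalars_mem] at h1
  by_contra hne
  push Not at hne
  obtain ⟨Q, hQ, hJQ, hQg⟩ := Ideal.exists_le_prime_disjoint J (Submonoid.powers g)
    (Set.disjoint_left.2 fun x hx hxg => by
      obtain ⟨i, rfl⟩ := hxg
      exact hne i ((hJ _).1 hx))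
  have hgQ : g ∉ Q := fun hm => Set.disjoint_left.1 hQg hm ⟨1, pow_one g⟩
  obtain ⟨Q', hQ', hQQ', hGQ'⟩ := hcov Q hQ hgQ
  have hJC : J.map (algebraMap T C) ≤ Q' := Ideal.map_le_iff_le_comap.2 (hQQ' ▸ hJQ)
  exact (hQ'.mem_or_mem (hQ'.mem_of_pow_mem k (hJC h1))).elim hGQ' fun hm => hgQ (hQQ' ▸ hm)
include hf hcov in
/-- Projectivity descends along a flat algebra covering the neighbourhood. -/
theorem projective_of_cover [Algebra.FiniteType R T] [Module.Finite T N]
    [Module.Projective R (LocalizedModule (Submonoid.powers (G * algebraMap T C g)) NC)] :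
    Module.Projective R (LocalizedModule (Submonoid.powers g) N) := by
  let Gg := G * algebraMap T C g
  let fR := f.restrictScalars R
  let W := Submonoid.powers g
  let W' := Submonoid.powers Gg
  let L := LocalizedModule W N
  let L' := LocalizedModule W' NC
  let iN := LocalizedModule.mkLinearMap W N
  let iC := LocalizedModule.mkLinearMap W' NC
  have hunits : ∀ x : W, IsUnit (algebraMap T (Module.End T L') x) := by
    rintro ⟨_, i, rfl⟩
    have h1 := (Module.End.isUnit_iff _).1 (IsLocalizedModule.map_units iC (⟨Gg ^ i, i, rfl⟩ : W'))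
    refine (Module.End.isUnit_iff _).2 ⟨fun a b hab => h1.1 ?_, fun y => ?_⟩
    · show Gg ^ i • a = Gg ^ i • b
      have hab' : g ^ i • a = g ^ i • b := hab
      rw [mul_pow, mul_smul, mul_smul, ← map_pow, algebraMap_smul, algebraMap_smul, hab']
    · obtain ⟨z, hz⟩ := h1.2 y
      refine ⟨G ^ i • z, ?_⟩
      show g ^ i • G ^ i • z = y
      rw [← algebraMap_smul C (g ^ i), smul_smul, map_pow, mul_comm, ← mul_pow]
      exact hz
  let j : L →ₗ[T] L' := IsLocalizedModule.lift W iN ((iC.restrictScalars T).comp f) hunits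
  let jR := j.restrictScalars R
  have hjc : ∀ (M' : Type u) [AddCommGroup M'] [Module R M'] (w : N ⊗[R] M'),
      jR.rTensor M' (AlgebraTensorModule.rTensor R M' iN w) = AlgebraTensorModule.rTensor R M' iC (fR.rTensor M' w) :=
    fun M' _ _ w => by
      induction w using TensorProduct.induction_on with
      | zero => simp
      | add a b ha hb => simp only [map_add, ha, hb]
      | tmul a m => exact congrArg (· ⊗ₜ[R] m) (IsLocalizedModule.lift_apply _ _ _ hunits a)
  have hju : CAlgX.UniversallyInjective R jR := by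
    intro M' _ _
    rw [injective_iff_map_eq_zero]
    intro z hz
    obtain ⟨⟨z0, s⟩, hs⟩ := IsLocalizedModule.surj W (AlgebraTensorModule.rTensor R M' iN) z
    have h1 : AlgebraTensorModule.rTensor R M' iC (fR.rTensor M' z0) = 0 := by
      have hlin : ∀ (x : T) (v : L ⊗[R] M'), jR.rTensor M' (x • v) = x • jR.rTensor M' v := fun x v => by
        induction v using TensorProduct.induction_on with
        | zero => simp
        | add a b ha hb => simp only [smul_add, map_add, ha, hb]
        | tmul n m => exact congrArg (· ⊗ₜ[R] m) (map_smul j x n)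
      rw [← hjc, ← hs, Submonoid.smul_def, hlin, hz, smul_zero]
    obtain ⟨⟨_, k, rfl⟩, hk⟩ := (IsLocalizedModule.eq_zero_iff W' _).1 h1
    obtain ⟨i, hi⟩ := exists_pow_of_cover f hf G hcov M' z0 k hk
    refine ((Module.End.isUnit_iff _).1 (IsLocalizedModule.map_units (AlgebraTensorModule.rTensor R M' iN) s)).1 ?_
    show s • z = (s : T) • (0 : L ⊗[R] M')
    rw [smul_zero, hs]
    exact (IsLocalizedModule.eq_zero_iff W _).2 ⟨⟨g ^ i, i, rfl⟩, hi⟩
  haveI : Module.Flat R L := CAlgUI.flat_left_of_ui (M₂ := L') hju
  haveI : Algebra.FiniteType R (Localization W) :=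
    Algebra.FiniteType.trans (S := T) (inferInstance : Algebra.FiniteType R T)
      (haveI := IsLocalization.Away.finitePresentation g (S := Localization W); inferInstance)
  haveI : Module.Finite (Localization W) L := Module.Finite.of_isLocalizedModule W iN
  exact CAlgUI.projective_of_flat_ml_countablyGenerated (CAlgUI.ml_of_ui jR hju CAlgUI.ml_of_projective)
    (countablyGenerated_of_finite R (S := Localization W) L)

variable [Field K] [Algebra R K]

include hf hcov in
/-- A good neighbourhood descends along a flat algebra covering it. -/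
theorem Good.descend [Algebra.FiniteType R T] [Module.Finite T N] {q : Ideal T} (qC : Ideal C)
    (hq : qC.comap (algebraMap T C) = q) (hg : g ∉ q)
    (h : Good R K NC qC (G * algebraMap T C g)) : Good R K N q g := by
  haveI := h.proj
  refine ⟨hg, projective_of_cover f hf G hcov, fun w t ht htw => ?_⟩
  let fR := f.restrictScalars R
  have hsm : ∀ (M' : Type u) [AddCommGroup M'] [Module R M'] (x : T) (w : N ⊗[R] M'),
      fR.rTensor M' (x • w) = algebraMap T C x • fR.rTensor M' w := fun M' _ _ x w => by
    induction w using TensorProduct.induction_on with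
    | zero => simp
    | add a b ha hb => simp only [smul_add, map_add, ha, hb]
    | tmul n m =>
      show f (x • n) ⊗ₜ[R] m = (algebraMap T C x • f n) ⊗ₜ[R] m
      rw [map_smul, algebraMap_smul]
  obtain ⟨k, hk⟩ := h.foc (fR.rTensor K w) (algebraMap T C t) (fun hm => ht (hq ▸ hm))
    (by rw [← hsm, htw, map_zero])
  exact exists_pow_of_cover f hf G hcov K w k hk

end descend

section baseChange

variable {R A S SA K L : Type u} [CommRing R] [CommRing A] [CommRing S] [CommRing SA] [Field K] [Field L]
  [Algebra R A] [Algebra R S] [Algebra R SA] [Algebra S SA] [Algebra A SA] [IsScalarTower R S SA]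
  [IsScalarTower R A SA] [Algebra.IsPushout R S A SA] [Algebra R K] [Algebra A K] [IsScalarTower R A K]
  {N NA : Type u} [AddCommGroup N] [Module S N] [Module R N] [IsScalarTower R S N]
  [AddCommGroup NA] [Module SA NA] [Module S NA] [IsScalarTower S SA NA] [Module A NA] [IsScalarTower A SA NA]

/-- Being focused survives a change of the base with the same point. -/
theorem Foc.baseChange (hK : FracPoint R K) (f : N →ₗ[S] NA) (hf : IsBaseChange SA f) (σ : S →+* L) (σA : SA →+* L)
    (ι : K →+* L) (hσS : ∀ s, σA (algebraMap S SA s) = σ s) (hσA : ∀ a, σA (algebraMap A SA a) = ι (algebraMap A K a))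
    {g : S} (hfoc : Foc R K N (RingHom.ker σ) g) : Foc A K NA (RingHom.ker σA) (algebraMap S SA g) := by
  haveI : Algebra.IsPushout R A S SA := Algebra.IsPushout.symm inferInstance
  let e := Algebra.IsPushout.equiv R A S SA
  have hscal : ∀ (a : A) (w : NA ⊗[A] K), algebraMap A SA a • w = TensorProduct.map LinearMap.id
      ((LinearMap.mulLeft A (algebraMap A K a)) : K →ₗ[A] K) w := fun a w => by
    induction w using TensorProduct.induction_on with
    | zero => simp
    | add x y hx hy => simp only [smul_add, map_add, hx, hy]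
    | tmul n k =>
      show (algebraMap A SA a • n) ⊗ₜ[A] k = n ⊗ₜ[A] (algebraMap A K a * k)
      rw [algebraMap_smul, smul_tmul, Algebra.smul_def]
  have hscal' : ∀ (a a' : A), algebraMap A K a = algebraMap A K a' →
      ∀ w : NA ⊗[A] K, algebraMap A SA a • w = algebraMap A SA a' • w := fun a a' haa w => by
    rw [hscal, hscal, haa]
  have hunit : ∀ u : R, algebraMap R K u ≠ 0 → σA (algebraMap R SA u) ≠ 0 := fun u hu h0 => by
    rw [IsScalarTower.algebraMap_apply R A SA, hσA, ← IsScalarTower.algebraMap_apply] at h0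
    exact hu (ι.injective (h0.trans (map_zero ι).symm))
  have key : ∀ y : SA, ∃ (u : R) (s : S), algebraMap R K u ≠ 0 ∧ σA (algebraMap R SA u * y) = σ s ∧
      ∀ w : NA ⊗[A] K, (algebraMap R SA u * y) • w = algebraMap S SA s • w := by
    intro y
    obtain ⟨x, rfl⟩ := e.surjective y
    induction x using TensorProduct.induction_on with
    | zero => exact ⟨1, 0, by simp, by simp, fun w => by simp⟩
    | add a b ha hb =>
      obtain ⟨u, s, hu, hs, hs'⟩ := ha
      obtain ⟨v, t, hv, ht, ht'⟩ := hb
      have heq : algebraMap R SA (u * v) * e (a + b) =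
          algebraMap R SA v * (algebraMap R SA u * e a) + algebraMap R SA u * (algebraMap R SA v * e b) := by
        rw [map_mul, map_add]; ring
      refine ⟨u * v, algebraMap R S v * s + algebraMap R S u * t, by rw [map_mul]; exact mul_ne_zero hu hv, ?_, fun w => ?_⟩
      · rw [heq, map_add, map_mul σA (algebraMap R SA v) (algebraMap R SA u * e a),
          map_mul σA (algebraMap R SA u) (algebraMap R SA v * e b), hs, ht, ← hσS, ← hσS t, ← hσS]
        simp only [map_add, map_mul, ← IsScalarTower.algebraMap_apply]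
      · rw [heq, add_smul, mul_smul, hs', mul_smul (algebraMap R SA u), ht', map_add, add_smul, map_mul, map_mul,
          mul_smul, mul_smul, ← IsScalarTower.algebraMap_apply, ← IsScalarTower.algebraMap_apply]
    | tmul a s =>
      obtain ⟨r, u, hu, hur⟩ := hK (algebraMap A K a)
      have hK' : algebraMap A K (algebraMap R A u * a) = algebraMap A K (algebraMap R A r) := by
        rw [map_mul, ← IsScalarTower.algebraMap_apply, ← IsScalarTower.algebraMap_apply, hur]
      have heq : algebraMap R SA u * e (a ⊗ₜ[R] s) = algebraMap A SA (algebraMap R A u * a) * algebraMap S SA s := by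
        rw [Algebra.IsPushout.equiv_tmul, map_mul, ← IsScalarTower.algebraMap_apply, mul_assoc]
      have heq' : algebraMap S SA (algebraMap R S r * s) = algebraMap A SA (algebraMap R A r) * algebraMap S SA s := by
        rw [map_mul, ← IsScalarTower.algebraMap_apply, ← IsScalarTower.algebraMap_apply]
      refine ⟨u, algebraMap R S r * s, hu, ?_, fun w => ?_⟩
      · rw [heq, ← hσS, heq', map_mul σA, map_mul σA, hσA, hσA, hK']
      · rw [heq, heq', mul_smul, mul_smul, hscal' _ _ hK']
  intro w t ht htw
  obtain ⟨ψ, hψ, hψt, hψs⟩ := exists_tensor_equiv (R := R) (A := A) K f hf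
  obtain ⟨v, rfl⟩ := hψ.2 w
  obtain ⟨u, s, hu, hs, hs'⟩ := key t
  have hs0 : σ s ≠ 0 := by
    rw [← hs, map_mul]
    exact mul_ne_zero (hunit u hu) fun h0 => ht (RingHom.mem_ker.2 h0)
  have hsv : ψ (s • v) = 0 := by rw [hψs, ← hs', mul_smul, htw, smul_zero]
  obtain ⟨k, hk⟩ := hfoc v s (fun hm => hs0 (RingHom.mem_ker.1 hm)) (hψ.1 (hsv.trans (map_zero _).symm))
  exact ⟨k, by rw [← map_pow, ← hψs, hk, map_zero]⟩


/-- A good neighbourhood stays good after a change of the base with the same point. -/
theorem Good.baseChange (hK : FracPoint R K) (f : N →ₗ[S] NA) (hf : IsBaseChange SA f) (σ : S →+* L) (σA : SA →+* L)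
    (ι : K →+* L) (hσS : ∀ s, σA (algebraMap S SA s) = σ s) (hσA : ∀ a, σA (algebraMap A SA a) = ι (algebraMap A K a))
    {g : S} (h : Good R K N (RingHom.ker σ) g) : Good A K NA (RingHom.ker σA) (algebraMap S SA g) := by
  haveI : Algebra.IsPushout R A S SA := Algebra.IsPushout.symm inferInstance
  let e := Algebra.IsPushout.equiv R A S SA
  refine ⟨fun hm => h.notMem (RingHom.mem_ker.2 ((hσS g).symm.trans (RingHom.mem_ker.1 hm))), ?_,
    Foc.baseChange hK f hf σ σA ι hσS hσA h.foc⟩
  · -- projectivity
    haveI := h.proj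
    obtain ⟨ψ, hψ, hψt, hψs⟩ := exists_tensor_equiv (R := R) (A := A) A f hf
    let θ : N ⊗[R] A →ₗ[S] NA :=
      { toFun := fun z => TensorProduct.rid A NA (ψ z)
        map_add' := fun a b => by simp only [map_add]
        map_smul' := fun s z => by
          rw [RingHom.id_apply, hψs]
          have : ∀ (x : SA) (v : NA ⊗[A] A), TensorProduct.rid A NA (x • v) = x • TensorProduct.rid A NA v :=
            fun x v => by
              induction v using TensorProduct.induction_on with
              | zero => simp
              | add a b ha hb => simp only [smul_add, map_add, ha, hb]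
              | tmul n a => rw [smul_tmul', TensorProduct.rid_tmul, TensorProduct.rid_tmul, smul_comm]
          rw [this, algebraMap_smul] }
    have hθ : ∀ n a, θ (n ⊗ₜ[R] a) = a • f n := fun n a => by
      show TensorProduct.rid A NA (ψ (n ⊗ₜ[R] a)) = _
      rw [hψt, TensorProduct.rid_tmul]
    have hθb : Function.Bijective θ := (TensorProduct.rid A NA).bijective.comp hψ
    let W := Submonoid.powers g
    let W' := Submonoid.powers (algebraMap S SA g)
    let i := LocalizedModule.mkLinearMap W N
    let i' := LocalizedModule.mkLinearMap W' NA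
    let L' := LocalizedModule W' NA
    let Φ : N ⊗[R] A →ₗ[S] L' := (i'.restrictScalars S).comp θ
    have hpow : ∀ (k : ℕ) (x : L'), g ^ k • x = algebraMap S SA g ^ k • x := fun k x => by
      rw [← map_pow, algebraMap_smul]
    haveI : IsLocalizedModule W Φ := by
      refine ⟨?_, fun y => ?_, fun {a b} hab => ?_⟩
      · rintro ⟨_, k, rfl⟩
        have h1 := (Module.End.isUnit_iff _).1 (IsLocalizedModule.map_units i' (⟨algebraMap S SA g ^ k, k, rfl⟩ : W'))
        refine (Module.End.isUnit_iff _).2 ⟨fun a b hab => h1.1 ?_, fun y => ?_⟩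
        · show algebraMap S SA g ^ k • a = algebraMap S SA g ^ k • b
          rw [← hpow, ← hpow]
          exact hab
        · obtain ⟨z, hz⟩ := h1.2 y
          exact ⟨z, (hpow k z).trans hz⟩
      · obtain ⟨⟨n, ⟨_, k, rfl⟩⟩, hk⟩ := IsLocalizedModule.surj W' i' y
        obtain ⟨z, rfl⟩ := hθb.2 n
        exact ⟨⟨z, ⟨g ^ k, k, rfl⟩⟩, (hpow k y).trans hk⟩
      · obtain ⟨⟨_, k, rfl⟩, hk⟩ := IsLocalizedModule.exists_of_eq (S := W') (f := i') hab
        refine ⟨⟨g ^ k, k, rfl⟩, hθb.1 ?_⟩
        show θ (g ^ k • a) = θ (g ^ k • b)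
        rw [map_smul, map_smul, ← algebraMap_smul SA (g ^ k), ← algebraMap_smul SA (g ^ k) (θ b), map_pow]
        exact hk
    let e0 := IsLocalizedModule.linearEquiv W (AlgebraTensorModule.rTensor R A i) Φ
    have he0 : ∀ (l : LocalizedModule W N) (a : A) (n : N) (s : W), s • l = i n → (s : S) • e0 (l ⊗ₜ[R] a) = i' (a • f n) := by
      intro l a n s hl
      rw [← map_smul, smul_tmul', ← Submonoid.smul_def, hl,
        show i n ⊗ₜ[R] a = AlgebraTensorModule.rTensor R A i (n ⊗ₜ[R] a) from rfl, IsLocalizedModule.linearEquiv_apply]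
      show i' (θ (n ⊗ₜ[R] a)) = _
      rw [hθ]
    let E : A ⊗[R] LocalizedModule W N ≃+ L' := (TensorProduct.comm R A _).toAddEquiv.trans e0.toAddEquiv
    suffices hlin : ∀ (a : A) z, E (a • z) = a • E z from Module.Projective.of_equiv ({ E with map_smul' := hlin } : A ⊗[R] LocalizedModule W N ≃ₗ[A] L')
    intro a z
    induction z using TensorProduct.induction_on with
    | zero => simp
    | add x y hx hy => simp only [smul_add, map_add, hx, hy]
    | tmul c l =>
      obtain ⟨⟨n, s⟩, hs⟩ := IsLocalizedModule.surj W i l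
      refine ((Module.End.isUnit_iff _).1 (IsLocalizedModule.map_units Φ s)).1 ?_
      show (s : S) • e0 (l ⊗ₜ[R] (a * c)) = (s : S) • (a • e0 (l ⊗ₜ[R] c))
      rw [smul_comm, he0 l _ n s hs, he0 l _ n s hs, mul_smul, LinearMap.map_smul_of_tower]

end baseChange

end Groth.Agent.H4RG
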