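import Groth.Prelude
import Groth.Agent.SmoothSect.Basic
import Groth.Agent.CAlgUI.FlatML
import Groth.Agent.CAlgUI.BaseChange
import Groth.Agent.H4RG.MLBase
import Mathlib

/-!
# Standard smooth algebras with a section are Mittag-Leffler when detected along the section
-/

set_option autoImplicit false
set_option linter.style.haveILetI false
set_option backward.isDefEq.respectTransparency.types false

universe u

open TensorProduct MvPolynomial Groth.Agent.WeakAss

namespace Groth.Agent.H4RG

open Algebra in
/-- A polynomial ring is standard smooth. -/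
theorem isStandardSmooth_mvPolynomial (R : Type u) [CommRing R] (d : ℕ) :
    Algebra.IsStandardSmoothOfRelativeDimension d R (MvPolynomial (Fin d) R) := by
  let P0 : Presentation R (MvPolynomial (Fin d) R) (Fin d) PEmpty.{1} :=
    { Generators.mvPolynomial R (Fin d) with
      relation := PEmpty.elim
      span_range_relation_eq_ker := by
        simp only [Set.range_eq_empty, Ideal.span_empty]
        symm
        rw [eq_bot_iff]
        intro f hf
        have h : aeval (X : Fin d → MvPolynomial (Fin d) R) f = 0 := hf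
        rwa [aeval_X_left, AlgHom.id_apply] at h }
  let P1 : PreSubmersivePresentation R (MvPolynomial (Fin d) R) (Fin d) PEmpty.{1} :=
    { P0 with
      map := PEmpty.elim
      map_inj := fun a => PEmpty.elim a }
  have hj : IsUnit P1.jacobian := by
    rw [PreSubmersivePresentation.jacobian_eq_jacobiMatrix_det, Matrix.det_isEmpty, map_one]
    exact isUnit_one
  let P2 : SubmersivePresentation R (MvPolynomial (Fin d) R) (Fin d) PEmpty.{1} := { P1 with jacobian_isUnit := hj }
  exact P2.isStandardSmoothOfRelativeDimension (by simp [Presentation.dimension])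

/-- Etale algebras over affine space are standard smooth. -/
theorem isStandardSmooth_of_etale (A E : Type u) [CommRing A] [CommRing E] [Algebra A E] (d : ℕ)
    [Algebra (MvPolynomial (Fin d) A) E] [IsScalarTower A (MvPolynomial (Fin d) A) E]
    [Algebra.Etale (MvPolynomial (Fin d) A) E] : Algebra.IsStandardSmoothOfRelativeDimension d A E := by
  haveI := isStandardSmooth_mvPolynomial A d
  haveI : Algebra.IsStandardSmoothOfRelativeDimension 0 (MvPolynomial (Fin d) A) E :=
    Algebra.Etale.iff_isStandardSmoothOfRelativeDimension_zero.1 ‹_›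
  have := Algebra.IsStandardSmoothOfRelativeDimension.trans d 0 A (MvPolynomial (Fin d) A) E
  rwa [zero_add] at this

/-- The cotangent module of a section of a standard smooth algebra is finite free. -/
theorem exists_cotangent_equiv_global {R S : Type u} [CommRing R] [CommRing S] [Algebra R S]
    [Algebra.IsStandardSmooth R S] (σ : S →ₐ[R] R) :
    ∃ d : ℕ, Nonempty ((RingHom.ker σ.toRingHom).Cotangent ≃ₗ[R] (Fin d → R)) := by
  classical
  letI : Algebra S R := σ.toRingHom.toAlgebra
  haveI : IsScalarTower R S R := IsScalarTower.of_algebraMap_eq fun r => (σ.commutes r).symm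
  have hsurj : Function.Surjective (algebraMap S R) := fun r => ⟨algebraMap R S r, σ.commutes r⟩
  haveI : Algebra.Smooth R S := inferInstance
  obtain ⟨l, hl⟩ := (Algebra.FormallySmooth.iff_split_injection (R := R) (P := S) (A := R) hsurj).1 inferInstance
  let I := RingHom.ker σ.toRingHom
  let X := R ⊗[S] KaehlerDifferential R S
  let k : I.Cotangent →ₗ[R] X := (KaehlerDifferential.kerCotangentToTensor R S R).restrictScalars R
  have hk : Function.Bijective k := by
    refine ⟨Function.LeftInverse.injective (g := l) fun c => LinearMap.congr_fun hl c, fun x => ?_⟩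
    haveI : Subsingleton (KaehlerDifferential R R) :=
      KaehlerDifferential.subsingleton_of_surjective R R Function.surjective_id
    exact (KaehlerDifferential.exact_kerCotangentToTensor_mapBaseChange R S R hsurj x).1 (Subsingleton.elim _ _)
  haveI : Module.Free R X := inferInstance
  haveI : Module.Finite R X := inferInstance
  exact ⟨_, ⟨(LinearEquiv.ofBijective k hk).trans ((Module.Free.chooseBasis R X).reindex (Fintype.equivFin _)).equivFun⟩⟩

/-- Over a noetherian ring the completion of a standard smooth algebra along a section is Mittag-Leffler and detects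
elements of tensor products along the section. -/
theorem exists_detecting_ml_global {R S : Type u} [CommRing R] [IsNoetherianRing R] [CommRing S]
    [Algebra R S] [Algebra.IsStandardSmooth R S] (σ : S →ₐ[R] R) :
    ∃ (C : Type u) (_ : AddCommGroup C) (_ : Module R C) (j : S →ₗ[R] C), CAlg.IsMittagLeffler R C ∧
      ∀ (M : Type u) [AddCommGroup M] [Module R M] (w : S ⊗[R] M), j.rTensor M w = 0 →
        ∃ t : S, σ t = 1 ∧ t • w = 0 := by
  haveI : Algebra.Smooth R S := inferInstance
  obtain ⟨d, ⟨e⟩⟩ := exists_cotangent_equiv_global σ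
  obtain ⟨eC⟩ := SmoothSect.main σ d e
  let I := RingHom.ker σ.toRingHom
  let C := AdicCompletion I S
  haveI : IsNoetherianRing S := Algebra.FiniteType.isNoetherianRing R S
  haveI : Module.Flat S C := inferInstance
  let j : S →ₗ[R] C := (IsScalarTower.toAlgHom R S C).toLinearMap
  have hC : CAlg.IsMittagLeffler R C := by
    haveI : IsNoetherianRing R := inferInstance
    let e1 : MvPowerSeries (Fin d) R ≃ₗ[R] (ULift.{u} (Fin d →₀ ℕ) → R) :=
      LinearEquiv.funCongrLeft R R Equiv.ulift
    let ec := eC.toLinearEquiv.trans e1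
    exact CAlgUI.ml_of_ui ec.toLinearMap (CAlgUI.ui_of_leftInverse ec.symm.toLinearMap
      (LinearMap.ext fun x => ec.symm_apply_apply x)) (CAlgUI.ml_powers _)
  refine ⟨C, inferInstance, inferInstance, j, hC, fun M _ _ w hw => ?_⟩
  let ρ : C →ₐ[S] S ⧸ I := AdicCompletion.evalOneₐ I
  by_contra hne
  push Not at hne
  let J := annEl S w
  let μ : S ⧸ J →ₗ[S] S ⊗[R] M :=
    Submodule.liftQ J (LinearMap.toSpanSingleton S _ w) (fun a ha => LinearMap.mem_ker.2 (mem_annEl.1 ha))
  have hμ : Function.Injective μ := by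
    rw [← LinearMap.ker_eq_bot, Submodule.eq_bot_iff]
    intro x hx
    obtain ⟨a, rfl⟩ := Submodule.Quotient.mk_surjective J x
    exact (Submodule.Quotient.mk_eq_zero _).2 (mem_annEl.2 hx)
  have key : ∀ v : S ⊗[R] M, (AlgebraTensorModule.cancelBaseChange R S S C M) ((1 : C) ⊗ₜ[S] v) = j.rTensor M v := by
    intro v
    induction v using TensorProduct.induction_on with
    | zero => simp
    | add a b ha hb => rw [tmul_add, map_add, ha, hb, map_add]
    | tmul s m =>
      show _ = algebraMap S C s ⊗ₜ[R] m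
      rw [AlgebraTensorModule.cancelBaseChange_tmul, Algebra.algebraMap_eq_smul_one]
  have h0 : (1 : C) ⊗ₜ[S] (Submodule.Quotient.mk 1 : S ⧸ J) = 0 := by
    refine Module.Flat.lTensor_preserves_injective_linearMap (M := C) μ hμ ?_
    rw [map_zero, LinearMap.lTensor_tmul, show μ (Submodule.Quotient.mk 1) = w from one_smul S w]
    refine (AlgebraTensorModule.cancelBaseChange R S S C M).injective ?_
    rw [key, hw, map_zero]
  have h1 := congrArg (TensorProduct.tensorQuotEquivQuotSMul C J) h0
  rw [map_zero, show (Submodule.Quotient.mk (1 : S) : S ⧸ J) = Ideal.Quotient.mk J 1 from rfl,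
    TensorProduct.tensorQuotEquivQuotSMul_tmul_mk, one_smul, Submodule.Quotient.mk_eq_zero,
    Ideal.smul_top_eq_map, Submodule.restrictScalars_mem] at h1
  have h2 := Ideal.mem_map_of_mem ρ.toRingHom h1
  rw [map_one, Ideal.map_map, show ρ.toRingHom.comp (algebraMap S C) = Ideal.Quotient.mk I from RingHom.ext fun s => by
      show ρ (algebraMap S C s) = _
      rw [AlgHom.commutes]
      rfl, ← map_one (Ideal.Quotient.mk I), Ideal.mem_map_iff_of_surjective _ Ideal.Quotient.mk_surjective] at h2
  obtain ⟨t, htJ, ht⟩ := h2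
  refine hne t ?_ (mem_annEl.1 htJ)
  have h3 : t - 1 ∈ I := Ideal.Quotient.eq.1 ht
  have h4 : σ (t - 1) = 0 := h3
  rwa [map_sub, map_one, sub_eq_zero] at h4

/-- A standard smooth algebra with a model over a noetherian ring, compatibly with sections, is Mittag-Leffler when it
is detected along the section. -/
theorem ml_of_model_global {A A2 E E2 : Type u} [CommRing A] [CommRing A2] [IsNoetherianRing A2]
    [Algebra A2 A] [CommRing E] [Algebra A E] [CommRing E2] [Algebra A2 E2] [Algebra.IsStandardSmooth A2 E2]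
    (σ2 : E2 →ₐ[A2] A2) (e2 : A ⊗[A2] E2 ≃ₐ[A] E) (τ : E →ₐ[A] A)
    (hτι : ∀ x : E2, τ (e2 ((1 : A) ⊗ₜ[A2] x)) = algebraMap A2 A (σ2 x))
    (hpure : ∀ (M : Type u) [AddCommGroup M] [Module A M] (w : E ⊗[A] M),
      (∃ t, τ t = 1 ∧ t • w = 0) → w = 0) : CAlg.IsMittagLeffler A E := by
  let ι : E2 →+* E := e2.toAlgHom.toRingHom.comp
    (Algebra.TensorProduct.includeRight (R := A2) (A := A) (B := E2)).toRingHom
  obtain ⟨C, _, _, j, hC, hdet⟩ := exists_detecting_ml_global σ2
  let Φ : A ⊗[A2] E2 →ₗ[A] A ⊗[A2] C := j.baseChange A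
  refine CAlgUI.ml_of_ui (Φ.comp e2.symm.toLinearMap) ?_ (CAlgUI.ml_baseChange hC)
  intro M _ _
  letI : Module A2 M := Module.compHom M (algebraMap A2 A)
  haveI : IsScalarTower A2 A M := IsScalarTower.of_algebraMap_smul fun _ _ => rfl
  let cx : ∀ (X : Type u) [AddCommGroup X] [Module A2 X], (A ⊗[A2] X) ⊗[A] M ≃+ X ⊗[A2] M := fun X _ _ =>
    (TensorProduct.comm A (A ⊗[A2] X) M).toAddEquiv.trans
      ((AlgebraTensorModule.cancelBaseChange A2 A A M X).toAddEquiv.trans (TensorProduct.comm A2 M X).toAddEquiv)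
  have hcx : ∀ (X : Type u) [AddCommGroup X] [Module A2 X] (a : A) (x : X) (m : M),
      cx X ((a ⊗ₜ[A2] x) ⊗ₜ[A] m) = x ⊗ₜ[A2] (a • m) := fun X _ _ a x m => by
    simp [cx]
  have hnat : ∀ v, cx C (Φ.rTensor M v) = j.rTensor M (cx E2 v) := fun v => by
    induction v using TensorProduct.induction_on with
    | zero => simp
    | add a b ha hb => simp only [map_add, ha, hb]
    | tmul y m =>
      induction y using TensorProduct.induction_on with
      | zero => simp
      | add a b ha hb => simp only [add_tmul, map_add, ha, hb]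
      | tmul a x => simp [Φ, hcx]
  let eE : E ⊗[A] M ≃ₗ[A] (A ⊗[A2] E2) ⊗[A] M := e2.symm.toLinearEquiv.rTensor M
  have hlin : ∀ (t : E2) (v : E ⊗[A] M), cx E2 (eE (ι t • v)) = t • cx E2 (eE v) := fun t v => by
    induction v using TensorProduct.induction_on with
    | zero => simp
    | add a b ha hb => simp only [smul_add, map_add, ha, hb]
    | tmul y m =>
      obtain ⟨y, rfl⟩ := e2.surjective y
      induction y using TensorProduct.induction_on with
      | zero => simp
      | add a b ha hb => simp only [map_add, add_tmul, smul_add, ha, hb]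
      | tmul a x =>
        rw [smul_tmul', smul_eq_mul, show ι t = e2 ((1 : A) ⊗ₜ t) from rfl, ← map_mul, Algebra.TensorProduct.tmul_mul_tmul,
          one_mul]
        show cx E2 ((e2.symm (e2 (a ⊗ₜ (t * x)))) ⊗ₜ[A] m) = t • cx E2 ((e2.symm (e2 (a ⊗ₜ x))) ⊗ₜ[A] m)
        rw [AlgEquiv.symm_apply_apply, AlgEquiv.symm_apply_apply, hcx, hcx, smul_tmul', smul_eq_mul]
  have main : ∀ v : E ⊗[A] M, Φ.rTensor M (eE v) = 0 → v = 0 := fun v hv => by
    obtain ⟨t, ht, htv⟩ := hdet M (cx E2 (eE v)) (by rw [← hnat, hv, map_zero])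
    refine hpure M v ⟨ι t, (hτι t).trans (by rw [ht, map_one]), ?_⟩
    rw [← hlin] at htv
    exact eE.injective ((cx E2).injective (htv.trans (by rw [map_zero, map_zero])))
  rw [LinearMap.rTensor_comp, LinearMap.coe_comp]
  refine fun a b hab => sub_eq_zero.1 (main (a - b) ?_)
  rw [map_sub, map_sub]
  exact sub_eq_zero.2 hab

/-- The same, for a model obtained by base change from a ring underneath. -/
theorem ml_of_model_global' {A A0 A2 E E0 : Type u} [CommRing A] [CommRing A0] [CommRing A2]
    [IsNoetherianRing A2] [Algebra A0 A2] [Algebra A2 A] [Algebra A0 A] [IsScalarTower A0 A2 A] [CommRing E] [Algebra A E]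
    [CommRing E0] [Algebra A0 E0] [Algebra.IsStandardSmooth A0 E0] (e : E ≃ₐ[A] A ⊗[A0] E0) (τ : E →ₐ[A] A)
    (ψ : E0 →ₐ[A0] A2) (hψ : ∀ x, τ (e.symm ((1 : A) ⊗ₜ[A0] x)) = algebraMap A2 A (ψ x))
    (hpure : ∀ (M : Type u) [AddCommGroup M] [Module A M] (w : E ⊗[A] M),
      (∃ t, τ t = 1 ∧ t • w = 0) → w = 0) : CAlg.IsMittagLeffler A E := by
  let E2 := A2 ⊗[A0] E0
  haveI : Algebra.IsStandardSmooth A2 E2 := inferInstance
  let σ2 : E2 →ₐ[A2] A2 := Algebra.TensorProduct.lift (Algebra.ofId A2 A2) ψ fun _ _ => .all _ _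
  let e2 : A ⊗[A2] E2 ≃ₐ[A] E := (Algebra.TensorProduct.cancelBaseChange A0 A2 A A E0).trans e.symm
  have hτι : ∀ x : E2, τ (e2 ((1 : A) ⊗ₜ[A2] x)) = algebraMap A2 A (σ2 x) := fun x => by
    induction x using TensorProduct.induction_on with
    | zero => simp
    | add a b ha hb => simp only [tmul_add, map_add, ha, hb]
    | tmul a x =>
      show τ (e.symm (Algebra.TensorProduct.cancelBaseChange A0 A2 A A E0 ((1 : A) ⊗ₜ (a ⊗ₜ[A0] x)))) = _
      rw [Algebra.TensorProduct.cancelBaseChange_tmul, Algebra.TensorProduct.lift_tmul, map_mul]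
      show τ (e.symm ((a • (1 : A)) ⊗ₜ[A0] x)) = algebraMap A2 A a * algebraMap A2 A (ψ x)
      rw [← Algebra.algebraMap_eq_smul_one,
        show algebraMap A2 A a ⊗ₜ[A0] x = algebraMap A2 A a • ((1 : A) ⊗ₜ[A0] x) by rw [smul_tmul', smul_eq_mul, mul_one],
        map_smul, map_smul, smul_eq_mul]
      congr 1
      exact hψ x
  exact ml_of_model_global σ2 e2 τ hτι hpure

/-- A standard smooth algebra with a section is Mittag-Leffler when it is detected along the section. -/
theorem ml_of_section_global {A E : Type u} [CommRing A] [CommRing E] [Algebra A E] (d : ℕ)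
    [Algebra.IsStandardSmoothOfRelativeDimension d A E] (τ : E →ₐ[A] A)
    (hpure : ∀ (M : Type u) [AddCommGroup M] [Module A M] (w : E ⊗[A] M),
      (∃ t, τ t = 1 ∧ t • w = 0) → w = 0) : CAlg.IsMittagLeffler A E := by
  classical
  obtain ⟨A0, E0, _, _, hA0, hsm, ⟨e⟩⟩ := Algebra.IsStandardSmoothOfRelativeDimension.exists_subalgebra_fg ℤ A E d
  haveI : IsNoetherianRing A0 := by
    haveI : Algebra.FiniteType ℤ A0 := (Subalgebra.fg_iff_finiteType A0).1 hA0
    exact Algebra.FiniteType.isNoetherianRing ℤ A0
  haveI := hsm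
  haveI : Algebra.IsStandardSmooth A0 E0 := Algebra.IsStandardSmoothOfRelativeDimension.isStandardSmooth d
  obtain ⟨sg, hsg⟩ := (inferInstance : Algebra.FiniteType A0 E0).out
  let φ : E0 →ₐ[A0] A := ((τ.comp e.symm.toAlgHom).restrictScalars A0).comp Algebra.TensorProduct.includeRight
  let T : Subalgebra A0 A := Algebra.adjoin A0 ((sg.image φ : Finset A) : Set A)
  haveI : Algebra.FiniteType A0 T := (Subalgebra.fg_iff_finiteType T).1 ⟨sg.image φ, rfl⟩
  haveI : IsNoetherianRing T := Algebra.FiniteType.isNoetherianRing A0 T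
  have hφT : ∀ x, φ x ∈ T := fun x => by
    have hx : x ∈ Algebra.adjoin A0 (sg : Set E0) := hsg ▸ Algebra.mem_top
    have h1 : φ x ∈ (Algebra.adjoin A0 (sg : Set E0)).map φ := ⟨x, hx, rfl⟩
    rw [AlgHom.map_adjoin] at h1
    rw [show T = Algebra.adjoin A0 (φ '' (sg : Set E0)) by simp [T]]
    exact h1
  exact ml_of_model_global' (A2 := T) e τ (φ.codRestrict T hφT) (fun x => rfl) hpure

end Groth.Agent.H4RG
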