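import Groth.Prelude
import Groth.Agent.H4RG.SectionML
import Groth.Agent.H4RG.GoodSpread
import Groth.Agent.H4RG.SmoothNear
import Mathlib

/-!
# Projectivity of a smooth algebra covered by neighbourhoods of a section
-/

set_option autoImplicit false
set_option linter.style.haveILetI false
set_option backward.isDefEq.respectTransparency.types false

universe u

open TensorProduct Groth.Agent.WeakAss

namespace Groth.Agent.H4RG

/-- The structure map is a base change of the ring itself. -/
theorem isBaseChange_algebraMap (R S : Type u) [CommRing R] [CommRing S] [Algebra R S] :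
    IsBaseChange S (Algebra.linearMap R S) :=
  IsBaseChange.of_equiv (AlgebraTensorModule.rid R S S) fun x => by simp [Algebra.algebraMap_eq_smul_one]

/-- Off a function with unit value on a section, a standard smooth algebra whose fibre components meet the section is
Mittag-Leffler and flat. -/
theorem ml_away_of_section {A E : Type u} [CommRing A] [CommRing E] [Algebra A E] (d : ℕ)
    [Algebra.IsStandardSmoothOfRelativeDimension d A E] (τ : E →ₐ[A] A) (H : E) (hu : IsUnit (τ H))
    (hgen : ∀ η : Ideal E, η.IsPrime → H ∉ η → MinInFibre A η → η ≤ (η.comap (algebraMap A E)).comap τ.toRingHom) :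
    CAlg.IsMittagLeffler A (Localization.Away H) ∧ Module.Flat A (Localization.Away H) ∧
      Algebra.FiniteType A (Localization.Away H) := by
  let S := Localization.Away H
  haveI : Algebra.IsStandardSmoothOfRelativeDimension 0 E S :=
    Algebra.IsStandardSmoothOfRelativeDimension.localization_away H
  haveI hS : Algebra.IsStandardSmoothOfRelativeDimension d A S := by
    have := Algebra.IsStandardSmoothOfRelativeDimension.trans d 0 A E S
    rwa [zero_add] at this
  haveI : Algebra.IsStandardSmooth A S := Algebra.IsStandardSmoothOfRelativeDimension.isStandardSmooth d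
  haveI : Algebra.IsStandardSmooth A E := Algebra.IsStandardSmoothOfRelativeDimension.isStandardSmooth d
  haveI : Algebra.Smooth A S := inferInstance
  refine ⟨?_, inferInstance, inferInstance⟩
  let τS : S →ₐ[A] A := IsLocalization.liftAlgHom (A := A) (S := S) (M := Submonoid.powers H) (f := τ) fun y => by
    obtain ⟨_, n, rfl⟩ := y
    show IsUnit (τ (H ^ n))
    rw [map_pow]
    exact hu.pow n
  refine ml_of_section_global d τS fun M _ _ w ⟨s, hs, hsw⟩ => ?_
  by_contra hw
  obtain ⟨Q, hQ⟩ := Ideal.nonempty_minimalPrimes (I := annEl S w) fun htop =>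
    hw (by simpa using mem_annEl.1 (htop ▸ Submodule.mem_top : (1 : S) ∈ annEl S w))
  haveI hQp : Q.IsPrime := hQ.1.1
  have hmin := minInFibre_of_weakAss M Q (mem_weakAss_iff.2 ⟨w, hQ⟩)
  let η := Q.comap (algebraMap E S)
  have hHη : H ∉ η := fun hm => hQp.ne_top (Ideal.eq_top_of_isUnit_mem _ hm (IsLocalization.Away.algebraMap_isUnit H))
  have hminη : MinInFibre A η := by
    intro η' hη' hle hc
    have hH' : Disjoint (Submonoid.powers H : Set E) η' := (Ideal.disjoint_powers_iff_notMem H hη'.isRadical).2
      fun hm => hHη (hle hm)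
    have hcomap : (η'.map (algebraMap E S)).comap (algebraMap E S) = η' :=
      IsLocalization.comap_map_of_isPrime_disjoint (Submonoid.powers H) S hη' hH'
    have := hmin _ (IsLocalization.isPrime_of_isPrime_disjoint (Submonoid.powers H) S η' hη' hH')
      (Ideal.map_le_iff_le_comap.2 hle) (by
        rw [IsScalarTower.algebraMap_eq A E S, ← Ideal.comap_comap, hcomap, ← Ideal.comap_comap, hc])
    rw [← hcomap, this]
  have hle := hgen η (Ideal.comap_isPrime _ _) hHη hminη
  have hprime : (η.comap (algebraMap A E)).IsPrime := Ideal.comap_isPrime _ _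
  obtain ⟨⟨x, ⟨_, n, rfl⟩⟩, hxs⟩ := IsLocalization.surj (Submonoid.powers H) s
  have hx : x ∈ η := by
    show algebraMap E S x ∈ Q
    rw [← hxs]
    exact Q.mul_mem_right _ (hQ.1.2 (mem_annEl.2 hsw))
  have h1 : τ x ∈ η.comap (algebraMap A E) := hle hx
  have h2 := congrArg τS hxs
  rw [map_mul, hs, one_mul, show τS (algebraMap E S (H ^ n)) = τ (H ^ n) from IsLocalization.lift_eq _ _,
    show τS (algebraMap E S x) = τ x from IsLocalization.lift_eq _ _] at h2
  rw [← h2, map_pow] at h1
  exact hprime.ne_top (Ideal.eq_top_of_isUnit_mem _ h1 (hu.pow n))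

/-- A standard smooth algebra is projective over the base on a neighbourhood covered by a neighbourhood of a section
over a finite projective extension of the base. -/
theorem projective_of_section_cover {A A4 EA E4 : Type u} [CommRing A] [CommRing A4] [CommRing EA] [CommRing E4]
    [Algebra A A4] [Algebra A EA] [Algebra A E4] [Algebra A4 E4] [Algebra EA E4] [IsScalarTower A A4 E4]
    [IsScalarTower A EA E4] [Algebra.IsPushout A A4 EA E4] [Module.Finite A A4] [Module.Flat A A4]
    [Algebra.FinitePresentation A A4] (d : ℕ) [Algebra.IsStandardSmoothOfRelativeDimension d A EA]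
    (τ : E4 →ₐ[A4] A4) (H : E4) (G : EA) (hGH : algebraMap EA E4 G ∣ H) (hu : IsUnit (τ H))
    (hgen : ∀ η : Ideal E4, η.IsPrime → H ∉ η → MinInFibre A4 η → η ≤ (η.comap (algebraMap A4 E4)).comap τ.toRingHom)
    (hcov : ∀ Q : Ideal EA, Q.IsPrime → G ∉ Q → ∃ Q' : Ideal E4, Q'.IsPrime ∧ Q'.comap (algebraMap EA E4) = Q ∧ H ∉ Q') :
    Module.Projective A (LocalizedModule (Submonoid.powers G) EA) := by
  haveI : Algebra.IsStandardSmoothOfRelativeDimension d A4 E4 :=
    Algebra.IsStandardSmoothOfRelativeDimension.of_algEquiv d (Algebra.IsPushout.equiv A A4 EA E4)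
  haveI : Algebra.IsStandardSmooth A EA := Algebra.IsStandardSmoothOfRelativeDimension.isStandardSmooth d
  haveI : Algebra.IsPushout A EA A4 E4 := Algebra.IsPushout.symm inferInstance
  haveI : Module.Flat EA E4 := by
    haveI : Module.Flat EA (EA ⊗[A] A4) := inferInstance
    exact Module.Flat.of_linearEquiv (Algebra.IsPushout.equiv A EA A4 E4).symm.toLinearEquiv
  let H' := H * algebraMap EA E4 G
  have hu' : IsUnit (τ H') := by
    rw [map_mul]
    exact hu.mul (isUnit_of_dvd_unit (map_dvd τ hGH) hu)
  obtain ⟨hml, hflat, hft⟩ := ml_away_of_section d τ H' hu' fun η hη hH =>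
    hgen η hη fun hm => hH (Ideal.mul_mem_right _ _ hm)
  let S := Localization.Away H'
  haveI := hflat
  haveI := hft
  haveI : Module.FinitePresentation A A4 := Module.FinitePresentation.of_finite_of_finitePresentation A A4
  haveI : Module.Flat A S := Module.Flat.trans A A4 S
  haveI : Algebra.FiniteType A S := Algebra.FiniteType.trans (S := A4) (inferInstance : Algebra.FiniteType A A4) hft
  haveI : Module.Projective A S := CAlgUI.projective_of_flat_ml_countablyGenerated (CAlgUI.ml_restrict_of_fp hml)
    (countablyGenerated_of_finite A (S := S) S)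
  haveI : IsLocalizedModule (Submonoid.powers H') (Algebra.linearMap E4 S) := inferInstance
  haveI : Module.Projective A (LocalizedModule (Submonoid.powers (H * algebraMap EA E4 G)) E4) :=
    Module.Projective.of_equiv
      ((IsLocalizedModule.iso (Submonoid.powers H') (Algebra.linearMap E4 S)).restrictScalars A).symm
  exact projective_of_cover (R := A) (Algebra.linearMap EA E4) (isBaseChange_algebraMap EA E4) H hcov

end Groth.Agent.H4RG
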