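import Groth.Prelude
import Groth.Agent.H4RG.GoodSpread
import Mathlib

/-!
# Etale stages at a point and their good neighbourhoods
-/

set_option autoImplicit false
set_option linter.style.haveILetI false
set_option backward.isDefEq.respectTransparency.types false

universe u

open TensorProduct

namespace Groth.Agent.H4RG

attribute [local instance] Algebra.TensorProduct.rightAlgebra

theorem FracPoint.trans {R A K : Type u} [CommRing R] [CommRing A] [Field K] [Algebra R K] [Algebra R A] [Algebra A K]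
    [IsScalarTower R A K] (hK : FracPoint R K) : FracPoint A K := fun x => by
  obtain ⟨r, u, hu, hur⟩ := hK x
  refine ⟨algebraMap R A r, algebraMap R A u, ?_, ?_⟩
  · rwa [← IsScalarTower.algebraMap_apply]
  · rw [← IsScalarTower.algebraMap_apply, ← IsScalarTower.algebraMap_apply, hur]

section abstract

variable {R A1 A2 S S1 S2 K L : Type u} [CommRing R] [CommRing A1] [CommRing A2] [CommRing S] [CommRing S1] [CommRing S2]
  [Field K] [Field L] [Algebra R A1] [Algebra R A2] [Algebra R S] [Algebra R S1] [Algebra R S2] [Algebra S S1]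
  [Algebra S S2] [Algebra A1 S1] [Algebra A2 S2] [IsScalarTower R S S1] [IsScalarTower R A1 S1] [IsScalarTower R S S2]
  [IsScalarTower R A2 S2] [Algebra.IsPushout R S A1 S1] [Algebra.IsPushout R S A2 S2]
  [Algebra A1 A2] [IsScalarTower R A1 A2] [Algebra S1 S2] [IsScalarTower S S1 S2] [Algebra A1 S2]
  [IsScalarTower A1 S1 S2] [IsScalarTower A1 A2 S2]
  [Algebra R K] [Algebra A1 K] [Algebra A2 K] [IsScalarTower R A1 K] [IsScalarTower A1 A2 K]
  {N N1 N2 : Type u} [AddCommGroup N] [Module S N]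
  [AddCommGroup N1] [Module S1 N1] [Module S N1] [IsScalarTower S S1 N1] [Module A1 N1] [IsScalarTower A1 S1 N1]
  [AddCommGroup N2] [Module S2 N2] [Module S1 N2] [IsScalarTower S1 S2 N2] [Module S N2] [IsScalarTower S S2 N2]
  [Module A2 N2] [IsScalarTower A2 S2 N2]

/-- A good neighbourhood on one stage gives one on a further stage. -/
theorem Good.stageMap (hK : FracPoint R K) (f1 : N →ₗ[S] N1) (hf1 : IsBaseChange S1 f1) (f2 : N →ₗ[S] N2)
    (hf2 : IsBaseChange S2 f2) (σ1 : S1 →+* L) (σ2 : S2 →+* L) (ι : K →+* L)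
    (hσ : ∀ x, σ2 (algebraMap S1 S2 x) = σ1 x) (hσA : ∀ a, σ2 (algebraMap A2 S2 a) = ι (algebraMap A2 K a))
    {g : S1} (h : Good A1 K N1 (RingHom.ker σ1) g) :
    Good A2 K N2 (RingHom.ker σ2) (algebraMap S1 S2 g) := by
  haveI : Algebra.IsPushout R A1 S S1 := Algebra.IsPushout.symm inferInstance
  haveI : Algebra.IsPushout R A2 S S2 := Algebra.IsPushout.symm inferInstance
  haveI : IsScalarTower R S1 S2 := IsScalarTower.of_algebraMap_eq fun r => by
    rw [IsScalarTower.algebraMap_apply R S S2, IsScalarTower.algebraMap_apply R S S1,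
      ← IsScalarTower.algebraMap_apply S S1 S2]
  haveI : Algebra.IsPushout A1 A2 S1 S2 :=
    (Algebra.IsPushout.comp_iff (R := R) (S := A1) (T := A2) (R' := S) (S' := S1) (T' := S2)).1 inferInstance
  haveI : Algebra.IsPushout A1 S1 A2 S2 := Algebra.IsPushout.symm inferInstance
  haveI : IsScalarTower S S1 N2 := IsScalarTower.of_algebraMap_smul fun s x => by
    rw [← algebraMap_smul S2 (algebraMap S S1 s) x, ← IsScalarTower.algebraMap_apply, algebraMap_smul]
  let f12 : N1 →ₗ[S1] N2 := hf1.lift f2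
  have hf12 : IsBaseChange S2 f12 := IsBaseChange.of_comp hf1 (by
    rw [show ((f12 : N1 →ₗ[S] N2) ∘ₗ f1) = f2 from hf1.lift_comp f2]
    exact hf2)
  exact Good.baseChange (hK.trans (A := A1)) f12 hf12 σ1 σ2 ι hσ hσA h

end abstract

section shrink

/-- Shrinking along an element outside the point, after inverting an element of the base outside the point. -/
theorem Good.shrink {R S K L : Type u} [CommRing R] [CommRing S] [Field K] [Field L] [Algebra R S]
    [Algebra.FinitePresentation R S] [Algebra R K] {N : Type u} [AddCommGroup N] [Module S N] [Module R N]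
    [IsScalarTower R S N] [Module.FinitePresentation S N] (hK : FracPoint R K) (σ : S →+* L) (ι : K →+* L)
    {g : S} (h : Good R K N (RingHom.ker σ) g) {t : S} (ht : σ t ≠ 0) :
    ∃ f : R, algebraMap R K f ≠ 0 ∧
      ∀ (A SA NA : Type u) [CommRing A] [CommRing SA] [AddCommGroup NA] [Algebra R A] [Algebra R SA] [Algebra S SA]
        [Algebra A SA] [IsScalarTower R S SA] [IsScalarTower R A SA] [Algebra.IsPushout R S A SA] [Algebra A K]
        [IsScalarTower R A K] [Module SA NA] [Module S NA] [IsScalarTower S SA NA] [Module A NA] [IsScalarTower A SA NA]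
        (f' : N →ₗ[S] NA) (_ : IsBaseChange SA f') (σA : SA →+* L),
        (∀ s, σA (algebraMap S SA s) = σ s) → (∀ a, σA (algebraMap A SA a) = ι (algebraMap A K a)) →
        IsUnit (algebraMap R A f) → Good A K NA (RingHom.ker σA) (algebraMap S SA (g * t)) := by
  obtain ⟨f, hf, hk⟩ := h.exists_ui (t := t) hK fun w hw => h.foc w t (fun hm => ht (RingHom.mem_ker.1 hm)) hw
  refine ⟨f, hf, ?_⟩
  intro A SA NA _ _ _ _ _ _ _ _ _ _ _ _ _ _ _ _ _ f' hf' σA hσS hσA hu
  haveI : Algebra.IsPushout R A S SA := Algebra.IsPushout.symm inferInstance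
  have hA := h.baseChange (A := A) hK f' hf' σ σA ι hσS hσA
  haveI : Algebra.FiniteType A SA :=
    Algebra.FiniteType.equiv (inferInstance : Algebra.FiniteType A (A ⊗[R] S)) (Algebra.IsPushout.equiv R A S SA)
  haveI : Module.Finite SA NA := Module.Finite.equiv hf'.equiv
  haveI : (RingHom.ker σA).IsPrime := RingHom.ker_isPrime _
  rw [map_mul]
  refine hA.mul_of_ui (fun hm => ht ((hσS t).symm.trans (RingHom.mem_ker.1 hm))) fun M' _ _ w hw => ?_
  letI : Module R M' := Module.compHom M' (algebraMap R A)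
  haveI : IsScalarTower R A M' := IsScalarTower.of_algebraMap_smul fun _ _ => rfl
  obtain ⟨ψ, hψ, hψt, hψs⟩ := exists_tensor_equiv (R := R) (A := A) M' f' hf'
  obtain ⟨v, rfl⟩ := hψ.2 w
  obtain ⟨k, hk⟩ := hk M' v (hψ.1 (by rw [hψs, hw, map_zero]))
  refine ⟨k, ?_⟩
  have h0 : algebraMap S SA ((algebraMap R S f * g) ^ k) • ψ v = 0 := by rw [← hψs, hk, map_zero]
  rw [map_pow, map_mul, mul_pow, ← IsScalarTower.algebraMap_apply, IsScalarTower.algebraMap_apply R A SA,
    mul_smul] at h0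
  exact ((hu.map (algebraMap A SA)).pow k).smul_eq_zero.1 h0

end shrink

section concrete

variable (R K L S : Type u) [CommRing R] [Field K] [Field L] [CommRing S] [Algebra R K] [Algebra R S] [Algebra S L]
  [Algebra R L] [IsScalarTower R S L] [Algebra K L] [IsScalarTower R K L]

variable {R K} in
/-- The point of a stage over a point of the algebra. -/
noncomputable def pt {R' : Type u} [CommRing R'] [Algebra R R'] (ε : R' →ₐ[R] K) : R' ⊗[R] S →ₐ[R] L :=
  Algebra.TensorProduct.lift ((IsScalarTower.toAlgHom R K L).comp ε) (IsScalarTower.toAlgHom R S L) fun _ _ => .all _ _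

variable {R K} in
theorem pt_tmul {R' : Type u} [CommRing R'] [Algebra R R'] (ε : R' →ₐ[R] K) (a : R') (s : S) :
    pt L S ε (a ⊗ₜ[R] s) = algebraMap K L (ε a) * algebraMap S L s :=
  Algebra.TensorProduct.lift_tmul _ _ _ a s

variable (N : Type u) [AddCommGroup N] [Module S N]

/-- A stage with a good neighbourhood. -/
def GoodStage {R' : Type u} [CommRing R'] [Algebra R R'] (ε : R' →ₐ[R] K) (g : R' ⊗[R] S) : Prop :=
  letI := ε.toRingHom.toAlgebra
  Good R' K ((R' ⊗[R] S) ⊗[S] N) (RingHom.ker (pt L S ε)) g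

/-- After an etale change of the base with the same residue field, a neighbourhood of the point becomes good. -/
def Spreads : Prop :=
  ∃ (R' : Type u) (_ : CommRing R') (_ : Algebra R R') (_ : Algebra.Etale R R') (ε : R' →ₐ[R] K) (g : R' ⊗[R] S),
    GoodStage R K L S N ε g

variable {R K L S N} {R1 R2 : Type u} [CommRing R1] [CommRing R2] [Algebra R R1] [Algebra R R2]

theorem GoodStage.map (hK : FracPoint R K) {ε1 : R1 →ₐ[R] K} {ε2 : R2 →ₐ[R] K} (α : R1 →ₐ[R] R2)
    (hα : ε2.comp α = ε1) {g : R1 ⊗[R] S} (h : GoodStage R K L S N ε1 g) :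
    GoodStage R K L S N ε2 (Algebra.TensorProduct.map α (AlgHom.id R S) g) := by
  letI := ε1.toRingHom.toAlgebra
  letI := ε2.toRingHom.toAlgebra
  letI : Algebra R1 R2 := α.toRingHom.toAlgebra
  haveI : IsScalarTower R R1 R2 := IsScalarTower.of_algebraMap_eq fun r => (α.commutes r).symm
  haveI : IsScalarTower R R1 K := IsScalarTower.of_algebraMap_eq fun r => (ε1.commutes r).symm
  haveI : IsScalarTower R1 R2 K := IsScalarTower.of_algebraMap_eq fun r => (congr($hα r)).symm
  let φ := Algebra.TensorProduct.map α (AlgHom.id R S)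
  letI : Algebra (R1 ⊗[R] S) (R2 ⊗[R] S) := φ.toRingHom.toAlgebra
  haveI : IsScalarTower S (R1 ⊗[R] S) (R2 ⊗[R] S) := IsScalarTower.of_algebraMap_eq fun s => by
    show (1 : R2) ⊗ₜ[R] s = φ ((1 : R1) ⊗ₜ[R] s)
    rw [Algebra.TensorProduct.map_tmul, map_one, AlgHom.id_apply]
  haveI : IsScalarTower R1 (R1 ⊗[R] S) (R2 ⊗[R] S) := IsScalarTower.of_algebraMap_eq fun a => by
    show α a ⊗ₜ[R] (1 : S) = φ (a ⊗ₜ[R] (1 : S))
    rw [Algebra.TensorProduct.map_tmul, map_one]
  haveI : Algebra.IsPushout R S R1 (R1 ⊗[R] S) := Algebra.IsPushout.symm inferInstance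
  haveI : Algebra.IsPushout R S R2 (R2 ⊗[R] S) := Algebra.IsPushout.symm inferInstance
  exact Good.stageMap (R := R) (S := S) hK _ (TensorProduct.isBaseChange S N (R1 ⊗[R] S)) _
    (TensorProduct.isBaseChange S N (R2 ⊗[R] S)) (pt L S ε1).toRingHom (pt L S ε2).toRingHom (algebraMap K L)
    (fun x => by
      show pt L S ε2 (φ x) = pt L S ε1 x
      induction x using TensorProduct.induction_on with
      | zero => simp
      | add a b ha hb => simp only [map_add, ha, hb]
      | tmul a s => rw [Algebra.TensorProduct.map_tmul, pt_tmul, pt_tmul, AlgHom.id_apply, ← hα]; rfl)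
    (fun a => by
      show pt L S ε2 (a ⊗ₜ[R] (1 : S)) = _
      rw [pt_tmul, map_one, mul_one]
      rfl) h

theorem GoodStage.shrink [Algebra.FinitePresentation R S] [Module.FinitePresentation S N] (hK : FracPoint R K)
    {ε1 : R1 →ₐ[R] K} {g : R1 ⊗[R] S} (h : GoodStage R K L S N ε1 g) {t : R1 ⊗[R] S} (ht : pt L S ε1 t ≠ 0) :
    ∃ f : R1, ε1 f ≠ 0 ∧ ∀ (R2 : Type u) [CommRing R2] [Algebra R R2] (ε2 : R2 →ₐ[R] K) (α : R1 →ₐ[R] R2),
      ε2.comp α = ε1 → IsUnit (α f) → GoodStage R K L S N ε2 (Algebra.TensorProduct.map α (AlgHom.id R S) (g * t)) := by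
  letI := ε1.toRingHom.toAlgebra
  haveI : IsScalarTower R R1 K := IsScalarTower.of_algebraMap_eq fun r => (ε1.commutes r).symm
  obtain ⟨f, hf, hk⟩ := Good.shrink (hK.trans (A := R1)) (pt L S ε1).toRingHom (algebraMap K L) h ht
  refine ⟨f, hf, fun R2 _ _ ε2 α hα hu => ?_⟩
  letI := ε2.toRingHom.toAlgebra
  letI : Algebra R1 R2 := α.toRingHom.toAlgebra
  haveI : IsScalarTower R R1 R2 := IsScalarTower.of_algebraMap_eq fun r => (α.commutes r).symm
  haveI : IsScalarTower R1 R2 K := IsScalarTower.of_algebraMap_eq fun r => (congr($hα r)).symm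
  let φ := Algebra.TensorProduct.map α (AlgHom.id R S)
  letI : Algebra (R1 ⊗[R] S) (R2 ⊗[R] S) := φ.toRingHom.toAlgebra
  haveI : IsScalarTower S (R1 ⊗[R] S) (R2 ⊗[R] S) := IsScalarTower.of_algebraMap_eq fun s => by
    show (1 : R2) ⊗ₜ[R] s = φ ((1 : R1) ⊗ₜ[R] s)
    rw [Algebra.TensorProduct.map_tmul, map_one, AlgHom.id_apply]
  haveI : IsScalarTower R1 (R1 ⊗[R] S) (R2 ⊗[R] S) := IsScalarTower.of_algebraMap_eq fun a => by
    show α a ⊗ₜ[R] (1 : S) = φ (a ⊗ₜ[R] (1 : S))
    rw [Algebra.TensorProduct.map_tmul, map_one]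
  haveI : Algebra.IsPushout R R1 S (R1 ⊗[R] S) := inferInstance
  haveI : Algebra.IsPushout R R2 S (R2 ⊗[R] S) := inferInstance
  haveI : IsScalarTower R (R1 ⊗[R] S) (R2 ⊗[R] S) := IsScalarTower.of_algebraMap_eq fun r => (φ.commutes r).symm
  haveI : Algebra.IsPushout R1 R2 (R1 ⊗[R] S) (R2 ⊗[R] S) :=
    (Algebra.IsPushout.comp_iff (R := R) (S := R1) (T := R2) (R' := S) (S' := R1 ⊗[R] S) (T' := R2 ⊗[R] S)).1 inferInstance
  haveI : Algebra.IsPushout R1 (R1 ⊗[R] S) R2 (R2 ⊗[R] S) := Algebra.IsPushout.symm inferInstance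
  haveI : IsScalarTower S (R1 ⊗[R] S) ((R2 ⊗[R] S) ⊗[S] N) := IsScalarTower.of_algebraMap_smul fun s x => by
    rw [← algebraMap_smul (R2 ⊗[R] S) (algebraMap S (R1 ⊗[R] S) s) x, ← IsScalarTower.algebraMap_apply, algebraMap_smul]
  let f1 := TensorProduct.mk S (R1 ⊗[R] S) N 1
  let f2 := TensorProduct.mk S (R2 ⊗[R] S) N 1
  have hf1 : IsBaseChange (R1 ⊗[R] S) f1 := TensorProduct.isBaseChange S N (R1 ⊗[R] S)
  have hf2 : IsBaseChange (R2 ⊗[R] S) f2 := TensorProduct.isBaseChange S N (R2 ⊗[R] S)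
  have hf12 : IsBaseChange (R2 ⊗[R] S) (hf1.lift f2) := IsBaseChange.of_comp hf1 (by
    rw [hf1.lift_comp f2]
    exact hf2)
  refine hk R2 (R2 ⊗[R] S) _ (hf1.lift f2) hf12 (pt L S ε2).toRingHom (fun x => ?_) (fun a => ?_) hu
  · show pt L S ε2 (φ x) = pt L S ε1 x
    induction x using TensorProduct.induction_on with
    | zero => simp
    | add a b ha hb => simp only [map_add, ha, hb]
    | tmul a s => rw [Algebra.TensorProduct.map_tmul, pt_tmul, pt_tmul, AlgHom.id_apply, ← hα]; rfl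
  · show pt L S ε2 (a ⊗ₜ[R] (1 : S)) = _
    rw [pt_tmul, map_one, mul_one]
    rfl

/-- Two stages map to a third one. -/
theorem exists_common_stage [Algebra.Etale R R1] [Algebra.Etale R R2] (ε1 : R1 →ₐ[R] K) (ε2 : R2 →ₐ[R] K) :
    ∃ (R3 : Type u) (_ : CommRing R3) (_ : Algebra R R3) (_ : Algebra.Etale R R3) (ε3 : R3 →ₐ[R] K)
      (α1 : R1 →ₐ[R] R3) (α2 : R2 →ₐ[R] R3), ε3.comp α1 = ε1 ∧ ε3.comp α2 = ε2 := by
  haveI : Algebra.Etale R1 (R1 ⊗[R] R2) := inferInstance
  refine ⟨R1 ⊗[R] R2, inferInstance, inferInstance, Algebra.Etale.comp R R1 (R1 ⊗[R] R2),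
    Algebra.TensorProduct.lift ε1 ε2 fun _ _ => .all _ _, Algebra.TensorProduct.includeLeft,
    Algebra.TensorProduct.includeRight, ?_, ?_⟩
  · exact AlgHom.ext fun x => by simp
  · exact AlgHom.ext fun x => by simp

/-- Localising a stage away from an element outside the point. -/
theorem exists_away_stage [Algebra.Etale R R1] (ε1 : R1 →ₐ[R] K) {f : R1} (hf : ε1 f ≠ 0) :
    ∃ (R2 : Type u) (_ : CommRing R2) (_ : Algebra R R2) (_ : Algebra.Etale R R2) (ε2 : R2 →ₐ[R] K)
      (α : R1 →ₐ[R] R2), ε2.comp α = ε1 ∧ IsUnit (α f) := by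
  haveI : Algebra.Etale R1 (Localization.Away f) := Algebra.Etale.of_isLocalizationAway f
  have hu : ∀ y : Submonoid.powers f, IsUnit (ε1 y.1) := by
    rintro ⟨_, n, rfl⟩
    rw [map_pow]
    exact (isUnit_iff_ne_zero.2 hf).pow n
  refine ⟨Localization.Away f, inferInstance, inferInstance, Algebra.Etale.comp R R1 (Localization.Away f),
    IsLocalization.liftAlgHom (A := R) (S := Localization.Away f) (M := Submonoid.powers f) (f := ε1) hu,
    IsScalarTower.toAlgHom R R1 (Localization.Away f), ?_, IsLocalization.Away.algebraMap_isUnit f⟩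
  exact AlgHom.ext fun x => IsLocalization.lift_eq _ x

end concrete

end Groth.Agent.H4RG
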