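import Groth.Prelude
import Groth.Agent.H4RG.Stage
import Groth.Agent.H4RG.MLBase
import Mathlib

/-!
# Points over a point of the base
-/

set_option autoImplicit false
set_option linter.style.haveILetI false
set_option backward.isDefEq.respectTransparency.types false

universe u

open TensorProduct Groth.Agent.WeakAss

namespace Groth.Agent.H4RG

attribute [local instance] Algebra.TensorProduct.rightAlgebra

variable {R K : Type u} [CommRing R] [Field K] [Algebra R K]

/-- The residue field of the point is the field of fractions. -/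
theorem exists_residueField_equiv (hK : FracPoint R K) (p : Ideal R) [p.IsPrime]
    (hp : RingHom.ker (algebraMap R K) = p) : Nonempty (p.ResidueField ≃ₐ[R] K) := by
  let e : p.ResidueField →ₐ[R] K := Ideal.ResidueField.liftₐ p (Algebra.ofId R K)
    (fun x hx => by rw [← hp] at hx; exact hx) fun x hx => by
      refine isUnit_iff_ne_zero.2 fun h => hx ?_
      rw [← hp]
      exact RingHom.mem_ker.2 h
  refine ⟨AlgEquiv.ofBijective e ⟨e.toRingHom.injective, fun x => ?_⟩⟩
  obtain ⟨r, v, hv, hvr⟩ := hK x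
  refine ⟨algebraMap R p.ResidueField r / algebraMap R p.ResidueField v, ?_⟩
  rw [map_div₀, AlgHom.commutes, AlgHom.commutes, ← hvr, mul_div_cancel_left₀ _ hv]

/-- A field over the same point receives the residue field. -/
theorem exists_point_hom (hK : FracPoint R K) (M : Type u) [Field M] [Algebra R M]
    (h : RingHom.ker (algebraMap R M) = RingHom.ker (algebraMap R K)) : Nonempty (K →ₐ[R] M) := by
  let p := RingHom.ker (algebraMap R K)
  haveI : p.IsPrime := RingHom.ker_isPrime _
  obtain ⟨e⟩ := exists_residueField_equiv hK p rfl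
  exact ⟨(Ideal.ResidueField.liftₐ p (Algebra.ofId R M) (fun x hx => h.ge hx) fun x hx =>
    isUnit_iff_ne_zero.2 fun h0 => hx (h.le (RingHom.mem_ker.2 h0))).comp e.symm.toAlgHom⟩

section eqKer

variable {S L R' : Type u} [CommRing S] [Field L] [Algebra R S] [Algebra S L] [Algebra R L] [IsScalarTower R S L]
  [Algebra K L] [IsScalarTower R K L] [CommRing R'] [Algebra R R']

/-- Modulo the point of the base every element of a stage comes, up to a function nonzero at the point, from the algebra. -/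
theorem exists_stage_rep (hK : FracPoint R K) (ε : R' →ₐ[R] K) (y : R' ⊗[R] S) :
    ∃ (v : R) (s : S), algebraMap R K v ≠ 0 ∧
      algebraMap R (R' ⊗[R] S) v * y - algebraMap S (R' ⊗[R] S) s ∈
        (RingHom.ker ε).map (algebraMap R' (R' ⊗[R] S)) := by
  let I := (RingHom.ker ε).map (algebraMap R' (R' ⊗[R] S))
  induction y using TensorProduct.induction_on with
  | zero => exact ⟨1, 0, by simp, by simp⟩
  | add a b ha hb =>
    obtain ⟨v, s, hv, hs⟩ := ha
    obtain ⟨w, t, hw, ht⟩ := hb
    refine ⟨v * w, algebraMap R S w * s + algebraMap R S v * t, by rw [map_mul]; exact mul_ne_zero hv hw, ?_⟩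
    have := add_mem (I.mul_mem_left (algebraMap R (R' ⊗[R] S) w) hs) (I.mul_mem_left (algebraMap R (R' ⊗[R] S) v) ht)
    convert this using 1
    simp only [map_add, map_mul, ← IsScalarTower.algebraMap_apply]
    ring
  | tmul a s =>
    obtain ⟨r, v, hv, hvr⟩ := hK (ε a)
    refine ⟨v, algebraMap R S r * s, hv, ?_⟩
    have h0 : algebraMap R R' v * a - algebraMap R R' r ∈ RingHom.ker ε := by
      rw [RingHom.mem_ker, map_sub, map_mul, AlgHom.commutes, AlgHom.commutes, hvr, sub_self]
    have h1 := I.mul_mem_right ((1 : R') ⊗ₜ[R] s) (Ideal.mem_map_of_mem (algebraMap R' (R' ⊗[R] S)) h0)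
    convert h1 using 1
    show ((algebraMap R R' v) ⊗ₜ[R] (1 : S)) * (a ⊗ₜ[R] s) - (1 : R') ⊗ₜ[R] (algebraMap R S r * s) =
      ((algebraMap R R' v * a - algebraMap R R' r) ⊗ₜ[R] (1 : S)) * ((1 : R') ⊗ₜ[R] s)
    rw [Algebra.TensorProduct.tmul_mul_tmul, Algebra.TensorProduct.tmul_mul_tmul, one_mul, mul_one, sub_tmul,
      ← Algebra.smul_def r s, tmul_smul, smul_tmul', ← Algebra.algebraMap_eq_smul_one]

/-- A prime of a stage over the two points is the point of the stage. -/
theorem eq_ker_pt (hK : FracPoint R K) (ε : R' →ₐ[R] K) (Q : Ideal (R' ⊗[R] S)) [Q.IsPrime]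
    (hQR : Q.comap (algebraMap R' (R' ⊗[R] S)) = RingHom.ker ε)
    (hQS : Q.comap (algebraMap S (R' ⊗[R] S)) = RingHom.ker (algebraMap S L)) :
    Q = RingHom.ker (pt L S ε) := by
  let I := (RingHom.ker ε).map (algebraMap R' (R' ⊗[R] S))
  have key := exists_stage_rep (S := S) hK ε
  have hptI : I ≤ RingHom.ker (pt L S ε) := Ideal.map_le_iff_le_comap.2 fun a ha => by
    rw [Ideal.mem_comap, RingHom.mem_ker]
    show pt L S ε (a ⊗ₜ[R] (1 : S)) = 0
    rw [pt_tmul, RingHom.mem_ker.1 ha, map_zero, zero_mul]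
  have hQI : I ≤ Q := Ideal.map_le_iff_le_comap.2 hQR.ge
  have hQv : ∀ v : R, algebraMap R K v ≠ 0 → algebraMap R (R' ⊗[R] S) v ∉ Q := fun v hv hm => hv (by
    have h1 : algebraMap R R' v ∈ Q.comap (algebraMap R' (R' ⊗[R] S)) := by
      rwa [Ideal.mem_comap, ← IsScalarTower.algebraMap_apply]
    rw [hQR, RingHom.mem_ker, AlgHom.commutes] at h1
    exact h1)
  have hpv : ∀ v : R, algebraMap R K v ≠ 0 → pt L S ε (algebraMap R (R' ⊗[R] S) v) ≠ 0 := fun v hv h0 => hv (by
    rw [AlgHom.commutes, IsScalarTower.algebraMap_apply R K L] at h0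
    exact (map_eq_zero _).1 h0)
  have hptS : ∀ s : S, pt L S ε (algebraMap S (R' ⊗[R] S) s) = algebraMap S L s := fun s => by
    show pt L S ε ((1 : R') ⊗ₜ[R] s) = _
    rw [pt_tmul, map_one, map_one, one_mul]
  ext y
  obtain ⟨v, s, hv, hs⟩ := key y
  have h1 : algebraMap S (R' ⊗[R] S) s ∈ Q ↔ y ∈ Q := by
    refine ⟨fun h => (‹Q.IsPrime›.mem_or_mem ?_).resolve_left (hQv v hv), fun h => ?_⟩
    · simpa using add_mem (hQI hs) h
    · simpa using sub_mem (Q.mul_mem_left (algebraMap R (R' ⊗[R] S) v) h) (hQI hs)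
  have h2 : algebraMap S L s = pt L S ε (algebraMap R (R' ⊗[R] S) v) * pt L S ε y := by
    have h3 := hptI hs
    rw [RingHom.mem_ker, map_sub, map_mul, sub_eq_zero, hptS] at h3
    exact h3.symm
  rw [← h1, ← Ideal.mem_comap, hQS, RingHom.mem_ker, RingHom.mem_ker, h2]
  exact mul_eq_zero.trans (or_iff_right (hpv v hv))

/-- A prime of a stage over the point of the base, specialising the point of the algebra, specialises the point of the
stage. -/
theorem ker_pt_le (hK : FracPoint R K) (ε : R' →ₐ[R] K) (Q : Ideal (R' ⊗[R] S))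
    [Q.IsPrime] (hQR : Q.comap (algebraMap R' (R' ⊗[R] S)) = RingHom.ker ε)
    (hQS : RingHom.ker (algebraMap S L) ≤ Q.comap (algebraMap S (R' ⊗[R] S))) :
    RingHom.ker (pt L S ε) ≤ Q := fun y hy => by
  obtain ⟨v, s, hv, hs⟩ := exists_stage_rep (S := S) hK ε y
  have hQI := Ideal.map_le_iff_le_comap.2 hQR.ge
  have h0 : pt L S ε (algebraMap R (R' ⊗[R] S) v * y - algebraMap S (R' ⊗[R] S) s) = 0 := by
    refine RingHom.mem_ker.1 ((Ideal.map_le_iff_le_comap.2 fun a ha => ?_ :
      (RingHom.ker ε).map (algebraMap R' (R' ⊗[R] S)) ≤ RingHom.ker (pt L S ε)) hs)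
    rw [Ideal.mem_comap, RingHom.mem_ker]
    show pt L S ε (a ⊗ₜ[R] (1 : S)) = 0
    rw [pt_tmul, RingHom.mem_ker.1 ha, map_zero, zero_mul]
  rw [map_sub, map_mul, RingHom.mem_ker.1 hy, mul_zero, zero_sub, neg_eq_zero,
    show pt L S ε (algebraMap S (R' ⊗[R] S) s) = algebraMap S L s by
      show pt L S ε ((1 : R') ⊗ₜ[R] s) = _
      rw [pt_tmul, map_one, map_one, one_mul]] at h0
  have h1 : algebraMap R (R' ⊗[R] S) v * y ∈ Q := by
    simpa using add_mem (hQI hs) (hQS (RingHom.mem_ker.2 h0) : algebraMap S (R' ⊗[R] S) s ∈ Q)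
  refine (‹Q.IsPrime›.mem_or_mem h1).resolve_left fun hm => hv ?_
  have h2 : algebraMap R R' v ∈ Q.comap (algebraMap R' (R' ⊗[R] S)) := by
    rwa [Ideal.mem_comap, ← IsScalarTower.algebraMap_apply]
  rw [hQR, RingHom.mem_ker, AlgHom.commutes] at h2
  exact h2

end eqKer

/-- Integral elements of an algebra are values of a finite free algebra. -/
theorem exists_free_hom {M : Type u} [CommRing M] [Algebra R M] :
    ∀ (n : ℕ) (x : Fin n → M), (∀ i, IsIntegral R (x i)) →
      ∃ (A : Type u) (_ : CommRing A) (_ : Algebra R A) (_ : Module.Finite R A) (_ : Module.Free R A) (χ : A →ₐ[R] M),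
        ∀ i, ∃ a, χ a = x i
  | 0, _, _ => ⟨R, inferInstance, inferInstance, inferInstance, inferInstance, Algebra.ofId R M, fun i => i.elim0⟩
  | n + 1, x, hx => by
    obtain ⟨A, _, _, _, _, χ, hχ⟩ := exists_free_hom n (fun i => x i.succ) fun i => hx _
    obtain ⟨g, hg, hg0⟩ := hx 0
    let B := AdjoinRoot g
    haveI : Module.Free R B := Module.Free.of_basis (AdjoinRoot.powerBasis' hg).basis
    haveI : Module.Finite R B := Module.Finite.of_basis (AdjoinRoot.powerBasis' hg).basis
    let χB : B →ₐ[R] M := AdjoinRoot.liftAlgHom g (Algebra.ofId R M) (x 0) hg0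
    refine ⟨B ⊗[R] A, inferInstance, inferInstance, inferInstance, inferInstance,
      Algebra.TensorProduct.lift χB χ fun _ _ => .all _ _, fun i => ?_⟩
    refine Fin.cases ?_ (fun i => ?_) i
    · exact ⟨AdjoinRoot.root g ⊗ₜ 1, by
        rw [Algebra.TensorProduct.lift_tmul, map_one, mul_one]
        exact AdjoinRoot.liftAlgHom_root ..⟩
    · obtain ⟨a, ha⟩ := hχ i
      exact ⟨1 ⊗ₜ a, by simp [ha]⟩

open Polynomial in
/-- An element algebraic over the point becomes integral after scaling by an element nonzero at the point. -/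
theorem exists_mul_isIntegral (hK : FracPoint R K) {M : Type u} [Field M] [Algebra K M] [Algebra R M]
    [IsScalarTower R K M] [Module.Finite K M] (ξ : M) :
    ∃ c : R, algebraMap R K c ≠ 0 ∧ IsIntegral R (algebraMap R M c * ξ) := by
  classical
  let q := minpoly K ξ
  have hint : IsIntegral K ξ := IsIntegral.of_finite K ξ
  choose r v hv hvr using hK
  let c := ∏ j ∈ Finset.range q.natDegree, v (q.coeff j)
  refine ⟨c, by rw [map_prod]; exact Finset.prod_ne_zero_iff.2 fun j _ => hv _, ?_⟩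
  let q' := q.scaleRoots (algebraMap R K c)
  have hq'm : q'.Monic := (monic_scaleRoots_iff _).2 (minpoly.monic hint)
  have hlift : q' ∈ Polynomial.lifts (algebraMap R K) := by
    rw [Polynomial.lifts_iff_coeff_lifts]
    intro j
    rw [coeff_scaleRoots]
    rcases lt_trichotomy j q.natDegree with hj | hj | hj
    · obtain ⟨e, he⟩ := Finset.dvd_prod_of_mem (fun j => v (q.coeff j)) (Finset.mem_range.2 hj)
      obtain ⟨k, hk⟩ : ∃ k, q.natDegree - j = k + 1 := ⟨q.natDegree - j - 1, by omega⟩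
      refine ⟨r (q.coeff j) * e * c ^ k, ?_⟩
      rw [hk, pow_succ', map_mul, map_mul, map_pow, show c = v (q.coeff j) * e from he, map_mul,
        ← hvr (q.coeff j)]
      ring
    · exact ⟨1, by rw [hj, Nat.sub_self, pow_zero, mul_one, map_one, (minpoly.monic hint).coeff_natDegree]⟩
    · exact ⟨0, by rw [coeff_eq_zero_of_natDegree_lt hj, zero_mul, map_zero]⟩
  obtain ⟨p, hp, -, hpm⟩ := lifts_and_degree_eq_and_monic hlift hq'm
  refine ⟨p, hpm, ?_⟩
  have h0 : aeval (algebraMap K M (algebraMap R K c) * ξ) q' = 0 := scaleRoots_aeval_eq_zero (minpoly.aeval K ξ)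
  rw [← hp, aeval_map_algebraMap, ← IsScalarTower.algebraMap_apply] at h0
  exact h0

section focus

variable {E L : Type u} [CommRing E] [Algebra R E] [Field L] [Algebra E L] [Algebra R L] [IsScalarTower R E L]
  [Algebra K L] [IsScalarTower R K L]

/-- A smooth algebra is focused at a point off the fibre components which miss it. -/
theorem exists_foc_smooth (hK : FracPoint R K) [Algebra.Smooth R E] :
    ∃ h : E, algebraMap E L h ≠ 0 ∧ Foc R K E (RingHom.ker (algebraMap E L)) h := by
  classical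
  let F := K ⊗[R] E
  haveI : Algebra.FiniteType K F := inferInstance
  haveI : IsNoetherianRing F := Algebra.FiniteType.isNoetherianRing K F
  let ι : E →ₐ[R] F := Algebra.TensorProduct.includeRight
  let P := RingHom.ker (algebraMap E L)
  have hpick : ∀ Q : Ideal F, ∃ x : E, x ∉ P ∧ (¬ Q.comap ι.toRingHom ≤ P → ι x ∈ Q) := fun Q => by
    by_cases hle : Q.comap ι.toRingHom ≤ P
    · exact ⟨1, (RingHom.ker_isPrime _ : P.IsPrime).one_notMem, fun h => absurd hle h⟩
    · obtain ⟨x, hx, hxP⟩ := SetLike.not_le_iff_exists.1 hle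
      exact ⟨x, hxP, fun _ => hx⟩
  choose x hxP hxQ using hpick
  have hfin : (minimalPrimes F).Finite := minimalPrimes.finite_of_isNoetherianRing F
  haveI hPp : P.IsPrime := RingHom.ker_isPrime _
  refine ⟨∏ Q ∈ hfin.toFinset, x Q, fun h0 => ?_, fun w t ht htw => ?_⟩
  · obtain ⟨Q, -, hQ⟩ := hPp.prod_mem_iff.1 (RingHom.mem_ker.2 h0)
    exact hxP Q hQ
  by_contra hne
  push Not at hne
  set h := ∏ Q ∈ hfin.toFinset, x Q with hh
  obtain ⟨Q0, hQ0, hann, hhQ⟩ := Ideal.exists_le_prime_disjoint (annEl E w) (Submonoid.powers h)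
    (Set.disjoint_left.2 fun y hy hyh => by
      obtain ⟨i, rfl⟩ := hyh
      exact hne i (mem_annEl.1 hy))
  obtain ⟨η, hη, hηQ⟩ := Ideal.exists_minimalPrimes_le hann
  haveI hηp : η.IsPrime := hη.1.1
  have hhη : h ∉ η := fun hm => Set.disjoint_left.1 hhQ (hηQ hm) ⟨1, pow_one h⟩
  have hmin := minInFibre_of_weakAss K η (mem_weakAss_iff.2 ⟨w, hη⟩)
  -- the prime lies over the point
  have hsmul : ∀ (r : R) (z : E ⊗[R] K), algebraMap R E r • z = (LinearMap.mulLeft R (algebraMap R K r)).lTensor E z :=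
    fun r z => by
      rw [algebraMap_smul]
      induction z using TensorProduct.induction_on with
      | zero => simp
      | add a b ha hb => simp only [smul_add, map_add, ha, hb]
      | tmul e k => rw [smul_tmul', smul_tmul, Algebra.smul_def]; rfl
  have hunit : ∀ r : R, algebraMap R K r ≠ 0 → ∀ (k : ℕ) (z : E ⊗[R] K), algebraMap R E r ^ k • z = 0 → z = 0 := by
    intro r hr k z hz
    rw [← map_pow, hsmul] at hz
    have hz' := congrArg ((LinearMap.mulLeft R (algebraMap R K (r ^ k))⁻¹).lTensor E) hz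
    rw [← LinearMap.lTensor_comp_apply, map_zero] at hz'
    have hid : (LinearMap.mulLeft R (algebraMap R K (r ^ k))⁻¹).comp (LinearMap.mulLeft R (algebraMap R K (r ^ k))) =
        LinearMap.id := LinearMap.ext fun a => by
      show (algebraMap R K (r ^ k))⁻¹ * (algebraMap R K (r ^ k) * a) = a
      rw [inv_mul_cancel_left₀]
      rw [map_pow]
      exact pow_ne_zero _ hr
    rwa [hid, LinearMap.lTensor_id, LinearMap.id_apply] at hz'
  have hover : η.comap (algebraMap R E) = RingHom.ker (algebraMap R K) := by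
    ext r
    rw [Ideal.mem_comap, RingHom.mem_ker]
    refine ⟨fun hr => ?_, fun hr => hη.1.2 (mem_annEl.2 ?_)⟩
    · by_contra hr0
      obtain ⟨a, ha, k, hak⟩ := exists_mul_pow_mem hη hr
      rw [mem_annEl, mul_comm, mul_smul] at hak
      exact ha (hη.1.2 (mem_annEl.2 (hunit r hr0 k _ hak)))
    · rw [hsmul, hr, LinearMap.mulLeft_zero_eq_zero, LinearMap.lTensor_zero, LinearMap.zero_apply]
  -- it is the contraction of a minimal prime of the fibre
  obtain ⟨j⟩ := exists_point_hom hK η.ResidueField (by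
    ext r
    rw [RingHom.mem_ker, IsScalarTower.algebraMap_apply R E η.ResidueField, Ideal.algebraMap_residueField_eq_zero,
      ← Ideal.mem_comap, hover])
  let ση : F →ₐ[R] η.ResidueField :=
    Algebra.TensorProduct.lift j (IsScalarTower.toAlgHom R E η.ResidueField) fun _ _ => .all _ _
  haveI : (RingHom.ker ση).IsPrime := RingHom.ker_isPrime _
  obtain ⟨Q, hQ, hQle⟩ := Ideal.exists_minimalPrimes_le (bot_le (a := RingHom.ker ση))
  haveI := hQ.1.1
  have hle : Q.comap ι.toRingHom ≤ η := fun e he => by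
    have h1 : ση ((1 : K) ⊗ₜ[R] e) = 0 := hQle he
    change Algebra.TensorProduct.lift j (IsScalarTower.toAlgHom R E η.ResidueField) _ ((1 : K) ⊗ₜ[R] e) = 0 at h1
    rw [Algebra.TensorProduct.lift_tmul, map_one, one_mul] at h1
    exact Ideal.algebraMap_residueField_eq_zero.1 h1
  have hQη : Q.comap ι.toRingHom = η := by
    refine hmin _ (Ideal.comap_isPrime _ _) hle ?_
    refine le_antisymm (Ideal.comap_mono hle) fun r hr => ?_
    rw [hover, RingHom.mem_ker] at hr
    rw [Ideal.mem_comap, Ideal.mem_comap]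
    show ι (algebraMap R E r) ∈ Q
    rw [AlgHom.commutes, IsScalarTower.algebraMap_apply R K F, hr, map_zero]
    exact zero_mem Q
  by_cases hηP : η ≤ P
  · exact ht (hηP (hη.1.2 (mem_annEl.2 htw)))
  · have hx := hxQ Q (by rwa [hQη])
    have hmem : x Q ∈ η := hQη ▸ hx
    exact hhη (η.mem_of_dvd (Finset.dvd_prod_of_mem x (hfin.mem_toFinset.2 hQ)) hmem)

/-- A closed point of the fibre specialising the point and avoiding a given function, with finite residue field. -/
theorem exists_closed_point [Algebra.FiniteType R E] {h : E} (hh : algebraMap E L h ≠ 0) :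
    ∃ (M : Type u) (_ : Field M) (_ : Algebra R M) (_ : Algebra K M) (_ : IsScalarTower R K M) (_ : Module.Finite K M)
      (ψ : E →ₐ[R] M), RingHom.ker ψ ≥ RingHom.ker (algebraMap E L) ∧ ψ h ≠ 0 := by
  classical
  let F := K ⊗[R] E
  haveI : Algebra.FiniteType K F := inferInstance
  let σ : F →ₐ[R] L :=
    Algebra.TensorProduct.lift (IsScalarTower.toAlgHom R K L) (IsScalarTower.toAlgHom R E L) fun _ _ => .all _ _
  let P := RingHom.ker σ
  haveI : P.IsPrime := RingHom.ker_isPrime _
  haveI : IsJacobsonRing F := isJacobsonRing_of_finiteType (A := K)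
  have hσE : ∀ e : E, σ ((1 : K) ⊗ₜ[R] e) = algebraMap E L e := fun e => by
    show Algebra.TensorProduct.lift _ _ _ ((1 : K) ⊗ₜ[R] e) = _
    rw [Algebra.TensorProduct.lift_tmul, map_one, one_mul]
    rfl
  obtain ⟨Z, ⟨hPZ, hZ⟩, hhZ⟩ : ∃ Z : Ideal F, (P ≤ Z ∧ Z.IsMaximal) ∧ (1 : K) ⊗ₜ[R] h ∉ Z := by
    by_contra hne
    push Not at hne
    have hj : (1 : K) ⊗ₜ[R] h ∈ P.jacobson := Ideal.mem_sInf.2 fun J hJ => hne J hJ
    rw [IsJacobsonRing.out' _ (Ideal.IsPrime.isRadical ‹_›)] at hj
    exact hh ((hσE h).symm.trans (RingHom.mem_ker.1 hj))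
  haveI := hZ
  letI : Field (F ⧸ Z) := Ideal.Quotient.field Z
  haveI : Algebra.FiniteType K (F ⧸ Z) :=
    Algebra.FiniteType.of_surjective (Ideal.Quotient.mkₐ K Z) Ideal.Quotient.mk_surjective
  haveI : Module.Finite K (F ⧸ Z) := finite_of_finite_type_of_isJacobsonRing K (F ⧸ Z)
  refine ⟨F ⧸ Z, inferInstance, inferInstance, inferInstance, inferInstance, inferInstance,
    (Ideal.Quotient.mkₐ R Z).comp Algebra.TensorProduct.includeRight, fun e he => ?_, fun h0 => hhZ ?_⟩
  · rw [RingHom.mem_ker] at he ⊢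
    exact Ideal.Quotient.eq_zero_iff_mem.2 (hPZ (RingHom.mem_ker.2 ((hσE e).trans he)))
  · exact Ideal.Quotient.eq_zero_iff_mem.1 h0

end focus

end Groth.Agent.H4RG
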