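import Groth.Prelude
import Groth.Agent.H4RG.PointTools
import Mathlib

/-!
# A finite flat multisection through a closed specialisation of a point

For an algebra étale over affine space the closed specialisation of the point lifts, after an étale change of the base,
to a point with values in a finite flat algebra over the base with a unique prime over the point of the base.
-/

set_option autoImplicit false
set_option linter.style.haveILetI false
set_option backward.isDefEq.respectTransparency.types false

universe u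

open TensorProduct

namespace Groth.Agent.H4RG

attribute [local instance] Algebra.TensorProduct.rightAlgebra

variable {R K E L : Type u} [CommRing R] [Field K] [Algebra R K] [CommRing E] [Algebra R E] [Field L] [Algebra E L]
  [Algebra R L] [IsScalarTower R E L] [Algebra K L] [IsScalarTower R K L]

/-- A finite flat multisection through a closed specialisation of the point, after an étale change of the base. -/
theorem exists_section_stage (hK : FracPoint R K) (d : ℕ) [Algebra (MvPolynomial (Fin d) R) E]
    [IsScalarTower R (MvPolynomial (Fin d) R) E] [Algebra.Etale (MvPolynomial (Fin d) R) E] {h : E}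
    (hh : algebraMap E L h ≠ 0) :
    ∃ (R' : Type u) (_ : CommRing R') (_ : Algebra R R') (_ : Algebra.Etale R R') (ε : R' →ₐ[R] K)
      (R4 : Type u) (_ : CommRing R4) (_ : Algebra R R4) (_ : Algebra R' R4) (_ : IsScalarTower R R' R4)
      (_ : Module.Finite R' R4) (_ : Module.Flat R' R4) (_ : Algebra.FinitePresentation R' R4) (χ : E →ₐ[R] R4)
      (q4 : Ideal R4), q4.IsPrime ∧ q4.comap (algebraMap R' R4) = RingHom.ker ε ∧
        (∀ Q : Ideal R4, Q.IsPrime → Q.comap (algebraMap R' R4) = RingHom.ker ε → Q = q4) ∧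
        RingHom.ker (algebraMap E L) ≤ q4.comap χ.toRingHom ∧ χ h ∉ q4 := by
  classical
  let PX := MvPolynomial (Fin d) R
  haveI : Algebra.FiniteType R E := Algebra.FiniteType.trans (S := PX) (inferInstance : Algebra.FiniteType R PX) (inferInstance : Algebra.FiniteType PX E)
  obtain ⟨M, _, _, _, _, _, ψ, hψP, hψh⟩ := exists_closed_point (R := R) (K := K) (L := L) (E := E) hh
  let ξ : Fin d → M := fun i => ψ (algebraMap PX E (MvPolynomial.X i))
  choose c hc hcint using fun i => exists_mul_isIntegral (K := K) (R := R) hK (ξ i)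
  obtain ⟨R2, _, _, _, _, χ2, hχ2⟩ := exists_free_hom (R := R) d (fun i => algebraMap R M (c i) * ξ i) hcint
  choose b hb using hχ2
  let C := ∏ i, c i
  have hCK : algebraMap R K C ≠ 0 := by
    rw [map_prod]
    exact Finset.prod_ne_zero_iff.2 fun i _ => hc i
  have hCM : algebraMap R M C ≠ 0 := by
    rw [IsScalarTower.algebraMap_apply R K M]
    exact fun h0 => hCK ((map_eq_zero _).1 h0)
  let R2c := Localization.Away (algebraMap R R2 C)
  haveI : Module.Flat R2 R2c := IsLocalization.flat R2c (Submonoid.powers (algebraMap R R2 C))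
  haveI : Module.Flat R R2c := Module.Flat.trans R R2 R2c
  haveI : Algebra.FinitePresentation R R2 := by
    haveI : Module.FinitePresentation R R2 := Module.finitePresentation_of_projective R R2
    exact Algebra.FinitePresentation.of_finitePresentation R R2
  haveI : Algebra.FinitePresentation R2 R2c := IsLocalization.Away.finitePresentation (algebraMap R R2 C)
  haveI : Algebra.FinitePresentation R R2c := Algebra.FinitePresentation.trans R R2 R2c
  haveI : Algebra.QuasiFinite R R2c := Algebra.QuasiFinite.of_isLocalization (Submonoid.powers (algebraMap R R2 C))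
  let χ2c : R2c →ₐ[R] M :=
    IsLocalization.liftAlgHom (A := R) (S := R2c) (M := Submonoid.powers (algebraMap R R2 C)) (f := χ2) fun y => by
      obtain ⟨_, n, rfl⟩ := y
      show IsUnit (χ2 (algebraMap R R2 C ^ n))
      rw [map_pow, AlgHom.commutes]
      exact (isUnit_iff_ne_zero.2 hCM).pow n
  have hx : ∀ i, ∃ x : R2c, χ2c x = ξ i := fun i => by
    obtain ⟨e, he⟩ := Finset.dvd_prod_of_mem c (Finset.mem_univ i)
    have hu : IsUnit (algebraMap R R2c (c i)) := by
      refine isUnit_of_dvd_unit ⟨algebraMap R R2c e, ?_⟩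
        (IsLocalization.Away.algebraMap_isUnit (S := R2c) (algebraMap R R2 C))
      rw [← map_mul, ← he, ← IsScalarTower.algebraMap_apply]
    refine ⟨↑hu.unit⁻¹ * algebraMap R2 R2c (b i), ?_⟩
    have h1 : χ2c (algebraMap R R2c (c i)) * χ2c (↑hu.unit⁻¹ * algebraMap R2 R2c (b i)) =
        algebraMap R M (c i) * ξ i := by
      rw [← map_mul, ← mul_assoc, IsUnit.mul_val_inv, one_mul,
        show χ2c (algebraMap R2 R2c (b i)) = χ2 (b i) from IsLocalization.lift_eq _ _, hb]
    rw [AlgHom.commutes] at h1
    refine mul_left_cancel₀ ?_ h1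
    rw [IsScalarTower.algebraMap_apply R K M]
    exact fun h0 => hc i ((map_eq_zero _).1 h0)
  choose x hx using hx
  letI : Algebra PX R2c := (MvPolynomial.aeval x : PX →ₐ[R] R2c).toRingHom.toAlgebra
  haveI : IsScalarTower R PX R2c :=
    IsScalarTower.of_algebraMap_eq fun r => ((MvPolynomial.aeval x : PX →ₐ[R] R2c).commutes r).symm
  letI : Algebra PX M := (ψ.toRingHom.comp (algebraMap PX E)).toAlgebra
  haveI : IsScalarTower R PX M := IsScalarTower.of_algebraMap_eq fun r => by
    show algebraMap R M r = ψ (algebraMap PX E (algebraMap R PX r))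
    rw [← IsScalarTower.algebraMap_apply, AlgHom.commutes]
  let R3 := R2c ⊗[PX] E
  haveI : Algebra.Etale R2c R3 := inferInstance
  haveI : Module.Flat R R3 := Module.Flat.trans R R2c R3
  haveI : Algebra.FinitePresentation R R3 := Algebra.FinitePresentation.trans R R2c R3
  haveI : Algebra.QuasiFinite R R3 := Algebra.QuasiFinite.trans R R2c R3
  have hcompat : ∀ a : PX, χ2c (algebraMap PX R2c a) = algebraMap PX M a := fun a => by
    show χ2c.comp (MvPolynomial.aeval x) a = (IsScalarTower.toAlgHom R PX M) a
    congr 1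
    refine MvPolynomial.algHom_ext fun i => ?_
    rw [AlgHom.comp_apply, MvPolynomial.aeval_X, hx]
    rfl
  let χ3 : R3 →ₐ[PX] M := Algebra.TensorProduct.lift ⟨χ2c.toRingHom, hcompat⟩
    ⟨ψ.toRingHom, fun _ => rfl⟩ fun _ _ => .all _ _
  let ι3 : E →ₐ[R] R3 := (Algebra.TensorProduct.includeRight (R := PX) (A := R2c) (B := E)).restrictScalars R
  have hι3 : ∀ e : E, χ3 (ι3 e) = ψ e := fun e => by
    show Algebra.TensorProduct.lift _ _ _ ((1 : R2c) ⊗ₜ[PX] e) = _
    rw [Algebra.TensorProduct.lift_tmul, map_one, one_mul]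
    rfl
  let p := RingHom.ker (algebraMap R K)
  haveI : p.IsPrime := RingHom.ker_isPrime _
  let q3 := RingHom.ker χ3.toRingHom
  haveI : q3.IsPrime := RingHom.ker_isPrime _
  haveI : q3.LiesOver p := ⟨by
    ext r
    show algebraMap R K r = 0 ↔ (χ3.restrictScalars R) (algebraMap R R3 r) = 0
    rw [AlgHom.commutes, IsScalarTower.algebraMap_apply R K M]
    exact (map_eq_zero _).symm⟩
  obtain ⟨R', _, _, _, P, _, _, e, -, P', _, hP'o, hP'q, heP', hbij, hfin, huniq⟩ :=
    Algebra.exists_etale_isIdempotentElem_forall_liesOver_eq p q3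
  obtain ⟨eK⟩ := exists_residueField_equiv hK p rfl
  let eP : P.ResidueField ≃ₐ[R] p.ResidueField :=
    (AlgEquiv.ofBijective (Ideal.ResidueField.mapₐ p P (Algebra.ofId _ _) (P.over_def p)) hbij).symm
  let ε : R' →ₐ[R] K := eK.toAlgHom.comp (eP.toAlgHom.comp (IsScalarTower.toAlgHom R R' P.ResidueField))
  have hε : RingHom.ker ε = P := by
    ext a
    rw [RingHom.mem_ker]
    show eK (eP (algebraMap R' P.ResidueField a)) = 0 ↔ _
    rw [EmbeddingLike.map_eq_zero_iff, EmbeddingLike.map_eq_zero_iff, Ideal.algebraMap_residueField_eq_zero]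
  let R4 := Localization.Away e
  haveI : Module.Finite R' R4 := hfin
  haveI : Module.Flat (R' ⊗[R] R3) R4 := IsLocalization.flat R4 (Submonoid.powers e)
  haveI : Module.Flat R' R4 := Module.Flat.trans R' (R' ⊗[R] R3) R4
  haveI : Algebra.FinitePresentation (R' ⊗[R] R3) R4 := IsLocalization.Away.finitePresentation e
  haveI : Algebra.FinitePresentation R' R4 := Algebra.FinitePresentation.trans R' (R' ⊗[R] R3) R4
  let χ : E →ₐ[R] R4 := (IsScalarTower.toAlgHom R (R' ⊗[R] R3) R4).comp
    ((Algebra.TensorProduct.includeRight (R := R) (A := R') (B := R3)).comp ι3)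
  have hdis : Disjoint (Submonoid.powers e : Set (R' ⊗[R] R3)) P' :=
    (Ideal.disjoint_powers_iff_notMem e (Ideal.IsPrime.isRadical ‹P'.IsPrime›)).2 heP'
  let q4 : Ideal R4 := P'.map (algebraMap _ R4)
  have hq4c : q4.comap (algebraMap _ R4) = P' :=
    IsLocalization.comap_map_of_isPrime_disjoint (Submonoid.powers e) R4 ‹P'.IsPrime› hdis
  have hq4χ : ∀ y : E, χ y ∈ q4 ↔ ψ y = 0 := fun y => by
    let t : R' ⊗[R] R3 := (1 : R') ⊗ₜ[R] ι3 y
    rw [show χ y = algebraMap _ R4 t from by simp only [χ, t, AlgHom.comp_apply]; rfl, ← Ideal.mem_comap, hq4c, ← hι3]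
    show _ ↔ ι3 y ∈ q3
    rw [← hP'q]
    rfl
  refine ⟨R', inferInstance, inferInstance, inferInstance, ε, R4, inferInstance, inferInstance, inferInstance,
    inferInstance, inferInstance, inferInstance, inferInstance, χ, q4,
    IsLocalization.isPrime_of_isPrime_disjoint (Submonoid.powers e) R4 P' ‹P'.IsPrime› hdis, ?_, ?_, fun y hy => ?_,
    fun hm => hψh ((hq4χ h).1 hm)⟩
  · rw [IsScalarTower.algebraMap_eq R' (R' ⊗[R] R3) R4, ← Ideal.comap_comap, hq4c, hε]
    exact hP'o.over.symm
  · intro Q hQ hQR
    have h1 : Q.comap (algebraMap _ R4) = P' := by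
      refine huniq _ (Ideal.comap_isPrime _ _) ⟨?_⟩ fun he => hQ.ne_top
        (Ideal.eq_top_of_isUnit_mem _ he (IsLocalization.Away.algebraMap_isUnit e))
      rw [Ideal.under_def, Ideal.comap_comap, ← IsScalarTower.algebraMap_eq, hQR, hε]
    rw [← IsLocalization.map_under (Submonoid.powers e) R4 Q, Ideal.under_def, h1]
  · exact (hq4χ y).2 (RingHom.mem_ker.1 (hψP hy))

end Groth.Agent.H4RG
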