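import Groth.Prelude
import Groth.Agent.H4RG.SectionStage
import Groth.Agent.H4RG.SectionCover
import Groth.Agent.H4RG.MLBase
import Mathlib

/-!
# Étale algebras over affine space spread out

An algebra étale over affine space is, after an étale change of the base without residue extension, projective over the
base and focused on a neighbourhood of a given point.
-/

set_option autoImplicit false
set_option linter.style.haveILetI false
set_option backward.isDefEq.respectTransparency.types false

universe u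

open TensorProduct AlgebraicGeometry CategoryTheory

namespace Groth.Agent.H4RG

attribute [local instance] Algebra.TensorProduct.rightAlgebra

section general

variable {R K S : Type u} [CommRing R] [Field K] [Algebra R K] [CommRing S] [Algebra R S] {N N' : Type u}
  [AddCommGroup N] [Module S N] [Module R N] [IsScalarTower R S N] [AddCommGroup N'] [Module S N'] [Module R N']
  [IsScalarTower R S N'] {q : Ideal S} {g : S}

theorem Foc.of_dvd (h : Foc R K N q g) {g' : S} (hd : g ∣ g') : Foc R K N q g' := fun w t ht htw => by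
  obtain ⟨k, hk⟩ := h w t ht htw
  obtain ⟨c, rfl⟩ := hd
  exact ⟨k, by rw [mul_pow, mul_comm, mul_smul, hk, smul_zero]⟩

theorem Good.congr (h : Good R K N q g) (e : N ≃ₗ[S] N') : Good R K N' q g := by
  refine ⟨h.notMem, ?_, fun w t ht htw => ?_⟩
  · haveI := h.proj
    let W := Submonoid.powers g
    let i := LocalizedModule.mkLinearMap W N
    let i' := LocalizedModule.mkLinearMap W N'
    haveI : IsLocalizedModule W (i' ∘ₗ e.toLinearMap) := inferInstance
    exact Module.Projective.of_equiv ((IsLocalizedModule.linearEquiv W i (i' ∘ₗ e.toLinearMap)).restrictScalars R)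
  · let e' : N ⊗[R] K ≃ₗ[S] N' ⊗[R] K := TensorProduct.AlgebraTensorModule.congr e (LinearEquiv.refl R K)
    obtain ⟨k, hk⟩ := h.foc (e'.symm w) t ht (by rw [← map_smul, htw, map_zero])
    exact ⟨k, by rw [← e'.apply_symm_apply (g ^ k • w), map_smul, hk, map_zero]⟩

open MoreMor in
/-- Near a section of a smooth algebra every prime minimal in its fibre specialises to the section. -/
theorem exists_section_open {A E : Type u} [CommRing A] [CommRing E] [Algebra A E] [Algebra.Smooth A E]
    (τ : E →ₐ[A] A) :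
    ∃ U : Set (PrimeSpectrum E), IsOpen U ∧ (∀ x : PrimeSpectrum A, PrimeSpectrum.comap τ.toRingHom x ∈ U) ∧
      ∀ η ∈ U, MinInFibre A η.asIdeal →
        η.asIdeal ≤ (η.asIdeal.comap (algebraMap A E)).comap τ.toRingHom := by
  let f : Spec (CommRingCat.of E) ⟶ Spec (CommRingCat.of A) := Spec.map (CommRingCat.ofHom (algebraMap A E))
  let e : Spec (CommRingCat.of A) ⟶ Spec (CommRingCat.of E) := Spec.map (CommRingCat.ofHom τ.toRingHom)
  have he : e ≫ f = 𝟙 _ := by
    rw [← Spec.map_comp, ← Spec.map_id, ← CommRingCat.ofHom_comp,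
      show τ.toRingHom.comp (algebraMap A E) = RingHom.id A from RingHom.ext τ.commutes]
    rfl
  haveI : AlgebraicGeometry.Smooth f :=
    (HasRingHomProperty.Spec_iff (P := @AlgebraicGeometry.Smooth)).2 (RingHom.smooth_algebraMap.2 inferInstance)
  let U : Set (PrimeSpectrum E) := sectionComponents f e
  have hU : IsOpen U := S15351.result f e he
  have hfe : ∀ x : PrimeSpectrum A, f (e x) = x := fun x => by rw [← Scheme.Hom.comp_apply, he]; rfl
  have hsec : ∀ x : PrimeSpectrum A, PrimeSpectrum.comap τ.toRingHom x ∈ U := fun x => by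
    show e x ∈ connectedComponentIn (f ⁻¹' {f (e x)}) (e (f (e x)))
    rw [hfe]
    exact mem_connectedComponentIn (hfe x)
  refine ⟨U, hU, hsec, fun η hη hmin => ?_⟩
  let pp := PrimeSpectrum.comap (algebraMap A E) η
  let z := PrimeSpectrum.comap τ.toRingHom pp
  obtain ⟨η1, hle, hc, hmin1⟩ := exists_minInFibre_le (A := A) z
  have hη1U : η1 ∈ U := hU.stableUnderGeneralization ((PrimeSpectrum.le_iff_specializes _ _).1 hle) (hsec pp)
  have hpp1 : PrimeSpectrum.comap (algebraMap A E) η1 = pp := (PrimeSpectrum.ext hc).trans (hfe pp)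
  have hC : ∀ y ∈ U, PrimeSpectrum.comap (algebraMap A E) y = pp →
      y ∈ connectedComponentIn (f ⁻¹' {pp}) (e pp) := fun y hy hyp => by
    rw [← hyp]
    exact hy
  have heq : η = η1 := minInFibre_eq_of_preconnected isPreconnected_connectedComponentIn
    (fun x hx => connectedComponentIn_subset (f ⁻¹' {pp}) (e pp) hx) (hC η hη rfl) (hC η1 hη1U hpp1) hmin hmin1
  exact heq.le.trans hle

/-- Specialising to a section survives localisation of the base. -/
theorem le_section_localization {A A' E E' : Type u} [CommRing A] [CommRing A'] [CommRing E] [CommRing E'] [Algebra A A']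
    [Algebra A E] [Algebra A' E'] [Algebra E E'] [Algebra A E'] [IsScalarTower A A' E'] [IsScalarTower A E E']
    (M : Submonoid A) [IsLocalization M A'] [IsLocalization (Algebra.algebraMapSubmonoid E M) E'] (τ : E →ₐ[A] A)
    (τ' : E' →ₐ[A'] A') (hτ : ∀ x, τ' (algebraMap E E' x) = algebraMap A A' (τ x)) {H : E}
    (hgen : ∀ η : Ideal E, η.IsPrime → H ∉ η → MinInFibre A η → η ≤ (η.comap (algebraMap A E)).comap τ.toRingHom)
    (η : Ideal E') (hη : η.IsPrime) (hH : algebraMap E E' H ∉ η) (hmin : MinInFibre A' η) :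
    η ≤ (η.comap (algebraMap A' E')).comap τ'.toRingHom := by
  let W := Algebra.algebraMapSubmonoid E M
  let η0 := η.comap (algebraMap E E')
  have hc0 : η0.comap (algebraMap A E) = (η.comap (algebraMap A' E')).comap (algebraMap A A') := by
    rw [Ideal.comap_comap, Ideal.comap_comap, ← IsScalarTower.algebraMap_eq, ← IsScalarTower.algebraMap_eq]
  have hmin0 : MinInFibre A η0 := by
    intro η' hη' hle hc
    have hd : Disjoint (W : Set E) η' := Set.disjoint_of_subset_right hle
      ((IsLocalization.isPrime_iff_isPrime_disjoint W E' η).1 hη).2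
    have hcm : (η'.map (algebraMap E E')).comap (algebraMap E E') = η' :=
      IsLocalization.comap_map_of_isPrime_disjoint W E' hη' hd
    have := hmin _ (IsLocalization.isPrime_of_isPrime_disjoint W E' η' hη' hd) (Ideal.map_le_iff_le_comap.2 hle) (by
      refine ((IsLocalization.map_under M A' _).symm.trans (Eq.trans ?_ (IsLocalization.map_under M A' _)))
      congr 1
      rw [Ideal.under_def, Ideal.under_def, Ideal.comap_comap, ← IsScalarTower.algebraMap_eq,
        IsScalarTower.algebraMap_eq A E E', ← Ideal.comap_comap, hcm, hc, hc0])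
    rw [← hcm, this]
  intro x hx
  obtain ⟨⟨y, ⟨_, m, hm, rfl⟩⟩, hxy⟩ := IsLocalization.surj W x
  have hy : y ∈ η0 := by
    show algebraMap E E' y ∈ η
    rw [← hxy]
    exact η.mul_mem_right _ hx
  have h1 : algebraMap A A' (τ y) ∈ η.comap (algebraMap A' E') := by
    have h2 := hgen η0 (Ideal.comap_isPrime _ _) hH hmin0 hy
    rw [hc0] at h2
    exact h2
  have h3 := congrArg τ' hxy
  rw [map_mul, hτ, hτ, AlgHom.commutes, Algebra.algebraMap_self, RingHom.id_apply] at h3
  rw [← h3] at h1
  haveI : (η.comap (algebraMap A' E')).IsPrime := Ideal.comap_isPrime _ _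
  exact ((Ideal.IsPrime.mem_or_mem ‹_› h1).resolve_right fun h =>
    Ideal.IsPrime.ne_top ‹_› (Ideal.eq_top_of_isUnit_mem _ h (IsLocalization.map_units A' (⟨m, hm⟩ : M))) :)

/-- Localising the base turns a neighbourhood of a multisection into a neighbourhood on which the algebra is
projective over the base. -/
theorem projective_of_section_localization {R E R' R4 A A4 : Type u} [CommRing R] [CommRing E] [CommRing R'] [CommRing R4]
    [CommRing A] [CommRing A4] [Algebra R E] [Algebra R R'] [Algebra R R4] [Algebra R A] [Algebra R A4] [Algebra R' R4]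
    [Algebra R' A] [Algebra R' A4] [Algebra R4 A4] [Algebra A A4] [IsScalarTower R R' R4] [IsScalarTower R R' A]
    [IsScalarTower R A A4] [IsScalarTower R R4 A4] [IsScalarTower R' R4 A4] [IsScalarTower R' A A4]
    [Module.Finite A A4] [Module.Flat A A4] [Algebra.FinitePresentation A A4]
    (d : ℕ) [Algebra.IsStandardSmoothOfRelativeDimension d R E] (f : R') [IsLocalization.Away f A]
    [IsLocalization (Algebra.algebraMapSubmonoid R4 (Submonoid.powers f)) A4] (χ : E →ₐ[R] R4)
    (H : R4 ⊗[R] E) (G : R' ⊗[R] E)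
    (hu : IsUnit (algebraMap R4 A4 (Algebra.TensorProduct.lift (Algebra.ofId R4 R4) χ (fun _ _ => .all _ _)
      (H * Algebra.TensorProduct.map (IsScalarTower.toAlgHom R R' R4) (AlgHom.id R E) G))))
    (hgen : ∀ η : Ideal (R4 ⊗[R] E), η.IsPrime → H ∉ η → MinInFibre R4 η → η ≤ (η.comap (algebraMap R4 (R4 ⊗[R] E))).comap
      (Algebra.TensorProduct.lift (Algebra.ofId R4 R4) χ (fun _ _ => .all _ _)).toRingHom)
    (hcov : ∀ Q : Ideal (R' ⊗[R] E), Q.IsPrime → G ∉ Q → ∃ y : Ideal (R4 ⊗[R] E), y.IsPrime ∧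
      y.comap (Algebra.TensorProduct.map (IsScalarTower.toAlgHom R R' R4) (AlgHom.id R E)).toRingHom = Q ∧ H ∉ y) :
    Module.Projective A (LocalizedModule
      (Submonoid.powers (Algebra.TensorProduct.map (IsScalarTower.toAlgHom R R' A) (AlgHom.id R E) G)) (A ⊗[R] E)) := by
  let E' := R' ⊗[R] E
  let E4 := R4 ⊗[R] E
  let φ : E' →ₐ[R] E4 := Algebra.TensorProduct.map (IsScalarTower.toAlgHom R R' R4) (AlgHom.id R E)
  letI : Algebra E' E4 := φ.toRingHom.toAlgebra
  haveI : IsScalarTower R' E' E4 := IsScalarTower.of_algebraMap_eq fun a => by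
    show algebraMap R' R4 a ⊗ₜ[R] (1 : E) = φ (a ⊗ₜ[R] (1 : E))
    rw [Algebra.TensorProduct.map_tmul, map_one]
    rfl
  let τ : E4 →ₐ[R4] R4 := Algebra.TensorProduct.lift (Algebra.ofId R4 R4) χ fun _ _ => .all _ _
  let M4 := Algebra.algebraMapSubmonoid R4 (Submonoid.powers f)
  let EA := A ⊗[R] E
  let F4 := A4 ⊗[R] E
  let φA : EA →ₐ[R] F4 := Algebra.TensorProduct.map (IsScalarTower.toAlgHom R A A4) (AlgHom.id R E)
  letI : Algebra EA F4 := φA.toRingHom.toAlgebra
  haveI : IsScalarTower A EA F4 := IsScalarTower.of_algebraMap_eq fun a => by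
    show algebraMap A A4 a ⊗ₜ[R] (1 : E) = φA (a ⊗ₜ[R] (1 : E))
    rw [Algebra.TensorProduct.map_tmul, map_one]
    rfl
  haveI : IsScalarTower E EA F4 := IsScalarTower.of_algebraMap_eq fun s => by
    show (1 : A4) ⊗ₜ[R] s = φA ((1 : A) ⊗ₜ[R] s)
    rw [Algebra.TensorProduct.map_tmul, map_one, AlgHom.id_apply]
  haveI : IsScalarTower R EA F4 := IsScalarTower.of_algebraMap_eq fun r => (φA.commutes r).symm
  haveI : Algebra.IsPushout A A4 EA F4 :=
    (Algebra.IsPushout.comp_iff (R := R) (S := A) (T := A4) (R' := E) (S' := EA) (T' := F4)).1 inferInstance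
  let ψ : E' →ₐ[R] EA := Algebra.TensorProduct.map (IsScalarTower.toAlgHom R R' A) (AlgHom.id R E)
  letI : Algebra E' EA := ψ.toRingHom.toAlgebra
  haveI : IsScalarTower R' E' EA := IsScalarTower.of_algebraMap_eq fun a => by
    show algebraMap R' A a ⊗ₜ[R] (1 : E) = ψ (a ⊗ₜ[R] (1 : E))
    rw [Algebra.TensorProduct.map_tmul, map_one]
    rfl
  haveI : IsLocalization (Algebra.algebraMapSubmonoid E' (Submonoid.powers f)) EA :=
    IsLocalization.tensorProduct_tensorProduct R E (Submonoid.powers f) A (by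
      ext s
      show ψ ((1 : R') ⊗ₜ[R] s) = (1 : A) ⊗ₜ[R] s
      rw [Algebra.TensorProduct.map_tmul, map_one, AlgHom.id_apply])
  let ω : E4 →ₐ[R] F4 := Algebra.TensorProduct.map (IsScalarTower.toAlgHom R R4 A4) (AlgHom.id R E)
  letI : Algebra E4 F4 := ω.toRingHom.toAlgebra
  haveI : IsScalarTower R4 E4 F4 := IsScalarTower.of_algebraMap_eq fun a => by
    show algebraMap R4 A4 a ⊗ₜ[R] (1 : E) = ω (a ⊗ₜ[R] (1 : E))
    rw [Algebra.TensorProduct.map_tmul, map_one]
    rfl
  haveI : IsLocalization (Algebra.algebraMapSubmonoid E4 M4) F4 :=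
    IsLocalization.tensorProduct_tensorProduct R E M4 A4 (by
      ext s
      show ω ((1 : R4) ⊗ₜ[R] s) = (1 : A4) ⊗ₜ[R] s
      rw [Algebra.TensorProduct.map_tmul, map_one, AlgHom.id_apply])
  have hsquare : ∀ x : E', algebraMap EA F4 (algebraMap E' EA x) = algebraMap E4 F4 (algebraMap E' E4 x) := fun x => by
    show φA (ψ x) = ω (φ x)
    induction x using TensorProduct.induction_on with
    | zero => simp
    | add a b ha hb => simp only [map_add, ha, hb]
    | tmul a s =>
      show algebraMap A A4 (algebraMap R' A a) ⊗ₜ[R] s = algebraMap R4 A4 (algebraMap R' R4 a) ⊗ₜ[R] s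
      rw [← IsScalarTower.algebraMap_apply, ← IsScalarTower.algebraMap_apply]
  let χA : E →ₐ[R] A4 := (IsScalarTower.toAlgHom R R4 A4).comp χ
  let τA : F4 →ₐ[A4] A4 := Algebra.TensorProduct.lift (Algebra.ofId A4 A4) χA fun _ _ => .all _ _
  have hτA : ∀ x : E4, τA (algebraMap E4 F4 x) = algebraMap R4 A4 (τ x) := fun x => by
    show τA (ω x) = _
    induction x using TensorProduct.induction_on with
    | zero => simp
    | add a b ha hb => simp only [map_add, ha, hb]
    | tmul a s =>
      show τA (algebraMap R4 A4 a ⊗ₜ[R] s) = algebraMap R4 A4 (τ (a ⊗ₜ[R] s))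
      refine (Algebra.TensorProduct.lift_tmul _ _ _ _ _).trans
        (Eq.trans ?_ (congrArg _ (Algebra.TensorProduct.lift_tmul _ _ _ _ _)).symm)
      rw [map_mul]
      rfl
  let G2 := algebraMap E' EA G
  let H2 := algebraMap E4 F4 (H * φ G)
  show Module.Projective A (LocalizedModule (Submonoid.powers G2) EA)
  refine projective_of_section_cover d τA H2 G2 ⟨algebraMap E4 F4 H, ?_⟩ ?_ ?_ ?_
  · show algebraMap E4 F4 (H * algebraMap E' E4 G) = algebraMap EA F4 G2 * _
    rw [map_mul, hsquare, mul_comm]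
  · rw [hτA]
    exact hu
  · exact le_section_localization M4 τ τA hτA fun η hη hH hmin =>
      hgen η hη (fun hm => hH (η.mul_mem_right _ hm)) hmin
  · intro Q hQ hG2
    let Q0 := Q.comap (algebraMap E' EA)
    have hQ0f : algebraMap R' E' f ∉ Q0 := fun hm => hQ.ne_top (Ideal.eq_top_of_isUnit_mem _
      (show algebraMap E' EA (algebraMap R' E' f) ∈ Q from hm) (IsLocalization.map_units EA
        (⟨algebraMap R' E' f, f, Submonoid.mem_powers f, rfl⟩ :
          Algebra.algebraMapSubmonoid E' (Submonoid.powers f))))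
    obtain ⟨y, hy, hyQ', hyH⟩ := hcov Q0 (Ideal.comap_isPrime _ _) hG2
    let W := Algebra.algebraMapSubmonoid E4 M4
    have hd : Disjoint (W : Set E4) y := by
      rw [Set.disjoint_left]
      rintro _ ⟨_, ⟨_, ⟨n, rfl⟩, rfl⟩, rfl⟩ hm
      refine hQ0f ?_
      rw [← hyQ']
      rw [SetLike.mem_coe, map_pow, map_pow, ← IsScalarTower.algebraMap_apply,
        IsScalarTower.algebraMap_apply R' E' E4] at hm
      exact hy.mem_of_pow_mem n hm
    have hQ'c : (y.map (algebraMap E4 F4)).comap (algebraMap E4 F4) = y :=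
      IsLocalization.comap_map_of_isPrime_disjoint W F4 hy hd
    refine ⟨_, IsLocalization.isPrime_of_isPrime_disjoint W F4 y hy hd, ?_, fun hm => ?_⟩
    · refine (IsLocalization.map_under (Algebra.algebraMapSubmonoid E' (Submonoid.powers f)) EA _).symm.trans
        (Eq.trans ?_ (IsLocalization.map_under (Algebra.algebraMapSubmonoid E' (Submonoid.powers f)) EA Q))
      congr 1
      show _ = Q0
      rw [Ideal.under_def, Ideal.comap_comap,
        show (algebraMap EA F4).comp (algebraMap E' EA) = (algebraMap E4 F4).comp (algebraMap E' E4) from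
          RingHom.ext hsquare, ← Ideal.comap_comap, hQ'c]
      exact hyQ'
    · rw [← Ideal.mem_comap, hQ'c] at hm
      refine (hy.mem_or_mem hm).elim hyH fun hG => hG2 ?_
      show G ∈ Q0
      rw [← hyQ']
      exact hG

end general

variable {R K E L : Type u} [CommRing R] [Field K] [Algebra R K] [CommRing E] [Algebra R E] [Field L] [Algebra E L]
  [Algebra R L] [IsScalarTower R E L] [Algebra K L] [IsScalarTower R K L]

/-- An algebra étale over affine space spreads out at every point over the point of the base. -/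
theorem spreads_of_etale (hK : FracPoint R K) (d : ℕ) [Algebra (MvPolynomial (Fin d) R) E]
    [IsScalarTower R (MvPolynomial (Fin d) R) E] [Algebra.Etale (MvPolynomial (Fin d) R) E] :
    Spreads R K L E E := by
  classical
  haveI : Algebra.IsStandardSmoothOfRelativeDimension d R E := isStandardSmooth_of_etale R E d
  haveI : Algebra.IsStandardSmooth R E := Algebra.IsStandardSmoothOfRelativeDimension.isStandardSmooth d
  obtain ⟨h, hhL, hfoc⟩ := exists_foc_smooth (R := R) (E := E) (L := L) hK
  obtain ⟨R', _, _, _, ε, R4, _, _, _, _, _, _, _, χ, q4, hq4, hq4R, huniq, hPq4, hhq4⟩ :=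
    exists_section_stage (R := R) (E := E) (L := L) hK d hhL
  let E' := R' ⊗[R] E
  let E4 := R4 ⊗[R] E
  let φ : E' →ₐ[R] E4 := Algebra.TensorProduct.map (IsScalarTower.toAlgHom R R' R4) (AlgHom.id R E)
  letI : Algebra E' E4 := φ.toRingHom.toAlgebra
  haveI : IsScalarTower R' E' E4 := IsScalarTower.of_algebraMap_eq fun a => by
    show algebraMap R' R4 a ⊗ₜ[R] (1 : E) = φ (a ⊗ₜ[R] (1 : E))
    rw [Algebra.TensorProduct.map_tmul, map_one]
    rfl
  haveI : IsScalarTower E E' E4 := IsScalarTower.of_algebraMap_eq fun s => by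
    show (1 : R4) ⊗ₜ[R] s = φ ((1 : R') ⊗ₜ[R] s)
    rw [Algebra.TensorProduct.map_tmul, map_one, AlgHom.id_apply]
  haveI : IsScalarTower R E' E4 := IsScalarTower.of_algebraMap_eq fun r => (φ.commutes r).symm
  haveI : Algebra.IsPushout R' R4 E' E4 :=
    (Algebra.IsPushout.comp_iff (R := R) (S := R') (T := R4) (R' := E) (S' := E') (T' := E4)).1 inferInstance
  haveI : Algebra.IsPushout R' E' R4 E4 := Algebra.IsPushout.symm inferInstance
  haveI : Module.Flat E' E4 := by
    haveI : Module.Flat E' (E' ⊗[R'] R4) := inferInstance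
    exact Module.Flat.of_linearEquiv (Algebra.IsPushout.equiv R' E' R4 E4).symm.toLinearEquiv
  haveI : Algebra.FinitePresentation E' E4 :=
    Algebra.FinitePresentation.equiv (Algebra.IsPushout.equiv R' E' R4 E4)
  let τ : E4 →ₐ[R4] R4 := Algebra.TensorProduct.lift (Algebra.ofId R4 R4) χ fun _ _ => .all _ _
  have hτι : ∀ s : E, τ ((1 : R4) ⊗ₜ[R] s) = χ s := fun s => by
    show Algebra.TensorProduct.lift _ _ _ ((1 : R4) ⊗ₜ[R] s) = _
    rw [Algebra.TensorProduct.lift_tmul, map_one, one_mul]
  obtain ⟨U, hU, hsec, hgenU⟩ := exists_section_open τ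
  let z : PrimeSpectrum E4 := PrimeSpectrum.comap τ.toRingHom ⟨q4, hq4⟩
  obtain ⟨_, ⟨H, rfl⟩, hzH, hHU⟩ :=
    PrimeSpectrum.isTopologicalBasis_basic_opens.exists_subset_of_mem_open (hsec ⟨q4, hq4⟩) hU
  let zz := PrimeSpectrum.comap (algebraMap E' E4) z
  have himg : IsOpen (PrimeSpectrum.comap (algebraMap E' E4) '' (PrimeSpectrum.basicOpen H : Set (PrimeSpectrum E4))) :=
    PrimeSpectrum.isOpenMap_comap_of_hasGoingDown_of_finitePresentation _ (PrimeSpectrum.basicOpen H).2
  obtain ⟨_, ⟨g0, rfl⟩, hzg, hg0⟩ :=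
    PrimeSpectrum.isTopologicalBasis_basic_opens.exists_subset_of_mem_open
      (show zz ∈ PrimeSpectrum.comap (algebraMap E' E4) '' (PrimeSpectrum.basicOpen H : Set (PrimeSpectrum E4)) from
        ⟨z, hzH, rfl⟩) himg
  have hzh : algebraMap E E' h ∉ zz.asIdeal := fun hm => hhq4 (by
    have hm' : τ (algebraMap E' E4 (algebraMap E E' h)) ∈ q4 := hm
    rwa [← IsScalarTower.algebraMap_apply, show algebraMap E E4 h = (1 : R4) ⊗ₜ[R] h from rfl, hτι] at hm')
  let G := g0 * algebraMap E E' h
  have hzG : G ∉ zz.asIdeal := fun hm => (zz.2.mem_or_mem hm).elim hzg hzh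
  let H1 := H * algebraMap E' E4 G
  have hzH1 : τ H1 ∉ q4 := fun hm => (z.2.mem_or_mem (show H1 ∈ z.asIdeal from hm)).elim hzH hzG
  have hGpt : pt L E ε G ≠ 0 := fun h0 => hzG (ker_pt_le hK ε zz.asIdeal (by
      rw [← hq4R]
      ext a
      show τ (algebraMap E' E4 (algebraMap R' E' a)) ∈ q4 ↔ algebraMap R' R4 a ∈ q4
      rw [← IsScalarTower.algebraMap_apply, IsScalarTower.algebraMap_apply R' R4 E4, AlgHom.commutes]
      rfl) (fun s hs => by
      show τ (algebraMap E' E4 (algebraMap E E' s)) ∈ q4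
      rw [← IsScalarTower.algebraMap_apply, show algebraMap E E4 s = (1 : R4) ⊗ₜ[R] s from rfl, hτι]
      exact hPq4 hs) (RingHom.mem_ker.2 h0))
  obtain ⟨f, hf1, hf⟩ : ∃ f : R', algebraMap R' R4 f ∈ Ideal.span {τ H1} ∧ ε f ≠ 0 := by
    haveI : (RingHom.ker ε).IsPrime := RingHom.ker_isPrime _
    haveI : Algebra.IsIntegral R' R4 := Algebra.IsIntegral.of_finite R' R4
    by_contra hne
    push Not at hne
    obtain ⟨Q, hle, hQ, hQR⟩ := Ideal.exists_ideal_over_prime_of_isIntegral (RingHom.ker ε) (Ideal.span {τ H1})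
      fun a ha => RingHom.mem_ker.2 (hne a ha)
    exact hzH1 (huniq Q hQ hQR ▸ hle (Ideal.mem_span_singleton_self _))
  obtain ⟨c, hc⟩ := Ideal.mem_span_singleton'.1 hf1
  -- the localised stage
  let A := Localization.Away f
  haveI : Algebra.Etale R' A := Algebra.Etale.of_isLocalizationAway f
  haveI : Algebra.Etale R A := Algebra.Etale.comp R R' A
  let ε2 : A →ₐ[R] K := IsLocalization.liftAlgHom (A := R) (S := A) (M := Submonoid.powers f) (f := ε) fun y => by
    obtain ⟨_, n, rfl⟩ := y
    show IsUnit (ε (f ^ n))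
    rw [map_pow]
    exact (isUnit_iff_ne_zero.2 hf).pow n
  have hεf : ∀ a : R', ε2 (algebraMap R' A a) = ε a := fun a => IsLocalization.lift_eq _ a
  let A4 := A ⊗[R'] R4
  letI : Algebra R4 A4 := Algebra.TensorProduct.rightAlgebra
  haveI : IsScalarTower R R4 A4 := IsScalarTower.of_algebraMap_eq fun r => by
    rw [IsScalarTower.algebraMap_apply R R' A4, IsScalarTower.algebraMap_apply R R' R4,
      ← IsScalarTower.algebraMap_apply R' R4 A4]
  let EA := A ⊗[R] E
  let ψ : E' →ₐ[R] EA := Algebra.TensorProduct.map (IsScalarTower.toAlgHom R R' A) (AlgHom.id R E)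
  let G2 := ψ G
  have hproj : Module.Projective A (LocalizedModule (Submonoid.powers G2) EA) := by
    refine projective_of_section_localization (A4 := A4) d f χ H G ?_ (fun η hη hH hmin => ?_) fun Q hQ hG => ?_
    · refine isUnit_of_dvd_unit (map_dvd _ ⟨c, by rw [mul_comm]; exact hc.symm⟩)
        (IsLocalization.map_units A4
          (⟨algebraMap R' R4 f, f, Submonoid.mem_powers f, rfl⟩ :
            Algebra.algebraMapSubmonoid R4 (Submonoid.powers f)))
    · exact hgenU ⟨η, hη⟩ (hHU hH) hmin
    · obtain ⟨y, hyH, hyQ⟩ := hg0 (show (⟨Q, hQ⟩ : PrimeSpectrum E') ∈ PrimeSpectrum.basicOpen g0 from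
        fun hm => hG (Q.mul_mem_right _ hm))
      exact ⟨y.asIdeal, y.2, congrArg PrimeSpectrum.asIdeal hyQ, hyH⟩
  letI := ε2.toRingHom.toAlgebra
  haveI : IsScalarTower R A K := IsScalarTower.of_algebraMap_eq fun r => (ε2.commutes r).symm
  haveI : Algebra.IsPushout R E A EA := Algebra.IsPushout.symm inferInstance
  have hhG : algebraMap E EA h ∣ G2 := ⟨ψ g0, by
    rw [show algebraMap E EA h = ψ (algebraMap E E' h) from by
      show (1 : A) ⊗ₜ[R] h = ψ ((1 : R') ⊗ₜ[R] h)
      rw [Algebra.TensorProduct.map_tmul, map_one, AlgHom.id_apply], ← map_mul, mul_comm]⟩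
  have hgood : Good A K EA (RingHom.ker (pt L E ε2)) G2 := by
    refine ⟨fun hm => hGpt ?_, hproj, Foc.of_dvd (Foc.baseChange (R := R) (S := E) (A := A) hK _
      (isBaseChange_algebraMap E EA) (algebraMap E L) (pt L E ε2).toRingHom (algebraMap K L) (fun s => ?_) (fun a => ?_)
      hfoc) hhG⟩
    · rw [← RingHom.mem_ker.1 hm]
      show _ = pt L E ε2 (ψ G)
      generalize G = x
      induction x using TensorProduct.induction_on with
      | zero => simp
      | add a b ha hb => simp only [map_add, ha, hb]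
      | tmul a s =>
        rw [pt_tmul, Algebra.TensorProduct.map_tmul, pt_tmul, IsScalarTower.coe_toAlgHom', hεf, AlgHom.id_apply]
    · show pt L E ε2 ((1 : A) ⊗ₜ[R] s) = _
      rw [pt_tmul, map_one, map_one, one_mul]
    · show pt L E ε2 (a ⊗ₜ[R] (1 : E)) = _
      rw [pt_tmul, map_one, mul_one]
      rfl
  exact ⟨A, inferInstance, inferInstance, inferInstance, ε2, G2,
    hgood.congr (TensorProduct.AlgebraTensorModule.rid E EA EA).symm⟩

end Groth.Agent.H4RG
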