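import Groth.Prelude
import Groth.Agent.H4RG.SmoothStage
import Mathlib

/-!
# Operations on good neighbourhoods
-/

set_option autoImplicit false
set_option linter.style.haveILetI false
set_option backward.isDefEq.respectTransparency.types false

universe u

open TensorProduct

namespace Groth.Agent.H4RG

attribute [local instance] Algebra.TensorProduct.rightAlgebra

variable {R K S : Type u} [CommRing R] [Field K] [Algebra R K] [CommRing S] [Algebra R S]

section ops

variable {N : Type u} [AddCommGroup N] [Module S N] [Module R N] [IsScalarTower R S N] {q : Ideal S} {g : S}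

/-- A module vanishing on the neighbourhood is good there. -/
theorem Good.of_killed (hg : g ∉ q) (h : ∀ x : N, g • x = 0) : Good R K N q g := by
  have h' : ∀ w : N ⊗[R] K, g • w = 0 := fun w => by
    induction w using TensorProduct.induction_on with
    | zero => rw [smul_zero]
    | add a b ha hb => rw [smul_add, ha, hb, add_zero]
    | tmul n k => rw [smul_tmul', h, zero_tmul]
  refine ⟨hg, ?_, fun w _ _ _ => ⟨1, ?_⟩⟩
  · haveI : Subsingleton (LocalizedModule (Submonoid.powers g) N) :=
      (LocalizedModule.subsingleton_iff (S := Submonoid.powers g)).2 fun x => ⟨g, Submonoid.mem_powers g, h x⟩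
    infer_instance
  · rw [pow_one]
    exact h' w

/-- Finite powers of a good module are good. -/
theorem Good.pi (c : ℕ) (h : Good R K N q g) : Good R K (Fin c → N) q g := by
  classical
  refine ⟨h.notMem, ?_, fun w t ht htw => ?_⟩
  · haveI := h.proj
    let W := Submonoid.powers g
    let pf : (Fin c → N) →ₗ[S] (Fin c → LocalizedModule W N) :=
      LinearMap.pi fun i => (LocalizedModule.mkLinearMap W N).comp (LinearMap.proj i)
    haveI : IsLocalizedModule W pf := inferInstance
    haveI : Module.Projective R (Fin c → LocalizedModule W N) :=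
      Module.Projective.of_equiv (DFinsupp.linearEquivFunOnFintype (R := R) (M := fun _ : Fin c => LocalizedModule W N))
    exact Module.Projective.of_equiv ((IsLocalizedModule.iso W pf).restrictScalars R).symm
  · let e : (Fin c → N) ⊗[R] K →ₗ[S] (Fin c → N ⊗[R] K) :=
      LinearMap.pi fun i => AlgebraTensorModule.rTensor R K (LinearMap.proj i : (Fin c → N) →ₗ[S] N)
    let ei : (Fin c → N ⊗[R] K) →ₗ[S] (Fin c → N) ⊗[R] K :=
      ∑ i, (AlgebraTensorModule.rTensor R K (LinearMap.single S (fun _ : Fin c => N) i)).comp (LinearMap.proj i)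
    have he : ∀ x, ei (e x) = x := fun x => by
      induction x using TensorProduct.induction_on with
      | zero => simp
      | add a b ha hb => simp only [map_add, ha, hb]
      | tmul v k =>
        simp only [ei, e, LinearMap.coe_sum, Finset.sum_apply, LinearMap.comp_apply, LinearMap.proj_apply,
          LinearMap.pi_apply, AlgebraTensorModule.rTensor_tmul, LinearMap.coe_single]
        rw [← TensorProduct.sum_tmul, Finset.univ_sum_single]
    have h0 : ∀ i, t • e w i = 0 := fun i => by
      rw [← Pi.smul_apply, ← map_smul, htw, map_zero, Pi.zero_apply]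
    choose k hk using fun i => h.foc (e w i) t ht (h0 i)
    refine ⟨∑ i, k i, ?_⟩
    rw [← he w, ← map_smul,
      show g ^ (∑ i, k i) • e w = 0 from funext fun i => by
        obtain ⟨m, hm⟩ := Nat.exists_eq_add_of_le (Finset.single_le_sum (fun i _ => Nat.zero_le (k i)) (Finset.mem_univ i))
        rw [Pi.smul_apply, hm, add_comm, pow_add, mul_smul, hk, smul_zero, Pi.zero_apply],
      map_zero]

variable {F Q : Type u} [AddCommGroup F] [Module S F] [Module R F] [IsScalarTower R S F] [AddCommGroup Q] [Module S Q]
  [Module R Q] [IsScalarTower R S Q]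

/-- An extension of good modules is good. -/
theorem Good.of_exact (β : F →ₗ[S] N) (π : N →ₗ[S] Q) (hex : Function.Exact β π) (hπ : Function.Surjective π)
    (hker : ∀ x, β x = 0 → ∃ k : ℕ, g ^ k • x = 0) (hF : Good R K F q g) (hQ : Good R K Q q g) :
    Good R K N q g := by
  haveI := hF.proj
  haveI := hQ.proj
  let W := Submonoid.powers g
  let iF := LocalizedModule.mkLinearMap W F
  let iN := LocalizedModule.mkLinearMap W N
  let iQ := LocalizedModule.mkLinearMap W Q
  let βg := IsLocalizedModule.map W iF iN β
  let πg := IsLocalizedModule.map W iN iQ π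
  have hexg : Function.Exact βg πg := IsLocalizedModule.map_exact W iF iN iQ β π hex
  have hπg : Function.Surjective πg := IsLocalizedModule.map_surjective W iN iQ _ hπ
  have hβg : Function.Injective βg := by
    rw [injective_iff_map_eq_zero]
    intro y hy
    obtain ⟨⟨x, s⟩, hxs⟩ := IsLocalizedModule.surj W iF y
    have h1 : iN (β x) = 0 := by
      rw [← IsLocalizedModule.map_apply W iF iN β x, ← hxs, Submonoid.smul_def, map_smul, hy, smul_zero]
    obtain ⟨⟨_, i, rfl⟩, hi⟩ := (IsLocalizedModule.eq_zero_iff W iN).1 h1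
    obtain ⟨k, hk⟩ := hker (g ^ i • x) (by rw [map_smul]; exact hi)
    have h2 : iF x = 0 := (IsLocalizedModule.eq_zero_iff W iF).2 ⟨⟨g ^ (k + i), k + i, rfl⟩, by
      show g ^ (k + i) • x = 0
      rw [pow_add, mul_smul, hk]⟩
    refine ((Module.End.isUnit_iff _).1 (IsLocalizedModule.map_units iF s)).1 ?_
    show s • y = (s : S) • (0 : LocalizedModule W F)
    rw [smul_zero, hxs, h2]
  let πR := πg.restrictScalars R
  let βR := βg.restrictScalars R
  obtain ⟨sec, hsec⟩ := Module.projective_lifting_property πR LinearMap.id hπg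
  have hsplit := (Function.Exact.split_tfae (f := βR) (g := πR) hexg hβg hπg).out 0 2
  obtain ⟨e, -, -⟩ := hsplit.1 ⟨sec, hsec⟩
  refine ⟨hF.notMem, Module.Projective.of_equiv e.symm, fun w t ht htw => ?_⟩
  let βK := AlgebraTensorModule.rTensor R K β
  let πK := AlgebraTensorModule.rTensor R K π
  obtain ⟨k, hk⟩ := hQ.foc (πK w) t ht (by rw [← map_smul, htw, map_zero])
  have hexK : Function.Exact βK πK := rTensor_exact K (f := β.restrictScalars R) (g := π.restrictScalars R) hex hπ
  obtain ⟨v, hv⟩ := (hexK (g ^ k • w)).1 (by rw [map_smul, hk])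
  have hinjK : ∀ z, βK z = 0 → ∃ i : ℕ, g ^ i • z = 0 := fun z hz => by
    obtain ⟨r, hr⟩ := Module.projective_lifting_property πR LinearMap.id hπg
    have hh := (Function.Exact.split_tfae (f := βR) (g := πR) hexg hβg hπg).out 0 1
    obtain ⟨l, hl⟩ := hh.1 ⟨r, hr⟩
    let jF := AlgebraTensorModule.rTensor R K iF
    let jN := AlgebraTensorModule.rTensor R K iN
    have hc : βR.rTensor K (jF z) = jN (βK z) := by
      clear hz
      induction z using TensorProduct.induction_on with
      | zero => simp
      | add a b ha hb => simp only [map_add, ha, hb]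
      | tmul a m => exact congrArg (· ⊗ₜ[R] m) (IsLocalizedModule.map_apply W iF iN β a)
    have h0 : jF z = 0 := by
      have h3 := congrArg (l.rTensor K) hc
      rwa [← LinearMap.rTensor_comp_apply, hl, LinearMap.rTensor_id, LinearMap.id_apply, hz, map_zero, map_zero] at h3
    obtain ⟨⟨_, i, rfl⟩, hi⟩ := (IsLocalizedModule.eq_zero_iff W jF).1 h0
    exact ⟨i, hi⟩
  obtain ⟨i, hi⟩ := hinjK (t • v) (by rw [map_smul, hv, smul_comm, htw, smul_zero])
  obtain ⟨j, hj⟩ := hF.foc (g ^ i • v) t ht (by rw [smul_comm]; exact hi)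
  refine ⟨j + i + k, ?_⟩
  rw [pow_add, mul_smul, ← hv, ← map_smul, pow_add, mul_smul, hj, map_zero]

variable {C : Type u} [CommRing C] [Algebra R C] [Algebra S C] [IsScalarTower R S C] [Module C N] [IsScalarTower S C N]
  [IsScalarTower R C N] {qC : Ideal C}

theorem isLocalizedModule_powers_restrict (g : S) {M : Type u} [AddCommGroup M] [Module C M] [Module S M]
    [IsScalarTower S C M] (f : N →ₗ[C] M) [IsLocalizedModule (Submonoid.powers (algebraMap S C g)) f] :
    IsLocalizedModule (Submonoid.powers g) (f.restrictScalars S) where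
  map_units u := by
    obtain ⟨_, i, rfl⟩ := u
    have h1 := (Module.End.isUnit_iff _).1
      (IsLocalizedModule.map_units f (⟨algebraMap S C g ^ i, i, rfl⟩ : Submonoid.powers (algebraMap S C g)))
    refine (Module.End.isUnit_iff _).2 ?_
    convert h1 using 1
    funext m
    show g ^ i • m = algebraMap S C g ^ i • m
    rw [← map_pow, algebraMap_smul]
  surj z := by
    obtain ⟨⟨m, ⟨_, i, rfl⟩⟩, hm⟩ := IsLocalizedModule.surj (Submonoid.powers (algebraMap S C g)) f z
    refine ⟨⟨m, ⟨g ^ i, i, rfl⟩⟩, ?_⟩
    show g ^ i • z = f m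
    rw [← hm]
    show g ^ i • z = algebraMap S C g ^ i • z
    rw [← map_pow, algebraMap_smul]
  exists_of_eq {m₁ m₂} h := by
    obtain ⟨⟨_, i, rfl⟩, hi⟩ := IsLocalizedModule.exists_of_eq (S := Submonoid.powers (algebraMap S C g)) (f := f) h
    refine ⟨⟨g ^ i, i, rfl⟩, ?_⟩
    show g ^ i • m₁ = g ^ i • m₂
    rw [← algebraMap_smul C (g ^ i) m₁, ← algebraMap_smul C (g ^ i) m₂, map_pow]
    exact hi

theorem projective_powers_iff (g : S) :
    Module.Projective R (LocalizedModule (Submonoid.powers (algebraMap S C g)) N) ↔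
      Module.Projective R (LocalizedModule (Submonoid.powers g) N) := by
  let f := LocalizedModule.mkLinearMap (Submonoid.powers (algebraMap S C g)) N
  haveI := isLocalizedModule_powers_restrict (N := N) g f
  let e := (IsLocalizedModule.iso (Submonoid.powers g) (f.restrictScalars S)).restrictScalars R
  exact ⟨fun _ => Module.Projective.of_equiv e.symm, fun _ => Module.Projective.of_equiv e⟩

theorem smul_tensor_restrict (s : S) (w : N ⊗[R] K) : algebraMap S C s • w = s • w := by
  induction w using TensorProduct.induction_on with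
  | zero => simp
  | add a b ha hb => simp only [smul_add, ha, hb]
  | tmul n k => rw [smul_tmul', smul_tmul', algebraMap_smul]

/-- A good neighbourhood of the only prime above gives one upstairs. -/
theorem Good.restrict_of_dvd (hq : qC.comap (algebraMap S C) = q)
    (hdiv : ∀ c ∉ qC, ∃ u ∉ q, ∃ c', c * c' = algebraMap S C u) (h : Good R K N q g) :
    Good R K N qC (algebraMap S C g) := by
  refine ⟨fun hm => h.notMem (hq ▸ hm), (projective_powers_iff g).2 h.proj, fun w t ht htw => ?_⟩
  obtain ⟨u, hu, c', hc⟩ := hdiv t ht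
  obtain ⟨k, hk⟩ := h.foc w u hu (by rw [← smul_tensor_restrict (C := C), ← hc, mul_comm, mul_smul, htw, smul_zero])
  exact ⟨k, by rw [← map_pow, smul_tensor_restrict]; exact hk⟩

/-- A good neighbourhood upstairs coming from downstairs is good downstairs. -/
theorem Good.of_restrict (hq : qC.comap (algebraMap S C) = q) (h : Good R K N qC (algebraMap S C g)) :
    Good R K N q g := by
  refine ⟨fun hm => h.notMem (hq.ge hm), (projective_powers_iff g).1 h.proj, fun w t ht htw => ?_⟩
  obtain ⟨k, hk⟩ := h.foc w (algebraMap S C t) (fun hm => ht (hq ▸ hm)) (by rw [smul_tensor_restrict, htw])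
  exact ⟨k, by rw [← smul_tensor_restrict (C := C), map_pow]; exact hk⟩

end ops

section stage

variable {L L' : Type u} [Field L] [Field L'] [Algebra S L] [Algebra S L'] [Algebra R L] [Algebra R L']
  [IsScalarTower R S L] [IsScalarTower R S L'] [Algebra K L] [IsScalarTower R K L] [Algebra K L']
  [IsScalarTower R K L'] {N : Type u} [AddCommGroup N] [Module S N]

theorem ker_pt_eq (hK : FracPoint R K) (h : RingHom.ker (algebraMap S L) = RingHom.ker (algebraMap S L')) {R' : Type u}
    [CommRing R'] [Algebra R R'] (ε : R' →ₐ[R] K) : RingHom.ker (pt L S ε) = RingHom.ker (pt L' S ε) := by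
  haveI : (RingHom.ker (pt L S ε)).IsPrime := RingHom.ker_isPrime _
  refine eq_ker_pt hK ε _ ?_ ?_
  · ext a
    rw [Ideal.mem_comap, RingHom.mem_ker, RingHom.mem_ker]
    show pt L S ε (a ⊗ₜ[R] (1 : S)) = 0 ↔ _
    rw [pt_tmul, map_one, mul_one, map_eq_zero]
  · rw [← h]
    ext s
    rw [Ideal.mem_comap, RingHom.mem_ker, RingHom.mem_ker]
    show pt L S ε ((1 : R') ⊗ₜ[R] s) = 0 ↔ _
    rw [pt_tmul, map_one, map_one, one_mul]

/-- Being good at a stage depends on the point only. -/
theorem Spreads.of_ker_eq (hK : FracPoint R K) (h : RingHom.ker (algebraMap S L) = RingHom.ker (algebraMap S L'))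
    (hs : Spreads R K L S N) : Spreads R K L' S N := by
  obtain ⟨R', _, _, _, ε, g, hg⟩ := hs
  refine ⟨R', inferInstance, inferInstance, inferInstance, ε, g, ?_⟩
  unfold GoodStage at hg ⊢
  rwa [← ker_pt_eq hK h ε]

end stage

end Groth.Agent.H4RG
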