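import Groth.Prelude
import Groth.Agent.H4RG.GoodOps
import Groth.Agent.H4RG.Devissage
import Mathlib

/-!
# Transfer of stages along finite, surjective and covering flat algebras
-/

set_option autoImplicit false
set_option linter.style.haveILetI false
set_option backward.isDefEq.respectTransparency.types false

universe u

open TensorProduct

namespace Groth.Agent.H4RG

attribute [local instance] Algebra.TensorProduct.rightAlgebra

/-- Primes over the same prime of the base are kernels of maps to one field agreeing on the base. -/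
theorem exists_field_of_primes {A B C : Type u} [CommRing A] [CommRing B] [CommRing C] [Algebra A B]
    [Algebra A C] (P : Ideal B) [P.IsPrime] (Q : Ideal C) [Q.IsPrime]
    (h : P.comap (algebraMap A B) = Q.comap (algebraMap A C)) :
    ∃ (Ω : Type u) (_ : Field Ω) (fB : B →+* Ω) (fC : C →+* Ω),
      RingHom.ker fB = P ∧ RingHom.ker fC = Q ∧ ∀ a, fB (algebraMap A B a) = fC (algebraMap A C a) := by
  let p := P.comap (algebraMap A B)
  let k := p.ResidueField
  letI : Algebra k P.ResidueField := (Ideal.ResidueField.map p P (algebraMap A B) rfl).toAlgebra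
  letI : Algebra k Q.ResidueField := (Ideal.ResidueField.map p Q (algebraMap A C) h).toAlgebra
  let X := P.ResidueField ⊗[k] Q.ResidueField
  haveI : Nontrivial X := inferInstance
  obtain ⟨m, hm⟩ := Ideal.exists_maximal X
  letI : Field (X ⧸ m) := Ideal.Quotient.field m
  let gB : P.ResidueField →+* X ⧸ m := (Ideal.Quotient.mk m).comp Algebra.TensorProduct.includeLeftRingHom
  let gC : Q.ResidueField →+* X ⧸ m := (Ideal.Quotient.mk m).comp
    (Algebra.TensorProduct.includeRight (R := k) (A := P.ResidueField) (B := Q.ResidueField)).toRingHom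
  refine ⟨X ⧸ m, inferInstance, gB.comp (algebraMap B P.ResidueField), gC.comp (algebraMap C Q.ResidueField),
    ?_, ?_, fun a => ?_⟩
  · ext x
    rw [RingHom.mem_ker, RingHom.comp_apply, map_eq_zero, Ideal.algebraMap_residueField_eq_zero]
  · ext x
    rw [RingHom.mem_ker, RingHom.comp_apply, map_eq_zero, Ideal.algebraMap_residueField_eq_zero]
  · show Ideal.Quotient.mk m ((algebraMap B P.ResidueField (algebraMap A B a)) ⊗ₜ[k] (1 : Q.ResidueField)) =
      Ideal.Quotient.mk m ((1 : P.ResidueField) ⊗ₜ[k] (algebraMap C Q.ResidueField (algebraMap A C a)))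
    congr 1
    rw [← Ideal.ResidueField.map_algebraMap p P (algebraMap A B) rfl a,
      ← Ideal.ResidueField.map_algebraMap p Q (algebraMap A C) h a]
    exact Algebra.TensorProduct.tmul_one_eq_one_tmul (R := k) (A := P.ResidueField) (B := Q.ResidueField) _

/-- Primes over the same prime of the base meet in a pushout. -/
theorem exists_prime_pushout {A B C D : Type u} [CommRing A] [CommRing B] [CommRing C] [CommRing D] [Algebra A B]
    [Algebra A C] [Algebra A D] [Algebra B D] [Algebra C D] [IsScalarTower A B D] [IsScalarTower A C D]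
    [Algebra.IsPushout A B C D] (P : Ideal B) [P.IsPrime] (Q : Ideal C) [Q.IsPrime]
    (h : P.comap (algebraMap A B) = Q.comap (algebraMap A C)) :
    ∃ Z : Ideal D, Z.IsPrime ∧ Z.comap (algebraMap B D) = P ∧ Z.comap (algebraMap C D) = Q := by
  obtain ⟨Ω, _, fB, fC, hfB, hfC, hA⟩ := exists_field_of_primes P Q h
  letI : Algebra A Ω := (fB.comp (algebraMap A B)).toAlgebra
  let gB : B →ₐ[A] Ω := ⟨fB, fun _ => rfl⟩
  let gC : C →ₐ[A] Ω := ⟨fC, fun a => (hA a).symm⟩
  let lft : B ⊗[A] C →ₐ[A] Ω := Algebra.TensorProduct.lift gB gC fun _ _ => .all _ _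
  let e := Algebra.IsPushout.equiv A B C D
  let F : D →+* Ω := lft.toRingHom.comp e.symm.toAlgHom.toRingHom
  have hB : ∀ b, F (algebraMap B D b) = fB b := fun b => by
    show lft (e.symm (algebraMap B D b)) = _
    rw [AlgEquiv.commutes]
    refine (Algebra.TensorProduct.lift_tmul gB gC (fun _ _ => .all _ _) b (1 : C)).trans ?_
    rw [map_one, mul_one]
    rfl
  have hC : ∀ c, F (algebraMap C D c) = fC c := fun c => by
    show lft (e.symm (algebraMap C D c)) = _
    rw [show algebraMap C D c = e ((1 : B) ⊗ₜ[A] c) by rw [Algebra.IsPushout.equiv_tmul, map_one, one_mul],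
      e.symm_apply_apply]
    refine (Algebra.TensorProduct.lift_tmul gB gC (fun _ _ => .all _ _) (1 : B) c).trans ?_
    rw [map_one, one_mul]
    rfl
  refine ⟨RingHom.ker F, RingHom.ker_isPrime _, ?_, ?_⟩
  · ext b
    rw [Ideal.mem_comap, RingHom.mem_ker, hB, ← RingHom.mem_ker, hfB]
  · ext c
    rw [Ideal.mem_comap, RingHom.mem_ker, hC, ← RingHom.mem_ker, hfC]

section tower

variable {R K S C L : Type u} [CommRing R] [Field K] [Algebra R K] [CommRing S] [Algebra R S] [CommRing C] [Algebra R C]
  [Algebra S C] [IsScalarTower R S C] [Field L] [Algebra C L] [Algebra S L] [IsScalarTower S C L] [Algebra R L]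
  [IsScalarTower R S L] [IsScalarTower R C L] [Algebra K L] [IsScalarTower R K L]

theorem pt_map_tower {R' : Type u} [CommRing R'] [Algebra R R'] (ε : R' →ₐ[R] K) (x : R' ⊗[R] S) :
    pt L C ε (Algebra.TensorProduct.map (AlgHom.id R R') (IsScalarTower.toAlgHom R S C) x) = pt L S ε x := by
  induction x using TensorProduct.induction_on with
  | zero => simp
  | add a b ha hb => simp only [map_add, ha, hb]
  | tmul a s =>
    rw [Algebra.TensorProduct.map_tmul, pt_tmul, pt_tmul, AlgHom.id_apply, IsScalarTower.coe_toAlgHom',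
      ← IsScalarTower.algebraMap_apply]

section module

variable {N : Type u} [AddCommGroup N] [Module C N] [Module S N] [IsScalarTower S C N] {R' : Type u} [CommRing R']
  [Algebra R R']

/-- A stage of the smaller algebra for a module over a finite algebra with one prime over the point. -/
theorem GoodStage.restrict [Module.Finite S C] (hK : FracPoint R K)
    (huniq : ∀ Q : Ideal C, Q.IsPrime → Q.comap (algebraMap S C) = RingHom.ker (algebraMap S L) →
      Q = RingHom.ker (algebraMap C L))
    (ε : R' →ₐ[R] K) {g : R' ⊗[R] S} (h : GoodStage R K L S N ε g) :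
    GoodStage R K L C N ε (Algebra.TensorProduct.map (AlgHom.id R R') (IsScalarTower.toAlgHom R S C) g) := by
  letI := ε.toRingHom.toAlgebra
  let SA := R' ⊗[R] S
  let CA := R' ⊗[R] C
  let φ : SA →ₐ[R] CA := Algebra.TensorProduct.map (AlgHom.id R R') (IsScalarTower.toAlgHom R S C)
  letI : Algebra SA CA := φ.toRingHom.toAlgebra
  letI : Algebra S CA := ((algebraMap C CA).comp (algebraMap S C)).toAlgebra
  haveI : IsScalarTower S C CA := IsScalarTower.of_algebraMap_eq fun _ => rfl
  haveI : IsScalarTower R S CA := IsScalarTower.of_algebraMap_eq fun r => by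
    rw [IsScalarTower.algebraMap_apply R C CA, IsScalarTower.algebraMap_apply R S C]
    rfl
  haveI : IsScalarTower S SA CA := IsScalarTower.of_algebraMap_eq fun s => by
    show (1 : R') ⊗ₜ[R] algebraMap S C s = φ ((1 : R') ⊗ₜ[R] s)
    rw [Algebra.TensorProduct.map_tmul, AlgHom.id_apply, IsScalarTower.coe_toAlgHom']
  haveI : IsScalarTower R' SA CA := IsScalarTower.of_algebraMap_eq fun a => by
    show a ⊗ₜ[R] (1 : C) = φ (a ⊗ₜ[R] (1 : S))
    rw [Algebra.TensorProduct.map_tmul, map_one, AlgHom.id_apply]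
  haveI : IsScalarTower R SA CA := IsScalarTower.of_algebraMap_eq fun r => (φ.commutes r).symm
  haveI : Algebra.IsPushout R S R' SA := Algebra.IsPushout.symm inferInstance
  haveI : Algebra.IsPushout R C R' CA := Algebra.IsPushout.symm inferInstance
  haveI : Algebra.IsPushout S C SA CA :=
    (Algebra.IsPushout.comp_iff (R := R) (S := S) (T := C) (R' := R') (S' := SA) (T' := CA)).1 inferInstance
  haveI : Algebra.IsPushout S SA C CA := Algebra.IsPushout.symm inferInstance
  haveI : Algebra.IsPushout S SA C CA := inferInstance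
  haveI : Module.Finite SA CA := Module.Finite.equiv (Algebra.IsPushout.equiv S SA C CA).toLinearEquiv
  haveI : Algebra.IsIntegral SA CA := Algebra.IsIntegral.of_finite SA CA
  let NC := CA ⊗[C] N
  let eN : NC ≃ₗ[SA] SA ⊗[S] N := Algebra.IsPushout.cancelBaseChange S SA C CA N
  haveI : IsScalarTower R' SA NC := IsScalarTower.of_algebraMap_smul fun a x => by
    rw [← algebraMap_smul CA (algebraMap R' SA a) x, ← IsScalarTower.algebraMap_apply, algebraMap_smul]
  haveI : (RingHom.ker (pt L S ε)).IsPrime := RingHom.ker_isPrime _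
  haveI : (RingHom.ker (pt L C ε)).IsPrime := RingHom.ker_isPrime _
  have hgood : Good R' K NC (RingHom.ker (pt L S ε)) g := Good.congr h eN.symm
  have hq : (RingHom.ker (pt L C ε)).comap (algebraMap SA CA) = RingHom.ker (pt L S ε) := by
    ext x
    rw [Ideal.mem_comap, RingHom.mem_ker, RingHom.mem_ker]
    show pt L C ε (φ x) = 0 ↔ _
    rw [pt_map_tower]
  refine Good.restrict_of_dvd (S := SA) (C := CA) hq
    (exists_dvd_of_unique (RingHom.ker (pt L S ε)) (RingHom.ker (pt L C ε)) fun Q hQ hQS => ?_) hgood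
  haveI := hQ
  refine eq_ker_pt hK ε Q ?_ ?_
  · rw [IsScalarTower.algebraMap_eq R' SA CA, ← Ideal.comap_comap, hQS]
    ext a
    rw [Ideal.mem_comap, RingHom.mem_ker, RingHom.mem_ker]
    show pt L S ε (a ⊗ₜ[R] (1 : S)) = 0 ↔ _
    rw [pt_tmul, map_one, mul_one, map_eq_zero]
  · refine huniq _ (Ideal.comap_isPrime _ _) ?_
    rw [Ideal.comap_comap, ← IsScalarTower.algebraMap_eq, IsScalarTower.algebraMap_eq S SA CA, ← Ideal.comap_comap, hQS]
    ext s
    rw [Ideal.mem_comap, RingHom.mem_ker, RingHom.mem_ker]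
    show pt L S ε ((1 : R') ⊗ₜ[R] s) = 0 ↔ _
    rw [pt_tmul, map_one, map_one, one_mul]

/-- Spreading out over a quotient algebra gives it over the algebra. -/
theorem Spreads.of_surjective (hsurj : Function.Surjective (algebraMap S C)) (hs : Spreads R K L C N) :
    Spreads R K L S N := by
  obtain ⟨R', _, _, _, ε, G, hG⟩ := hs
  letI := ε.toRingHom.toAlgebra
  let SA := R' ⊗[R] S
  let CA := R' ⊗[R] C
  let φ : SA →ₐ[R] CA := Algebra.TensorProduct.map (AlgHom.id R R') (IsScalarTower.toAlgHom R S C)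
  letI : Algebra SA CA := φ.toRingHom.toAlgebra
  letI : Algebra S CA := ((algebraMap C CA).comp (algebraMap S C)).toAlgebra
  haveI : IsScalarTower S C CA := IsScalarTower.of_algebraMap_eq fun _ => rfl
  haveI : IsScalarTower R S CA := IsScalarTower.of_algebraMap_eq fun r => by
    rw [IsScalarTower.algebraMap_apply R C CA, IsScalarTower.algebraMap_apply R S C]
    rfl
  haveI : IsScalarTower S SA CA := IsScalarTower.of_algebraMap_eq fun s => by
    show (1 : R') ⊗ₜ[R] algebraMap S C s = φ ((1 : R') ⊗ₜ[R] s)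
    rw [Algebra.TensorProduct.map_tmul, AlgHom.id_apply, IsScalarTower.coe_toAlgHom']
  haveI : IsScalarTower R' SA CA := IsScalarTower.of_algebraMap_eq fun a => by
    show a ⊗ₜ[R] (1 : C) = φ (a ⊗ₜ[R] (1 : S))
    rw [Algebra.TensorProduct.map_tmul, map_one, AlgHom.id_apply]
  haveI : IsScalarTower R SA CA := IsScalarTower.of_algebraMap_eq fun r => (φ.commutes r).symm
  haveI : Algebra.IsPushout R S R' SA := Algebra.IsPushout.symm inferInstance
  haveI : Algebra.IsPushout R C R' CA := Algebra.IsPushout.symm inferInstance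
  haveI : Algebra.IsPushout S C SA CA :=
    (Algebra.IsPushout.comp_iff (R := R) (S := S) (T := C) (R' := R') (S' := SA) (T' := CA)).1 inferInstance
  haveI : Algebra.IsPushout S SA C CA := Algebra.IsPushout.symm inferInstance
  let NC := CA ⊗[C] N
  let eN : NC ≃ₗ[SA] SA ⊗[S] N := Algebra.IsPushout.cancelBaseChange S SA C CA N
  haveI : IsScalarTower R' SA NC := IsScalarTower.of_algebraMap_smul fun a x => by
    rw [← algebraMap_smul CA (algebraMap R' SA a) x, ← IsScalarTower.algebraMap_apply, algebraMap_smul]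
  obtain ⟨g, hg⟩ : ∃ g : SA, φ g = G :=
    Algebra.TensorProduct.map_surjective (f := AlgHom.id R R') (g := IsScalarTower.toAlgHom R S C)
      Function.surjective_id hsurj G
  refine ⟨R', inferInstance, inferInstance, inferInstance, ε, g, ?_⟩
  have hq : (RingHom.ker (pt L C ε)).comap (algebraMap SA CA) = RingHom.ker (pt L S ε) := by
    ext x
    rw [Ideal.mem_comap, RingHom.mem_ker, RingHom.mem_ker]
    show pt L C ε (φ x) = 0 ↔ _
    rw [pt_map_tower]
  have hgood : Good R' K NC (RingHom.ker (pt L C ε)) (algebraMap SA CA g) := by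
    show Good R' K NC (RingHom.ker (pt L C ε)) (φ g)
    rw [hg]
    exact hG
  exact Good.congr (Good.of_restrict (S := SA) (C := CA) hq hgood) eN

end module

variable {N : Type u} [AddCommGroup N] [Module S N]

/-- Spreading out descends along a flat algebra of finite presentation. -/
theorem Spreads.descend [Algebra.FinitePresentation R S] [Algebra.FinitePresentation R C] [Algebra.FinitePresentation S C]
    [Module.Flat S C] [Module.FinitePresentation S N] (hK : FracPoint R K) (hs : Spreads R K L C (C ⊗[S] N)) :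
    Spreads R K L S N := by
  obtain ⟨R1, _, _, _, ε1, G, hG⟩ := hs
  let S1 := R1 ⊗[R] S
  let C1 := R1 ⊗[R] C
  let φ1 : S1 →ₐ[R] C1 := Algebra.TensorProduct.map (AlgHom.id R R1) (IsScalarTower.toAlgHom R S C)
  letI : Algebra S1 C1 := φ1.toRingHom.toAlgebra
  letI : Algebra S C1 := ((algebraMap C C1).comp (algebraMap S C)).toAlgebra
  haveI : IsScalarTower S C C1 := IsScalarTower.of_algebraMap_eq fun _ => rfl
  haveI : IsScalarTower R S C1 := IsScalarTower.of_algebraMap_eq fun r => by
    rw [IsScalarTower.algebraMap_apply R C C1, IsScalarTower.algebraMap_apply R S C]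
    rfl
  haveI : IsScalarTower S S1 C1 := IsScalarTower.of_algebraMap_eq fun s => by
    show (1 : R1) ⊗ₜ[R] algebraMap S C s = φ1 ((1 : R1) ⊗ₜ[R] s)
    rw [Algebra.TensorProduct.map_tmul, AlgHom.id_apply, IsScalarTower.coe_toAlgHom']
  haveI : IsScalarTower R S1 C1 := IsScalarTower.of_algebraMap_eq fun r => (φ1.commutes r).symm
  haveI : IsScalarTower R1 S1 C1 := IsScalarTower.of_algebraMap_eq fun a => by
    show a ⊗ₜ[R] (1 : C) = φ1 (a ⊗ₜ[R] (1 : S))
    rw [Algebra.TensorProduct.map_tmul, map_one, AlgHom.id_apply]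
  haveI : Algebra.IsPushout R S R1 S1 := Algebra.IsPushout.symm inferInstance
  haveI : Algebra.IsPushout R C R1 C1 := Algebra.IsPushout.symm inferInstance
  haveI : Algebra.IsPushout S C S1 C1 :=
    (Algebra.IsPushout.comp_iff (R := R) (S := S) (T := C) (R' := R1) (S' := S1) (T' := C1)).1 inferInstance
  haveI : Algebra.IsPushout S S1 C C1 := Algebra.IsPushout.symm inferInstance
  haveI : Module.Flat S1 C1 := Module.Flat.of_linearEquiv (Algebra.IsPushout.equiv S S1 C C1).symm.toLinearEquiv
  haveI : Algebra.FinitePresentation S1 C1 := Algebra.FinitePresentation.equiv (Algebra.IsPushout.equiv S S1 C C1)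
  haveI : (RingHom.ker (pt L C ε1)).IsPrime := RingHom.ker_isPrime _
  haveI : (RingHom.ker (pt L S ε1)).IsPrime := RingHom.ker_isPrime _
  have hGpt : G ∉ RingHom.ker (pt L C ε1) := by
    letI := ε1.toRingHom.toAlgebra
    exact Good.notMem hG
  have hopen : IsOpen (PrimeSpectrum.comap (algebraMap S1 C1) '' (PrimeSpectrum.basicOpen G : Set (PrimeSpectrum C1))) :=
    PrimeSpectrum.isOpenMap_comap_of_hasGoingDown_of_finitePresentation (R := S1) (S := C1) _ (PrimeSpectrum.basicOpen G).2
  have hmem : (⟨RingHom.ker (pt L S ε1), inferInstance⟩ : PrimeSpectrum S1) ∈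
      PrimeSpectrum.comap (algebraMap S1 C1) '' (PrimeSpectrum.basicOpen G : Set (PrimeSpectrum C1)) := by
    refine ⟨⟨RingHom.ker (pt L C ε1), inferInstance⟩, hGpt, PrimeSpectrum.ext ?_⟩
    ext x
    show pt L C ε1 (φ1 x) = 0 ↔ pt L S ε1 x = 0
    rw [pt_map_tower]
  obtain ⟨_, ⟨g1, rfl⟩, hg1, hsub⟩ :=
    PrimeSpectrum.isTopologicalBasis_basic_opens.exists_subset_of_mem_open hmem hopen
  have hg1C : pt L C ε1 (φ1 g1) ≠ 0 := fun h0 => hg1 (RingHom.mem_ker.2 ((pt_map_tower ε1 g1).symm.trans h0))
  obtain ⟨f, hf, hk⟩ := GoodStage.shrink (S := C) hK hG hg1C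
  obtain ⟨R2, _, _, _, ε2, α, hα, hu⟩ := exists_away_stage ε1 hf
  have h2 := hk R2 ε2 α hα hu
  letI := ε2.toRingHom.toAlgebra
  let S2 := R2 ⊗[R] S
  let C2 := R2 ⊗[R] C
  let φ2 : S2 →ₐ[R] C2 := Algebra.TensorProduct.map (AlgHom.id R R2) (IsScalarTower.toAlgHom R S C)
  let ψS : S1 →ₐ[R] S2 := Algebra.TensorProduct.map α (AlgHom.id R S)
  let ψC : C1 →ₐ[R] C2 := Algebra.TensorProduct.map α (AlgHom.id R C)
  have hsq : ∀ x, φ2 (ψS x) = ψC (φ1 x) := fun x => by
    induction x using TensorProduct.induction_on with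
    | zero => simp
    | add a b ha hb => simp only [map_add, ha, hb]
    | tmul a s =>
      rfl
  letI : Algebra S2 C2 := φ2.toRingHom.toAlgebra
  letI : Algebra S1 S2 := ψS.toRingHom.toAlgebra
  letI : Algebra C1 C2 := ψC.toRingHom.toAlgebra
  letI : Algebra S1 C2 := (φ2.toRingHom.comp ψS.toRingHom).toAlgebra
  haveI : IsScalarTower S1 S2 C2 := IsScalarTower.of_algebraMap_eq fun _ => rfl
  haveI : IsScalarTower S1 C1 C2 := IsScalarTower.of_algebraMap_eq fun x => hsq x
  letI : Algebra S C2 := ((algebraMap C C2).comp (algebraMap S C)).toAlgebra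
  haveI : IsScalarTower S C C2 := IsScalarTower.of_algebraMap_eq fun _ => rfl
  haveI : IsScalarTower R S C2 := IsScalarTower.of_algebraMap_eq fun r => by
    rw [IsScalarTower.algebraMap_apply R C C2, IsScalarTower.algebraMap_apply R S C]
    rfl
  haveI : IsScalarTower S S2 C2 := IsScalarTower.of_algebraMap_eq fun s => by
    show (1 : R2) ⊗ₜ[R] algebraMap S C s = φ2 ((1 : R2) ⊗ₜ[R] s)
    rw [Algebra.TensorProduct.map_tmul, AlgHom.id_apply, IsScalarTower.coe_toAlgHom']
  haveI : IsScalarTower R S2 C2 := IsScalarTower.of_algebraMap_eq fun r => (φ2.commutes r).symm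
  haveI : IsScalarTower R2 S2 C2 := IsScalarTower.of_algebraMap_eq fun a => by
    show a ⊗ₜ[R] (1 : C) = φ2 (a ⊗ₜ[R] (1 : S))
    rw [Algebra.TensorProduct.map_tmul, map_one, AlgHom.id_apply]
  haveI : Algebra.IsPushout R S R2 S2 := Algebra.IsPushout.symm inferInstance
  haveI : Algebra.IsPushout R C R2 C2 := Algebra.IsPushout.symm inferInstance
  haveI : Algebra.IsPushout S C S2 C2 :=
    (Algebra.IsPushout.comp_iff (R := R) (S := S) (T := C) (R' := R2) (S' := S2) (T' := C2)).1 inferInstance
  haveI : Algebra.IsPushout S S2 C C2 := Algebra.IsPushout.symm inferInstance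
  haveI : Module.Flat S2 C2 := Module.Flat.of_linearEquiv (Algebra.IsPushout.equiv S S2 C C2).symm.toLinearEquiv
  haveI : IsScalarTower S S1 S2 := IsScalarTower.of_algebraMap_eq fun s => by
    show (1 : R2) ⊗ₜ[R] s = ψS ((1 : R1) ⊗ₜ[R] s)
    rw [Algebra.TensorProduct.map_tmul, map_one, AlgHom.id_apply]
  haveI : IsScalarTower C C1 C2 := IsScalarTower.of_algebraMap_eq fun s => by
    show (1 : R2) ⊗ₜ[R] s = ψC ((1 : R1) ⊗ₜ[R] s)
    rw [Algebra.TensorProduct.map_tmul, map_one, AlgHom.id_apply]
  haveI : IsScalarTower S C1 C2 := IsScalarTower.of_algebraMap_eq fun s => by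
    rw [IsScalarTower.algebraMap_apply S C C2, IsScalarTower.algebraMap_apply C C1 C2, ← IsScalarTower.algebraMap_apply S C C1]
  haveI : Algebra.IsPushout S1 C1 S2 C2 := by
    haveI : Algebra.IsPushout S S1 C C1 := inferInstance
    exact Algebra.IsPushout.symm
      ((Algebra.IsPushout.comp_iff (R := S) (S := S1) (T := S2) (R' := C) (S' := C1) (T' := C2)).1 inferInstance)
  let gT := ψS g1
  haveI : Module.Finite S2 (S2 ⊗[S] N) := inferInstance
  haveI : Algebra.FiniteType R2 S2 := inferInstance
  let NS := S2 ⊗[S] N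
  let NC := C2 ⊗[S2] NS
  let e : C2 ⊗[C] (C ⊗[S] N) ≃ₗ[C2] NC :=
    (AlgebraTensorModule.cancelBaseChange S C C2 C2 N).trans (AlgebraTensorModule.cancelBaseChange S S2 C2 C2 N).symm
  haveI : IsScalarTower R2 C2 NC := inferInstance
  haveI : IsScalarTower R2 S2 NC := IsScalarTower.of_algebraMap_smul fun a x => by
    rw [← algebraMap_smul C2 (algebraMap R2 S2 a) x, ← IsScalarTower.algebraMap_apply, algebraMap_smul]
  have h3 : Good R2 K NC (RingHom.ker (pt L C ε2)) (ψC G * algebraMap S2 C2 gT) := by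
    have := Good.congr h2 e
    rw [map_mul] at this
    show Good R2 K NC (RingHom.ker (pt L C ε2)) (ψC G * φ2 (ψS g1))
    rw [hsq]
    exact this
  have hgT : gT ∉ RingHom.ker (pt L S ε2) := fun h0 => hg1 (RingHom.mem_ker.2 (by
    rw [← RingHom.mem_ker.1 h0]
    show pt L S ε1 g1 = pt L S ε2 (ψS g1)
    generalize g1 = x
    induction x using TensorProduct.induction_on with
    | zero => simp
    | add a b ha hb => simp only [map_add, ha, hb]
    | tmul a s => rw [Algebra.TensorProduct.map_tmul, pt_tmul, pt_tmul, AlgHom.id_apply, ← hα]; rfl))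
  refine ⟨R2, inferInstance, inferInstance, inferInstance, ε2, gT,
    Good.descend (R := R2) (T := S2) (C := C2) (TensorProduct.mk S2 C2 NS 1) (TensorProduct.isBaseChange S2 NS C2) (ψC G)
      (fun Q hQ hgQ => ?_) (RingHom.ker (pt L C ε2)) ?_ hgT h3⟩
  · haveI := hQ
    obtain ⟨y, hyG, hy⟩ := hsub (show (⟨Q.comap (algebraMap S1 S2), Ideal.comap_isPrime _ _⟩ : PrimeSpectrum S1) ∈
      (PrimeSpectrum.basicOpen g1 : Set (PrimeSpectrum S1)) from fun hm => hgQ hm)
    obtain ⟨Z, hZ, hZC, hZS⟩ := exists_prime_pushout (A := S1) (B := C1) (C := S2) (D := C2) y.asIdeal Q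
      (congrArg PrimeSpectrum.asIdeal hy)
    refine ⟨Z, hZ, hZS, fun hm => hyG ?_⟩
    show G ∈ y.asIdeal
    rw [← hZC]
    exact hm
  · ext x
    rw [Ideal.mem_comap, RingHom.mem_ker, RingHom.mem_ker]
    show pt L C ε2 (φ2 x) = 0 ↔ _
    rw [pt_map_tower]

end tower

end Groth.Agent.H4RG
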