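import Groth.Prelude
import Groth.Agent.H4RG.Devissage
import Groth.Agent.H4RG.Cut
import Groth.Agent.H4RG.UISpread
import Mathlib

/-!
# The devissage step at a point over any prime of the base

Localising the base at the prime reduces the choice of a free part and of a cutting function to a local base.
-/

set_option autoImplicit false
set_option linter.style.haveILetI false
set_option backward.isDefEq.respectTransparency.types false

universe u

open TensorProduct IsLocalRing MvPolynomial

namespace Groth.Agent.H4RG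

attribute [local instance] MvPolynomial.algebraMvPolynomial

section trans

variable {E E' : Type u} [CommRing E] [CommRing E'] [Algebra E E'] (M : Submonoid E) [IsLocalization M E']

/-- The prime above a prime missing the denominators. -/
theorem isPrime_and_comap_map (P : Ideal E) [P.IsPrime] (hMP : M ≤ P.primeCompl) :
    (P.map (algebraMap E E')).IsPrime ∧ (P.map (algebraMap E E')).comap (algebraMap E E') = P := by
  have hd : Disjoint (M : Set E) P := Set.disjoint_left.2 fun _ hx hxP => hMP hx hxP
  exact ⟨IsLocalization.isPrime_of_isPrime_disjoint M E' P ‹_› hd,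
    IsLocalization.comap_map_of_isPrime_disjoint M E' ‹P.IsPrime› hd⟩

/-- Localising at the denominators and then at the prime is localising at the prime. -/
theorem isLocalizedModule_trans (P : Ideal E) [P.IsPrime] (P' : Ideal E') [P'.IsPrime]
    (hP : P'.comap (algebraMap E E') = P) {N N' N'' : Type u} [AddCommMonoid N] [Module E N] [AddCommMonoid N']
    [Module E N'] [Module E' N'] [IsScalarTower E E' N'] [AddCommMonoid N''] [Module E N''] [Module E' N'']
    [IsScalarTower E E' N''] (i : N →ₗ[E] N') [IsLocalizedModule M i] (i' : N' →ₗ[E'] N'')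
    [IsLocalizedModule P'.primeCompl i'] :
    IsLocalizedModule P.primeCompl ((i'.restrictScalars E) ∘ₗ i) where
  map_units u := by
    have hu : algebraMap E E' u ∈ P'.primeCompl := fun h => u.2 (hP.le h)
    have h1 := (Module.End.isUnit_iff _).1 (IsLocalizedModule.map_units i' (⟨_, hu⟩ : P'.primeCompl))
    refine (Module.End.isUnit_iff _).2 ?_
    convert h1 using 1
    funext x
    exact (algebraMap_smul E' (u : E) x).symm
  surj z := by
    obtain ⟨⟨n', ⟨e, he⟩⟩, hz⟩ := IsLocalizedModule.surj P'.primeCompl i' z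
    obtain ⟨⟨x, m⟩, hx⟩ := IsLocalization.surj M e
    obtain ⟨⟨n, m'⟩, hn⟩ := IsLocalizedModule.surj M i n'
    have hmP : ∀ k : M, algebraMap E E' k ∉ P' := fun k h =>
      ‹P'.IsPrime›.ne_top (Ideal.eq_top_of_isUnit_mem _ h (IsLocalization.map_units E' k))
    have hxP : algebraMap E E' x ∉ P' := fun h => by
      rw [← hx] at h
      exact (‹P'.IsPrime›.mem_or_mem h).elim he (hmP m)
    refine ⟨⟨(m : E) • n, ⟨x * m', fun h => ?_⟩⟩, ?_⟩
    · have h' : algebraMap E E' (x * m') ∈ P' := Ideal.mem_comap.1 (hP.ge h)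
      rw [map_mul] at h'
      exact (‹P'.IsPrime›.mem_or_mem h').elim hxP (hmP m')
    · show (x * m') • z = i' (i ((m : E) • n))
      have hn' : (m' : E) • n' = i n := hn
      have hz' : e • z = i' n' := hz
      rw [map_smul, ← hn', ← algebraMap_smul E' (m : E), ← algebraMap_smul E' (m' : E), map_smul, map_smul, ← hz',
        smul_smul, smul_smul, ← algebraMap_smul E' (x * m' : E) z, map_mul, ← hx]
      congr 1
      ring
  exists_of_eq {a b} h := by
    obtain ⟨⟨e, he⟩, hab⟩ := IsLocalizedModule.exists_of_eq (S := P'.primeCompl) (f := i') h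
    obtain ⟨⟨x, m⟩, hx⟩ := IsLocalization.surj M e
    have h1 : i (x • a) = i (x • b) := by
      rw [map_smul, map_smul, ← algebraMap_smul E' x, ← algebraMap_smul E' x (i b), ← hx, mul_comm, mul_smul, mul_smul]
      exact congrArg _ hab
    obtain ⟨m', hm'⟩ := IsLocalizedModule.exists_of_eq (S := M) (f := i) h1
    refine ⟨⟨m' * x, fun hmx => ?_⟩, ?_⟩
    · have h' : algebraMap E E' ((m' : E) * x) ∈ P' := Ideal.mem_comap.1 (hP.ge hmx)
      rw [map_mul] at h'
      refine (‹P'.IsPrime›.mem_or_mem h').elim (fun hm =>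
        ‹P'.IsPrime›.ne_top (Ideal.eq_top_of_isUnit_mem _ hm (IsLocalization.map_units E' m'))) fun hxP => ?_
      rw [← hx] at hxP
      exact (‹P'.IsPrime›.mem_or_mem hxP).elim he fun hm =>
        ‹P'.IsPrime›.ne_top (Ideal.eq_top_of_isUnit_mem _ hm (IsLocalization.map_units E' m))
    · show ((m' : E) * x) • a = ((m' : E) * x) • b
      rw [mul_smul, mul_smul]
      exact hm'

end trans

variable {R E : Type u} [CommRing R] [CommRing E] [Algebra R E] {d : ℕ} [Algebra (MvPolynomial (Fin d) R) E]
  [IsScalarTower R (MvPolynomial (Fin d) R) E] [Algebra.Etale (MvPolynomial (Fin d) R) E]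

attribute [local instance] Algebra.TensorProduct.rightAlgebra in
/-- The algebra over the local ring of a prime of the base, again etale over affine space. -/
theorem exists_localized_model (p : Ideal R) [p.IsPrime] :
    ∃ (E' : Type u) (_ : CommRing E') (_ : Algebra (Localization.AtPrime p) E')
      (_ : Algebra (MvPolynomial (Fin d) (Localization.AtPrime p)) E')
      (_ : IsScalarTower (Localization.AtPrime p) (MvPolynomial (Fin d) (Localization.AtPrime p)) E')
      (_ : Algebra.Etale (MvPolynomial (Fin d) (Localization.AtPrime p)) E') (_ : Algebra E E') (_ : Algebra R E')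
      (_ : IsScalarTower R E E') (_ : IsScalarTower R (Localization.AtPrime p) E'),
      IsLocalization (Algebra.algebraMapSubmonoid E p.primeCompl) E' := by
  let Rp := Localization.AtPrime p
  let A := MvPolynomial (Fin d) R
  let A' := MvPolynomial (Fin d) Rp
  haveI : IsScalarTower R A A' := IsScalarTower.of_algebraMap_eq fun r => by
    show algebraMap R A' r = MvPolynomial.map (algebraMap R Rp) (MvPolynomial.C r)
    rw [MvPolynomial.map_C]
    rfl
  let E' := A' ⊗[A] E
  refine ⟨E', inferInstance, inferInstance, inferInstance, inferInstance, inferInstance, inferInstance, inferInstance,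
    IsScalarTower.of_algebraMap_eq fun r => ?_, inferInstance, ?_⟩
  · show algebraMap R A' r ⊗ₜ[A] (1 : E) = (1 : A') ⊗ₜ[A] algebraMap R E r
    rw [IsScalarTower.algebraMap_apply R A A', IsScalarTower.algebraMap_apply R A E, Algebra.algebraMap_eq_smul_one,
      smul_tmul, ← Algebra.algebraMap_eq_smul_one]
  · have hsub : Algebra.algebraMapSubmonoid E (p.primeCompl.map (MvPolynomial.C (σ := Fin d))) =
        Algebra.algebraMapSubmonoid E p.primeCompl := by
      ext x
      constructor
      · rintro ⟨_, ⟨r, hr, rfl⟩, rfl⟩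
        exact ⟨r, hr, (IsScalarTower.algebraMap_apply R A E r)⟩
      · rintro ⟨r, hr, rfl⟩
        exact ⟨_, ⟨r, hr, rfl⟩, (IsScalarTower.algebraMap_apply R A E r).symm⟩
    rw [← hsub]
    exact inferInstance

/-- A free part with flat cokernel killed by a function cutting the fibre down to fewer variables. -/
theorem exists_step_at (p : Ideal R) [p.IsPrime] (P : Ideal E) [P.IsPrime] (hP : P.comap (algebraMap R E) = p)
    (N : Type u) [AddCommGroup N] [Module E N] [Module R N] [IsScalarTower R E N] [Module.Finite E N]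
    (hflat : Module.Flat R (LocalizedModule P.primeCompl N)) :
    ∃ (c : ℕ) (β : (Fin c → E) →ₗ[E] N), (∀ x, β x = 0 → ∃ t ∉ P, t • x = 0) ∧
      Module.Flat R (LocalizedModule P.primeCompl (N ⧸ LinearMap.range β)) ∧
      ∃ s : E, (∀ y : N ⧸ LinearMap.range β, s • y = 0) ∧
        (s ∈ P → ∃ d' < d, ∃ θ : MvPolynomial (Fin d') R →ₐ[R] E ⧸ Ideal.span {s},
          ∀ (Pb : Ideal (E ⧸ Ideal.span {s})) [Pb.IsPrime], Pb.comap (Ideal.Quotient.mk _) = P →
            (letI := θ.toRingHom.toAlgebra; Algebra.QuasiFiniteAt (MvPolynomial (Fin d') R) Pb)) := by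
  classical
  obtain ⟨E', _, _, _, _, _, _, _, _, _, _⟩ := exists_localized_model (E := E) (d := d) p
  let Rp := Localization.AtPrime p
  let M := Algebra.algebraMapSubmonoid E p.primeCompl
  have hMP : M ≤ P.primeCompl := by
    rintro _ ⟨r, hr, rfl⟩ h
    exact hr (hP ▸ h : r ∈ p)
  let P' := P.map (algebraMap E E')
  obtain ⟨hP'p, hP'c⟩ := isPrime_and_comap_map (E' := E') M P hMP
  haveI : P'.IsPrime := hP'p
  have hP'R : P'.comap (algebraMap Rp E') = maximalIdeal Rp := by
    haveI : (P'.comap (algebraMap Rp E')).IsPrime := Ideal.comap_isPrime _ _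
    rw [← IsLocalization.map_under p.primeCompl Rp (P'.comap (algebraMap Rp E')), Ideal.under_def, Ideal.comap_comap,
      ← IsScalarTower.algebraMap_eq, IsScalarTower.algebraMap_eq R E E', ← Ideal.comap_comap, hP'c, hP,
      Localization.AtPrime.map_eq_maximalIdeal]
  let N' := E' ⊗[E] N
  let i : N →ₗ[E] N' := TensorProduct.mk E E' N 1
  haveI : IsLocalizedModule M i :=
    (isLocalizedModule_iff_isBaseChange M E' i).2 (TensorProduct.isBaseChange E N E')
  haveI : IsScalarTower R Rp N' := IsScalarTower.of_algebraMap_smul fun r x => by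
    rw [← algebraMap_smul E' (algebraMap R Rp r) x, ← IsScalarTower.algebraMap_apply, IsScalarTower.algebraMap_apply R E E',
      algebraMap_smul, algebraMap_smul]
  let i' := LocalizedModule.mkLinearMap P'.primeCompl N'
  haveI := isLocalizedModule_trans M P P' hP'c i i'
  let eN := IsLocalizedModule.iso P.primeCompl ((i'.restrictScalars E) ∘ₗ i)
  haveI : Module.Flat R (LocalizedModule P'.primeCompl N') :=
    Module.Flat.of_linearEquiv (eN.restrictScalars R).symm
  have hflat' : Module.Flat Rp (LocalizedModule P'.primeCompl N') :=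
    (Module.flat_iff_of_isLocalization Rp p.primeCompl (M := LocalizedModule P'.primeCompl N')).2 inferInstance
  obtain ⟨c, β', hinj', hQ'flat, s', hsp', hsQ'⟩ := exists_free_part (d := d) (R := Rp) P' hP'R N' hflat'
  -- clear the denominators of the generators
  choose a ha using fun k : Fin c => IsLocalizedModule.surj M i (β' (Pi.single k 1))
  let β : (Fin c → E) →ₗ[E] N := Fintype.linearCombination E fun k => (a k).1
  let D : (Fin c → E) →ₗ[E] (Fin c → E') :=
    LinearMap.pi fun k => (LinearMap.lsmul E E' ((a k).2 : E)) ∘ₗ (Algebra.linearMap E E') ∘ₗ LinearMap.proj k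
  have hD : ∀ x k, D x k = algebraMap E E' ((a k).2 : E) * algebraMap E E' (x k) := fun x k => by
    show ((a k).2 : E) • algebraMap E E' (x k) = _
    rw [Algebra.smul_def]
  have hβ : ∀ x, i (β x) = β' (D x) := fun x => by
    rw [show β x = ∑ k, x k • (a k).1 from Fintype.linearCombination_apply E _ x, map_sum,
      ← Finset.univ_sum_single (D x), map_sum]
    refine Finset.sum_congr rfl fun k _ => ?_
    rw [map_smul, ← ha k, show Pi.single k (D x k) = D x k • (Pi.single k 1 : Fin c → E') by
      rw [← Pi.single_smul, smul_eq_mul, mul_one], map_smul, hD, Submonoid.smul_def,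
      ← algebraMap_smul E' (x k), ← algebraMap_smul E' ((a k).2 : E), smul_smul, mul_comm]
  have hunit : ∀ m : M, IsUnit (algebraMap E E' m) := IsLocalization.map_units E'
  refine ⟨c, β, fun x hx => ?_, ?_⟩
  · have h0 : β' (D x) = 0 := by rw [← hβ, hx, map_zero]
    obtain ⟨⟨e, he⟩, hex⟩ := (IsLocalizedModule.eq_zero_iff P'.primeCompl
      (LocalizedModule.mkLinearMap P'.primeCompl (Fin c → E'))).1 (hinj' (a₁ := _) (a₂ := 0) (by
        rw [IsLocalizedModule.map_apply, h0, map_zero, map_zero]))
    obtain ⟨⟨y, m⟩, hy⟩ := IsLocalization.surj M e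
    have h1 : ∀ k, algebraMap E E' (y * x k) = 0 := fun k => by
      have h2 : e * (algebraMap E E' ((a k).2 : E) * algebraMap E E' (x k)) = 0 := by
        rw [← hD]
        exact congrFun hex k
      refine (hunit (a k).2).mul_left_cancel ?_
      rw [mul_zero, map_mul, ← hy]
      calc algebraMap E E' ((a k).2 : E) * (e * algebraMap E E' (m : E) * algebraMap E E' (x k))
          = algebraMap E E' (m : E) * (e * (algebraMap E E' ((a k).2 : E) * algebraMap E E' (x k))) := by ring
        _ = 0 := by rw [h2, mul_zero]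
    choose n hn using fun k => (IsLocalization.map_eq_zero_iff M E' _).1 (h1 k)
    refine ⟨(∏ k, (n k : E)) * y, fun hm => ?_, funext fun k => ?_⟩
    · rcases ‹P.IsPrime›.mem_or_mem hm with h | h
      · obtain ⟨k, -, hk⟩ := ‹P.IsPrime›.prod_mem_iff.1 h
        exact hMP (n k).2 hk
      · rw [← hP'c, Ideal.mem_comap, ← hy] at h
        exact (hP'p.mem_or_mem h).elim he fun hm => hP'p.ne_top (Ideal.eq_top_of_isUnit_mem _ hm (hunit m))
    · show (∏ k, (n k : E)) * y * x k = 0
      rw [← Finset.prod_erase_mul _ _ (Finset.mem_univ k), mul_assoc, mul_assoc, hn, mul_zero]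
  -- the cokernel
  let Q := N ⧸ LinearMap.range β
  let Q' := N' ⧸ LinearMap.range β'
  let π : Q →ₗ[E] Q' := (LinearMap.range β).liftQ (((LinearMap.range β').mkQ.restrictScalars E) ∘ₗ i) (by
    rintro _ ⟨x, rfl⟩
    rw [LinearMap.mem_ker, LinearMap.comp_apply, hβ]
    exact (Submodule.Quotient.mk_eq_zero _).2 ⟨_, rfl⟩)
  have hπ : ∀ n, π (Submodule.Quotient.mk n) = Submodule.Quotient.mk (i n) := fun n => rfl
  haveI : IsLocalizedModule M π :=
    { map_units := fun m => by
        refine (Module.End.isUnit_iff _).2 ?_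
        have h1 := (Module.End.isUnit_iff (R := E') _).1 ((hunit m).map (algebraMap E' (Module.End E' Q')))
        convert h1 using 1
        funext z
        exact (algebraMap_smul E' (m : E) z).symm
      surj := fun z => by
        obtain ⟨n', rfl⟩ := Submodule.Quotient.mk_surjective _ z
        obtain ⟨⟨n, m⟩, hn⟩ := IsLocalizedModule.surj M i n'
        refine ⟨⟨Submodule.Quotient.mk n, m⟩, ?_⟩
        rw [hπ]
        show Submodule.Quotient.mk (m • n') = _
        rw [hn]
      exists_of_eq := fun {q1 q2} h => by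
        obtain ⟨n1, rfl⟩ := Submodule.Quotient.mk_surjective _ q1
        obtain ⟨n2, rfl⟩ := Submodule.Quotient.mk_surjective _ q2
        rw [hπ, hπ, Submodule.Quotient.eq, ← map_sub] at h
        obtain ⟨y, hy⟩ := h
        choose w hw using fun k => IsLocalization.surj M (y k * ↑(hunit (a k).2).unit⁻¹)
        let K := ∏ k, ((w k).2 : E)
        let x : Fin c → E := fun k => (w k).1 * ∏ j ∈ Finset.univ.erase k, ((w j).2 : E)
        have hDx : algebraMap E E' K • y = D x := funext fun k => by
          have h2 : y k * algebraMap E E' ((w k).2 : E) = algebraMap E E' ((a k).2 : E) * algebraMap E E' (w k).1 := by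
            rw [← hw k]
            calc y k * algebraMap E E' ((w k).2 : E)
                = y k * (algebraMap E E' ((a k).2 : E) * ↑(hunit (a k).2).unit⁻¹) * algebraMap E E' ((w k).2 : E) := by
                  rw [IsUnit.mul_val_inv, mul_one]
              _ = _ := by ring
          rw [hD, Pi.smul_apply, smul_eq_mul, show K = ((w k).2 : E) * ∏ j ∈ Finset.univ.erase k, ((w j).2 : E) from
            (Finset.mul_prod_erase _ (fun j => ((w j).2 : E)) (Finset.mem_univ k)).symm, map_mul, map_mul, ← mul_assoc,
            ← h2]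
          ring
        have h3 : i (K • (n1 - n2)) = i (β x) := by
          rw [hβ, ← hDx, map_smul β', hy, map_smul, algebraMap_smul]
        obtain ⟨m, hm⟩ := IsLocalizedModule.exists_of_eq (S := M) (f := i) h3
        refine ⟨⟨(m : E) * K, M.mul_mem m.2 (Submonoid.prod_mem M fun k _ => (w k).2.2)⟩, ?_⟩
        show ((m : E) * K) • (Submodule.Quotient.mk n1 : Q) = ((m : E) * K) • (Submodule.Quotient.mk n2 : Q)
        rw [← Submodule.Quotient.mk_smul, ← Submodule.Quotient.mk_smul, Submodule.Quotient.eq, ← smul_sub, mul_smul]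
        rw [show (m : E) • K • (n1 - n2) = (m : E) • β x from hm, ← map_smul]
        exact ⟨_, rfl⟩ }
  haveI := hQ'flat
  let iQ := LocalizedModule.mkLinearMap P'.primeCompl Q'
  haveI : IsScalarTower R Rp Q' := IsScalarTower.of_algebraMap_smul fun r x => by
    rw [← algebraMap_smul E' (algebraMap R Rp r) x, ← IsScalarTower.algebraMap_apply, IsScalarTower.algebraMap_apply R E E',
      algebraMap_smul, algebraMap_smul]
  haveI := isLocalizedModule_trans M P P' hP'c π iQ
  haveI : Module.Flat R (LocalizedModule P'.primeCompl Q') :=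
    Module.Flat.trans R Rp (LocalizedModule P'.primeCompl Q')
  refine ⟨Module.Flat.of_linearEquiv
    ((IsLocalizedModule.iso P.primeCompl ((iQ.restrictScalars E) ∘ₗ π)).restrictScalars R), ?_⟩
  -- the function
  obtain ⟨⟨s0, ms⟩, hs0⟩ := IsLocalization.surj M s'
  obtain ⟨G, hG⟩ := Module.Finite.fg_top (R := E) (M := Q)
  have hkillG : ∀ y : Q, ∃ m : M, (m : E) • s0 • y = 0 := fun y => by
    refine (IsLocalizedModule.eq_zero_iff M π).1 ?_
    rw [map_smul, ← algebraMap_smul E' s0, ← hs0, mul_comm, mul_smul, hsQ', smul_zero]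
  choose m hm using hkillG
  let s := (∏ y ∈ G, (m y : E)) * s0
  have hsE : algebraMap E E' s =
      s' * (algebraMap E E' (ms : E) * algebraMap E E' (∏ y ∈ G, (m y : E))) := by
    rw [map_mul, ← hs0]
    ring
  refine ⟨s, fun y => ?_, fun hsP => ?_⟩
  · have hy : y ∈ Submodule.span E (G : Set Q) := hG ▸ Submodule.mem_top
    induction hy using Submodule.span_induction with
    | mem z hz => rw [mul_smul, ← Finset.prod_erase_mul _ _ hz, mul_smul, hm, smul_zero]
    | zero => exact smul_zero _
    | add u v _ _ hu hv => rw [smul_add, hu, hv, add_zero]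
    | smul e u _ hu => rw [smul_comm, hu, smul_zero]
  have hsP' : algebraMap E E' s ∈ P' := Ideal.mem_map_of_mem _ hsP
  obtain ⟨d', hd', θ', hθ'⟩ := exists_cut (R := Rp) (d := d) P' hP'R (algebraMap E E' s) hsP' (fun h => hsp' (by
    have hu : IsUnit (algebraMap E' (Localization.AtPrime P')
        (algebraMap E E' (ms : E) * algebraMap E E' (∏ y ∈ G, (m y : E)))) :=
      ((hunit ms).mul (hunit ⟨_, Submonoid.prod_mem M fun y _ => (m y).2⟩)).map _
    rw [hsE, map_mul] at h
    exact (Ideal.mul_unit_mem_iff_mem _ hu).1 h))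
  refine ⟨d', hd', ?_⟩
  let T := E ⧸ Ideal.span {s}
  let T' := E' ⧸ Ideal.span {algebraMap E E' s}
  choose y hy using fun k : Fin d' => Ideal.Quotient.mk_surjective (θ' (X k))
  choose w hw using fun k : Fin d' => IsLocalization.surj M (y k)
  choose r hr hrw using fun k : Fin d' => (w k).2.2
  let θ : MvPolynomial (Fin d') R →ₐ[R] T := MvPolynomial.aeval fun k => Ideal.Quotient.mk _ (w k).1
  refine ⟨θ, fun Pb _ hPb => ?_⟩
  letI : Algebra (MvPolynomial (Fin d') R) T := θ.toRingHom.toAlgebra
  haveI : IsScalarTower R (MvPolynomial (Fin d') R) T := IsScalarTower.of_algebraMap_eq fun x => (θ.commutes x).symm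
  let Pb' : Ideal T' := P'.map (Ideal.Quotient.mk _)
  have hle : Ideal.span {algebraMap E E' s} ≤ P' := (Ideal.span_singleton_le_iff_mem _).2 hsP'
  haveI : Pb'.IsPrime := Ideal.map_isPrime_of_surjective Ideal.Quotient.mk_surjective (by rwa [Ideal.mk_ker])
  have hPb'c : Pb'.comap (Ideal.Quotient.mk _) = P' := by
    rw [Ideal.comap_map_of_surjective _ Ideal.Quotient.mk_surjective, ← RingHom.ker_eq_comap_bot, Ideal.mk_ker]
    exact sup_eq_left.2 hle
  haveI hqf := hθ' Pb' hPb'c
  letI : Algebra (MvPolynomial (Fin d') Rp) T' := θ'.toRingHom.toAlgebra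
  haveI : IsScalarTower Rp (MvPolynomial (Fin d') Rp) T' :=
    IsScalarTower.of_algebraMap_eq fun x => (θ'.commutes x).symm
  let L := Localization.AtPrime Pb
  let L' := Localization.AtPrime Pb'
  let A := MvPolynomial (Fin d') R
  -- the affine space over the local ring is quasi-finite over the affine space
  let σ : A →ₐ[R] MvPolynomial (Fin d') Rp :=
    MvPolynomial.aeval fun k => C (algebraMap R Rp (r k)) * X k
  letI : Algebra A (MvPolynomial (Fin d') Rp) := σ.toRingHom.toAlgebra
  haveI : Algebra.QuasiFinite A (MvPolynomial (Fin d') Rp) := by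
    refine Algebra.QuasiFinite.of_forall_exists_mul_mem_range (R := A) (Algebra.ofId A _) fun x => ?_
    induction x using MvPolynomial.induction_on with
    | C v =>
      obtain ⟨⟨v0, u⟩, hv⟩ := IsLocalization.surj p.primeCompl v
      refine ⟨C (u : R), ?_, ⟨C v0, ?_⟩⟩
      · show IsUnit (σ (C (u : R)))
        rw [MvPolynomial.aeval_C, IsScalarTower.algebraMap_apply R Rp (MvPolynomial (Fin d') Rp)]
        exact (IsLocalization.map_units Rp u).map _
      · show σ (C v0) = C v * σ (C (u : R))
        rw [MvPolynomial.aeval_C, MvPolynomial.aeval_C, IsScalarTower.algebraMap_apply R Rp (MvPolynomial (Fin d') Rp),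
          IsScalarTower.algebraMap_apply R Rp (MvPolynomial (Fin d') Rp), MvPolynomial.algebraMap_eq, ← map_mul, hv]
    | add f g hf hg =>
      obtain ⟨t1, ht1, b1, hb1⟩ := hf
      obtain ⟨t2, ht2, b2, hb2⟩ := hg
      refine ⟨t1 * t2, by rw [map_mul]; exact ht1.mul ht2, b1 * t2 + b2 * t1, ?_⟩
      show (Algebra.ofId A _) (b1 * t2 + b2 * t1) = _
      rw [map_add, map_mul, map_mul, show (Algebra.ofId A (MvPolynomial (Fin d') Rp)) b1 = _ from hb1,
        show (Algebra.ofId A (MvPolynomial (Fin d') Rp)) b2 = _ from hb2, map_mul]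
      ring
    | mul_X f k hf =>
      obtain ⟨t1, ht1, b1, hb1⟩ := hf
      refine ⟨t1 * C (r k), ?_, b1 * X k, ?_⟩
      · rw [map_mul]
        refine ht1.mul ?_
        show IsUnit (σ (C (r k)))
        rw [MvPolynomial.aeval_C, IsScalarTower.algebraMap_apply R Rp (MvPolynomial (Fin d') Rp)]
        exact (IsLocalization.map_units Rp (⟨r k, hr k⟩ : p.primeCompl)).map _
      · show (Algebra.ofId A _) (b1 * X k) = _
        rw [map_mul, show (Algebra.ofId A (MvPolynomial (Fin d') Rp)) b1 = _ from hb1, map_mul]
        show _ * σ (X k) = _ * (_ * σ (C (r k)))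
        rw [MvPolynomial.aeval_X, MvPolynomial.aeval_C, IsScalarTower.algebraMap_apply R Rp (MvPolynomial (Fin d') Rp),
          MvPolynomial.algebraMap_eq]
        ring
  -- from the localised stalk to the stalk
  let j0 : E →+* L := (algebraMap T L).comp (Ideal.Quotient.mk _)
  have hMu : ∀ x : M, IsUnit (j0 x) := fun x =>
    IsLocalization.map_units L (⟨Ideal.Quotient.mk _ (x : E), fun h => hMP x.2 (hPb.le (Ideal.mem_comap.2 h))⟩ :
      Pb.primeCompl)
  let j : E' →+* L := IsLocalization.lift hMu
  have hjE : ∀ x, j (algebraMap E E' x) = j0 x := fun x => IsLocalization.lift_eq hMu x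
  let jT : T' →+* L := Ideal.Quotient.lift _ j fun x hx => by
    obtain ⟨e, rfl⟩ := Ideal.mem_span_singleton'.1 hx
    rw [map_mul, hjE]
    show _ * algebraMap T L (Ideal.Quotient.mk _ s) = 0
    rw [Ideal.Quotient.eq_zero_iff_mem.2 (Ideal.mem_span_singleton_self s), map_zero, mul_zero]
  have hju : ∀ z : Pb'.primeCompl, IsUnit (jT z) := fun z => by
    obtain ⟨e, he⟩ := Ideal.Quotient.mk_surjective (z : T')
    obtain ⟨⟨e0, m⟩, hem⟩ := IsLocalization.surj M e
    have he0 : IsUnit (j0 e0) := IsLocalization.map_units L (⟨Ideal.Quotient.mk _ e0, fun h => by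
      have h1 : e0 ∈ P := hPb.le (Ideal.mem_comap.2 h)
      have h2 : e * algebraMap E E' (m : E) ∈ P' := hem ▸ Ideal.mem_map_of_mem _ h1
      rcases hP'p.mem_or_mem h2 with h3 | h3
      · exact z.2 (he ▸ Ideal.mem_map_of_mem _ h3)
      · exact hP'p.ne_top (Ideal.eq_top_of_isUnit_mem _ h3 (hunit m))⟩ : Pb.primeCompl)
    rw [← he, show jT (Ideal.Quotient.mk _ e) = j e from Ideal.Quotient.lift_mk _ _ _]
    rw [← hjE, ← hem, map_mul] at he0
    exact isUnit_of_mul_isUnit_left he0
  let ψ : L' →+* L := IsLocalization.lift hju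
  letI : Algebra A L' := ((algebraMap (MvPolynomial (Fin d') Rp) L').comp σ.toRingHom).toAlgebra
  haveI : IsScalarTower A (MvPolynomial (Fin d') Rp) L' := IsScalarTower.of_algebraMap_eq fun _ => rfl
  haveI : Algebra.QuasiFinite A L' := Algebra.QuasiFinite.trans A (MvPolynomial (Fin d') Rp) L'
  haveI : IsScalarTower R Rp T' := IsScalarTower.of_algebraMap_eq fun x => by
    rw [IsScalarTower.algebraMap_apply Rp E' T', ← IsScalarTower.algebraMap_apply R Rp E', ← IsScalarTower.algebraMap_apply R E' T']
  haveI : IsScalarTower R (MvPolynomial (Fin d') Rp) T' := IsScalarTower.of_algebraMap_eq fun x => by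
    rw [IsScalarTower.algebraMap_apply R Rp (MvPolynomial (Fin d') Rp),
      ← IsScalarTower.algebraMap_apply Rp (MvPolynomial (Fin d') Rp) T', ← IsScalarTower.algebraMap_apply R Rp T']
  haveI : IsScalarTower R (MvPolynomial (Fin d') Rp) L' := IsScalarTower.of_algebraMap_eq fun x => by
    rw [IsScalarTower.algebraMap_apply (MvPolynomial (Fin d') Rp) T' L',
      ← IsScalarTower.algebraMap_apply R (MvPolynomial (Fin d') Rp) T', ← IsScalarTower.algebraMap_apply R T' L']
  have hcomm : ψ.comp (algebraMap A L') = algebraMap A L := by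
    have key : ∀ z, ψ (algebraMap T' L' z) = jT z := fun z => IsLocalization.lift_eq hju z
    refine MvPolynomial.ringHom_ext (fun x => ?_) fun k => ?_
    · show ψ (algebraMap (MvPolynomial (Fin d') Rp) L' (σ (C x))) = algebraMap A L (C x)
      rw [MvPolynomial.aeval_C, ← IsScalarTower.algebraMap_apply R (MvPolynomial (Fin d') Rp) L',
        IsScalarTower.algebraMap_apply R T' L', key, IsScalarTower.algebraMap_apply R E' T']
      show jT (Ideal.Quotient.mk _ (algebraMap R E' x)) = algebraMap A L (algebraMap R A x)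
      rw [Ideal.Quotient.lift_mk, IsScalarTower.algebraMap_apply R E E', hjE, ← IsScalarTower.algebraMap_apply R A L,
        IsScalarTower.algebraMap_apply R T L]
      rfl
    · show ψ (algebraMap (MvPolynomial (Fin d') Rp) L' (σ (X k))) = algebraMap A L (X k)
      rw [MvPolynomial.aeval_X, IsScalarTower.algebraMap_apply (MvPolynomial (Fin d') Rp) T' L', key,
        IsScalarTower.algebraMap_apply A T L]
      show jT (θ' (C (algebraMap R Rp (r k)) * X k)) = algebraMap T L (θ (X k))
      rw [map_mul θ', ← hy, show θ' (C (algebraMap R Rp (r k))) = algebraMap R T' (r k) by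
          rw [← MvPolynomial.algebraMap_eq, AlgHom.commutes, ← IsScalarTower.algebraMap_apply],
        IsScalarTower.algebraMap_apply R E' T', Ideal.Quotient.algebraMap_eq, ← map_mul, Ideal.Quotient.lift_mk,
        IsScalarTower.algebraMap_apply R E E', hrw, mul_comm, hw, hjE, MvPolynomial.aeval_X]
      rfl
  let ψA : L' →ₐ[A] L := ⟨ψ, fun x => congr($hcomm x)⟩
  refine Algebra.QuasiFinite.of_forall_exists_mul_mem_range (R := A) ψA fun x => ?_
  obtain ⟨⟨t, u⟩, htu⟩ := IsLocalization.surj Pb.primeCompl x
  obtain ⟨t0, rfl⟩ := Ideal.Quotient.mk_surjective t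
  obtain ⟨u0, hu0⟩ := Ideal.Quotient.mk_surjective (u : T)
  have hψ : ∀ e : E, ψ (algebraMap T' L' (Ideal.Quotient.mk _ (algebraMap E E' e))) =
      algebraMap T L (Ideal.Quotient.mk _ e) := fun e => by
    rw [show ψ (algebraMap T' L' _) = jT _ from IsLocalization.lift_eq hju _,
      show jT (Ideal.Quotient.mk _ (algebraMap E E' e)) = j (algebraMap E E' e) from Ideal.Quotient.lift_mk _ _ _, hjE]
    rfl
  refine ⟨algebraMap T' L' (Ideal.Quotient.mk _ (algebraMap E E' u0)), ?_,
    algebraMap T' L' (Ideal.Quotient.mk _ (algebraMap E E' t0)), ?_⟩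
  · show IsUnit (ψ _)
    rw [hψ, hu0]
    exact IsLocalization.map_units L u
  · show ψ _ = x * ψ _
    rw [hψ, hψ, hu0, htu]

end Groth.Agent.H4RG
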