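import Groth.Prelude
import Groth.Agent.H4RG.StageOps
import Groth.Agent.H4RG.StepAt
import Groth.Agent.FlatModel.Open
import Mathlib

/-!
# Flat finitely presented modules spread out: induction on the relative dimension

Every finitely presented module flat at a point becomes, after an etale change of the base without residue extension,
projective over the base on a neighbourhood of the point on which it is focused at the point.
-/

set_option autoImplicit false
set_option linter.style.haveILetI false
set_option backward.isDefEq.respectTransparency.types false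

universe u

open TensorProduct

namespace Groth.Agent.H4RG

attribute [local instance] Algebra.TensorProduct.rightAlgebra

section killed

variable {R S : Type u} [CommRing R] [CommRing S] [Algebra R S] [Algebra.FinitePresentation R S] {F N : Type u}
  [AddCommGroup F] [Module S F] [Module R F] [IsScalarTower R S F] [Module.Finite S F] [AddCommGroup N] [Module S N]
  [Module R N] [IsScalarTower R S N] [Module.FinitePresentation S N]

/-- With a cokernel flat at a prime, a map injective at the prime is injective near the prime. -/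
theorem exists_ker_killed (P : Ideal S) [P.IsPrime] (β : F →ₗ[S] N)
    (hker : ∀ x, β x = 0 → ∃ t ∉ P, t • x = 0)
    (hflat : Module.Flat R (LocalizedModule P.primeCompl (N ⧸ LinearMap.range β))) :
    ∃ g ∉ P, ∀ x, β x = 0 → ∃ k : ℕ, g ^ k • x = 0 := by
  classical
  let Q := N ⧸ LinearMap.range β
  haveI : Module.FinitePresentation S Q :=
    Module.finitePresentation_of_surjective _ (LinearMap.range β).mkQ_surjective (by
      rw [Submodule.ker_mkQ, LinearMap.range_eq_map]
      exact Module.Finite.fg_top.map β)
  obtain ⟨_, ⟨g, rfl⟩, hgP, hsub⟩ := PrimeSpectrum.isTopologicalBasis_basic_opens.exists_subset_of_mem_open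
    (show (⟨P, inferInstance⟩ : PrimeSpectrum S) ∈
      {q : PrimeSpectrum S | Module.Flat R (LocalizedModule q.asIdeal.primeCompl Q)} from hflat)
    (FlatModel.isOpen_flatLocus (R := R) (S := S) Q)
  let W := Submonoid.powers g
  let T := Localization W
  let iQ : Q →ₗ[S] T ⊗[S] Q := TensorProduct.mk S T Q 1
  haveI : IsLocalizedModule W iQ := (isLocalizedModule_iff_isBaseChange W T iQ).2 (TensorProduct.isBaseChange S Q T)
  haveI : IsScalarTower R T (T ⊗[S] Q) := inferInstance
  haveI hQflat : Module.Flat R (T ⊗[S] Q) := by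
    refine (FlatModel.flat_localized_iff W iQ).2 fun J y hy => ?_
    by_contra hne
    push Not at hne
    obtain ⟨M, hM, hAM, hMg⟩ := Ideal.exists_le_prime_disjoint ((Submodule.span S {y}).annihilator) W
      (Set.disjoint_left.2 fun x hx hxf => hne x hxf ((Submodule.mem_annihilator_span_singleton _ _).1 hx))
    haveI := hM
    have hfl : (⟨M, hM⟩ : PrimeSpectrum S) ∈
        {q : PrimeSpectrum S | Module.Flat R (LocalizedModule q.asIdeal.primeCompl Q)} :=
      hsub (fun hm => Set.disjoint_left.1 hMg hm (Submonoid.mem_powers g))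
    obtain ⟨s, hs, hsy⟩ :=
      (FlatModel.flat_localized_iff M.primeCompl (LocalizedModule.mkLinearMap M.primeCompl Q)).1 hfl J y hy
    exact hs (hAM ((Submodule.mem_annihilator_span_singleton _ _).2 hsy))
  haveI : Algebra.FinitePresentation R T := Algebra.FinitePresentation.trans R S T
  haveI : Module.Finite T (T ⊗[S] F) := inferInstance
  let β1 := β.baseChange T
  let π1 := (LinearMap.range β).mkQ.baseChange T
  have hex1 : Function.Exact β1 π1 :=
    lTensor_exact T (LinearMap.exact_map_mkQ_range β) (LinearMap.range β).mkQ_surjective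
  have hπ1 : Function.Surjective π1 := LinearMap.lTensor_surjective T (LinearMap.range β).mkQ_surjective
  let e : ((T ⊗[S] N) ⧸ LinearMap.range β1) ≃ₗ[T] T ⊗[S] Q :=
    (Submodule.quotEquivOfEq _ _ (LinearMap.exact_iff.1 hex1).symm).trans (π1.quotKerEquivOfSurjective hπ1)
  haveI : Module.Flat R ((T ⊗[S] N) ⧸ LinearMap.range β1) := Module.Flat.of_linearEquiv (e.restrictScalars R)
  obtain ⟨G, hG⟩ := ker_fg_of_flat_coker (R := R) β1
  let iF : F →ₗ[S] T ⊗[S] F := TensorProduct.mk S T F 1
  haveI : IsLocalizedModule W iF := (isLocalizedModule_iff_isBaseChange W T iF).2 (TensorProduct.isBaseChange S F T)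
  let iN : N →ₗ[S] T ⊗[S] N := TensorProduct.mk S T N 1
  haveI : IsLocalizedModule W iN := (isLocalizedModule_iff_isBaseChange W T iN).2 (TensorProduct.isBaseChange S N T)
  have hkill : ∀ z ∈ LinearMap.ker β1, ∃ t ∉ P, t • z = 0 := fun z hz => by
    obtain ⟨⟨x, m⟩, hxm⟩ := IsLocalizedModule.surj W iF z
    have hxm' : (m : S) • z = iF x := hxm
    have h0 : iN (β x) = 0 := by
      show β1 ((1 : T) ⊗ₜ[S] x) = 0
      rw [show (1 : T) ⊗ₜ[S] x = (m : S) • z from hxm'.symm, LinearMap.map_smul_of_tower, LinearMap.mem_ker.1 hz,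
        smul_zero]
    obtain ⟨⟨_, j, rfl⟩, hj⟩ := (IsLocalizedModule.eq_zero_iff W iN).1 h0
    obtain ⟨t, ht, htx⟩ := hker (g ^ j • x) (by rw [map_smul]; exact hj)
    refine ⟨t * g ^ j * m, fun hm => ?_, ?_⟩
    · rcases ‹P.IsPrime›.mem_or_mem hm with h1 | h1
      · rcases ‹P.IsPrime›.mem_or_mem h1 with h2 | h2
        · exact ht h2
        · exact hgP (‹P.IsPrime›.mem_of_pow_mem j h2)
      · obtain ⟨i, hi⟩ := m.2
        rw [← hi] at h1
        exact hgP (‹P.IsPrime›.mem_of_pow_mem i h1)
    · rw [mul_smul, hxm', mul_smul, ← map_smul, ← map_smul, htx, map_zero]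
  choose! t ht htz using hkill
  let t0 := ∏ z ∈ G, t z
  have hG' : ∀ z ∈ G, z ∈ LinearMap.ker β1 := fun z hz => hG ▸ Submodule.subset_span hz
  refine ⟨g * t0, fun hm => (‹P.IsPrime›.mem_or_mem hm).elim hgP fun h => ?_, fun x hx => ?_⟩
  · obtain ⟨z, hz, hzt⟩ := ‹P.IsPrime›.prod_mem_iff.1 h
    exact ht z (hG' z hz) hzt
  have hx1 : iF x ∈ Submodule.span T (G : Set (T ⊗[S] F)) := by
    rw [hG, LinearMap.mem_ker]
    show (1 : T) ⊗ₜ[S] β x = 0
    rw [hx, tmul_zero]
  have h0 : t0 • iF x = 0 := by
    generalize iF x = z at hx1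
    induction hx1 using Submodule.span_induction with
    | mem z hz => rw [show t0 = (∏ w ∈ G.erase z, t w) * t z from (Finset.prod_erase_mul _ _ hz).symm, mul_smul,
        htz z (hG' z hz), smul_zero]
    | zero => exact smul_zero _
    | add a b _ _ ha hb => rw [smul_add, ha, hb, add_zero]
    | smul c a _ ha => rw [smul_comm, ha, smul_zero]
  obtain ⟨⟨_, j, rfl⟩, hj⟩ := (IsLocalizedModule.eq_zero_iff W iF).1 (by rw [map_smul]; exact h0 : iF (t0 • x) = 0)
  refine ⟨j + 1, ?_⟩
  rw [show (g * t0) ^ (j + 1) = (g * t0 ^ j) * (g ^ j * t0) by ring, mul_smul, mul_smul (g ^ j) t0]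
  rw [show g ^ j • t0 • x = 0 from hj, smul_zero]

end killed

/-- The statement proved by induction on the relative dimension. -/
def SpreadAt (d : ℕ) : Prop :=
  ∀ (R K E L : Type u) [CommRing R] [Field K] [Algebra R K] [CommRing E] [Algebra R E]
    [Algebra (MvPolynomial (Fin d) R) E] [IsScalarTower R (MvPolynomial (Fin d) R) E]
    [Algebra.Etale (MvPolynomial (Fin d) R) E] [Field L] [Algebra E L] [Algebra R L] [IsScalarTower R E L]
    [Algebra K L] [IsScalarTower R K L], FracPoint R K →
    ∀ (P : Ideal E) [P.IsPrime], RingHom.ker (algebraMap E L) = P →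
    ∀ (N : Type u) [AddCommGroup N] [Module E N] [Module R N] [IsScalarTower R E N] [Module.FinitePresentation E N],
      Module.Flat R (LocalizedModule P.primeCompl N) → Spreads R K L E N

/-- An etale neighbourhood over which the algebra becomes finite, over a point of any prime of the base. -/
theorem of_finite_chart_at {d : ℕ} {R T : Type u} [CommRing R] [CommRing T]
    [Algebra R T] [Algebra.FiniteType R T] [Algebra (MvPolynomial (Fin d) R) T]
    [IsScalarTower R (MvPolynomial (Fin d) R) T] (p : Ideal R) (Pb : Ideal T) [Pb.IsPrime]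
    (hPb : Pb.comap (algebraMap R T) = p) [Algebra.QuasiFiniteAt (MvPolynomial (Fin d) R) Pb] {Φ : Prop}
    (H : ∀ (E C : Type u) [CommRing E] [Algebra R E] [Algebra (MvPolynomial (Fin d) R) E]
      [IsScalarTower R (MvPolynomial (Fin d) R) E] [Algebra.Etale (MvPolynomial (Fin d) R) E]
      [CommRing C] [Algebra E C] [Module.Finite E C] [Algebra T C] [Module.Flat T C] [Algebra.FinitePresentation T C]
      [Algebra R C] [IsScalarTower R E C] [IsScalarTower R T C] (P' : Ideal E) [P'.IsPrime]
      (_ : P'.comap (algebraMap R E) = p) (P1 : Ideal C) [P1.IsPrime]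
      (_ : P1.comap (algebraMap E C) = P')
      (_ : ∀ Q : Ideal C, Q.IsPrime → Q.comap (algebraMap E C) = P' → Q = P1)
      (_ : P1.comap (algebraMap T C) = Pb), Φ) : Φ := by
  let A := MvPolynomial (Fin d) R
  haveI : Algebra.FiniteType A T := Algebra.FiniteType.of_restrictScalars_finiteType R A T
  obtain ⟨E, _, _, hE, P', hP', hP'p, e, -, P1, hP1, hP1P', hP1q, heP1, -, hfin, huniq⟩ :=
    Algebra.exists_etale_isIdempotentElem_forall_liesOver_eq (Pb.under A) Pb
  letI : Algebra R E := ((algebraMap A E).comp (algebraMap R A)).toAlgebra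
  haveI : IsScalarTower R A E := IsScalarTower.of_algebraMap_eq fun _ => rfl
  let W := E ⊗[A] T
  let C := Localization.Away e
  haveI : Module.Flat A E := inferInstance
  haveI : Module.Flat T W := flat_tensor_right
  haveI : IsScalarTower T W C := inferInstance
  haveI : Module.Flat W C := IsLocalization.flat C (Submonoid.powers e)
  haveI : Module.Flat T C := Module.Flat.trans T W C
  haveI : Algebra.FinitePresentation T W :=
    Algebra.FinitePresentation.equiv (Algebra.TensorProduct.commRight A T E)
  haveI : Algebra.FinitePresentation W C := IsLocalization.Away.finitePresentation e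
  haveI : Algebra.FinitePresentation T C := Algebra.FinitePresentation.trans T W C
  haveI : Module.Finite E C := hfin
  haveI : IsScalarTower R E C := inferInstance
  haveI : IsScalarTower R T C := IsScalarTower.of_algebraMap_eq fun r => by
    rw [IsScalarTower.algebraMap_apply R W C, IsScalarTower.algebraMap_apply T W C,
      IsScalarTower.algebraMap_apply R E W, IsScalarTower.algebraMap_apply R A T]
    congr 1
    show algebraMap E W (algebraMap A E (algebraMap R A r)) =
      Algebra.TensorProduct.includeRight (algebraMap A T (algebraMap R A r))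
    rw [← IsScalarTower.algebraMap_apply A E W]
    exact (Algebra.TensorProduct.includeRight.commutes _).symm
  have hd : Disjoint (Submonoid.powers e : Set W) P1 := (Ideal.disjoint_powers_iff_notMem e hP1.isRadical).2 heP1
  let P1c : Ideal C := P1.map (algebraMap W C)
  haveI : P1c.IsPrime := IsLocalization.isPrime_of_isPrime_disjoint (Submonoid.powers e) C P1 hP1 hd
  have hcm : P1c.comap (algebraMap W C) = P1 :=
    IsLocalization.comap_map_of_isPrime_disjoint (Submonoid.powers e) C hP1 hd
  have hP'R : P'.comap (algebraMap R E) = p := by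
    show P'.comap ((algebraMap A E).comp (algebraMap R A)) = _
    rw [← Ideal.comap_comap, ← hPb, IsScalarTower.algebraMap_eq R A T, ← Ideal.comap_comap]
    congr 1
    exact (hP'p.over).symm
  refine H E C P' hP'R P1c ?_ (fun Q hQ hQP' => ?_) ?_
  · rw [IsScalarTower.algebraMap_eq E W C, ← Ideal.comap_comap, hcm]
    exact hP1P'.over.symm
  · haveI := hQ
    have hQ' : (Q.comap (algebraMap W C)) = P1 := by
      refine huniq _ (Ideal.comap_isPrime _ _) ⟨?_⟩ fun he => ?_
      · show P' = (Q.comap (algebraMap W C)).comap (algebraMap E W)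
        rw [Ideal.comap_comap, ← IsScalarTower.algebraMap_eq, hQP']
      · exact hQ.ne_top (Ideal.eq_top_of_isUnit_mem _ he (IsLocalization.Away.algebraMap_isUnit e))
    show Q = P1.map (algebraMap W C)
    rw [← hQ', IsLocalization.map_comap (Submonoid.powers e) C Q]
  · rw [IsScalarTower.algebraMap_eq T W C, ← Ideal.comap_comap, hcm]
    exact hP1q

/-- The step at a point quasi-finite over fewer variables. -/
theorem spreads_of_chart {d : ℕ} (IH : SpreadAt.{u} d) {R K T L : Type u} [CommRing R] [Field K] [Algebra R K]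
    [CommRing T] [Algebra R T] [Algebra.FinitePresentation R T] [Algebra (MvPolynomial (Fin d) R) T]
    [IsScalarTower R (MvPolynomial (Fin d) R) T] [Field L] [Algebra T L] [Algebra R L] [IsScalarTower R T L]
    [Algebra K L] [IsScalarTower R K L] (hK : FracPoint R K) (Pb : Ideal T) [Pb.IsPrime]
    (hPb : RingHom.ker (algebraMap T L) = Pb) [Algebra.QuasiFiniteAt (MvPolynomial (Fin d) R) Pb]
    (Q : Type u) [AddCommGroup Q] [Module T Q] [Module R Q] [IsScalarTower R T Q] [Module.FinitePresentation T Q]
    (hflat : Module.Flat R (LocalizedModule Pb.primeCompl Q)) : Spreads R K L T Q := by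
  have hPbR : Pb.comap (algebraMap R T) = RingHom.ker (algebraMap R K) := by
    rw [← hPb, RingHom.comap_ker, ← IsScalarTower.algebraMap_eq, IsScalarTower.algebraMap_eq R K L]
    ext r
    rw [RingHom.mem_ker, RingHom.mem_ker, RingHom.comp_apply, map_eq_zero]
  refine of_finite_chart_at (d := d) _ Pb hPbR ?_
  intro E C _ _ _ _ _ _ _ _ _ _ _ _ _ _ P' _ hP' P1 _ h1 huniq h2
  let A := MvPolynomial (Fin d) R
  haveI : Algebra.FinitePresentation R E := Algebra.FinitePresentation.trans R A E
  haveI : Algebra.FinitePresentation R C := Algebra.FinitePresentation.trans R T C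
  haveI : Algebra.FinitePresentation E C := Algebra.FinitePresentation.of_restrict_scalars_finitePresentation R E C
  haveI : Module.FinitePresentation E C := Module.FinitePresentation.of_finite_of_finitePresentation E C
  let L1 := P1.ResidueField
  letI : Algebra T L1 := ((algebraMap C L1).comp (algebraMap T C)).toAlgebra
  haveI : IsScalarTower T C L1 := IsScalarTower.of_algebraMap_eq fun _ => rfl
  letI : Algebra E L1 := ((algebraMap C L1).comp (algebraMap E C)).toAlgebra
  haveI : IsScalarTower E C L1 := IsScalarTower.of_algebraMap_eq fun _ => rfl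
  haveI : IsScalarTower R T L1 := IsScalarTower.of_algebraMap_eq fun r => by
    show algebraMap R L1 r = algebraMap C L1 (algebraMap T C (algebraMap R T r))
    rw [← IsScalarTower.algebraMap_apply R T C, ← IsScalarTower.algebraMap_apply]
  haveI : IsScalarTower R E L1 := IsScalarTower.of_algebraMap_eq fun r => by
    show algebraMap R L1 r = algebraMap C L1 (algebraMap E C (algebraMap R E r))
    rw [← IsScalarTower.algebraMap_apply R E C, ← IsScalarTower.algebraMap_apply]
  have hkC : RingHom.ker (algebraMap C L1) = P1 := Ideal.ker_algebraMap_residueField P1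
  have hkT : RingHom.ker (algebraMap T L1) = Pb := by
    ext x
    rw [RingHom.mem_ker, IsScalarTower.algebraMap_apply T C L1, Ideal.algebraMap_residueField_eq_zero, ← h2,
      Ideal.mem_comap]
  have hkE : RingHom.ker (algebraMap E L1) = P' := by
    ext x
    rw [RingHom.mem_ker, IsScalarTower.algebraMap_apply E C L1, Ideal.algebraMap_residueField_eq_zero, ← h1,
      Ideal.mem_comap]
  obtain ⟨j⟩ := exists_point_hom hK L1 (by
    rw [IsScalarTower.algebraMap_eq R T L1, ← RingHom.comap_ker, hkT, hPbR])
  letI : Algebra K L1 := j.toRingHom.toAlgebra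
  haveI : IsScalarTower R K L1 := IsScalarTower.of_algebraMap_eq fun r => (j.commutes r).symm
  haveI := hflat
  let N1 := C ⊗[T] Q
  haveI : Module.Flat R (LocalizedModule P1.primeCompl N1) := flat_baseChange Pb P1 h2 Q
  haveI : IsScalarTower E C N1 := inferInstance
  haveI : IsScalarTower R E N1 := IsScalarTower.of_algebraMap_smul fun x m => by
    rw [← algebraMap_smul C (algebraMap R E x) m, ← IsScalarTower.algebraMap_apply, algebraMap_smul]
  haveI : Module.FinitePresentation C N1 := inferInstance
  haveI : Module.FinitePresentation E N1 := Module.FinitePresentation.trans E N1 C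
  have hdiv := exists_dvd_of_unique P' P1 huniq
  have hfl : Module.Flat R (LocalizedModule P'.primeCompl N1) := (flat_restrict_iff P' P1 h1 hdiv).1 ‹_›
  obtain ⟨R', _, _, _, ε, g, hg⟩ := IH R K E L1 hK P' hkE N1 hfl
  have hC : Spreads R K L1 C N1 := by
    refine ⟨R', inferInstance, inferInstance, inferInstance, ε, _, GoodStage.restrict hK (fun Q' hQ' hQ'' => ?_) ε hg⟩
    rw [hkC]
    exact huniq Q' hQ' (hQ''.trans hkE)
  exact Spreads.of_ker_eq hK (hkT.trans hPb.symm) (Spreads.descend hK hC)

/-- Finite powers of a good stage. -/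
theorem Spreads.pi {R K S L N : Type u} [CommRing R] [Field K] [Algebra R K] [CommRing S] [Algebra R S] [Field L]
    [Algebra S L] [Algebra R L] [IsScalarTower R S L] [Algebra K L] [IsScalarTower R K L] [AddCommGroup N] [Module S N]
    (c : ℕ) (h : Spreads R K L S N) : Spreads R K L S (Fin c → N) := by
  classical
  obtain ⟨R', _, _, _, ε, g, hg⟩ := h
  refine ⟨R', inferInstance, inferInstance, inferInstance, ε, g, ?_⟩
  letI := ε.toRingHom.toAlgebra
  exact Good.congr (Good.pi c hg) (TensorProduct.piRight S (R' ⊗[R] S) (R' ⊗[R] S) fun _ : Fin c => N).symm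

/-- An extension of modules spreading out spreads out when the map is injective near the point. -/
theorem Spreads.of_exact {R K S L F N Q : Type u} [CommRing R] [Field K] [Algebra R K] [CommRing S] [Algebra R S]
    [Algebra.FinitePresentation R S] [Field L] [Algebra S L] [Algebra R L] [IsScalarTower R S L] [Algebra K L]
    [IsScalarTower R K L] [AddCommGroup F] [Module S F] [Module.FinitePresentation S F] [AddCommGroup N] [Module S N]
    [AddCommGroup Q] [Module S Q] [Module.FinitePresentation S Q] (hK : FracPoint R K) (β : F →ₗ[S] N) (π : N →ₗ[S] Q)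
    (hex : Function.Exact β π) (hπ : Function.Surjective π) {g0 : S} (hg0 : algebraMap S L g0 ≠ 0)
    (hker : ∀ x, β x = 0 → ∃ k : ℕ, g0 ^ k • x = 0) (hF : Spreads R K L S F) (hQ : Spreads R K L S Q) :
    Spreads R K L S N := by
  obtain ⟨R1, _, _, _, ε1, g1, hg1⟩ := hF
  obtain ⟨R2, _, _, _, ε2, g2, hg2⟩ := hQ
  obtain ⟨R3, _, _, _, ε3, α1, α2, hα1, hα2⟩ := exists_common_stage ε1 ε2
  have h1 := hg1.map hK α1 hα1
  have h2 := hg2.map hK α2 hα2
  set a1 := Algebra.TensorProduct.map α1 (AlgHom.id R S) g1
  set a2 := Algebra.TensorProduct.map α2 (AlgHom.id R S) g2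
  let a0 : R3 ⊗[R] S := (1 : R3) ⊗ₜ[R] g0
  have hn1 : pt L S ε3 a1 ≠ 0 := by
    letI := ε3.toRingHom.toAlgebra
    exact fun h => Good.notMem h1 (RingHom.mem_ker.2 h)
  have hn2 : pt L S ε3 a2 ≠ 0 := by
    letI := ε3.toRingHom.toAlgebra
    exact fun h => Good.notMem h2 (RingHom.mem_ker.2 h)
  have hn0 : pt L S ε3 a0 ≠ 0 := by rwa [pt_tmul, map_one, map_one, one_mul]
  obtain ⟨f1, hf1, hk1⟩ := GoodStage.shrink hK h1 (t := a2 * a0) (by rw [map_mul]; exact mul_ne_zero hn2 hn0)
  obtain ⟨f2, hf2, hk2⟩ := GoodStage.shrink hK h2 (t := a1 * a0) (by rw [map_mul]; exact mul_ne_zero hn1 hn0)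
  obtain ⟨R4, _, _, _, ε4, α, hα, hu⟩ := exists_away_stage ε3 (f := f1 * f2) (by rw [map_mul]; exact mul_ne_zero hf1 hf2)
  rw [map_mul] at hu
  have h1' := hk1 R4 ε4 α hα (isUnit_of_mul_isUnit_left hu)
  have h2' := hk2 R4 ε4 α hα (isUnit_of_mul_isUnit_right hu)
  rw [show a2 * (a1 * a0) = a1 * (a2 * a0) by ring] at h2'
  letI := ε4.toRingHom.toAlgebra
  let SA := R4 ⊗[R] S
  set G : SA := Algebra.TensorProduct.map α (AlgHom.id R S) (a1 * (a2 * a0)) with hG
  have hdvd : algebraMap S SA g0 ∣ G := by
    rw [hG, map_mul, map_mul]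
    refine dvd_mul_of_dvd_right (dvd_mul_of_dvd_right (dvd_of_eq ?_) _) _
    show (1 : R4) ⊗ₜ[R] g0 = _
    rw [Algebra.TensorProduct.map_tmul, map_one, AlgHom.id_apply]
  refine ⟨R4, inferInstance, inferInstance, inferInstance, ε4, G, ?_⟩
  haveI : Module.Flat S SA := flat_tensor_right
  refine Good.of_exact (β.baseChange SA) (π.baseChange SA) (lTensor_exact SA hex hπ)
    (LinearMap.lTensor_surjective SA hπ) (fun x hx => ?_) h1' h2'
  obtain ⟨y, rfl⟩ := ((Module.Flat.lTensor_exact SA (LinearMap.exact_subtype_ker_map β)) x).1 hx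
  obtain ⟨k, hk⟩ : ∃ k : ℕ, algebraMap S SA g0 ^ k • (LinearMap.ker β).subtype.lTensor SA y = 0 := by
    clear hx
    induction y using TensorProduct.induction_on with
    | zero => exact ⟨0, by simp⟩
    | add a b ha hb =>
      obtain ⟨i, hi⟩ := ha
      obtain ⟨j, hj⟩ := hb
      refine ⟨i + j, ?_⟩
      rw [map_add, smul_add]
      conv_lhs => arg 1; rw [add_comm i j, pow_add, mul_smul, hi, smul_zero]
      rw [pow_add, mul_smul, hj, smul_zero, add_zero]
    | tmul s v =>
      obtain ⟨i, hi⟩ := hker v.1 v.2
      refine ⟨i, ?_⟩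
      rw [LinearMap.lTensor_tmul, Submodule.subtype_apply, ← map_pow, algebraMap_smul, ← tmul_smul, hi, tmul_zero]
  obtain ⟨c, hc⟩ := hdvd
  exact ⟨k, by rw [hc, mul_pow, mul_comm, mul_smul, hk, smul_zero]⟩

theorem spreadAt : ∀ d, SpreadAt.{u} d := by
  intro d
  induction d using Nat.strong_induction_on with
  | _ d IH => ?_
  intro R K E L _ _ _ _ _ _ _ _ _ _ _ _ _ _ hK P _ hker N _ _ _ _ _ hflat
  classical
  haveI : Algebra.FinitePresentation R E := Algebra.FinitePresentation.trans R (MvPolynomial (Fin d) R) E
  have hPR : P.comap (algebraMap R E) = RingHom.ker (algebraMap R K) := by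
    rw [← hker, RingHom.comap_ker, ← IsScalarTower.algebraMap_eq, IsScalarTower.algebraMap_eq R K L]
    ext r
    rw [RingHom.mem_ker, RingHom.mem_ker, RingHom.comp_apply, map_eq_zero]
  haveI : (RingHom.ker (algebraMap R K)).IsPrime := RingHom.ker_isPrime _
  obtain ⟨c, β, hβker, hQflat, s, hsQ, hcut⟩ := exists_step_at (d := d) _ P hPR N hflat
  let Q := N ⧸ LinearMap.range β
  haveI : Module.FinitePresentation E Q :=
    Module.finitePresentation_of_surjective _ (LinearMap.range β).mkQ_surjective (by
      rw [Submodule.ker_mkQ, LinearMap.range_eq_map]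
      exact Module.Finite.fg_top.map β)
  obtain ⟨g0, hg0, hg0k⟩ := exists_ker_killed (R := R) P β hβker hQflat
  have hF : Spreads R K L E (Fin c → E) := Spreads.pi c (spreads_of_etale hK d)
  have hQ : Spreads R K L E Q := by
    by_cases hsP : s ∈ P
    · obtain ⟨d', hd', θ, hθ⟩ := hcut hsP
      let T := E ⧸ Ideal.span {s}
      letI : Algebra (MvPolynomial (Fin d') R) T := θ.toRingHom.toAlgebra
      haveI : IsScalarTower R (MvPolynomial (Fin d') R) T := IsScalarTower.of_algebraMap_eq fun r => (θ.commutes r).symm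
      have hann : Module.IsTorsionBySet E Q (Ideal.span {s} : Ideal E) := by
        rintro y ⟨z, hz⟩
        obtain ⟨w, rfl⟩ := Ideal.mem_span_singleton'.1 hz
        show (w * s) • y = 0
        rw [mul_smul, hsQ, smul_zero]
      letI : Module T Q := hann.module
      haveI : IsScalarTower E T Q := hann.isScalarTower
      haveI : IsScalarTower R T Q := hann.isScalarTower
      haveI : Module.Finite T Q := Module.Finite.of_restrictScalars_finite E T Q
      haveI : Algebra.FinitePresentation R T := Algebra.FinitePresentation.quotient (Submodule.fg_span_singleton s)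
      haveI : Module.FinitePresentation T Q := fp_of_fp_of_finite (B := E)
      let Pb : Ideal T := P.map (Ideal.Quotient.mk (Ideal.span {s}))
      have hle : Ideal.span {s} ≤ P := (Ideal.span_singleton_le_iff_mem _).2 hsP
      haveI : Pb.IsPrime := Ideal.map_isPrime_of_surjective Ideal.Quotient.mk_surjective (by rwa [Ideal.mk_ker])
      have hPbP : Pb.comap (algebraMap E T) = P := by
        show (P.map (Ideal.Quotient.mk (Ideal.span {s}))).comap (Ideal.Quotient.mk _) = P
        rw [Ideal.comap_map_of_surjective _ Ideal.Quotient.mk_surjective, ← RingHom.ker_eq_comap_bot, Ideal.mk_ker]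
        exact sup_eq_left.2 hle
      haveI := hθ Pb hPbP
      let χ : T →+* L := Ideal.Quotient.lift _ (algebraMap E L) fun x hx => RingHom.mem_ker.1 (hker.ge (hle hx))
      letI : Algebra T L := χ.toAlgebra
      haveI : IsScalarTower E T L := IsScalarTower.of_algebraMap_eq fun x => (Ideal.Quotient.lift_mk _ _ _).symm
      haveI : IsScalarTower R T L := IsScalarTower.of_algebraMap_eq fun x => by
        rw [IsScalarTower.algebraMap_apply R E T, ← IsScalarTower.algebraMap_apply E T L, ← IsScalarTower.algebraMap_apply]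
      have hkT : RingHom.ker (algebraMap T L) = Pb := by
        ext x
        obtain ⟨x, rfl⟩ := Ideal.Quotient.mk_surjective x
        rw [RingHom.mem_ker, show algebraMap T L (Ideal.Quotient.mk _ x) = algebraMap E L x from
          Ideal.Quotient.lift_mk _ _ _, ← RingHom.mem_ker, hker, ← hPbP]
        rfl
      have hdiv : ∀ z ∉ Pb, ∃ u ∉ P, ∃ z', z * z' = algebraMap E T u := fun z hz => by
        obtain ⟨u, rfl⟩ := Ideal.Quotient.mk_surjective z
        exact ⟨u, fun h => hz (Ideal.mem_map_of_mem _ h), 1, mul_one _⟩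
      exact Spreads.of_surjective Ideal.Quotient.mk_surjective
        (spreads_of_chart (IH d' hd') hK Pb hkT Q ((flat_restrict_iff P Pb hPbP hdiv).2 hQflat))
    · have hsL : algebraMap E L s ≠ 0 := fun h => hsP (hker.le (RingHom.mem_ker.2 h))
      refine ⟨R, inferInstance, inferInstance, inferInstance, Algebra.ofId R K, (1 : R) ⊗ₜ[R] s, ?_⟩
      letI := (Algebra.ofId R K).toRingHom.toAlgebra
      refine Good.of_killed (fun h => hsL ?_) fun x => ?_
      · have h' := RingHom.mem_ker.1 h
        rwa [pt_tmul, map_one, map_one, one_mul] at h'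
      · induction x using TensorProduct.induction_on with
        | zero => rw [smul_zero]
        | add a b ha hb => rw [smul_add, ha, hb, add_zero]
        | tmul a q =>
          rw [show ((1 : R) ⊗ₜ[R] s : R ⊗[R] E) = algebraMap E (R ⊗[R] E) s from rfl, algebraMap_smul, ← tmul_smul,
            hsQ, tmul_zero]
  exact Spreads.of_exact hK β (LinearMap.range β).mkQ (LinearMap.exact_map_mkQ_range β)
    (LinearMap.range β).mkQ_surjective (g0 := g0) (fun h => hg0 (hker.le (RingHom.mem_ker.2 h))) hg0k hF hQ

end Groth.Agent.H4RG
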