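import Groth.Prelude
import Groth.Agent.H4RG.SpreadInd
import Mathlib

/-!
# Spreading out for finitely presented algebras, and the stages as etale neighbourhoods
-/

set_option autoImplicit false
set_option linter.style.haveILetI false
set_option backward.isDefEq.respectTransparency.types false

universe u

open TensorProduct

namespace Groth.Agent.H4RG

attribute [local instance] Algebra.TensorProduct.rightAlgebra

/-- A flat finitely presented module over a finitely presented algebra spreads out at every point. -/
theorem spreads_of_flat {R K S L : Type u} [CommRing R] [Field K] [Algebra R K] [CommRing S] [Algebra R S]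
    [Algebra.FinitePresentation R S] [Field L] [Algebra S L] [Algebra R L] [IsScalarTower R S L] [Algebra K L]
    [IsScalarTower R K L] (hK : FracPoint R K) (q : Ideal S) [q.IsPrime] (hq : RingHom.ker (algebraMap S L) = q)
    (N : Type u) [AddCommGroup N] [Module S N] [Module R N] [IsScalarTower R S N] [Module.FinitePresentation S N]
    (hflat : Module.Flat R (LocalizedModule q.primeCompl N)) : Spreads R K L S N := by
  obtain ⟨n, φ, hφ, -⟩ := Algebra.FinitePresentation.out (R := R) (A := S)
  let E := MvPolynomial (Fin n) R
  letI : Algebra E S := φ.toRingHom.toAlgebra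
  haveI : IsScalarTower R E S := IsScalarTower.of_algebraMap_eq fun r => (φ.commutes r).symm
  haveI : Module.Finite E S := Module.Finite.of_surjective (Algebra.linearMap E S) hφ
  haveI : Algebra.FinitePresentation E S := Algebra.FinitePresentation.of_restrict_scalars_finitePresentation R E S
  haveI : Module.FinitePresentation E S := Module.FinitePresentation.of_finite_of_finitePresentation E S
  letI : Module E N := Module.compHom N (algebraMap E S)
  haveI : IsScalarTower E S N := IsScalarTower.of_algebraMap_smul fun _ _ => rfl
  haveI : IsScalarTower R E N := IsScalarTower.of_algebraMap_smul fun r x => by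
    show algebraMap E S (algebraMap R E r) • x = r • x
    rw [← IsScalarTower.algebraMap_apply, algebraMap_smul]
  haveI : Module.FinitePresentation E N := Module.FinitePresentation.trans E N S
  letI : Algebra E L := ((algebraMap S L).comp (algebraMap E S)).toAlgebra
  haveI : IsScalarTower E S L := IsScalarTower.of_algebraMap_eq fun _ => rfl
  haveI : IsScalarTower R E L := IsScalarTower.of_algebraMap_eq fun r => by
    show _ = algebraMap S L (algebraMap E S (algebraMap R E r))
    rw [← IsScalarTower.algebraMap_apply R E S, ← IsScalarTower.algebraMap_apply]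
  let P := q.comap (algebraMap E S)
  haveI : P.IsPrime := Ideal.comap_isPrime _ _
  have hP : RingHom.ker (algebraMap E L) = P := by
    show _ = q.comap (algebraMap E S)
    rw [← hq, RingHom.comap_ker, ← IsScalarTower.algebraMap_eq]
  have hdiv : ∀ z ∉ q, ∃ u ∉ P, ∃ z', z * z' = algebraMap E S u := fun z hz => by
    obtain ⟨u, rfl⟩ := hφ z
    exact ⟨u, fun h => hz h, 1, mul_one _⟩
  obtain ⟨R', _, _, _, ε, g, hg⟩ :=
    spreadAt n R K E L hK P hP N ((flat_restrict_iff P q rfl hdiv).1 hflat)
  refine ⟨R', inferInstance, inferInstance, inferInstance, ε, _, GoodStage.restrict hK (fun Q _ hQ => ?_) ε hg⟩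
  rw [hq]
  exact Ideal.comap_injective_of_surjective (algebraMap E S) hφ (hQ.trans hP)

/-- The fraction property of a residue field. -/
theorem fracPoint_residueField {R : Type u} [CommRing R] (p : Ideal R) [p.IsPrime] : FracPoint R p.ResidueField := by
  intro x
  obtain ⟨a, b, hb, rfl⟩ := IsFractionRing.div_surjective (R ⧸ p) x
  obtain ⟨a, rfl⟩ := Ideal.Quotient.mk_surjective a
  obtain ⟨b, rfl⟩ := Ideal.Quotient.mk_surjective b
  refine ⟨a, b, ?_, ?_⟩
  · rw [IsScalarTower.algebraMap_apply R (R ⧸ p) p.ResidueField]
    exact IsFractionRing.to_map_ne_zero_of_mem_nonZeroDivisors hb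
  · rw [IsScalarTower.algebraMap_apply R (R ⧸ p) p.ResidueField, IsScalarTower.algebraMap_apply R (R ⧸ p) p.ResidueField]
    exact mul_div_cancel₀ _ (IsFractionRing.to_map_ne_zero_of_mem_nonZeroDivisors hb)

/-- An etale algebra with a point in the residue field is an etale neighbourhood. -/
theorem isEtaleNhd_of_point {R R' : Type u} [CommRing R] [CommRing R'] [Algebra R R'] [Algebra.Etale R R']
    (p : Ideal R) [p.IsPrime] (φ : R' →ₐ[R] p.ResidueField) (p' : Ideal R') [p'.IsPrime] (hp' : RingHom.ker φ = p') :
    FlatCA.IsEtaleNhd R R' p p' := by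
  have h : p'.LiesOver p := ⟨by
    ext r
    rw [Ideal.under_def, Ideal.mem_comap, ← hp', RingHom.mem_ker, AlgHom.commutes,
      Ideal.algebraMap_residueField_eq_zero]⟩
  refine ⟨inferInstance, h, ?_⟩
  let m : p.ResidueField →ₐ[R] p'.ResidueField := Ideal.ResidueField.mapₐ p p' (Algebra.ofId R R') h.over
  refine ⟨m.toRingHom.injective, fun y => ?_⟩
  let ψ : p'.ResidueField →ₐ[R] p.ResidueField :=
    Ideal.ResidueField.liftₐ p' φ (fun x hx => hp'.ge hx) fun x hx =>
      isUnit_iff_ne_zero.2 fun h0 => hx (hp'.le (RingHom.mem_ker.2 h0))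
  refine ⟨ψ y, ψ.toRingHom.injective ?_⟩
  show ψ (m (ψ y)) = ψ y
  have hid : ψ.comp m = AlgHom.id R p.ResidueField := by
    refine AlgHom.ext fun x => ?_
    obtain ⟨r, u, hu, hur⟩ := fracPoint_residueField p x
    refine mul_left_cancel₀ hu ?_
    rw [AlgHom.id_apply, hur]
    conv_lhs => rw [← (ψ.comp m).commutes u, ← map_mul, hur, AlgHom.commutes]
  exact congr($hid (ψ y))

/-- The localised stage module is the base change to the localised stage ring. -/
theorem exists_stage_equiv {R R' S : Type u} [CommRing R] [CommRing R'] [Algebra R R'] [CommRing S] [Algebra R S]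
    (N : Type u) [AddCommGroup N] [Module S N] (g : R' ⊗[R] S) :
    Nonempty (LocalizedModule (Submonoid.powers g) ((R' ⊗[R] S) ⊗[S] N) ≃ₗ[R'] Localization.Away g ⊗[S] N) := by
  let SA := R' ⊗[R] S
  let S' := Localization.Away g
  let NA := SA ⊗[S] N
  let e1 : S' ⊗[SA] NA ≃ₗ[SA] LocalizedModule (Submonoid.powers g) NA :=
    (((IsLocalizedModule.isBaseChange (Submonoid.powers g) S' (LocalizedModule.mkLinearMap (Submonoid.powers g) NA)).equiv
      ).restrictScalars SA)
  let e2 : S' ⊗[SA] NA ≃ₗ[S'] S' ⊗[S] N := AlgebraTensorModule.cancelBaseChange S SA S' S' N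
  exact ⟨(e1.symm.restrictScalars R').trans (e2.restrictScalars R')⟩

/-- Projectivity does not see the type synonym of restriction of scalars. -/
theorem projective_restrictScalars {A B M : Type u} [CommRing A] [CommRing B] [Algebra A B] [AddCommGroup M] [Module B M]
    [Module A M] [IsScalarTower A B M] [Module.Projective A M] : Module.Projective A (RestrictScalars A B M) := by
  let f : M ≃ₗ[A] RestrictScalars A B M :=
    { (RestrictScalars.addEquiv A B M).symm with
      map_smul' := fun a x => by
        show (RestrictScalars.addEquiv A B M).symm (a • x) = a • (RestrictScalars.addEquiv A B M).symm x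
        rw [← algebraMap_smul B a x]
        rfl }
  exact Module.Projective.of_equiv f

end Groth.Agent.H4RG
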