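import Groth.Prelude
import Groth.Agent.H4RG.SpreadGen
import Groth.Agent.H4RG.PureEtale
import Groth.Agent.CAlgUI.Local
import Mathlib

/-!
# Free neighbourhoods over the local ring of a stage
-/

set_option autoImplicit false
set_option linter.style.haveILetI false
set_option backward.isDefEq.respectTransparency.types false

universe u

open TensorProduct IsLocalRing

namespace Groth.Agent.H4RG

attribute [local instance] Algebra.TensorProduct.rightAlgebra

/-- Over a base with trivial residue extension there is one point over two given points. -/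
theorem eq_of_over {R S A SA K : Type u} [CommRing R] [CommRing S] [CommRing A] [IsLocalRing A] [CommRing SA] [Field K]
    [Algebra R S] [Algebra R A] [Algebra R SA] [Algebra S SA] [Algebra A SA] [IsScalarTower R S SA] [IsScalarTower R A SA]
    [Algebra.IsPushout R S A SA] [Algebra R K] (hK : FracPoint R K) (τ : A →ₐ[R] K)
    (hτ : ∀ a : A, τ a = 0 ↔ a ∈ maximalIdeal A) (Q1 Q2 : Ideal SA) [Q1.IsPrime] [Q2.IsPrime]
    (h1 : Q1.comap (algebraMap A SA) = maximalIdeal A) (h2 : Q2.comap (algebraMap A SA) = maximalIdeal A)
    (hS : Q1.comap (algebraMap S SA) = Q2.comap (algebraMap S SA)) : Q1 = Q2 := by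
  have key : ∀ x : SA, ∃ u : R, algebraMap R K u ≠ 0 ∧ ∃ s : S,
      algebraMap R SA u * x - algebraMap S SA s ∈ (maximalIdeal A).map (algebraMap A SA) := by
    intro x
    refine IsBaseChange.inductionOn (Algebra.IsPushout.out (R := R) (S := S) (R' := A) (S' := SA)) x
      (fun x => ∃ u : R, algebraMap R K u ≠ 0 ∧ ∃ s : S,
        algebraMap R SA u * x - algebraMap S SA s ∈ (maximalIdeal A).map (algebraMap A SA)) ?_ ?_ ?_ ?_
    · exact ⟨1, by simp, 0, by simp⟩
    · intro a
      obtain ⟨r, u, hu, hur⟩ := hK (τ a)
      refine ⟨u, hu, algebraMap R S r, ?_⟩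
      have hm : algebraMap R A u * a - algebraMap R A r ∈ maximalIdeal A := (hτ _).1 (by
        rw [map_sub, map_mul, τ.commutes, τ.commutes, hur, sub_self])
      have := Ideal.mem_map_of_mem (algebraMap A SA) hm
      rw [map_sub, map_mul, ← IsScalarTower.algebraMap_apply, ← IsScalarTower.algebraMap_apply] at this
      rw [← IsScalarTower.algebraMap_apply]
      exact this
    · rintro s y ⟨u, hu, s', h⟩
      refine ⟨u, hu, s * s', ?_⟩
      rw [Algebra.smul_def, map_mul, mul_left_comm, ← mul_sub]
      exact Ideal.mul_mem_left _ _ h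
    · rintro y z ⟨u, hu, s, h⟩ ⟨u', hu', s', h'⟩
      refine ⟨u * u', by rw [map_mul]; exact mul_ne_zero hu hu', algebraMap R S u' * s + algebraMap R S u * s', ?_⟩
      have := add_mem (Ideal.mul_mem_left _ (algebraMap R SA u') h) (Ideal.mul_mem_left _ (algebraMap R SA u) h')
      rw [map_mul, map_add, map_mul (algebraMap S SA), map_mul (algebraMap S SA), ← IsScalarTower.algebraMap_apply,
        ← IsScalarTower.algebraMap_apply]
      convert this using 1
      ring
  have hmem : ∀ (Q : Ideal SA) [Q.IsPrime], Q.comap (algebraMap A SA) = maximalIdeal A → ∀ (x : SA) (u : R) (s : S),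
      algebraMap R K u ≠ 0 → algebraMap R SA u * x - algebraMap S SA s ∈ (maximalIdeal A).map (algebraMap A SA) →
      (x ∈ Q ↔ algebraMap S SA s ∈ Q) := by
    intro Q _ hQ x u s hu h
    have hle : (maximalIdeal A).map (algebraMap A SA) ≤ Q := Ideal.map_le_iff_le_comap.2 hQ.ge
    have hu' : algebraMap R SA u ∉ Q := fun hm => hu (by
      rw [IsScalarTower.algebraMap_apply R A SA, ← Ideal.mem_comap, hQ, ← hτ, τ.commutes] at hm
      exact hm)
    constructor
    · intro hx
      simpa using sub_mem (Q.mul_mem_left (algebraMap R SA u) hx) (hle h)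
    · intro hs
      exact ((‹Q.IsPrime›.mem_or_mem (by simpa using add_mem (hle h) hs)).resolve_left hu')
  ext x
  obtain ⟨u, hu, s, h⟩ := key x
  rw [hmem Q1 h1 x u s hu h, hmem Q2 h2 x u s hu h, ← Ideal.mem_comap, ← Ideal.mem_comap, hS]

/-- A projective module of countable type over a local ring is free. -/
theorem free_of_projective_countable {A P : Type u} [CommRing A] [IsLocalRing A] [AddCommGroup P] [Module A P]
    [Module.Projective A P] (hc : CAlg.IsCountablyGenerated A P) : Module.Free A P := by
  let L : PUnit.{u+1} → Submodule A P := fun _ => ⊤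
  refine CAlgUI.free_of_projective_local P L ?_ fun _ => ?_
  · convert (DirectSum.isInternal_submodule_iff_iSupIndep_and_iSup_eq_top L).2
      ⟨fun i => by simp [L, Subsingleton.elim _ i], by simp [L]⟩
  · obtain ⟨G, hG, hs⟩ := hc
    refine ⟨Subtype.val ⁻¹' G, hG.preimage Subtype.val_injective, eq_top_iff.2 ?_⟩
    rintro ⟨x, hx⟩ -
    have hx' : x ∈ Submodule.span A G := hs ▸ Submodule.mem_top
    clear hs
    induction hx' using Submodule.span_induction with
    | mem y hy => exact Submodule.subset_span (by exact hy)
    | zero => exact zero_mem _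
    | add a b _ _ ha hb => exact add_mem (ha trivial) (hb trivial)
    | smul r a _ ha => exact Submodule.smul_mem _ r (ha trivial)

/-- Over the local ring of an etale neighbourhood a flat finite module is finitely presented and free near the point. -/
theorem exists_free_nhd_local {R S : Type u} [CommRing R] [CommRing S] [Algebra R S] [Algebra.FinitePresentation R S]
    (N : Type u) [AddCommGroup N] [Module S N] [Module R N] [IsScalarTower R S N] [Module.Finite S N]
    (p : Ideal R) [p.IsPrime] (q : Ideal S) [q.IsPrime] [q.LiesOver p] (hflat : FlatCA.FlatAt R q N) :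
    ∃ (R' : Type u) (_ : CommRing R') (_ : Algebra R R') (p' : Ideal R') (_ : p'.IsPrime), FlatCA.IsEtaleNhd R R' p p' ∧
      ∀ (SA NA : Type u) [CommRing SA] [Algebra R SA] [Algebra S SA] [Algebra (Localization.AtPrime p') SA]
        [IsScalarTower R S SA] [IsScalarTower R (Localization.AtPrime p') SA]
        [Algebra.IsPushout R S (Localization.AtPrime p') SA]
        [AddCommGroup NA] [Module SA NA] [Module S NA] [IsScalarTower S SA NA]
        [Module (Localization.AtPrime p') NA] [IsScalarTower (Localization.AtPrime p') SA NA]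
        (f : N →ₗ[S] NA), IsBaseChange SA f →
        ∃ (g : SA) (φ : SA →ₐ[S] q.ResidueField), φ g ≠ 0 ∧
          (RingHom.ker φ).comap (algebraMap (Localization.AtPrime p') SA) = maximalIdeal (Localization.AtPrime p') ∧
          (∀ (Q : Ideal SA) [Q.IsPrime], Q.LiesOver q →
            Q.LiesOver (IsLocalRing.maximalIdeal (Localization.AtPrime p')) → g ∉ Q) ∧
          Module.FinitePresentation (Localization.Away g) (LocalizedModule (Submonoid.powers g) NA) ∧
          Module.Free (Localization.AtPrime p') (LocalizedModule (Submonoid.powers g) NA) := by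
  classical
  let K := p.ResidueField
  let L := q.ResidueField
  haveI : Module.Flat R (LocalizedModule q.primeCompl N) := hflat
  obtain ⟨c, π, hπ⟩ := Module.Finite.exists_fin' S N
  haveI := fp_of_flat (R := R) N q hflat
  obtain ⟨G, hG, hk⟩ := exists_relations_loc π hπ q.primeCompl
  let μ := presMap π hG
  have hμ : Function.Surjective μ := presMap_surjective π hG hπ
  let N0 := Pres (G : Set (Fin c → S))
  have hkill : ∀ x : N0, μ x = 0 → ∃ t ∈ q.primeCompl, t • x = 0 := presMap_killed π hG q.primeCompl hk
  haveI hloc : IsLocalizedModule q.primeCompl ((LocalizedModule.mkLinearMap q.primeCompl N).comp μ) :=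
    isLocalizedModule_comp μ hμ q.primeCompl hkill
  have hflat0 : Module.Flat R (LocalizedModule q.primeCompl N0) := Module.Flat.of_linearEquiv
    ((IsLocalizedModule.iso q.primeCompl ((LocalizedModule.mkLinearMap q.primeCompl N).comp μ)).restrictScalars R)
  let m : K →ₐ[R] L := Ideal.ResidueField.mapₐ p q (Algebra.ofId R S) (q.over_def p)
  letI : Algebra K L := m.toRingHom.toAlgebra
  haveI : IsScalarTower R K L := IsScalarTower.of_algebraMap_eq fun r => (m.commutes r).symm
  have hK : FracPoint R K := fracPoint_residueField p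
  obtain ⟨R', _, _, _, ε, g1, hg1⟩ := spreads_of_flat (K := K) (L := L) hK q (Ideal.ker_algebraMap_residueField q) N0 hflat0
  letI := ε.toRingHom.toAlgebra
  haveI : IsScalarTower R R' K := IsScalarTower.of_algebraMap_eq fun r => (ε.commutes r).symm
  haveI : (RingHom.ker ε).IsPrime := RingHom.ker_isPrime _
  refine ⟨R', inferInstance, inferInstance, RingHom.ker ε, inferInstance, isEtaleNhd_of_point p ε _ rfl, ?_⟩
  intro SA NA _ _ _ _ _ _ _ _ _ _ _ _ _ f hf
  let A := Localization.AtPrime (RingHom.ker ε)
  haveI : Algebra.IsPushout R A S SA := Algebra.IsPushout.symm inferInstance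
  let e := Algebra.IsPushout.equiv R A S SA
  have hu : ∀ b : (RingHom.ker ε).primeCompl, IsUnit (ε b.1) := fun b =>
    isUnit_iff_ne_zero.2 fun h => b.2 (RingHom.mem_ker.2 h)
  let τ : A →ₐ[R] K := IsLocalization.liftAlgHom (A := R) (S := A) (M := (RingHom.ker ε).primeCompl) (f := ε) hu
  have hτ : ∀ a : A, τ a = 0 ↔ a ∈ maximalIdeal A := fun a => by
    obtain ⟨b, s, rfl⟩ := IsLocalization.exists_mk'_eq (RingHom.ker ε).primeCompl a
    rw [IsLocalization.AtPrime.mk'_mem_maximal_iff A (RingHom.ker ε) b s, RingHom.mem_ker]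
    show IsLocalization.lift hu (IsLocalization.mk' A b s) = 0 ↔ _
    rw [IsLocalization.lift_mk', Units.mul_left_eq_zero]
    rfl
  letI : Algebra A K := τ.toRingHom.toAlgebra
  haveI : IsScalarTower R' A K := IsScalarTower.of_algebraMap_eq fun r => (IsLocalization.lift_eq hu r).symm
  haveI : IsScalarTower R A K := IsScalarTower.of_algebraMap_eq fun r => (τ.commutes r).symm
  let σ : A ⊗[R] S →ₐ[R] L :=
    Algebra.TensorProduct.lift (m.comp τ) (IsScalarTower.toAlgHom R S L) fun _ _ => .all _ _
  let φ : SA →ₐ[S] L :=
    { σ.toRingHom.comp e.symm.toRingEquiv.toRingHom with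
      commutes' := fun s => by
        show σ (e.symm (algebraMap S SA s)) = _
        rw [Algebra.IsPushout.equiv_symm_algebraMap_right, Algebra.TensorProduct.lift_tmul, map_one, one_mul]
        rfl }
  have hφA : ∀ a : A, φ (algebraMap A SA a) = m (τ a) := fun a => by
    show σ (e.symm (algebraMap A SA a)) = _
    rw [AlgEquiv.commutes e.symm a, Algebra.TensorProduct.algebraMap_apply, Algebra.TensorProduct.lift_tmul, map_one,
      mul_one]
    rfl
  let QA : Ideal SA := RingHom.ker φ
  haveI : QA.IsPrime := RingHom.ker_isPrime _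
  have hQS : QA.comap (algebraMap S SA) = q := by
    ext s
    rw [Ideal.mem_comap, RingHom.mem_ker, φ.commutes, Ideal.algebraMap_residueField_eq_zero]
  have hQA : QA.comap (algebraMap A SA) = maximalIdeal A := by
    ext a
    rw [Ideal.mem_comap, RingHom.mem_ker, hφA, ← hτ]
    exact map_eq_zero m.toRingHom
  -- the base change of the stage
  let S1 := R' ⊗[R] S
  let θ : S1 →ₐ[R] SA := (e.toAlgHom.restrictScalars R).comp
    (Algebra.TensorProduct.map (IsScalarTower.toAlgHom R R' A) (AlgHom.id R S))
  letI : Algebra S1 SA := θ.toRingHom.toAlgebra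
  letI : Algebra R' SA := ((algebraMap A SA).comp (algebraMap R' A)).toAlgebra
  haveI : IsScalarTower R' A SA := IsScalarTower.of_algebraMap_eq fun _ => rfl
  haveI : IsScalarTower R R' SA := IsScalarTower.of_algebraMap_eq fun r => by
    show _ = algebraMap A SA (algebraMap R' A (algebraMap R R' r))
    rw [← IsScalarTower.algebraMap_apply R R' A, ← IsScalarTower.algebraMap_apply R A SA]
  haveI : IsScalarTower R' S1 SA := IsScalarTower.of_algebraMap_eq fun a => by
    show _ = e (Algebra.TensorProduct.map _ _ (a ⊗ₜ[R] (1 : S)))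
    rw [Algebra.TensorProduct.map_tmul, map_one, Algebra.IsPushout.equiv_tmul, map_one, mul_one]
    rfl
  haveI : IsScalarTower S S1 SA := IsScalarTower.of_algebraMap_eq fun s => by
    show _ = e (Algebra.TensorProduct.map _ _ ((1 : R') ⊗ₜ[R] s))
    rw [Algebra.TensorProduct.map_tmul, map_one, Algebra.IsPushout.equiv_tmul, map_one, one_mul]
    rfl
  haveI : IsScalarTower R S1 SA := IsScalarTower.of_algebraMap_eq fun r => (θ.commutes r).symm
  haveI : Algebra.IsPushout R R' S S1 := inferInstance
  haveI : Algebra.IsPushout R' A S1 SA :=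
    (Algebra.IsPushout.comp_iff (R := R) (S := R') (T := A) (R' := S) (S' := S1) (T' := SA)).1 inferInstance
  haveI : Algebra.IsPushout R' S1 A SA := Algebra.IsPushout.symm inferInstance
  let N1 := S1 ⊗[S] N0
  let NA0 := SA ⊗[S] N0
  haveI : SMulCommClass S S1 SA := ⟨fun b c x => by
    rw [← algebraMap_smul SA b, ← algebraMap_smul SA c x, ← algebraMap_smul SA b, ← algebraMap_smul SA c, smul_comm]⟩
  letI : Module S1 NA0 := TensorProduct.leftModule
  haveI : IsScalarTower S1 SA NA0 := TensorProduct.isScalarTower_left
  haveI : IsScalarTower S S1 NA0 := IsScalarTower.of_algebraMap_smul fun b y => by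
    rw [← algebraMap_smul SA (algebraMap S S1 b), ← IsScalarTower.algebraMap_apply, algebraMap_smul]
  let f1 := TensorProduct.mk S S1 N0 1
  have hf1 : IsBaseChange S1 f1 := TensorProduct.isBaseChange S N0 S1
  let f12 : N1 →ₗ[S1] NA0 := hf1.lift (TensorProduct.mk S SA N0 1)
  have hf12 : IsBaseChange SA f12 := IsBaseChange.of_comp hf1 (by
    rw [hf1.lift_comp]
    exact TensorProduct.isBaseChange S N0 SA)
  have hσS : ∀ x : S1, φ (algebraMap S1 SA x) = pt L S ε x := fun x => by
    induction x using TensorProduct.induction_on with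
    | zero => simp
    | add a b ha hb => simp only [map_add, ha, hb]
    | tmul a s =>
      show φ (e (Algebra.TensorProduct.map _ _ (a ⊗ₜ[R] s))) = _
      rw [Algebra.TensorProduct.map_tmul, Algebra.IsPushout.equiv_tmul, map_mul, hφA, pt_tmul, AlgHom.id_apply,
        φ.commutes]
      rw [show τ (IsScalarTower.toAlgHom R R' A a) = ε a from IsLocalization.lift_eq hu a]
      rfl
  have hA : Good A K NA0 QA (algebraMap S1 SA g1) :=
    Good.baseChange (hK.trans (A := R')) f12 hf12 (pt L S ε).toRingHom φ.toRingHom (algebraMap K L) hσS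
      (fun a => hφA a) hg1
  set g := algebraMap S1 SA g1 with hgdef
  -- the kernel dies on the neighbourhood
  let μA : NA0 →ₗ[SA] NA := hf.equiv.toLinearMap.comp (μ.baseChange SA)
  have hμA : Function.Surjective μA := hf.equiv.surjective.comp (LinearMap.lTensor_surjective SA hμ)
  haveI : Algebra.FinitePresentation A SA := Algebra.FinitePresentation.equiv e
  have hker : ∀ v, μA v = 0 → ∃ t ∈ Submonoid.powers g, t • v = 0 := by
    intro v hv
    have hv' : μ.lTensor SA v = 0 := hf.equiv.injective (hv.trans (map_zero _).symm)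
    obtain ⟨w, rfl⟩ := (lTensor_exact SA (LinearMap.exact_subtype_ker_map μ) hμ v).1 hv'
    obtain ⟨t, htq, htw⟩ : ∃ t ∉ q, t • (LinearMap.ker μ).subtype.lTensor SA w = 0 := by
      clear hv hv'
      induction w using TensorProduct.induction_on with
      | zero => exact ⟨1, fun h => ‹q.IsPrime›.ne_top ((Ideal.eq_top_iff_one _).2 h), by rw [map_zero, smul_zero]⟩
      | tmul a k =>
        obtain ⟨t, ht, htk⟩ := hkill k (LinearMap.mem_ker.1 k.2)
        exact ⟨t, ht, by rw [LinearMap.lTensor_tmul, Submodule.subtype_apply, ← tmul_smul, htk, tmul_zero]⟩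
      | add a b ha hb =>
        obtain ⟨t, ht, hta⟩ := ha
        obtain ⟨t', ht', htb⟩ := hb
        refine ⟨t * t', fun h => (‹q.IsPrime›.mem_or_mem h).elim ht ht', ?_⟩
        rw [map_add, smul_add, mul_comm, mul_smul, hta, smul_zero, zero_add, mul_comm, mul_smul, htb, smul_zero]
    set v := (LinearMap.ker μ).subtype.lTensor SA w
    let t' := algebraMap S SA t
    have ht' : t' ∉ QA := fun h => htq (hQS.le h)
    have hKA : FracPoint A K := hK.trans
    obtain ⟨a, ha, hk⟩ := hA.exists_ui hKA (t := t') fun y hy => hA.foc y t' ht' hy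
    have hau : IsUnit a := IsLocalRing.notMem_maximalIdeal.1 fun hm => ha ((hτ a).2 hm)
    obtain ⟨i, hi⟩ := hk A (v ⊗ₜ[A] (1 : A)) (by rw [smul_tmul', algebraMap_smul, htw, zero_tmul])
    refine ⟨g ^ i, ⟨i, rfl⟩, ?_⟩
    rw [mul_pow, mul_smul] at hi
    have h0 := congrArg (TensorProduct.rid A NA0) (((hau.map (algebraMap A SA)).pow i).smul_eq_zero.1 hi)
    rwa [smul_tmul', TensorProduct.rid_tmul, one_smul, map_zero] at h0
  let W := Submonoid.powers g
  haveI := isLocalizedModule_comp μA hμA W hker
  let eL := IsLocalizedModule.iso W ((LocalizedModule.mkLinearMap W NA).comp μA)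
  refine ⟨g, φ, fun h0 => hA.notMem (RingHom.mem_ker.2 h0), hQA, fun Q _ hq hm => ?_, ?_, ?_⟩
  · have hQ : Q = QA := eq_of_over hK τ hτ Q QA hm.over.symm hQA (hq.over.symm.trans hQS.symm)
    exact hQ ▸ hA.notMem
  · haveI : Module.FinitePresentation SA NA0 := inferInstance
    have hFP : Module.FinitePresentation (Localization W) (LocalizedModule W NA0) := inferInstance
    exact @Module.FinitePresentation.of_equiv (Localization W) (LocalizedModule W NA0) (LocalizedModule W NA) _ _ _ _ _
      (eL.extendScalarsOfIsLocalization W (Localization.Away g)) hFP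
  · haveI := hA.proj
    haveI : Module.Projective A (LocalizedModule W NA) := Module.Projective.of_equiv (eL.restrictScalars A)
    haveI : Module.Finite SA NA := Module.Finite.equiv hf.equiv
    haveI : Algebra.FiniteType A (Localization.Away g) :=
      Algebra.FiniteType.trans (S := SA) inferInstance
        (haveI := IsLocalization.Away.finitePresentation g (S := Localization.Away g); inferInstance)
    haveI : Module.Finite (Localization.Away g) (LocalizedModule W NA) :=
      Module.Finite.of_isLocalizedModule W (LocalizedModule.mkLinearMap W NA)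
    exact free_of_projective_countable
      (countablyGenerated_of_finite A (S := Localization.Away g) (LocalizedModule W NA))

end Groth.Agent.H4RG
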