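import Groth.Prelude
import Groth.Agent.H4RG.LocalStage
import Groth.Agent.H4RG.StageOps
import Mathlib

/-!
# Free neighbourhoods over the local ring of a stage, for algebras of finite type
-/

set_option autoImplicit false
set_option linter.style.haveILetI false
set_option backward.isDefEq.respectTransparency.types false

universe u

open TensorProduct IsLocalRing

namespace Groth.Agent.H4RG

attribute [local instance] Algebra.TensorProduct.rightAlgebra

/-- Localising at powers of an element and at powers of its image is the same. -/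
theorem isLocalizedModule_powers_image {P S : Type u} [CommRing P] [CommRing S] [Algebra P S] {M : Type u}
    [AddCommGroup M] [Module S M] [Module P M] [IsScalarTower P S M] (g : P) :
    IsLocalizedModule (Submonoid.powers g)
      ((LocalizedModule.mkLinearMap (Submonoid.powers (algebraMap P S g)) M).restrictScalars P) := by
  let i := LocalizedModule.mkLinearMap (Submonoid.powers (algebraMap P S g)) M
  refine ⟨fun w => ?_, fun z => ?_, fun {a b} h => ?_⟩
  · obtain ⟨_, n, rfl⟩ := w
    have h1 := (Module.End.isUnit_iff _).1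
      (IsLocalizedModule.map_units i (⟨algebraMap P S g ^ n, n, rfl⟩ : Submonoid.powers (algebraMap P S g)))
    have he : ∀ y : LocalizedModule (Submonoid.powers (algebraMap P S g)) M, g ^ n • y = algebraMap P S g ^ n • y :=
      fun y => by rw [← map_pow, algebraMap_smul]
    refine (Module.End.isUnit_iff _).2 ⟨fun a b hab => h1.1 ?_, fun y => ?_⟩
    · show algebraMap P S g ^ n • a = algebraMap P S g ^ n • b
      rw [← he, ← he]
      exact hab
    · obtain ⟨z, hz⟩ := h1.2 y
      exact ⟨z, (he z).trans hz⟩
  · obtain ⟨⟨m, ⟨_, n, rfl⟩⟩, hm⟩ := IsLocalizedModule.surj (Submonoid.powers (algebraMap P S g)) i z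
    refine ⟨⟨m, ⟨g ^ n, n, rfl⟩⟩, ?_⟩
    show g ^ n • z = i m
    rw [← hm, ← algebraMap_smul S (g ^ n), map_pow]
    rfl
  · obtain ⟨⟨_, n, rfl⟩, hn⟩ := (IsLocalizedModule.eq_iff_exists (Submonoid.powers (algebraMap P S g)) i).1 h
    refine ⟨⟨g ^ n, n, rfl⟩, ?_⟩
    show g ^ n • a = g ^ n • b
    rw [← algebraMap_smul S (g ^ n) a, ← algebraMap_smul S (g ^ n) b, map_pow]
    exact hn

/-- A module base changed along a quotient is base changed along the cover. -/
theorem isBaseChange_cover {R P S A SP SA : Type u} [CommRing R] [CommRing P] [CommRing S] [CommRing A] [CommRing SP]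
    [CommRing SA] [Algebra R P] [Algebra R S] [Algebra P S] [IsScalarTower R P S] [Algebra R A]
    [Algebra R SP] [Algebra A SP] [Algebra P SP] [IsScalarTower R A SP] [IsScalarTower R P SP] [Algebra.IsPushout R A P SP]
    [Algebra R SA] [Algebra A SA] [Algebra S SA] [IsScalarTower R A SA] [IsScalarTower R S SA] [Algebra.IsPushout R A S SA]
    [Algebra SP SA] [IsScalarTower A SP SA] [Algebra P SA] [IsScalarTower P SP SA] [IsScalarTower P S SA]
    {N NA : Type u} [AddCommGroup N] [Module S N] [Module R N] [IsScalarTower R S N] [Module P N] [IsScalarTower P S N]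
    [IsScalarTower R P N] [AddCommGroup NA] [Module SA NA] [Module S NA] [IsScalarTower S SA NA] [Module P NA]
    [IsScalarTower P S NA] [Module SP NA] [IsScalarTower SP SA NA] [IsScalarTower P SP NA] [Module A NA]
    [IsScalarTower A SA NA] (f : N →ₗ[S] NA) (hf : IsBaseChange SA f) :
    IsBaseChange SP (f.restrictScalars P) := by
  haveI : IsScalarTower A SP NA := IsScalarTower.of_algebraMap_smul fun a y => by
    rw [← algebraMap_smul SA (algebraMap A SP a), ← IsScalarTower.algebraMap_apply, algebraMap_smul]
  let E1 : SP ⊗[P] N ≃ₗ[A] A ⊗[R] N := Algebra.IsPushout.cancelBaseChange R A P SP N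
  let E2 : NA ≃ₗ[A] A ⊗[R] N :=
    (hf.equiv.symm.restrictScalars A).trans (Algebra.IsPushout.cancelBaseChange R A S SA N)
  let fP := f.restrictScalars P
  let g : SP ⊗[P] N →ₗ[SP] NA := (TensorProduct.isBaseChange P N SP).lift fP
  have hg1 : ∀ n, g ((1 : SP) ⊗ₜ[P] n) = f n := fun n => (TensorProduct.isBaseChange P N SP).lift_eq fP n
  have hg : (g : SP ⊗[P] N → NA) = E1.trans E2.symm := funext fun w => by
    obtain ⟨z, rfl⟩ := E1.symm.surjective w
    rw [LinearEquiv.trans_apply, LinearEquiv.apply_symm_apply]
    induction z using TensorProduct.induction_on with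
    | zero => simp
    | add a b ha hb => simp only [map_add, ha, hb]
    | tmul a n =>
      rw [show E1.symm (a ⊗ₜ[R] n) = algebraMap A SP a ⊗ₜ[P] n from Algebra.IsPushout.cancelBaseChange_symm_tmul ..,
        ← mul_one (algebraMap A SP a), ← smul_eq_mul, ← smul_tmul', map_smul, hg1]
      show algebraMap A SP a • f n = hf.equiv ((Algebra.IsPushout.cancelBaseChange R A S SA N).symm (a ⊗ₜ[R] n))
      rw [Algebra.IsPushout.cancelBaseChange_symm_tmul, hf.equiv_tmul, algebraMap_smul, algebraMap_smul]
  exact IsBaseChange.of_equiv (LinearEquiv.ofBijective g (by rw [hg]; exact (E1.trans E2.symm).bijective)) fun n => hg1 n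

/-- The free neighbourhood over the local ring of a stage, for an algebra of finite type. -/
theorem exists_free_nhd_local' {R S : Type u} [CommRing R] [CommRing S] [Algebra R S] [Algebra.FiniteType R S]
    (N : Type u) [AddCommGroup N] [Module S N] [Module R N] [IsScalarTower R S N] [Module.Finite S N]
    (p : Ideal R) [p.IsPrime] (q : Ideal S) [q.IsPrime] [q.LiesOver p] (hflat : FlatCA.FlatAt R q N) :
    ∃ (R' : Type u) (_ : CommRing R') (_ : Algebra R R') (p' : Ideal R') (_ : p'.IsPrime), FlatCA.IsEtaleNhd R R' p p' ∧
      ∀ (SA NA : Type u) [CommRing SA] [Algebra R SA] [Algebra S SA] [Algebra (Localization.AtPrime p') SA]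
        [IsScalarTower R S SA] [IsScalarTower R (Localization.AtPrime p') SA]
        [Algebra.IsPushout R S (Localization.AtPrime p') SA]
        [AddCommGroup NA] [Module SA NA] [Module S NA] [IsScalarTower S SA NA]
        [Module (Localization.AtPrime p') NA] [IsScalarTower (Localization.AtPrime p') SA NA]
        (f : N →ₗ[S] NA), IsBaseChange SA f →
        ∃ g : SA, (∀ (Q : Ideal SA) [Q.IsPrime], Q.LiesOver q →
            Q.LiesOver (IsLocalRing.maximalIdeal (Localization.AtPrime p')) → g ∉ Q) ∧
          Module.Free (Localization.AtPrime p') (LocalizedModule (Submonoid.powers g) NA) ∧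
          ∃ (SP : Type u) (_ : CommRing SP) (_ : Algebra (Localization.AtPrime p') SP) (_ : Algebra SP SA)
            (_ : IsScalarTower (Localization.AtPrime p') SP SA) (_ : Module SP NA) (_ : IsScalarTower SP SA NA) (g' : SP),
            algebraMap SP SA g' = g ∧ Function.Surjective (algebraMap SP SA) ∧
            Algebra.FinitePresentation (Localization.AtPrime p') SP ∧
            Module.FinitePresentation (Localization.Away g') (LocalizedModule (Submonoid.powers g') NA) := by
  obtain ⟨n, φ, hφ⟩ := Algebra.FiniteType.iff_quotient_mvPolynomial''.1 ‹Algebra.FiniteType R S›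
  let P := MvPolynomial (Fin n) R
  letI : Algebra P S := φ.toRingHom.toAlgebra
  haveI : IsScalarTower R P S := IsScalarTower.of_algebraMap_eq fun r => (φ.commutes r).symm
  letI : Module P N := Module.compHom N (algebraMap P S)
  haveI : IsScalarTower P S N := IsScalarTower.of_algebraMap_smul fun _ _ => rfl
  haveI : IsScalarTower R P N := IsScalarTower.of_algebraMap_smul fun r x => by
    show algebraMap P S (algebraMap R P r) • x = r • x
    rw [← IsScalarTower.algebraMap_apply, algebraMap_smul]
  haveI : Module.Finite P N := by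
    haveI : Module.Finite P S := Module.Finite.of_surjective (Algebra.linearMap P S) hφ
    exact Module.Finite.trans S N
  let qP := q.comap (algebraMap P S)
  haveI : qP.IsPrime := Ideal.comap_isPrime _ _
  haveI : qP.LiesOver p := ⟨by
    rw [Ideal.under_def, Ideal.comap_comap, ← IsScalarTower.algebraMap_eq]
    exact q.over_def p⟩
  have hflatP : FlatCA.FlatAt R qP N := (flat_restrict_iff qP q rfl fun z hz => by
    obtain ⟨w, rfl⟩ := hφ z
    exact ⟨w, fun h => hz h, 1, mul_one _⟩).1 hflat
  obtain ⟨R', _, _, p', _, het, hmain⟩ := exists_free_nhd_local (S := P) N p qP hflatP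
  refine ⟨R', inferInstance, inferInstance, p', inferInstance, het, ?_⟩
  intro SA NA _ _ _ _ _ _ _ _ _ _ _ _ _ f hf
  let A := Localization.AtPrime p'
  let SP := A ⊗[R] P
  haveI : Algebra.IsPushout R A S SA := Algebra.IsPushout.symm inferInstance
  haveI : Algebra.IsPushout R P A SP := Algebra.IsPushout.symm inferInstance
  let θ : SP →ₐ[A] SA := (Algebra.IsPushout.equiv R A S SA).toAlgHom.comp
    (Algebra.TensorProduct.map (AlgHom.id A A) (IsScalarTower.toAlgHom R P S))
  have hθ : Function.Surjective θ := (Algebra.IsPushout.equiv R A S SA).surjective.comp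
    (TensorProduct.map_surjective (g := (LinearMap.id : A →ₗ[R] A)) (g' := (IsScalarTower.toAlgHom R P S).toLinearMap)
      Function.surjective_id hφ)
  letI : Algebra SP SA := θ.toRingHom.toAlgebra
  haveI : IsScalarTower A SP SA := IsScalarTower.of_algebraMap_eq fun a => (θ.commutes a).symm
  letI : Algebra P SA := ((algebraMap S SA).comp (algebraMap P S)).toAlgebra
  haveI : IsScalarTower P S SA := IsScalarTower.of_algebraMap_eq fun _ => rfl
  haveI : IsScalarTower P SP SA := IsScalarTower.of_algebraMap_eq fun x => by
    show _ = Algebra.IsPushout.equiv R A S SA (Algebra.TensorProduct.map _ _ ((1 : A) ⊗ₜ[R] x))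
    rw [Algebra.TensorProduct.map_tmul, map_one, Algebra.IsPushout.equiv_tmul, map_one, one_mul]
    rfl
  letI : Module P NA := Module.compHom NA (algebraMap P S)
  haveI : IsScalarTower P S NA := IsScalarTower.of_algebraMap_smul fun _ _ => rfl
  letI : Module SP NA := Module.compHom NA (algebraMap SP SA)
  haveI : IsScalarTower SP SA NA := IsScalarTower.of_algebraMap_smul fun _ _ => rfl
  haveI : IsScalarTower A SP NA := IsScalarTower.of_algebraMap_smul (R := A) (A := SP) (M := NA) fun a y => by
    show algebraMap SP SA (algebraMap A SP a) • y = a • y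
    rw [← IsScalarTower.algebraMap_apply, algebraMap_smul]
  haveI : IsScalarTower P SP NA := IsScalarTower.of_algebraMap_smul fun x y => by
    show algebraMap SP SA (algebraMap P SP x) • y = algebraMap P S x • y
    rw [← IsScalarTower.algebraMap_apply, IsScalarTower.algebraMap_apply P S SA, algebraMap_smul]
  have hfP : IsBaseChange SP (f.restrictScalars P) := isBaseChange_cover (R := R) (A := A) f hf
  obtain ⟨g', -, -, -, hg, hfp, hfree⟩ := hmain SP NA (f.restrictScalars P) hfP
  refine ⟨algebraMap SP SA g', fun Q _ hq hm => ?_, ?_, SP, inferInstance, inferInstance, inferInstance, inferInstance,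
    inferInstance, inferInstance, g', rfl, hθ, inferInstance, hfp⟩
  · refine hg (Q.comap (algebraMap SP SA)) ⟨?_⟩ ⟨?_⟩
    · rw [Ideal.under_def, Ideal.comap_comap, ← IsScalarTower.algebraMap_eq, IsScalarTower.algebraMap_eq P S SA,
        ← Ideal.comap_comap, show Q.comap (algebraMap S SA) = q from hq.over.symm]
    · rw [Ideal.under_def, Ideal.comap_comap, ← IsScalarTower.algebraMap_eq]
      exact hm.over
  · haveI := isLocalizedModule_powers_image (S := SA) (M := NA) g'
    exact Module.Free.of_equiv ((IsLocalizedModule.linearEquiv (Submonoid.powers g')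
      (LocalizedModule.mkLinearMap (Submonoid.powers g') NA)
      ((LocalizedModule.mkLinearMap (Submonoid.powers (algebraMap SP SA g')) NA).restrictScalars SP)).restrictScalars A)

/-- An open point over two given points. -/
theorem exists_point_away {R S A SA : Type u} [CommRing R] [CommRing S] [CommRing A] [IsLocalRing A] [CommRing SA]
    [Algebra R S] [Algebra R A] [Algebra R SA] [Algebra S SA] [Algebra A SA] [IsScalarTower R S SA] [IsScalarTower R A SA]
    [Algebra.IsPushout R S A SA] (q : Ideal S) [q.IsPrime]
    (h : q.comap (algebraMap R S) = (maximalIdeal A).comap (algebraMap R A)) (g : SA)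
    (hg : ∀ (Q : Ideal SA) [Q.IsPrime], Q.LiesOver q → Q.LiesOver (maximalIdeal A) → g ∉ Q) :
    ∃ (x : Ideal (Localization.Away g)) (_ : x.IsPrime),
      (x.comap (algebraMap SA (Localization.Away g))).LiesOver q ∧
      (x.comap (algebraMap SA (Localization.Away g))).LiesOver (maximalIdeal A) := by
  obtain ⟨Q, hQ, hQS, hQA⟩ := exists_prime_pushout (D := SA) q (maximalIdeal A) h
  have hgQ := @hg Q hQ ⟨hQS.symm⟩ ⟨hQA.symm⟩
  obtain ⟨x, hx⟩ : (⟨Q, hQ⟩ : PrimeSpectrum SA) ∈ Set.range (PrimeSpectrum.comap (algebraMap SA (Localization.Away g))) := by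
    rw [PrimeSpectrum.localization_away_comap_range _ g]
    exact hgQ
  have hx' : x.asIdeal.comap (algebraMap SA (Localization.Away g)) = Q := congrArg PrimeSpectrum.asIdeal hx
  exact ⟨x.asIdeal, x.2, ⟨(by rw [hx']; exact hQS.symm)⟩, ⟨(by rw [hx']; exact hQA.symm)⟩⟩

end Groth.Agent.H4RG
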