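import Groth.Prelude
import Groth.Agent.H4RG.LocalModels
import Mathlib

/-!
# The localised module as sections over a principal open
-/

set_option autoImplicit false
set_option linter.style.haveILetI false
set_option backward.isDefEq.respectTransparency.types false

universe u

open TensorProduct

namespace Groth.Agent.H4RG

/-- Sections of a module over a principal open are the localised module. -/
theorem exists_open_equiv {A SA : Type u} [CommRing A] [CommRing SA] [Algebra A SA] (NA : Type u) [AddCommGroup NA]
    [Module SA NA] [Module A NA] [IsScalarTower A SA NA] (g : SA) :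
    Nonempty (LocalizedModule (Submonoid.powers g) NA ≃ₗ[A]
      RestrictScalars A (Localization.Away g) (Localization.Away g ⊗[SA] NA)) := by
  let C := Localization.Away g
  let e := (IsLocalizedModule.isBaseChange (Submonoid.powers g) C (LocalizedModule.mkLinearMap (Submonoid.powers g) NA)).equiv
  let r : RestrictScalars A C (C ⊗[SA] NA) ≃ₗ[A] C ⊗[SA] NA :=
    { RestrictScalars.addEquiv A C (C ⊗[SA] NA) with
      map_smul' := fun a x => by
        show RestrictScalars.addEquiv A C (C ⊗[SA] NA) (a • x) = a • RestrictScalars.addEquiv A C (C ⊗[SA] NA) x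
        rw [RestrictScalars.addEquiv_map_smul, algebraMap_smul] }
  exact ⟨(e.symm.restrictScalars A).trans r.symm⟩

/-- A point with the residue field of the algebra has the same residue field. -/
theorem bijective_residue_of_point {S C : Type u} [CommRing S] [CommRing C] [Algebra S C] (q : Ideal S) [q.IsPrime]
    (φ : C →ₐ[S] q.ResidueField) (x' : Ideal C) [x'.IsPrime] (hx : RingHom.ker φ = x') [h : x'.LiesOver q] :
    Function.Bijective (Ideal.ResidueField.mapₐ q x' (Algebra.ofId S C) h.over) := by
  let m : q.ResidueField →ₐ[S] x'.ResidueField := Ideal.ResidueField.mapₐ q x' (Algebra.ofId S C) h.over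
  refine ⟨m.toRingHom.injective, fun y => ?_⟩
  let ψ : x'.ResidueField →ₐ[S] q.ResidueField :=
    Ideal.ResidueField.liftₐ x' φ (fun x hx' => hx.ge hx') fun x hx' =>
      isUnit_iff_ne_zero.2 fun h0 => hx' (hx.le (RingHom.mem_ker.2 h0))
  refine ⟨ψ y, ψ.toRingHom.injective ?_⟩
  show ψ (m (ψ y)) = ψ y
  have hid : ψ.comp m = AlgHom.id S q.ResidueField := by
    refine AlgHom.ext fun x => ?_
    obtain ⟨r, u, hu, hur⟩ := fracPoint_residueField q x
    refine mul_left_cancel₀ hu ?_
    rw [AlgHom.id_apply, hur]
    conv_lhs => rw [← (ψ.comp m).commutes u, ← map_mul, hur, AlgHom.commutes]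
  exact congr($hid (ψ y))

end Groth.Agent.H4RG
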