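import Groth.Prelude
import Groth.Agent.H4RG.OpenPiece
import Mathlib

/-!
# Free neighbourhoods in terms of points of stages
-/

set_option autoImplicit false
set_option linter.style.haveILetI false
set_option backward.isDefEq.respectTransparency.types false

universe u

open TensorProduct IsLocalRing

namespace Groth.Agent.H4RG

attribute [local instance] Algebra.TensorProduct.rightAlgebra

/-- An elementary étale neighbourhood is given by a point of the stage. -/
theorem exists_point_of_isEtaleNhd {R R' : Type u} [CommRing R] [CommRing R'] [Algebra R R'] {p : Ideal R} [p.IsPrime]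
    {p' : Ideal R'} [p'.IsPrime] (h : FlatCA.IsEtaleNhd R R' p p') :
    ∃ ε : R' →ₐ[R] p.ResidueField, RingHom.ker ε = p' := by
  obtain ⟨_, hp, hb⟩ := h
  let e := AlgEquiv.ofBijective (Ideal.ResidueField.mapₐ p p' (Algebra.ofId R R') hp.over) hb
  refine ⟨e.symm.toAlgHom.comp (IsScalarTower.toAlgHom R R' p'.ResidueField), ?_⟩
  ext x
  rw [RingHom.mem_ker]
  show e.symm (algebraMap R' p'.ResidueField x) = 0 ↔ _
  rw [map_eq_zero_iff _ e.symm.injective, Ideal.algebraMap_residueField_eq_zero]

/-- The local ring at a point of a stage maps to the field of the point. -/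
theorem exists_localPoint {R R' K : Type u} [CommRing R] [CommRing R'] [Algebra R R'] [Field K] [Algebra R K]
    (ε : R' →ₐ[R] K) (P : Ideal R') [P.IsPrime] (hP : RingHom.ker ε = P) :
    ∃ τ : Localization.AtPrime P →ₐ[R] K, (∀ r, τ (algebraMap R' (Localization.AtPrime P) r) = ε r) ∧
      ∀ a, τ a = 0 ↔ a ∈ maximalIdeal (Localization.AtPrime P) := by
  have hu : ∀ b : P.primeCompl, IsUnit (ε b.1) := fun b =>
    isUnit_iff_ne_zero.2 fun h => b.2 (hP.le (RingHom.mem_ker.2 h))
  let τ : Localization.AtPrime P →ₐ[R] K :=
    IsLocalization.liftAlgHom (A := R) (S := Localization.AtPrime P) (M := P.primeCompl) (f := ε) hu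
  refine ⟨τ, fun r => IsLocalization.lift_eq hu r, fun a => ?_⟩
  obtain ⟨b, s, rfl⟩ := IsLocalization.exists_mk'_eq P.primeCompl a
  rw [IsLocalization.AtPrime.mk'_mem_maximal_iff (Localization.AtPrime P) P b s]
  show IsLocalization.lift hu (IsLocalization.mk' _ b s) = 0 ↔ _
  rw [IsLocalization.lift_mk', Units.mul_left_eq_zero, ← hP, RingHom.mem_ker]
  rfl

/-- A point of the base and a point of the algebra give a point of the pushout. -/
theorem exists_pushout_point {R S A SA L : Type u} [CommRing R] [CommRing S] [CommRing A] [CommRing SA] [Field L]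
    [Algebra R S] [Algebra R A] [Algebra R SA] [Algebra S SA] [Algebra A SA] [IsScalarTower R S SA] [IsScalarTower R A SA]
    [Algebra.IsPushout R S A SA] [Algebra S L] [Algebra R L] [IsScalarTower R S L] (τ : A →ₐ[R] L) :
    ∃ φ : SA →ₐ[S] L, ∀ a, φ (algebraMap A SA a) = τ a := by
  haveI : Algebra.IsPushout R A S SA := Algebra.IsPushout.symm inferInstance
  let e := Algebra.IsPushout.equiv R A S SA
  let σ : A ⊗[R] S →ₐ[R] L := Algebra.TensorProduct.lift τ (IsScalarTower.toAlgHom R S L) fun _ _ => .all _ _
  refine ⟨{ σ.toRingHom.comp e.symm.toRingEquiv.toRingHom with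
    commutes' := fun s => by
      show σ (e.symm (algebraMap S SA s)) = _
      rw [Algebra.IsPushout.equiv_symm_algebraMap_right, Algebra.TensorProduct.lift_tmul, map_one, one_mul]
      rfl }, fun a => ?_⟩
  show σ (e.symm (algebraMap A SA a)) = _
  rw [AlgEquiv.commutes e.symm a, Algebra.TensorProduct.algebraMap_apply, Algebra.TensorProduct.lift_tmul, map_one,
    mul_one]
  rfl

/-- Finite presentation passes to a quotient ring over which the module is defined. -/
theorem fp_of_surjective_algebraMap {C D M : Type u} [CommRing C] [CommRing D] [Algebra C D] [AddCommGroup M]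
    [Module C M] [Module D M] [IsScalarTower C D M] (h : Function.Surjective (algebraMap C D))
    [Module.FinitePresentation C M] : Module.FinitePresentation D M := by
  refine FinitePresentation.of_isBaseChange (LinearMap.id : M →ₗ[C] M)
    (IsBaseChange.of_lift_unique _ fun Q _ _ _ _ g => ?_)
  refine ⟨{ g with map_smul' := fun d m => ?_ }, rfl, fun g' hg' => LinearMap.ext fun m => LinearMap.congr_fun hg' m⟩
  obtain ⟨c, rfl⟩ := h d
  show g (algebraMap C D c • m) = algebraMap C D c • g m
  rw [algebraMap_smul, algebraMap_smul, map_smul]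

/-- The localised base change is the base change to the localised ring. -/
theorem exists_away_equiv {S SA NA N : Type u} [CommRing S] [CommRing SA] [Algebra S SA] [AddCommGroup N] [Module S N]
    [AddCommGroup NA] [Module S NA] [Module SA NA] [IsScalarTower S SA NA] (f : N →ₗ[S] NA) (hf : IsBaseChange SA f)
    (g : SA) :
    Nonempty (LocalizedModule (Submonoid.powers g) NA ≃ₗ[Localization.Away g] Localization.Away g ⊗[S] N) := by
  let T := Localization.Away g
  let e1 : T ⊗[SA] NA ≃ₗ[T] LocalizedModule (Submonoid.powers g) NA :=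
    (IsLocalizedModule.isBaseChange (Submonoid.powers g) T (LocalizedModule.mkLinearMap (Submonoid.powers g) NA)).equiv
  let e2 : T ⊗[SA] NA ≃ₗ[T] T ⊗[SA] (SA ⊗[S] N) := AlgebraTensorModule.congr (LinearEquiv.refl T T) hf.equiv.symm
  exact ⟨e1.symm.trans (e2.trans (AlgebraTensorModule.cancelBaseChange S SA T T N))⟩

/-- Finite presentation on a principal open passes along a surjection of rings. -/
theorem fp_away_of_cover {SP SA NA : Type u} [CommRing SP] [CommRing SA] [Algebra SP SA] [AddCommGroup NA]
    [Module SA NA] [Module SP NA] [IsScalarTower SP SA NA] (hsurj : Function.Surjective (algebraMap SP SA)) (g' : SP)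
    [Module.FinitePresentation (Localization.Away g') (LocalizedModule (Submonoid.powers g') NA)] :
    Module.FinitePresentation (Localization.Away (algebraMap SP SA g'))
      (LocalizedModule (Submonoid.powers (algebraMap SP SA g')) NA) := by
  let g := algebraMap SP SA g'
  let C := Localization.Away g'
  let D := Localization.Away g
  let M := LocalizedModule (Submonoid.powers g) NA
  letI : Algebra C D := (IsLocalization.Away.lift g' (g := (algebraMap SA D).comp (algebraMap SP SA))
    (IsLocalization.Away.algebraMap_isUnit g)).toAlgebra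
  haveI : IsScalarTower SP C D := IsScalarTower.of_algebraMap_eq fun x => (IsLocalization.lift_eq _ x).symm
  haveI := isLocalizedModule_powers_image (S := SA) (M := NA) g'
  letI : Module C M := Module.compHom M (algebraMap C D)
  haveI : IsScalarTower C D M := IsScalarTower.of_algebraMap_smul fun _ _ => rfl
  haveI : IsScalarTower SP C M := IsScalarTower.of_algebraMap_smul fun x m => by
    show algebraMap C D (algebraMap SP C x) • m = x • m
    rw [← IsScalarTower.algebraMap_apply, IsScalarTower.algebraMap_apply SP SA D, algebraMap_smul, algebraMap_smul]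
  haveI : Module.FinitePresentation C M := Module.FinitePresentation.of_equiv (R := C)
    ((IsLocalizedModule.linearEquiv (Submonoid.powers g') (LocalizedModule.mkLinearMap (Submonoid.powers g') NA)
      ((LocalizedModule.mkLinearMap (Submonoid.powers g) NA).restrictScalars SP)).extendScalarsOfIsLocalization
      (Submonoid.powers g') C)
  have hCD : Function.Surjective (algebraMap C D) := fun y => by
    obtain ⟨x, ⟨_, k, rfl⟩, rfl⟩ := IsLocalization.exists_mk'_eq (Submonoid.powers g) y
    obtain ⟨x', rfl⟩ := hsurj x
    refine ⟨IsLocalization.mk' C x' (⟨g' ^ k, k, rfl⟩ : Submonoid.powers g'), ?_⟩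
    refine IsLocalization.eq_mk'_iff_mul_eq.2 ?_
    show algebraMap C D _ * algebraMap SA D (g ^ k) = algebraMap SA D (algebraMap SP SA x')
    rw [← map_pow, ← IsScalarTower.algebraMap_apply, ← IsScalarTower.algebraMap_apply,
      IsScalarTower.algebraMap_apply SP C D, ← map_mul, IsLocalization.mk'_spec, ← IsScalarTower.algebraMap_apply]
  exact fp_of_surjective_algebraMap hCD

/-- A free and finitely presented neighbourhood at a point of the fibre. -/
theorem exists_free_point {R S : Type u} [CommRing R] [CommRing S] [Algebra R S] [Algebra.FiniteType R S]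
    (N : Type u) [AddCommGroup N] [Module S N] [Module R N] [IsScalarTower R S N] [Module.Finite S N]
    (p : Ideal R) [p.IsPrime] (q : Ideal S) [q.IsPrime] [q.LiesOver p] (hflat : FlatCA.FlatAt R q N) :
    ∃ (R' : Type u) (_ : CommRing R') (_ : Algebra R R') (_ : Algebra.Etale R R') (ε : R' →ₐ[R] p.ResidueField)
      (P : Ideal R') (_ : P.IsPrime), RingHom.ker ε = P ∧
      ∀ (SA : Type u) [CommRing SA] [Algebra R SA] [Algebra S SA] [Algebra (Localization.AtPrime P) SA]
        [IsScalarTower R S SA] [IsScalarTower R (Localization.AtPrime P) SA]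
        [Algebra.IsPushout R S (Localization.AtPrime P) SA],
        ∃ g : SA, (∀ (Q : Ideal SA) [Q.IsPrime], Q.LiesOver q →
            Q.LiesOver (maximalIdeal (Localization.AtPrime P)) → g ∉ Q) ∧
          Module.Free (Localization.AtPrime P) (Localization.Away g ⊗[S] N) ∧
          Module.FinitePresentation (Localization.Away g) (Localization.Away g ⊗[S] N) := by
  obtain ⟨R', _, _, p', _, het, hmain⟩ := exists_free_nhd_local' N p q hflat
  obtain ⟨ε, hε⟩ := exists_point_of_isEtaleNhd het
  refine ⟨R', inferInstance, inferInstance, het.1, ε, p', inferInstance, hε, ?_⟩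
  intro SA _ _ _ _ _ _ _
  let A := Localization.AtPrime p'
  let NA := SA ⊗[S] N
  let f : N →ₗ[S] NA := TensorProduct.mk S SA N 1
  obtain ⟨g, hg, hfree, SP, _, _, _, _, _, _, g', hg', hsurj, -, hfp⟩ :=
    hmain SA NA f (TensorProduct.isBaseChange S N SA)
  refine ⟨g, hg, ?_, ?_⟩
  · obtain ⟨e⟩ := exists_away_equiv f (TensorProduct.isBaseChange S N SA) g
    exact Module.Free.of_equiv (e.restrictScalars A)
  · subst hg'
    haveI := hfp
    haveI := fp_away_of_cover (NA := NA) hsurj g'
    obtain ⟨e⟩ := exists_away_equiv f (TensorProduct.isBaseChange S N SA) (algebraMap SP SA g')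
    exact Module.FinitePresentation.of_equiv e

end Groth.Agent.H4RG
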