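import Groth.Prelude
import Groth.Agent.H4RG.FreeNhd
import Mathlib

/-!
# Free pieces covering a fibre after an étale neighbourhood
-/

set_option autoImplicit false
set_option linter.style.haveILetI false
set_option backward.isDefEq.respectTransparency.types false

universe u

open TensorProduct IsLocalRing

namespace Groth.Agent.H4RG

attribute [local instance] Algebra.TensorProduct.rightAlgebra

variable {R S : Type u} [CommRing R] [CommRing S] [Algebra R S]

/-- The base change at a point with trivial residue extension maps to the fibre ring. -/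
theorem exists_fibreMap {A SA : Type u} [CommRing A] [CommRing SA] [Algebra R A] [Algebra R SA] [Algebra S SA]
    [Algebra A SA] [IsScalarTower R S SA] [IsScalarTower R A SA] [Algebra.IsPushout R S A SA] (p : Ideal R) [p.IsPrime]
    (τ : A →ₐ[R] p.ResidueField) :
    ∃ ρ : SA →+* p.Fiber S, (∀ s, ρ (algebraMap S SA s) = (1 : p.ResidueField) ⊗ₜ[R] s) ∧
      ∀ a, ρ (algebraMap A SA a) = τ a ⊗ₜ[R] (1 : S) := by
  haveI : Algebra.IsPushout R A S SA := Algebra.IsPushout.symm inferInstance
  let e := Algebra.IsPushout.equiv R A S SA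
  refine ⟨(Algebra.TensorProduct.map τ (AlgHom.id R S)).toRingHom.comp e.symm.toRingEquiv.toRingHom,
    fun s => ?_, fun a => ?_⟩
  · show Algebra.TensorProduct.map τ (AlgHom.id R S) (e.symm (algebraMap S SA s)) = _
    rw [Algebra.IsPushout.equiv_symm_algebraMap_right, Algebra.TensorProduct.map_tmul, map_one, AlgHom.id_apply]
  · show Algebra.TensorProduct.map τ (AlgHom.id R S) (e.symm (algebraMap A SA a)) = _
    rw [AlgEquiv.commutes e.symm a, Algebra.TensorProduct.algebraMap_apply, Algebra.TensorProduct.map_tmul, map_one]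
    rfl

/-- A piece stays free and finitely presented along a map of stages. -/
theorem transfer_piece {A1 A2 SA1 SA2 : Type u} [CommRing A1] [CommRing A2] [CommRing SA1] [CommRing SA2]
    [Algebra R A1] [Algebra R A2] [Algebra A1 A2] [IsScalarTower R A1 A2]
    [Algebra R SA1] [Algebra S SA1] [Algebra A1 SA1] [IsScalarTower R S SA1] [IsScalarTower R A1 SA1]
    [Algebra.IsPushout R S A1 SA1] [Algebra R SA2] [Algebra S SA2] [Algebra A2 SA2] [IsScalarTower R S SA2]
    [IsScalarTower R A2 SA2] [Algebra.IsPushout R S A2 SA2] [Algebra SA1 SA2] [IsScalarTower S SA1 SA2]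
    [Algebra A1 SA2] [IsScalarTower A1 A2 SA2] [IsScalarTower A1 SA1 SA2]
    {N : Type u} [AddCommGroup N] [Module S N] (g : SA1)
    (hfree : Module.Free A1 (Localization.Away g ⊗[S] N))
    (hfp : Module.FinitePresentation (Localization.Away g) (Localization.Away g ⊗[S] N)) :
    Module.Free A2 (Localization.Away (algebraMap SA1 SA2 g) ⊗[S] N) ∧
      Module.FinitePresentation (Localization.Away (algebraMap SA1 SA2 g))
        (Localization.Away (algebraMap SA1 SA2 g) ⊗[S] N) := by
  let T1 := Localization.Away g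
  let T2 := Localization.Away (algebraMap SA1 SA2 g)
  letI : Algebra T1 T2 := ((IsLocalization.Away.lift g (g := (algebraMap SA2 T2).comp (algebraMap SA1 SA2))
    (IsLocalization.Away.algebraMap_isUnit (algebraMap SA1 SA2 g)) : T1 →+* T2)).toAlgebra
  haveI : IsScalarTower SA1 T1 T2 := IsScalarTower.of_algebraMap_eq fun x => by
    rw [IsScalarTower.algebraMap_apply SA1 SA2 T2]
    exact (IsLocalization.Away.lift_eq (S := T1) (g := (algebraMap SA2 T2).comp (algebraMap SA1 SA2)) g (IsLocalization.Away.algebraMap_isUnit (algebraMap SA1 SA2 g)) x).symm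
  haveI : IsScalarTower A1 T1 T2 := IsScalarTower.of_algebraMap_eq fun a => by
    rw [IsScalarTower.algebraMap_apply A1 SA1 T1, ← IsScalarTower.algebraMap_apply SA1 T1 T2,
      IsScalarTower.algebraMap_apply A1 SA2 T2, IsScalarTower.algebraMap_apply A1 SA1 SA2,
      IsScalarTower.algebraMap_apply SA1 SA2 T2]
  haveI : IsScalarTower S T1 T2 := IsScalarTower.of_algebraMap_eq fun a => by
    rw [IsScalarTower.algebraMap_apply S SA1 T1, ← IsScalarTower.algebraMap_apply SA1 T1 T2,
      IsScalarTower.algebraMap_apply S SA2 T2, IsScalarTower.algebraMap_apply S SA1 SA2,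
      IsScalarTower.algebraMap_apply SA1 SA2 T2]
  haveI : IsScalarTower A1 A2 T2 := IsScalarTower.of_algebraMap_eq fun a => by
    rw [IsScalarTower.algebraMap_apply A1 SA2 T2, IsScalarTower.algebraMap_apply A1 A2 SA2,
      IsScalarTower.algebraMap_apply A2 SA2 T2]
  haveI : IsScalarTower R A1 SA2 := IsScalarTower.of_algebraMap_eq fun r => by
    rw [IsScalarTower.algebraMap_apply A1 A2 SA2, ← IsScalarTower.algebraMap_apply R A1 A2,
      ← IsScalarTower.algebraMap_apply R A2 SA2]
  haveI : IsScalarTower R SA1 SA2 := IsScalarTower.of_algebraMap_eq fun r => by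
    rw [IsScalarTower.algebraMap_apply R A1 SA1, ← IsScalarTower.algebraMap_apply A1 SA1 SA2,
      ← IsScalarTower.algebraMap_apply R A1 SA2]
  haveI : Algebra.IsPushout R A1 S SA1 := Algebra.IsPushout.symm inferInstance
  haveI : Algebra.IsPushout R A2 S SA2 := Algebra.IsPushout.symm inferInstance
  haveI : Algebra.IsPushout A1 A2 SA1 SA2 :=
    (Algebra.IsPushout.comp_iff (R := R) (S := A1) (T := A2) (R' := S) (S' := SA1) (T' := SA2)).1 inferInstance
  haveI : Algebra.IsPushout A1 SA1 A2 SA2 := Algebra.IsPushout.symm inferInstance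
  haveI : IsLocalization (Algebra.algebraMapSubmonoid SA2 (Submonoid.powers g)) T2 := by
    rw [Algebra.algebraMapSubmonoid_powers]; exact Localization.isLocalization
  haveI : Algebra.IsPushout SA1 SA2 T1 T2 := Algebra.isPushout_of_isLocalization (Submonoid.powers g) T1 SA2 T2
  haveI : Algebra.IsPushout SA1 T1 SA2 T2 := Algebra.IsPushout.symm inferInstance
  haveI : Algebra.IsPushout A1 T1 A2 T2 :=
    (Algebra.IsPushout.comp_iff (R := A1) (S := SA1) (T := T1) (R' := A2) (S' := SA2) (T' := T2)).2 inferInstance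
  haveI : Algebra.IsPushout A1 A2 T1 T2 := Algebra.IsPushout.symm inferInstance
  let M := T1 ⊗[S] N
  let eC : T2 ⊗[T1] M ≃ₗ[T2] T2 ⊗[S] N := AlgebraTensorModule.cancelBaseChange S T1 T2 T2 N
  let eA : T2 ⊗[T1] M ≃ₗ[A2] A2 ⊗[A1] M := Algebra.IsPushout.cancelBaseChange A1 A2 T1 T2 M
  refine ⟨Module.Free.of_equiv ((eA.symm).trans (eC.restrictScalars A2)), ?_⟩
  exact Module.FinitePresentation.of_equiv eC

variable (N : Type u) [AddCommGroup N] [Module S N] [Module R N] [IsScalarTower R S N] (p : Ideal R) [p.IsPrime]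

/-- Free finitely presented pieces cover a set of points of the fibre after a stage. -/
def FreeOver (W : Set (PrimeSpectrum (p.Fiber S))) : Prop :=
  ∃ (R' : Type u) (_ : CommRing R') (_ : Algebra R R') (_ : Algebra.Etale R R') (ε : R' →ₐ[R] p.ResidueField)
    (P : Ideal R') (_ : P.IsPrime), RingHom.ker ε = P ∧
    ∀ (SA : Type u) [CommRing SA] [Algebra R SA] [Algebra S SA] [Algebra (Localization.AtPrime P) SA]
      [IsScalarTower R S SA] [IsScalarTower R (Localization.AtPrime P) SA]
      [Algebra.IsPushout R S (Localization.AtPrime P) SA],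
      ∃ (m : ℕ) (g : Fin m → SA),
        (∀ x ∈ W, ∀ (Q : Ideal SA) [Q.IsPrime],
          Q.LiesOver ((x : PrimeSpectrum (p.Fiber S)).asIdeal.comap
            (Algebra.TensorProduct.includeRight (R := R) (A := p.ResidueField) (B := S)).toRingHom) →
          Q.LiesOver (maximalIdeal (Localization.AtPrime P)) → ∃ i, g i ∉ Q) ∧
        ∀ i, Module.Free (Localization.AtPrime P) (Localization.Away (g i) ⊗[S] N) ∧
          Module.FinitePresentation (Localization.Away (g i)) (Localization.Away (g i) ⊗[S] N)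

theorem freeOver_empty : FreeOver N p (∅ : Set (PrimeSpectrum (p.Fiber S))) := by
  let ε : R →ₐ[R] p.ResidueField := Algebra.ofId R p.ResidueField
  have hP : RingHom.ker ε = p := Ideal.ker_algebraMap_residueField p
  refine ⟨R, inferInstance, inferInstance, inferInstance, ε, p, inferInstance, hP, ?_⟩
  intro SA _ _ _ _ _ _ _
  exact ⟨0, Fin.elim0, fun x hx => hx.elim, fun i => i.elim0⟩

theorem freeOver_union {W1 W2 : Set (PrimeSpectrum (p.Fiber S))} (h1 : FreeOver N p W1) (h2 : FreeOver N p W2) :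
    FreeOver N p (W1 ∪ W2) := by
  obtain ⟨R1, _, _, _, ε1, P1, _, hP1, hm1⟩ := h1
  obtain ⟨R2, _, _, _, ε2, P2, _, hP2, hm2⟩ := h2
  obtain ⟨R3, _, _, _, ε3, α1, α2, hα1, hα2⟩ := exists_common_stage ε1 ε2
  haveI hP3 : (RingHom.ker ε3).IsPrime := RingHom.ker_isPrime _
  refine ⟨R3, inferInstance, inferInstance, inferInstance, ε3, RingHom.ker ε3, inferInstance, rfl, ?_⟩
  intro SA _ _ _ _ _ _ _
  let A3 := Localization.AtPrime (RingHom.ker ε3)
  have key : ∀ (R0 : Type u) [CommRing R0] [Algebra R R0] (ε0 : R0 →ₐ[R] p.ResidueField) (P0 : Ideal R0) [P0.IsPrime]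
      (α : R0 →ₐ[R] R3) (W : Set (PrimeSpectrum (p.Fiber S))), RingHom.ker ε0 = P0 → ε3.comp α = ε0 →
      (∀ (SA0 : Type u) [CommRing SA0] [Algebra R SA0] [Algebra S SA0] [Algebra (Localization.AtPrime P0) SA0]
        [IsScalarTower R S SA0] [IsScalarTower R (Localization.AtPrime P0) SA0]
        [Algebra.IsPushout R S (Localization.AtPrime P0) SA0],
        ∃ (m : ℕ) (g : Fin m → SA0),
          (∀ x ∈ W, ∀ (Q : Ideal SA0) [Q.IsPrime],
            Q.LiesOver ((x : PrimeSpectrum (p.Fiber S)).asIdeal.comap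
              (Algebra.TensorProduct.includeRight (R := R) (A := p.ResidueField) (B := S)).toRingHom) →
            Q.LiesOver (maximalIdeal (Localization.AtPrime P0)) → ∃ i, g i ∉ Q) ∧
          ∀ i, Module.Free (Localization.AtPrime P0) (Localization.Away (g i) ⊗[S] N) ∧
            Module.FinitePresentation (Localization.Away (g i)) (Localization.Away (g i) ⊗[S] N)) →
      ∃ (m : ℕ) (g : Fin m → SA),
        (∀ x ∈ W, ∀ (Q : Ideal SA) [Q.IsPrime],
          Q.LiesOver ((x : PrimeSpectrum (p.Fiber S)).asIdeal.comap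
            (Algebra.TensorProduct.includeRight (R := R) (A := p.ResidueField) (B := S)).toRingHom) →
          Q.LiesOver (maximalIdeal A3) → ∃ i, g i ∉ Q) ∧
        ∀ i, Module.Free A3 (Localization.Away (g i) ⊗[S] N) ∧
          Module.FinitePresentation (Localization.Away (g i)) (Localization.Away (g i) ⊗[S] N) := by
    intro R0 _ _ ε0 P0 _ α W hP0 hα hm
    let A0 := Localization.AtPrime P0
    have hu : ∀ b : P0.primeCompl, IsUnit (((IsScalarTower.toAlgHom R R3 A3).comp α) b.1) := fun b =>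
      IsLocalization.map_units A3 (⟨α b.1, fun hb => b.2 (hP0.le (RingHom.mem_ker.2 (by
        rw [← hα]; exact RingHom.mem_ker.1 hb)))⟩ : (RingHom.ker ε3).primeCompl)
    let β : A0 →ₐ[R] A3 := IsLocalization.liftAlgHom (A := R) (S := A0) (M := P0.primeCompl) (f := (IsScalarTower.toAlgHom R R3 A3).comp α) hu
    letI : Algebra A0 A3 := β.toRingHom.toAlgebra
    haveI : IsScalarTower R A0 A3 := IsScalarTower.of_algebraMap_eq fun r => (β.commutes r).symm
    haveI : IsLocalHom (algebraMap A0 A3) := ⟨fun a ha => by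
      obtain ⟨b, s, rfl⟩ := IsLocalization.exists_mk'_eq P0.primeCompl a
      rw [IsLocalization.AtPrime.isUnit_mk'_iff A0 P0 b s]
      intro hb
      have h0 : ε3 (α b) = 0 := by rw [← AlgHom.comp_apply, hα]; exact RingHom.mem_ker.1 (hP0.ge hb)
      change IsUnit (IsLocalization.lift hu (IsLocalization.mk' A0 b s)) at ha
      rw [IsLocalization.lift_mk', Units.isUnit_mul_units] at ha
      exact (IsLocalization.AtPrime.isUnit_to_map_iff A3 (RingHom.ker ε3) (α b)).1 ha (RingHom.mem_ker.2 h0)⟩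
    let SA0 := A0 ⊗[R] S
    haveI : Algebra.IsPushout R S A0 SA0 := Algebra.IsPushout.symm inferInstance
    let θ : SA0 →ₐ[R] SA := Algebra.TensorProduct.lift ((IsScalarTower.toAlgHom R A3 SA).comp β)
      (IsScalarTower.toAlgHom R S SA) fun _ _ => .all _ _
    letI : Algebra SA0 SA := θ.toRingHom.toAlgebra
    haveI : IsScalarTower S SA0 SA := IsScalarTower.of_algebraMap_eq fun s => by
      show _ = θ ((1 : A0) ⊗ₜ[R] s)
      rw [Algebra.TensorProduct.lift_tmul, map_one, one_mul]
      rfl
    letI : Algebra A0 SA := ((algebraMap A3 SA).comp (algebraMap A0 A3)).toAlgebra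
    haveI : IsScalarTower A0 A3 SA := IsScalarTower.of_algebraMap_eq fun _ => rfl
    haveI : IsScalarTower A0 SA0 SA := IsScalarTower.of_algebraMap_eq fun a => by
      show _ = θ (a ⊗ₜ[R] (1 : S))
      rw [Algebra.TensorProduct.lift_tmul, map_one, mul_one]
      rfl
    obtain ⟨m, g, hcov, hpc⟩ := hm SA0
    refine ⟨m, fun i => algebraMap SA0 SA (g i), fun x hx Q _ hq hmax => ?_,
      fun i => transfer_piece (R := R) (A1 := A0) (A2 := A3) (g i) (hpc i).1 (hpc i).2⟩
    obtain ⟨i, hi⟩ := hcov x hx (Q.comap (algebraMap SA0 SA)) ⟨by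
      rw [Ideal.under_def, Ideal.comap_comap, ← IsScalarTower.algebraMap_eq]
      exact hq.over⟩ ⟨by
      rw [Ideal.under_def, Ideal.comap_comap, ← IsScalarTower.algebraMap_eq, IsScalarTower.algebraMap_eq A0 A3 SA,
        ← Ideal.comap_comap, show Q.comap (algebraMap A3 SA) = maximalIdeal A3 from hmax.over.symm]
      exact (IsLocalRing.maximalIdeal_comap (algebraMap A0 A3)).symm⟩
    exact ⟨i, fun h => hi h⟩
  obtain ⟨m1, g1, hc1, hp1⟩ := key R1 ε1 P1 α1 W1 hP1 hα1 hm1
  obtain ⟨m2, g2, hc2, hp2⟩ := key R2 ε2 P2 α2 W2 hP2 hα2 hm2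
  refine ⟨m1 + m2, Fin.append g1 g2, fun x hx Q _ hq hmax => ?_, fun i => ?_⟩
  · rcases hx with hx | hx
    · obtain ⟨i, hi⟩ := hc1 x hx Q hq hmax
      exact ⟨Fin.castAdd m2 i, by rwa [Fin.append_left]⟩
    · obtain ⟨i, hi⟩ := hc2 x hx Q hq hmax
      exact ⟨Fin.natAdd m1 i, by rwa [Fin.append_right]⟩
  · have k1 : ∀ (j : Fin m1) (z : SA), g1 j = z → Module.Free A3 (Localization.Away z ⊗[S] N) ∧
        Module.FinitePresentation (Localization.Away z) (Localization.Away z ⊗[S] N) := by
      rintro j z rfl; exact hp1 j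
    have k2 : ∀ (j : Fin m2) (z : SA), g2 j = z → Module.Free A3 (Localization.Away z ⊗[S] N) ∧
        Module.FinitePresentation (Localization.Away z) (Localization.Away z ⊗[S] N) := by
      rintro j z rfl; exact hp2 j
    refine Fin.addCases (fun j => k1 j _ (Fin.append_left g1 g2 j).symm) (fun j => k2 j _ (Fin.append_right g1 g2 j).symm) i

theorem liesOver_of_fibre (x : PrimeSpectrum (p.Fiber S)) :
    (x.asIdeal.comap (Algebra.TensorProduct.includeRight (R := R) (A := p.ResidueField) (B := S)).toRingHom).LiesOver p :=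
  ⟨by
    ext r
    rw [Ideal.under_def, Ideal.mem_comap, Ideal.mem_comap]
    show r ∈ p ↔ (1 : p.ResidueField) ⊗ₜ[R] algebraMap R S r ∈ x.asIdeal
    rw [Algebra.algebraMap_eq_smul_one, tmul_smul, smul_tmul', ← Algebra.algebraMap_eq_smul_one]
    constructor
    · intro hr
      rw [Ideal.algebraMap_residueField_eq_zero.2 hr, zero_tmul]
      exact zero_mem _
    · intro hr
      by_contra hne
      refine x.2.ne_top (Ideal.eq_top_of_isUnit_mem _ hr ?_)
      exact (isUnit_iff_ne_zero.2 fun h => hne (Ideal.algebraMap_residueField_eq_zero.1 h)).map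
        (Algebra.TensorProduct.includeLeft : p.ResidueField →ₐ[R] p.Fiber S)⟩

theorem freeOver_nhd [Algebra.FiniteType R S] [Module.Finite S N] (x : PrimeSpectrum (p.Fiber S))
    (hflat : FlatCA.FlatAt R (x.asIdeal.comap
      (Algebra.TensorProduct.includeRight (R := R) (A := p.ResidueField) (B := S)).toRingHom) N) :
    ∃ W, IsOpen W ∧ x ∈ W ∧ FreeOver N p W := by
  let q := x.asIdeal.comap (Algebra.TensorProduct.includeRight (R := R) (A := p.ResidueField) (B := S)).toRingHom
  haveI : q.LiesOver p := liesOver_of_fibre p x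
  obtain ⟨R', _, _, _, ε, P, _, hP, hm⟩ := exists_free_point N p q hflat
  let A := Localization.AtPrime P
  obtain ⟨τ, hτ1, hτ2⟩ := exists_localPoint ε P hP
  let SA0 := A ⊗[R] S
  haveI : Algebra.IsPushout R S A SA0 := Algebra.IsPushout.symm inferInstance
  obtain ⟨g0, hg0, hp0⟩ := hm SA0
  obtain ⟨ρ, hρS, hρA⟩ := exists_fibreMap (R := R) (S := S) (A := A) (SA := SA0) p τ
  have hpt : ∀ y : PrimeSpectrum (p.Fiber S), (y.asIdeal.comap ρ).LiesOver
      (y.asIdeal.comap (Algebra.TensorProduct.includeRight (R := R) (A := p.ResidueField) (B := S)).toRingHom) ∧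
      (y.asIdeal.comap ρ).LiesOver (maximalIdeal A) := by
    refine fun y => ⟨⟨?_⟩, ⟨?_⟩⟩
    · ext s
      rw [Ideal.under_def, Ideal.mem_comap, Ideal.mem_comap, Ideal.mem_comap, hρS]
      rfl
    · ext a
      rw [Ideal.under_def, Ideal.mem_comap, Ideal.mem_comap, hρA, ← hτ2]
      refine ⟨fun h => by rw [h, zero_tmul]; exact zero_mem _, fun h => ?_⟩
      by_contra hne
      exact y.2.ne_top (Ideal.eq_top_of_isUnit_mem _ h ((isUnit_iff_ne_zero.2 hne).map
        (Algebra.TensorProduct.includeLeft : p.ResidueField →ₐ[R] p.Fiber S)))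
  refine ⟨PrimeSpectrum.basicOpen (ρ g0), (PrimeSpectrum.basicOpen (ρ g0)).isOpen, ?_, R', inferInstance,
    inferInstance, inferInstance, ε, P, inferInstance, hP, ?_⟩
  · exact @hg0 (x.asIdeal.comap ρ) _ (hpt x).1 (hpt x).2
  intro SA _ _ _ _ _ _ _
  haveI : Algebra.IsPushout R A S SA := Algebra.IsPushout.symm inferInstance
  let θ : SA0 ≃ₐ[A] SA := Algebra.IsPushout.equiv R A S SA
  letI : Algebra SA0 SA := θ.toAlgHom.toRingHom.toAlgebra
  haveI : IsScalarTower A SA0 SA := IsScalarTower.of_algHom θ.toAlgHom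
  haveI : IsScalarTower S SA0 SA := IsScalarTower.of_algebraMap_eq fun s => by
    show _ = θ ((1 : A) ⊗ₜ[R] s)
    rw [Algebra.IsPushout.equiv_tmul, map_one, one_mul]
  refine ⟨1, fun _ => algebraMap SA0 SA g0, fun y hy Q _ hq hmax => ⟨0, fun hQ => hy ?_⟩,
    fun _ => transfer_piece (R := R) (A1 := A) (A2 := A) g0 hp0.1 hp0.2⟩
  · have heq : Q.comap (algebraMap SA0 SA) = y.asIdeal.comap ρ := by
      refine eq_of_over (R := R) (S := S) (A := A) (SA := SA0) (fracPoint_residueField p) τ hτ2 _ _ ?_ (hpt y).2.over.symm ?_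
      · rw [Ideal.comap_comap, ← IsScalarTower.algebraMap_eq]
        exact hmax.over.symm
      · rw [Ideal.comap_comap, ← IsScalarTower.algebraMap_eq]
        exact hq.over.symm.trans (hpt y).1.over
    exact heq.le hQ

/-- After a stage the whole fibre is covered by free finitely presented pieces. -/
theorem freeOver_univ [Algebra.FiniteType R S] [Module.Finite S N]
    (hflat : ∀ (q : Ideal S) [q.IsPrime], q.LiesOver p → FlatCA.FlatAt R q N) : FreeOver N p (Set.univ : Set (PrimeSpectrum (p.Fiber S))) := by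
  refine isCompact_univ.induction_on (p := FreeOver (R := R) (S := S) N p) (freeOver_empty N p) ?_ (fun s t => freeOver_union N p) ?_
  · rintro s t hst ⟨R', i1, i2, i3, ε, P, i4, hP, hm⟩
    refine ⟨R', i1, i2, i3, ε, P, i4, hP, ?_⟩
    intro SA _ _ _ _ _ _ _
    obtain ⟨m, g, hc, hp⟩ := hm SA
    exact ⟨m, g, fun x hx => hc x (hst hx), hp⟩
  · intro x _
    obtain ⟨W, hW, hxW, hfo⟩ := freeOver_nhd N p x (@hflat _ _ (liesOver_of_fibre p x))
    exact ⟨W, mem_nhdsWithin_of_mem_nhds (hW.mem_nhds hxW), hfo⟩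

end Groth.Agent.H4RG
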