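import Groth.Prelude
import Groth.Agent.H4RG.FreeCover
import Groth.Agent.H4RG.LocalTransfer
import Mathlib

/-!
# The flat locus is open in a fibre
-/

set_option autoImplicit false
set_option linter.style.haveILetI false
set_option backward.isDefEq.respectTransparency.types false

universe u

open TensorProduct IsLocalRing

namespace Groth.Agent.H4RG

attribute [local instance] Algebra.TensorProduct.rightAlgebra

/-- Flatness over the base descends along a faithfully flat base change of the ring acting. -/
theorem flat_of_tensor_faithfullyFlat {R B L P : Type u} [CommRing R] [CommRing B] [CommRing L] [Algebra R B]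
    [Algebra B L] [Algebra R L] [IsScalarTower R B L] [Module.FaithfullyFlat B L] [AddCommGroup P] [Module B P]
    [Module R P] [IsScalarTower R B P] [Module.Flat R (L ⊗[B] P)] : Module.Flat R P := by
  rw [Module.Flat.iff_lTensor_injectiveₛ]
  intro Q _ _ K
  let h := AlgebraTensorModule.lTensor B P K.subtype
  have hcomm : ∀ z, h.lTensor L (AlgebraTensorModule.assoc R B B L P K z) =
      AlgebraTensorModule.assoc R B B L P Q (K.subtype.lTensor (L ⊗[B] P) z) := fun z => by
    induction z using TensorProduct.induction_on with
    | zero => simp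
    | add a b ha hb => simp only [map_add, ha, hb]
    | tmul w k =>
      induction w using TensorProduct.induction_on with
      | zero => simp
      | add a b ha hb => simp only [add_tmul, map_add, ha, hb]
      | tmul l x => rfl
  have h1 : Function.Injective (K.subtype.lTensor (L ⊗[B] P)) :=
    Module.Flat.lTensor_preserves_injective_linearMap _ Subtype.val_injective
  have h2 : Function.Injective (h.lTensor L) := by
    intro a b hab
    obtain ⟨a', rfl⟩ := (AlgebraTensorModule.assoc R B B L P K).surjective a
    obtain ⟨b', rfl⟩ := (AlgebraTensorModule.assoc R B B L P K).surjective b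
    rw [hcomm, hcomm] at hab
    rw [h1 ((AlgebraTensorModule.assoc R B B L P Q).injective hab)]
  exact (Module.FaithfullyFlat.lTensor_injective_iff_injective B L h).1 h2

/-- Flatness over the base at a prime descends along a flat algebra. -/
theorem flatAt_of_flat_baseChange {R T C : Type u} [CommRing R] [CommRing T] [CommRing C] [Algebra R T] [Algebra R C]
    [Algebra T C] [IsScalarTower R T C] [Module.Flat T C] (P : Ideal T) [P.IsPrime] (P1 : Ideal C) [P1.IsPrime]
    (hP : P1.comap (algebraMap T C) = P) (N : Type u) [AddCommGroup N] [Module T N] [Module R N] [IsScalarTower R T N]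
    [Module.Flat R (C ⊗[T] N)] : Module.Flat R (LocalizedModule P.primeCompl N) := by
  obtain ⟨alg, hff, htow, ⟨e⟩⟩ := baseChange_aux P P1 hP N
  letI := alg
  haveI := hff
  let L := Localization.AtPrime P1
  haveI : IsScalarTower R (Localization.AtPrime P) L := IsScalarTower.of_algebraMap_eq fun x => by
    rw [IsScalarTower.algebraMap_apply R T (Localization.AtPrime P), ← IsScalarTower.algebraMap_apply T (Localization.AtPrime P) L,
      IsScalarTower.algebraMap_apply R C L, IsScalarTower.algebraMap_apply R T C, ← IsScalarTower.algebraMap_apply T C L]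
  haveI : Module.Flat R (L ⊗[C] (C ⊗[T] N)) := MorLib.FlatBC.flat_tensor_of_flat
  haveI : Module.Flat R (LocalizedModule P1.primeCompl (C ⊗[T] N)) := Module.Flat.of_linearEquiv
    ((IsLocalizedModule.isBaseChange P1.primeCompl L (LocalizedModule.mkLinearMap P1.primeCompl (C ⊗[T] N))).equiv.restrictScalars R).symm
  haveI : Module.Flat R (L ⊗[Localization.AtPrime P] LocalizedModule P.primeCompl N) :=
    Module.Flat.of_linearEquiv (e.restrictScalars R)
  exact flat_of_tensor_faithfullyFlat (B := Localization.AtPrime P) (L := L)

/-- The flat locus is open in the fibre. -/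
theorem isOpen_flatLocus_fibre {R S : Type u} [CommRing R] [CommRing S] [Algebra R S] [Algebra.FiniteType R S]
    (N : Type u) [AddCommGroup N] [Module S N] [Module R N] [IsScalarTower R S N] [Module.Finite S N]
    (p : Ideal R) [p.IsPrime] :
    IsOpen {x : PrimeSpectrum (p.Fiber S) |
      FlatCA.FlatAt R (x.asIdeal.comap (Algebra.TensorProduct.includeRight (R := R) (A := p.ResidueField) (B := S)).toRingHom) N} := by
  rw [isOpen_iff_forall_mem_open]
  intro x hx
  obtain ⟨W, hW, hxW, R', _, _, _, ε, P, _, hP, hm⟩ := freeOver_nhd N p x hx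
  refine ⟨W, fun y hy => ?_, hW, hxW⟩
  let A := Localization.AtPrime P
  obtain ⟨τ, -, hτ2⟩ := exists_localPoint ε P hP
  let SA := A ⊗[R] S
  haveI : Algebra.IsPushout R S A SA := Algebra.IsPushout.symm inferInstance
  obtain ⟨m, g, hcov, hpc⟩ := hm SA
  obtain ⟨ρ, hρS, hρA⟩ := exists_fibreMap (R := R) (S := S) (A := A) (SA := SA) p τ
  let q := y.asIdeal.comap (Algebra.TensorProduct.includeRight (R := R) (A := p.ResidueField) (B := S)).toRingHom
  have hQq : (y.asIdeal.comap ρ).LiesOver q := ⟨by
    ext s
    rw [Ideal.under_def, Ideal.mem_comap, Ideal.mem_comap, Ideal.mem_comap, hρS]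
    rfl⟩
  have hQm : (y.asIdeal.comap ρ).LiesOver (maximalIdeal A) := ⟨by
    ext a
    rw [Ideal.under_def, Ideal.mem_comap, Ideal.mem_comap, hρA, ← hτ2]
    refine ⟨fun h => by rw [h, zero_tmul]; exact zero_mem _, fun h => ?_⟩
    by_contra hne
    exact y.2.ne_top (Ideal.eq_top_of_isUnit_mem _ h ((isUnit_iff_ne_zero.2 hne).map
      (Algebra.TensorProduct.includeLeft : p.ResidueField →ₐ[R] p.Fiber S)))⟩
  obtain ⟨i, hi⟩ := hcov y hy _ hQq hQm
  let T := Localization.Away (g i)
  obtain ⟨z, hz⟩ : (⟨y.asIdeal.comap ρ, inferInstance⟩ : PrimeSpectrum SA) ∈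
      Set.range (PrimeSpectrum.comap (algebraMap SA T)) := by
    rw [PrimeSpectrum.localization_away_comap_range _ (g i)]
    exact hi
  have hz' : z.asIdeal.comap (algebraMap SA T) = y.asIdeal.comap ρ := congrArg PrimeSpectrum.asIdeal hz
  haveI := (hpc i).1
  haveI : Module.Flat R' A := IsLocalization.flat A P.primeCompl
  haveI : Module.Flat R A := Module.Flat.trans R R' A
  haveI : Module.Flat S SA :=
    Module.Flat.isBaseChange R S A SA (Algebra.IsPushout.out (R := R) (S := S) (R' := A) (S' := SA))
  haveI : Module.Flat SA T := IsLocalization.flat T (Submonoid.powers (g i))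
  haveI : Module.Flat S T := Module.Flat.trans S SA T
  haveI : IsScalarTower R A (T ⊗[S] N) := IsScalarTower.of_algebraMap_smul fun r v => by
    rw [← algebraMap_smul T (algebraMap R A r), ← IsScalarTower.algebraMap_apply, algebraMap_smul]
  haveI : Module.Flat R (T ⊗[S] N) := Module.Flat.trans R A (T ⊗[S] N)
  exact flatAt_of_flat_baseChange (T := S) (C := T) q z.asIdeal (by
    rw [IsScalarTower.algebraMap_eq S SA T, ← Ideal.comap_comap, hz']
    exact hQq.over.symm) N

end Groth.Agent.H4RG
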