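import Groth.Agent.H4RG.UiCore
import Mathlib

/-!
# A presented stalk covering a finite module over an algebra essentially of finite type
-/

set_option autoImplicit false
set_option linter.style.haveILetI false
set_option backward.isDefEq.respectTransparency.types false

universe u

open TensorProduct IsLocalRing MvPolynomial Groth.Agent.FlatModel

namespace Groth.Agent.H4RG

/-- Finite modules over algebras essentially of finite type, injective on the closed fibre into flat modules. -/
theorem ui_fp_flat {A B M N : Type u} [CommRing A] [CommRing B] [IsLocalRing A] [IsLocalRing B] [Algebra A B]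
    [IsLocalHom (algebraMap A B)] [Algebra.EssFiniteType A B] [AddCommGroup M] [Module A M] [Module.Flat A M]
    [AddCommGroup N] [Module A N] [Module B N] [IsScalarTower A B N] [Module.Finite B N]
    (u : N →ₗ[A] M) (h : Function.Injective (u.lTensor (ResidueField A))) :
    (∀ (Q : Type u) [AddCommGroup Q] [Module A Q], Function.Injective (u.rTensor Q)) ∧
      Module.FinitePresentation B N ∧ Module.Flat A N := by
  classical
  let T := Algebra.EssFiniteType.subalgebra A B
  let S := Algebra.EssFiniteType.submonoid A B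
  obtain ⟨n, ψ, hψ⟩ := Algebra.FiniteType.iff_quotient_mvPolynomial''.1 (inferInstance : Algebra.FiniteType A T)
  let φ : MvPolynomial (Fin n) A →ₐ[A] B := T.val.comp ψ
  let P : Ideal (MvPolynomial (Fin n) A) := (maximalIdeal B).comap φ
  haveI : P.IsPrime := Ideal.IsPrime.comap _
  have hu : ∀ s : P.primeCompl, IsUnit (φ s) := fun s => by
    by_contra h'
    exact s.2 ((IsLocalRing.mem_maximalIdeal _).2 h')
  have hsurj : ∀ r : B, ∃ (e : MvPolynomial (Fin n) A) (s : P.primeCompl), r * φ s = φ e := fun r => by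
    obtain ⟨⟨r0, s⟩, hr⟩ := IsLocalization.surj S r
    obtain ⟨e, he⟩ := hψ r0
    obtain ⟨e', he'⟩ := hψ s
    refine ⟨e, ⟨e', fun hmem => (IsLocalRing.mem_maximalIdeal _).1 hmem ?_⟩, ?_⟩
    · show IsUnit (φ e')
      exact (show φ e' = algebraMap T B s from congrArg T.val he').symm ▸ IsLocalization.map_units B s
    · show r * φ e' = φ e
      rw [show φ e' = algebraMap T B s from congrArg T.val he', show φ e = algebraMap T B r0 from congrArg T.val he]
      exact hr
  have hP : P.comap C = maximalIdeal A := by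
    have hloc : (maximalIdeal B).comap (algebraMap A B) = maximalIdeal A :=
      ((IsLocalRing.local_hom_TFAE (algebraMap A B)).out 0 4).mp ‹_›
    rw [← hloc]
    exact Ideal.ext fun r => by simp [P, Ideal.mem_comap, ← MvPolynomial.algebraMap_eq]
  letI : Module (MvPolynomial (Fin n) A) N := Module.compHom N φ.toRingHom
  have hsm : ∀ (p : MvPolynomial (Fin n) A) (z : N), p • z = φ p • z := fun _ _ => rfl
  haveI : IsScalarTower A (MvPolynomial (Fin n) A) N := IsScalarTower.of_algebraMap_smul fun r z => by
    rw [hsm, φ.commutes, algebraMap_smul]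
  obtain ⟨a, g, hg⟩ := Module.Finite.exists_fin (R := B) (M := N)
  let π0 : V a n A →ₗ[MvPolynomial (Fin n) A] N := Fintype.linearCombination (MvPolynomial (Fin n) A) g
  have hcover : ∀ z : N, ∃ (s : P.primeCompl) (v : V a n A), (s : MvPolynomial (Fin n) A) • z = π0 v := by
    intro z
    have hz : z ∈ Submodule.span B (Set.range g) := hg ▸ Submodule.mem_top
    induction hz using Submodule.span_induction with
    | mem x hx =>
      obtain ⟨i, rfl⟩ := hx
      exact ⟨1, Pi.single i 1, by simp [π0, Fintype.linearCombination_apply_single]⟩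
    | zero => exact ⟨1, 0, by simp⟩
    | add x y _ _ hx hy =>
      obtain ⟨s, v, hv⟩ := hx
      obtain ⟨t, w, hw⟩ := hy
      exact ⟨s * t, (t : MvPolynomial (Fin n) A) • v + (s : MvPolynomial (Fin n) A) • w, by
        rw [map_add, map_smul, map_smul, ← hv, ← hw, Submonoid.coe_mul, smul_add, smul_smul, smul_smul,
          mul_comm (t : MvPolynomial (Fin n) A) s]⟩
    | smul r x _ hx =>
      obtain ⟨s, v, hv⟩ := hx
      obtain ⟨e, t, het⟩ := hsurj r
      refine ⟨s * t, e • v, ?_⟩
      rw [map_smul, ← hv, hsm, hsm e, hsm, smul_smul, smul_smul, ← het, Submonoid.coe_mul, map_mul]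
      congr 1
      ring
  -- finitely many relations with the same closed fibre
  let q := Ideal.Quotient.mk (maximalIdeal A)
  letI := Ideal.Quotient.field (maximalIdeal A)
  obtain ⟨G, hGK, hG⟩ : ∃ G : Finset (V a n A), (∀ v ∈ G, π0 v = 0) ∧
      ∀ v, π0 v = 0 → mapV q v ∈ Submodule.span _ (mapV q '' (G : Set (V a n A))) := by
    let Kb := Submodule.span (MvPolynomial (Fin n) (A ⧸ maximalIdeal A))
      (mapV q '' (LinearMap.ker π0 : Set (V a n A)))
    obtain ⟨t, ht⟩ := IsNoetherian.noetherian Kb
    have ht' : ∀ y ∈ t, ∃ v, π0 v = 0 ∧ mapV q v = y := fun y hy => by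
      obtain ⟨w, hw, hwy⟩ := mem_image_of_mem_span Ideal.Quotient.mk_surjective (LinearMap.ker π0)
        (ht.le (Submodule.subset_span hy))
      exact ⟨w, hw, hwy⟩
    choose! f hf0 hf using ht'
    refine ⟨t.image f, fun v hv => ?_, fun v hv => ?_⟩
    · obtain ⟨y, hy, rfl⟩ := Finset.mem_image.1 hv
      exact hf0 y hy
    · refine Submodule.span_mono ?_ (ht.ge (Submodule.subset_span ⟨v, hv, rfl⟩))
      intro y hy
      exact ⟨f y, Finset.mem_coe.2 (Finset.mem_image_of_mem f hy), hf y hy⟩
  -- a Noetherian ring of coefficients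
  let F : Finset A := G.biUnion fun v => Finset.univ.biUnion fun i => (v i).coeffs
  let R₀ := Algebra.adjoin ℤ (F : Set A)
  haveI : Algebra.FiniteType ℤ R₀ := (Subalgebra.fg_iff_finiteType R₀).1 (Subalgebra.fg_adjoin_finset F)
  haveI : IsNoetherianRing R₀ := Algebra.FiniteType.isNoetherianRing ℤ R₀
  have hlift : ∀ v ∈ G, ∃ v₀ : V a n R₀, mapV (algebraMap R₀ A) v₀ = v := fun v hv => by
    have : ∀ i, v i ∈ Set.range (MvPolynomial.map (algebraMap R₀ A)) := fun i =>
      MvPolynomial.mem_range_map_iff_coeffs_subset.2 fun c hc => ⟨⟨c, Algebra.subset_adjoin (Finset.mem_coe.2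
        (Finset.mem_biUnion.2 ⟨v, hv, Finset.mem_biUnion.2 ⟨i, Finset.mem_univ i, hc⟩⟩))⟩, rfl⟩
    choose v₀ hv₀ using this
    exact ⟨v₀, funext hv₀⟩
  choose! l hl using hlift
  let K₀ : Submodule (MvPolynomial (Fin n) R₀) (V a n R₀) := Submodule.span _ (l '' (G : Set (V a n A)))
  have hKK : KK K₀ A ≤ LinearMap.ker π0 := by
    rw [KK, Submodule.span_le]
    rintro _ ⟨w, hw, rfl⟩
    refine Submodule.span_le.2 ?_ (mapV_mem_span (algebraMap R₀ A) hw)
    rintro _ ⟨_, ⟨v, hv, rfl⟩, rfl⟩
    rw [hl v hv]
    exact hGK v hv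
  have hGKK : ∀ v ∈ G, v ∈ KK K₀ A := fun v hv => by
    rw [← hl v hv]
    exact mapL_mem_KK K₀ (Submodule.subset_span ⟨v, hv, rfl⟩)
  let π1 : Presented K₀ A →ₗ[MvPolynomial (Fin n) A] N := (KK K₀ A).liftQ π0 hKK
  have hunit : ∀ s : P.primeCompl, IsUnit (algebraMap (MvPolynomial (Fin n) A)
      (Module.End (MvPolynomial (Fin n) A) N) s) := fun s => by
    refine (Module.End.isUnit_iff _).2 ⟨fun x y hxy => ?_, fun z => ⟨(↑(hu s).unit⁻¹ : B) • z, ?_⟩⟩
    · exact (hu s).smul_left_cancel.1 hxy
    · show φ s • ((↑(hu s).unit⁻¹ : B) • z) = z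
      rw [smul_smul, (hu s).mul_val_inv, one_smul]
  let π : Stalk K₀ P →ₗ[MvPolynomial (Fin n) A] N :=
    IsLocalizedModule.lift P.primeCompl (LocalizedModule.mkLinearMap P.primeCompl (Presented K₀ A)) π1 hunit
  have hπ : ∀ v : V a n A, ∀ s : P.primeCompl,
      (s : MvPolynomial (Fin n) A) • π (LocalizedModule.mk (Submodule.Quotient.mk v) s) = π0 v := fun v s => by
    rw [← map_smul, LocalizedModule.smul'_mk, ← Submonoid.smul_def, LocalizedModule.mk_cancel]
    exact IsLocalizedModule.lift_apply _ _ π1 hunit _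
  have hsinj : ∀ (s : P.primeCompl) (x y : N),
      (s : MvPolynomial (Fin n) A) • x = (s : MvPolynomial (Fin n) A) • y → x = y :=
    fun s x y hxy => (hu s).smul_left_cancel.1 hxy
  let πA := π.restrictScalars A
  have hπs : Function.Surjective πA := fun z => by
    obtain ⟨s, v, hv⟩ := hcover z
    exact ⟨LocalizedModule.mk (Submodule.Quotient.mk v) s, hsinj s _ _ ((hπ v s).trans hv.symm)⟩
  have hπm : ∀ z, πA z ∈ maximalIdeal A • (⊤ : Submodule A N) →
      z ∈ maximalIdeal A • (⊤ : Submodule A (Stalk K₀ P)) := by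
    intro z hz
    have key : ∀ x ∈ maximalIdeal A • (⊤ : Submodule A N), ∃ (t : P.primeCompl) (v : V a n A),
        v ∈ CJ a n (maximalIdeal A) ∧ (t : MvPolynomial (Fin n) A) • x = π0 v := fun x hx => by
      refine Submodule.smul_induction_on hx (fun r hr y _ => ?_) (fun x y hx hy => ?_)
      · obtain ⟨t, v, hv⟩ := hcover y
        refine ⟨t, (C r : MvPolynomial (Fin n) A) • v,
          smul_le_CJ _ ⊤ (Submodule.smul_mem_smul (Ideal.mem_map_of_mem _ hr) trivial), ?_⟩
        rw [map_smul, ← hv, smul_smul, mul_comm, mul_smul, ← MvPolynomial.algebraMap_eq, algebraMap_smul]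
      · obtain ⟨t, v, hv, htv⟩ := hx
        obtain ⟨t', v', hv', htv'⟩ := hy
        refine ⟨t * t', (t' : MvPolynomial (Fin n) A) • v + (t : MvPolynomial (Fin n) A) • v',
          add_mem (Submodule.smul_mem _ _ hv) (Submodule.smul_mem _ _ hv'), ?_⟩
        rw [map_add, map_smul, map_smul, ← htv, ← htv', Submonoid.coe_mul, smul_add, smul_smul, smul_smul,
          mul_comm (t' : MvPolynomial (Fin n) A) t]
    induction z using LocalizedModule.induction_on with
    | _ m s =>
      obtain ⟨v, rfl⟩ := Submodule.Quotient.mk_surjective _ m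
      obtain ⟨t, v', hv', htv⟩ := key _ hz
      have h0 : π0 (((s * t : P.primeCompl) : MvPolynomial (Fin n) A) •
          (0 : V a n A) + ((t : MvPolynomial (Fin n) A) • v - (s : MvPolynomial (Fin n) A) • v')) = 0 := by
        rw [smul_zero, zero_add, map_sub, map_smul, map_smul, ← htv, ← hπ v s, smul_smul, smul_smul,
          mul_comm (t : MvPolynomial (Fin n) A) s, sub_eq_zero]
        rfl
      rw [smul_zero, zero_add] at h0
      obtain ⟨w, hw, hwv⟩ := mem_image_of_mem_span Ideal.Quotient.mk_surjective (KK K₀ A)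
        (Submodule.span_mono (Set.image_mono fun v hv => hGKK v hv) (hG _ h0))
      have hd : (t : MvPolynomial (Fin n) A) • v - w ∈ CJ a n (maximalIdeal A) := by
        have h1 : ((t : MvPolynomial (Fin n) A) • v - (s : MvPolynomial (Fin n) A) • v') - w ∈
            CJ a n (maximalIdeal A) := mem_CJ_of_mapV_eq_zero _ (by rw [mapV_sub, hwv, sub_self])
        have h2 := add_mem h1 (Submodule.smul_mem _ (s : MvPolynomial (Fin n) A) hv')
        convert h2 using 1
        abel
      have hmem := mk_mem_smul_of_mem_CJ K₀ _ hd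
      rw [Submodule.Quotient.mk_sub, (Submodule.Quotient.mk_eq_zero _).2 hw, sub_zero] at hmem
      rw [← LocalizedModule.mk_cancel_common_left t s]
      let ρ : Presented K₀ A →ₗ[A] Stalk K₀ P :=
        { toFun := fun x => LocalizedModule.mk x (t * s)
          map_add' := fun x y => by
            rw [LocalizedModule.mk_add_mk, ← smul_add]
            exact (LocalizedModule.mk_cancel_common_left _ _ _).symm
          map_smul' := fun r x => by rw [RingHom.id_apply, LocalizedModule.smul'_mk] }
      have h1 := Submodule.mem_map_of_mem (f := ρ) hmem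
      rw [Submodule.map_smul''] at h1
      exact Submodule.smul_mono le_rfl le_top h1
  have hu' : Function.Injective ((u.comp πA).lTensor (ResidueField A)) := by
    rw [LinearMap.lTensor_comp, LinearMap.coe_comp]
    refine h.comp ((injective_iff_map_eq_zero _).2 fun w hw => ?_)
    obtain ⟨z, hz⟩ := exists_tmul_one (maximalIdeal A) (TensorProduct.comm A _ _ w)
    obtain rfl : (1 : ResidueField A) ⊗ₜ[A] z = w :=
      (TensorProduct.comm A _ _).injective (by rw [TensorProduct.comm_tmul]; exact hz)
    rw [LinearMap.lTensor_tmul] at hw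
    apply (TensorProduct.comm A _ _).injective
    rw [map_zero, TensorProduct.comm_tmul]
    exact (tmul_one_eq_zero_iff (maximalIdeal A) z).2 (hπm z ((tmul_one_eq_zero_iff (maximalIdeal A) _).1
      ((TensorProduct.comm A (ResidueField A) N).injective.eq_iff.2 hw)))
  have hui : ∀ (Q : Type u) [AddCommGroup Q] [Module A Q], Function.Injective ((u.comp πA).rTensor Q) :=
    fun Q _ _ => (LinearMap.lTensor_inj_iff_rTensor_inj Q _).1 (ui_presented K₀ P hP (u.comp πA) hu' Q)
  have hures : ∀ (Q : Type u) [AddCommGroup Q] [Module A Q], Function.Injective (u.rTensor Q) := fun Q _ _ => by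
    have := hui Q
    rw [LinearMap.rTensor_comp, LinearMap.coe_comp] at this
    exact Function.Injective.of_comp_right this (LinearMap.rTensor_surjective Q hπs)
  refine ⟨hures, ?_, flat_of_univInjective_map u fun Q _ _ => hures Q⟩
  have hπi : Function.Injective πA := by
    have := hui A
    rw [LinearMap.rTensor_comp, LinearMap.coe_comp] at this
    intro x y hxy
    have h1 := this.of_comp (a₁ := x ⊗ₜ[A] (1 : A)) (a₂ := y ⊗ₜ[A] (1 : A))
      (by rw [LinearMap.rTensor_tmul, LinearMap.rTensor_tmul, hxy])
    simpa using congrArg (TensorProduct.rid A (Stalk K₀ P)) h1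
  let πB : (Fin a → B) →ₗ[B] N := Fintype.linearCombination B g
  have hπB : Function.Surjective πB := by
    rw [← LinearMap.range_eq_top, Fintype.range_linearCombination]
    exact hg
  have hφv : ∀ v : V a n A, πB (fun i => φ (v i)) = π0 v := fun v => by
    simp only [πB, π0, Fintype.linearCombination_apply, hsm]
  refine Module.finitePresentation_of_surjective πB hπB ?_
  let Φ : V a n A → (Fin a → B) := fun v i => φ (v i)
  refine ⟨G.image Φ, le_antisymm ?_ fun b hb => ?_⟩
  · rw [Submodule.span_le, Finset.coe_image]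
    rintro _ ⟨v, hv, rfl⟩
    exact LinearMap.mem_ker.2 ((hφv v).trans (hGK v hv))
  choose e s hes using fun i => hsurj (b i)
  let p : V a n A := fun i => e i * ∏ j ∈ Finset.univ.erase i, (s j : MvPolynomial (Fin n) A)
  let σ := ∏ j, (s j : MvPolynomial (Fin n) A)
  have hσu : IsUnit (φ σ) := by
    rw [map_prod]
    exact IsUnit.prod_univ_iff.2 fun j => hu (s j)
  have hp : (fun i => φ (p i)) = φ σ • b := funext fun i => by
    simp only [p, σ, Pi.smul_apply, smul_eq_mul, map_mul, ← hes i]
    rw [← Finset.mul_prod_erase Finset.univ (fun j => (s j : MvPolynomial (Fin n) A)) (Finset.mem_univ i), map_mul]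
    ring
  have hp0 : π0 p = 0 := by rw [← hφv, hp, map_smul, LinearMap.mem_ker.1 hb, smul_zero]
  have hz0 : LocalizedModule.mk (Submodule.Quotient.mk p : Presented K₀ A) (1 : P.primeCompl) = 0 :=
    hπi (by
      rw [map_zero]
      exact hsinj 1 _ _ ((hπ p 1).trans (hp0.trans (smul_zero _).symm)))
  obtain ⟨t, ht⟩ := (LocalizedModule.mk_eq (m' := (0 : Presented K₀ A)) (s' := 1)).1
    (hz0.trans (LocalizedModule.zero_mk 1).symm)
  have htp : (t : MvPolynomial (Fin n) A) • p ∈ KK K₀ A := by
    rw [← Submodule.Quotient.mk_eq_zero, Submodule.Quotient.mk_smul]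
    simpa [Submonoid.smul_def] using ht
  have hspan : ∀ w ∈ KK K₀ A, Φ w ∈ Submodule.span B ((G.image Φ : Finset _) : Set (Fin a → B)) := by
    intro w hw
    have hw' : w ∈ Submodule.span (MvPolynomial (Fin n) A) (G : Set (V a n A)) := by
      refine Submodule.span_le.2 ?_ hw
      rintro _ ⟨w₀, hw₀, rfl⟩
      refine Submodule.span_mono ?_ (mapV_mem_span (algebraMap R₀ A) hw₀)
      rintro _ ⟨_, ⟨v, hv, rfl⟩, rfl⟩
      rw [hl v hv]
      exact hv
    clear hw
    induction hw' using Submodule.span_induction with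
    | mem w hw => exact Submodule.subset_span (Finset.mem_coe.2 (Finset.mem_image_of_mem _ hw))
    | zero => rw [show Φ 0 = 0 from funext fun i => map_zero φ]; exact zero_mem _
    | add w w' _ _ hw hw' => rw [show Φ (w + w') = Φ w + Φ w' from funext fun i => map_add φ _ _]; exact add_mem hw hw'
    | smul r w _ hw =>
      rw [show Φ (r • w) = φ r • Φ w from funext fun i => map_mul φ _ _]
      exact Submodule.smul_mem _ _ hw
  have hb' := hspan _ htp
  rw [show Φ ((t : MvPolynomial (Fin n) A) • p) = φ t • (φ σ • b) from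
    funext fun i => (map_mul φ _ _).trans (by rw [Pi.smul_apply, smul_eq_mul, ← hp])] at hb'
  rw [Submodule.smul_mem_iff_of_isUnit _ (hu t), Submodule.smul_mem_iff_of_isUnit _ hσu] at hb'
  exact hb'

end Groth.Agent.H4RG
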