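import Groth.Agent.H4RG.ContentZero
import Groth.Agent.H4RG.EssStalk
import Groth.Agent.H4RG.LocalTransfer
import Groth.Agent.H4RG.Devissage
import Mathlib

/-!
# Flatness at the points of a base change over both closed points

How this passes along flat and integral local maps of the algebra and to cokernels.
-/

set_option autoImplicit false
set_option linter.style.haveILetI false
set_option backward.isDefEq.respectTransparency.types false

universe u

open TensorProduct IsLocalRing

namespace Groth.Agent.H4RG

attribute [local instance] Algebra.TensorProduct.rightAlgebra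

/-- The base change is flat at all points over both closed points. -/
def FlatPts (R R' B N : Type u) [CommRing R] [CommRing R'] [IsLocalRing R'] [CommRing B] [IsLocalRing B] [Algebra R R']
    [Algebra R B] [AddCommGroup N] [Module B N] : Prop :=
  ∀ (q : Ideal (R' ⊗[R] B)) [q.IsPrime], IsPt q → Module.Flat R' (LocalizedModule q.primeCompl ((R' ⊗[R] B) ⊗[B] N))

section

variable {R R' B : Type u} [CommRing R] [CommRing R'] [IsLocalRing R'] [CommRing B] [IsLocalRing B] [Algebra R R']
    [Algebra R B]

theorem FlatPts.congr {N N' : Type u} [AddCommGroup N] [Module B N] [AddCommGroup N'] [Module B N'] (e : N ≃ₗ[B] N')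
    (h : FlatPts R R' B N) : FlatPts R R' B N' := fun q _ hq => by
  haveI := h q hq
  let eT : (R' ⊗[R] B) ⊗[B] N ≃ₗ[R' ⊗[R] B] (R' ⊗[R] B) ⊗[B] N' := AlgebraTensorModule.congr (LinearEquiv.refl _ _) e
  let eq := IsLocalizedModule.mapEquiv q.primeCompl (LocalizedModule.mkLinearMap q.primeCompl _)
    (LocalizedModule.mkLinearMap q.primeCompl _) (Localization q.primeCompl) eT
  exact Module.Flat.of_linearEquiv (eq.restrictScalars R').symm

variable {L : Type u} [CommRing L] [IsLocalRing L] [Algebra R L] [Algebra B L] [IsScalarTower R B L]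

/-- The map of base changes along a map of algebras. -/
noncomputable abbrev bcAlgebra : Algebra (R' ⊗[R] B) (R' ⊗[R] L) :=
  (Algebra.TensorProduct.map (AlgHom.id R' R') (IsScalarTower.toAlgHom R B L)).toRingHom.toAlgebra

noncomputable abbrev bcAlgebraBase : Algebra B (R' ⊗[R] L) :=
  ((algebraMap L (R' ⊗[R] L)).comp (algebraMap B L)).toAlgebra

theorem bc_tower : letI := bcAlgebraBase (R := R) (R' := R') (B := B) (L := L);
    letI := bcAlgebra (R := R) (R' := R') (B := B) (L := L);
    haveI : IsScalarTower B L (R' ⊗[R] L) := IsScalarTower.of_algebraMap_eq fun _ => rfl;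
    IsScalarTower B (R' ⊗[R] B) (R' ⊗[R] L) ∧ IsScalarTower R' (R' ⊗[R] B) (R' ⊗[R] L) := by
  letI := bcAlgebra (R := R) (R' := R') (B := B) (L := L)
  letI := bcAlgebraBase (R := R) (R' := R') (B := B) (L := L)
  haveI : IsScalarTower B L (R' ⊗[R] L) := IsScalarTower.of_algebraMap_eq fun _ => rfl
  haveI h1 : IsScalarTower B (R' ⊗[R] B) (R' ⊗[R] L) := IsScalarTower.of_algebraMap_eq fun b => by
    show algebraMap B (R' ⊗[R] L) b = Algebra.TensorProduct.map (AlgHom.id R' R') (IsScalarTower.toAlgHom R B L) _
    rw [IsScalarTower.algebraMap_apply B L (R' ⊗[R] L), Algebra.TensorProduct.right_algebraMap_apply,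
      Algebra.TensorProduct.right_algebraMap_apply, Algebra.TensorProduct.map_tmul, map_one]
    rfl
  haveI h2 : IsScalarTower R' (R' ⊗[R] B) (R' ⊗[R] L) := IsScalarTower.of_algebraMap_eq fun r => by
    show algebraMap R' (R' ⊗[R] L) r = Algebra.TensorProduct.map (AlgHom.id R' R') (IsScalarTower.toAlgHom R B L) _
    exact ((Algebra.TensorProduct.map (AlgHom.id R' R') (IsScalarTower.toAlgHom R B L)).commutes r).symm
  exact ⟨h1, h2⟩

theorem bc_pushout : letI := bcAlgebraBase (R := R) (R' := R') (B := B) (L := L);
    letI := bcAlgebra (R := R) (R' := R') (B := B) (L := L);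
    haveI : IsScalarTower B L (R' ⊗[R] L) := IsScalarTower.of_algebraMap_eq fun _ => rfl;
    haveI := (bc_tower (R := R) (R' := R') (B := B) (L := L)).1;
    Algebra.IsPushout B (R' ⊗[R] B) L (R' ⊗[R] L) := by
  letI := bcAlgebraBase (R := R) (R' := R') (B := B) (L := L)
  letI := bcAlgebra (R := R) (R' := R') (B := B) (L := L)
  haveI : IsScalarTower B L (R' ⊗[R] L) := IsScalarTower.of_algebraMap_eq fun _ => rfl
  obtain ⟨_, _⟩ := bc_tower (R := R) (R' := R') (B := B) (L := L)
  haveI : IsScalarTower R (R' ⊗[R] B) (R' ⊗[R] L) := IsScalarTower.of_algebraMap_eq fun r => by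
    rw [IsScalarTower.algebraMap_apply R R' (R' ⊗[R] L), IsScalarTower.algebraMap_apply R R' (R' ⊗[R] B),
      ← IsScalarTower.algebraMap_apply R' (R' ⊗[R] B) (R' ⊗[R] L)]
  haveI : Algebra.IsPushout R B R' (R' ⊗[R] B) := Algebra.IsPushout.symm inferInstance
  haveI : Algebra.IsPushout R L R' (R' ⊗[R] L) := Algebra.IsPushout.symm inferInstance
  exact Algebra.IsPushout.symm ((Algebra.IsPushout.comp_iff R B R' (R' ⊗[R] B)).1 ‹_›)

theorem isPt_comap [IsLocalHom (algebraMap B L)] (q : Ideal (R' ⊗[R] L)) (hq : IsPt q) :
    letI := bcAlgebraBase (R := R) (R' := R') (B := B) (L := L);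
    letI := bcAlgebra (R := R) (R' := R') (B := B) (L := L);
    IsPt (q.comap (algebraMap (R' ⊗[R] B) (R' ⊗[R] L))) := by
  letI := bcAlgebra (R := R) (R' := R') (B := B) (L := L)
  letI := bcAlgebraBase (R := R) (R' := R') (B := B) (L := L)
  haveI : IsScalarTower B L (R' ⊗[R] L) := IsScalarTower.of_algebraMap_eq fun _ => rfl
  obtain ⟨h1, h2⟩ := bc_tower (R := R) (R' := R') (B := B) (L := L)
  constructor
  · rw [← (((IsLocalRing.local_hom_TFAE (algebraMap B L)).out 0 4).mp ‹_› :
      (maximalIdeal L).comap (algebraMap B L) = maximalIdeal B), ← hq.1]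
    ext b
    simp only [Ideal.mem_comap]
    have := IsScalarTower.algebraMap_apply B L (R' ⊗[R] L) b
    rw [IsScalarTower.algebraMap_apply B (R' ⊗[R] B) (R' ⊗[R] L)] at this
    exact this ▸ Iff.rfl
  · rw [← hq.2, Ideal.comap_comap]
    exact congrArg (fun f => q.comap f) (IsScalarTower.algebraMap_eq R' (R' ⊗[R] B) (R' ⊗[R] L)).symm

/-- Flat local extensions of the algebra keep flatness at the points. -/
theorem FlatPts.baseChange [IsLocalHom (algebraMap B L)] [Module.Flat B L] {N : Type u} [AddCommGroup N] [Module B N]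
    (h : FlatPts R R' B N) : FlatPts R R' L (L ⊗[B] N) := fun q _ hq => by
  letI := bcAlgebra (R := R) (R' := R') (B := B) (L := L)
  letI := bcAlgebraBase (R := R) (R' := R') (B := B) (L := L)
  haveI : IsScalarTower B L (R' ⊗[R] L) := IsScalarTower.of_algebraMap_eq fun _ => rfl
  obtain ⟨_, _⟩ := bc_tower (R := R) (R' := R') (B := B) (L := L)
  have hpush := bc_pushout (R := R) (R' := R') (B := B) (L := L)
  let T := R' ⊗[R] B
  let C := R' ⊗[R] L
  haveI : Module.Flat T C := Module.Flat.isBaseChange B T L C hpush.out
  let q0 := q.comap (algebraMap T C)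
  haveI := h q0 (isPt_comap q hq)
  haveI : Module.Flat R' (LocalizedModule q.primeCompl (C ⊗[T] (T ⊗[B] N))) := flat_baseChange q0 q rfl (T ⊗[B] N)
  let e : C ⊗[T] (T ⊗[B] N) ≃ₗ[C] C ⊗[L] (L ⊗[B] N) :=
    (AlgebraTensorModule.cancelBaseChange B T C C N).trans (AlgebraTensorModule.cancelBaseChange B L C C N).symm
  let eq := IsLocalizedModule.mapEquiv q.primeCompl (LocalizedModule.mkLinearMap q.primeCompl _)
    (LocalizedModule.mkLinearMap q.primeCompl _) (Localization q.primeCompl) e
  exact Module.Flat.of_linearEquiv (eq.restrictScalars R').symm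

/-- Flatness at the points descends along integral local maps of the algebra. -/
theorem FlatPts.restrict [IsLocalHom (algebraMap B L)] [Algebra.IsIntegral B L] {N : Type u} [AddCommGroup N]
    [Module B N] [Module L N] [IsScalarTower B L N] (h : FlatPts R R' L N) : FlatPts R R' B N := fun q _ hq => by
  letI := bcAlgebra (R := R) (R' := R') (B := B) (L := L)
  letI := bcAlgebraBase (R := R) (R' := R') (B := B) (L := L)
  haveI : IsScalarTower B L (R' ⊗[R] L) := IsScalarTower.of_algebraMap_eq fun _ => rfl
  obtain ⟨_, _⟩ := bc_tower (R := R) (R' := R') (B := B) (L := L)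
  have hpush := bc_pushout (R := R) (R' := R') (B := B) (L := L)
  let T := R' ⊗[R] B
  let C := R' ⊗[R] L
  haveI := hpush
  haveI : Algebra.IsIntegral T C := ⟨fun z => by
    induction z using TensorProduct.induction_on with
    | zero => exact isIntegral_zero
    | add a b ha hb => exact ha.add hb
    | tmul r l =>
      rw [show (r ⊗ₜ[R] l : C) = algebraMap T C (algebraMap R' T r) * algebraMap L C l by
        rw [← IsScalarTower.algebraMap_apply R' T C, Algebra.TensorProduct.algebraMap_apply,
          Algebra.TensorProduct.right_algebraMap_apply, Algebra.algebraMap_self, RingHom.id_apply,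
          Algebra.TensorProduct.tmul_mul_tmul, mul_one, one_mul]]
      exact isIntegral_algebraMap.mul
        (((Algebra.IsIntegral.isIntegral (R := B) l).map (IsScalarTower.toAlgHom B L C)).tower_top)⟩
  let ψ : T ⊗[B] N →ₗ[T] C ⊗[L] N := LinearMap.liftBaseChange T ((TensorProduct.mk L C N 1).restrictScalars B)
  have hψ : Function.Bijective ψ := by
    let eC := Algebra.IsPushout.cancelBaseChange B T L C N
    have hcomp : ∀ w, eC (ψ w) = w := fun w => by
      induction w using TensorProduct.induction_on with
      | zero => simp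
      | add a b ha hb => rw [map_add, map_add, ha, hb]
      | tmul t n =>
        apply eC.symm.injective
        rw [LinearEquiv.symm_apply_apply, Algebra.IsPushout.cancelBaseChange_symm_tmul]
        show t • ((1 : C) ⊗ₜ[L] n) = _
        rw [smul_tmul', Algebra.smul_def, mul_one]
    exact (Function.Bijective.of_comp_iff' eC.bijective ψ).1
      (by rw [show eC ∘ ψ = id from funext hcomp]; exact Function.bijective_id)
  refine (FlatModel.flat_localized_iff (M := T ⊗[B] N) (N := LocalizedModule q.primeCompl (T ⊗[B] N)) q.primeCompl (LocalizedModule.mkLinearMap q.primeCompl (T ⊗[B] N))).2 fun J y hy => ?_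
  let ψJ : (T ⊗[B] N) ⊗[R'] J →ₗ[T] (C ⊗[L] N) ⊗[R'] J := AlgebraTensorModule.rTensor R' J ψ
  have hψJ : Function.Injective ψJ :=
    ((LinearEquiv.ofBijective ψ hψ).restrictScalars R' |>.rTensor J).injective
  have hy' : J.subtype.lTensor (C ⊗[L] N) (ψJ y) = 0 := by
    rw [show J.subtype.lTensor (C ⊗[L] N) (ψJ y) = AlgebraTensorModule.rTensor R' R' ψ (J.subtype.lTensor (T ⊗[B] N) y) from ?_,
      hy, map_zero]
    clear hy
    induction y using TensorProduct.induction_on with
    | zero => simp
    | add a b ha hb => simp only [map_add, ha, hb]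
    | tmul m j => rfl
  by_contra hno
  push Not at hno
  let a : Ideal C := LinearMap.ker (LinearMap.toSpanSingleton C _ (ψJ y))
  have ha : a.comap (algebraMap T C) ≤ q := fun t ht => by
    by_contra htq
    refine hno t htq (hψJ ?_)
    rw [map_smul, map_zero, ← algebraMap_smul C t (ψJ y)]
    exact LinearMap.mem_ker.1 ht
  obtain ⟨Q, hQa, hQ, hQq⟩ := Ideal.exists_ideal_over_prime_of_isIntegral q a ha
  have hQpt : IsPt Q := by
    constructor
    · refine IsLocalRing.eq_maximalIdeal ?_
      refine Ideal.isMaximal_of_isIntegral_of_isMaximal_comap (R := B) (S := L) _ ?_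
      have h1 : ((Q.comap (Algebra.TensorProduct.includeRight : L →ₐ[R] C)).comap (algebraMap B L)) = maximalIdeal B := by
        rw [← hq.1, ← hQq]
        ext b
        simp only [Ideal.mem_comap]
        have := IsScalarTower.algebraMap_apply B L C b
        rw [IsScalarTower.algebraMap_apply B T C] at this
        exact this ▸ Iff.rfl
      rw [h1]
      exact maximalIdeal.isMaximal B
    · rw [← hq.2, ← hQq, Ideal.comap_comap]
      exact congrArg (fun f => Q.comap f) (IsScalarTower.algebraMap_eq R' T C)
  obtain ⟨s, hs, hsy⟩ := (FlatModel.flat_localized_iff (M := C ⊗[L] N)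
    (N := LocalizedModule Q.primeCompl (C ⊗[L] N)) Q.primeCompl
    (LocalizedModule.mkLinearMap Q.primeCompl (C ⊗[L] N))).1 (h Q hQpt) J (ψJ y) hy'
  exact hs (hQa (LinearMap.mem_ker.2 hsy))

/-- Along a surjection of the algebra flatness at the points ascends. -/
theorem FlatPts.baseChange_surjective (hs : Function.Surjective (algebraMap B L)) {N : Type u} [AddCommGroup N]
    [Module B N] [Module L N] [IsScalarTower B L N] (h : FlatPts R R' B N) : FlatPts R R' L N := fun q _ hq => by
  letI := bcAlgebra (R := R) (R' := R') (B := B) (L := L)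
  letI := bcAlgebraBase (R := R) (R' := R') (B := B) (L := L)
  haveI : IsScalarTower B L (R' ⊗[R] L) := IsScalarTower.of_algebraMap_eq fun _ => rfl
  obtain ⟨_, _⟩ := bc_tower (R := R) (R' := R') (B := B) (L := L)
  haveI := bc_pushout (R := R) (R' := R') (B := B) (L := L)
  haveI := IsLocalHom.of_surjective (algebraMap B L) hs
  let T := R' ⊗[R] B
  let C := R' ⊗[R] L
  have hTC : Function.Surjective (algebraMap T C) := fun z => by
    induction z using TensorProduct.induction_on with
    | zero => exact ⟨0, map_zero _⟩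
    | add a b ha hb =>
      obtain ⟨a', rfl⟩ := ha
      obtain ⟨b', rfl⟩ := hb
      exact ⟨a' + b', map_add _ _ _⟩
    | tmul r l =>
      obtain ⟨b, rfl⟩ := hs l
      exact ⟨r ⊗ₜ b, Algebra.TensorProduct.map_tmul _ _ r b⟩
  let q0 := q.comap (algebraMap T C)
  haveI := h q0 (isPt_comap q hq)
  have hdiv : ∀ c ∉ q, ∃ u ∉ q0, ∃ c', c * c' = algebraMap T C u := fun c hc => by
    obtain ⟨u, rfl⟩ := hTC c
    exact ⟨u, hc, 1, mul_one _⟩
  let ψ : T ⊗[B] N →ₗ[T] C ⊗[L] N := LinearMap.liftBaseChange T ((TensorProduct.mk L C N 1).restrictScalars B)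
  have hψ : Function.Bijective ψ := by
    let eC := Algebra.IsPushout.cancelBaseChange B T L C N
    have hcomp : ∀ w, eC (ψ w) = w := fun w => by
      induction w using TensorProduct.induction_on with
      | zero => simp
      | add a b ha hb => rw [map_add, map_add, ha, hb]
      | tmul t n =>
        apply eC.symm.injective
        rw [LinearEquiv.symm_apply_apply, Algebra.IsPushout.cancelBaseChange_symm_tmul]
        show t • ((1 : C) ⊗ₜ[L] n) = _
        rw [smul_tmul', Algebra.smul_def, mul_one]
    exact (Function.Bijective.of_comp_iff' eC.bijective ψ).1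
      (by rw [show eC ∘ ψ = id from funext hcomp]; exact Function.bijective_id)
  let eq := IsLocalizedModule.mapEquiv q0.primeCompl (LocalizedModule.mkLinearMap q0.primeCompl _)
    (LocalizedModule.mkLinearMap q0.primeCompl _) (Localization q0.primeCompl) (LinearEquiv.ofBijective ψ hψ)
  haveI : Module.Flat R' (LocalizedModule q0.primeCompl (C ⊗[L] N)) :=
    Module.Flat.of_linearEquiv (eq.restrictScalars R').symm
  exact (flat_restrict_iff q0 q rfl hdiv).2 ‹_›

end

/-- A map injective on a fibre stays so after localisation. -/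
theorem injective_rTensor_localized {R T F N : Type u} [CommRing R] [CommRing T] [Algebra R T] (W : Submonoid T)
    [AddCommGroup F] [Module R F] [Module T F] [IsScalarTower R T F] [AddCommGroup N] [Module R N] [Module T N]
    [IsScalarTower R T N] (f : F →ₗ[T] N) (X : Type u) [AddCommGroup X] [Module R X]
    (h : Function.Injective ((f.restrictScalars R).rTensor X)) :
    Function.Injective (((IsLocalizedModule.map W (LocalizedModule.mkLinearMap W F) (LocalizedModule.mkLinearMap W N) f
      ).restrictScalars R).rTensor X) := by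
  let iF := AlgebraTensorModule.rTensor R X (LocalizedModule.mkLinearMap W F)
  let iN := AlgebraTensorModule.rTensor R X (LocalizedModule.mkLinearMap W N)
  let fX : F ⊗[R] X →ₗ[T] N ⊗[R] X := AlgebraTensorModule.rTensor R X f
  let fW := IsLocalizedModule.map W (LocalizedModule.mkLinearMap W F) (LocalizedModule.mkLinearMap W N) f
  let fWX : LocalizedModule W F ⊗[R] X →ₗ[T] LocalizedModule W N ⊗[R] X := AlgebraTensorModule.rTensor R X fW
  have hc : ∀ y, fWX (iF y) = iN (fX y) := fun y => by
    induction y using TensorProduct.induction_on with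
    | zero => simp
    | add a b ha hb => simp only [map_add, ha, hb]
    | tmul m x => exact congrArg (· ⊗ₜ[R] x) (IsLocalizedModule.map_apply W _ _ f m)
  have heq : ∀ y, (fW.restrictScalars R).rTensor X y = fWX y := fun _ => rfl
  rw [injective_iff_map_eq_zero]
  intro z hz
  rw [heq] at hz
  obtain ⟨⟨y, s⟩, hys⟩ := IsLocalizedModule.surj W iF z
  have h0 : iN (fX y) = 0 := by rw [← hc, ← hys, Submonoid.smul_def, map_smul, hz, smul_zero]
  obtain ⟨t, ht⟩ := (IsLocalizedModule.eq_zero_iff W iN).1 h0
  have h1 : (t : T) • y = 0 := h (show fX ((t : T) • y) = (f.restrictScalars R).rTensor X 0 by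
    rw [map_smul, map_zero]; exact ht)
  have h2 : (t * s : T) • z = 0 := by
    rw [mul_smul, ← Submonoid.smul_def s, hys, ← map_smul, h1, map_zero]
  exact ((Module.End.isUnit_iff _).1 (IsLocalizedModule.map_units iF (t * s))).1 (h2.trans (map_zero _).symm)

/-- A map from a free module, injective on the closed fibre, into a module flat at the points. -/
theorem FlatPts.coker {R R' B : Type u} [CommRing R] [IsLocalRing R] [CommRing R'] [IsLocalRing R'] [CommRing B]
    [IsLocalRing B] [Algebra R R'] [IsLocalHom (algebraMap R R')] [Algebra R B] [IsLocalHom (algebraMap R B)]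
    [Algebra.EssFiniteType R B] {c : ℕ} {N : Type u} [AddCommGroup N] [Module B N] [Module R N] [IsScalarTower R B N]
    (β : (Fin c → B) →ₗ[B] N) (hβ : Function.Injective ((β.restrictScalars R).lTensor (ResidueField R)))
    (h : FlatPts R R' B N) :
    FlatPts R R' B (N ⧸ LinearMap.range β) ∧
      ∀ x, β x = 0 → ∀ (q : Ideal (R' ⊗[R] B)) [q.IsPrime], IsPt q → ∀ i, ∃ s ∉ q, s * ((1 : R') ⊗ₜ[R] x i) = 0 := by
  let T := R' ⊗[R] B
  let β' : T ⊗[B] (Fin c → B) →ₗ[T] T ⊗[B] N := β.baseChange T
  have hfib : Function.Injective ((β'.restrictScalars R').rTensor (ResidueField R')) := by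
    let eF := Algebra.IsPushout.cancelBaseChange R R' B T (Fin c → B)
    let eN := Algebra.IsPushout.cancelBaseChange R R' B T N
    have hsq : ∀ w, β' (eF.symm w) = eN.symm ((β.restrictScalars R).baseChange R' w) := fun w => by
      induction w using TensorProduct.induction_on with
      | zero => simp
      | add a b ha hb => simp only [map_add, ha, hb]
      | tmul r x =>
        simp only [eF, eN, β', Algebra.IsPushout.cancelBaseChange_symm_tmul, LinearMap.baseChange_tmul]
        rfl
    have heq : β'.restrictScalars R' =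
        eN.symm.toLinearMap ∘ₗ ((β.restrictScalars R).baseChange R') ∘ₗ eF.toLinearMap := LinearMap.ext fun z => by
      simp only [LinearMap.comp_apply, LinearEquiv.coe_coe, LinearMap.restrictScalars_apply]
      rw [← hsq, LinearEquiv.symm_apply_apply]
    rw [heq, LinearMap.rTensor_comp, LinearMap.rTensor_comp, LinearMap.coe_comp, LinearMap.coe_comp]
    refine (LinearEquiv.rTensor (ResidueField R') eN.symm).injective.comp
      (Function.Injective.comp ?_ (LinearEquiv.rTensor (ResidueField R') eF).injective)
    rw [injective_baseChange_iff]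
    exact injective_field_extension _ (ResidueField R) (ResidueField R') hβ
  have main : ∀ (q : Ideal T) [q.IsPrime], IsPt q →
      (∀ (Q : Type u) [AddCommGroup Q] [Module R' Q], Function.Injective
        (((IsLocalizedModule.map q.primeCompl (LocalizedModule.mkLinearMap q.primeCompl _)
          (LocalizedModule.mkLinearMap q.primeCompl _) β').restrictScalars R').rTensor Q)) := by
    intro q _ hq
    haveI := h q hq
    let Bq := Localization.AtPrime q
    haveI : Algebra.EssFiniteType R' Bq := Algebra.EssFiniteType.comp R' T Bq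
    haveI : IsLocalHom (algebraMap R' Bq) := ⟨fun r hr => by
      by_contra h0
      rw [IsScalarTower.algebraMap_apply R' T Bq, IsLocalization.AtPrime.isUnit_to_map_iff Bq q] at hr
      exact hr (show r ∈ q.comap (algebraMap R' T) from hq.2.ge ((IsLocalRing.mem_maximalIdeal r).2 h0))⟩
    haveI : Module.Finite Bq (LocalizedModule q.primeCompl (T ⊗[B] (Fin c → B))) :=
      Module.Finite.of_isLocalizedModule q.primeCompl (LocalizedModule.mkLinearMap q.primeCompl _)
    refine (ui_fp_flat (A := R') (B := Bq) (M := LocalizedModule q.primeCompl (T ⊗[B] N))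
      (N := LocalizedModule q.primeCompl (T ⊗[B] (Fin c → B))) _ ?_).1
    exact (LinearMap.lTensor_inj_iff_rTensor_inj _ _).2 (injective_rTensor_localized q.primeCompl β' _ hfib)
  refine ⟨fun q _ hq => ?_, fun x hx q _ hq i => ?_⟩
  · haveI := h q hq
    let π : N →ₗ[B] N ⧸ LinearMap.range β := (LinearMap.range β).mkQ
    let iF := LocalizedModule.mkLinearMap q.primeCompl (T ⊗[B] (Fin c → B))
    let iN := LocalizedModule.mkLinearMap q.primeCompl (T ⊗[B] N)
    let iQ := LocalizedModule.mkLinearMap q.primeCompl (T ⊗[B] (N ⧸ LinearMap.range β))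
    have hex : Function.Exact β' (π.baseChange T) :=
      lTensor_exact T (LinearMap.exact_map_mkQ_range β) (LinearMap.range β).mkQ_surjective
    refine flat_coker (F := LocalizedModule q.primeCompl (T ⊗[B] (Fin c → B)))
      (N := LocalizedModule q.primeCompl (T ⊗[B] N))
      (Q := LocalizedModule q.primeCompl (T ⊗[B] (N ⧸ LinearMap.range β))) ((IsLocalizedModule.map q.primeCompl iF iN β').restrictScalars R')
      ((IsLocalizedModule.map q.primeCompl iN iQ (π.baseChange T)).restrictScalars R')
      (IsLocalizedModule.map_exact q.primeCompl iF iN iQ β' _ hex)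
      (IsLocalizedModule.map_surjective q.primeCompl iN iQ _ (LinearMap.lTensor_surjective T (LinearMap.range β).mkQ_surjective))
      fun J z hz => ?_
    refine (tmul_one_eq_zero_iff J z).1 (main q hq (R' ⧸ J) ?_)
    rw [map_zero, LinearMap.rTensor_tmul]
    exact (tmul_one_eq_zero_iff J _).2 hz
  · have hinj : Function.Injective (IsLocalizedModule.map q.primeCompl (LocalizedModule.mkLinearMap q.primeCompl _)
        (LocalizedModule.mkLinearMap q.primeCompl _) β') := fun a b hab => by
      have h1 := main q hq R' (a₁ := a ⊗ₜ[R'] (1 : R')) (a₂ := b ⊗ₜ[R'] (1 : R'))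
        (by rw [LinearMap.rTensor_tmul, LinearMap.rTensor_tmul, LinearMap.restrictScalars_apply, LinearMap.restrictScalars_apply, hab])
      simpa using congrArg (TensorProduct.rid R' _) h1
    have h0 : LocalizedModule.mkLinearMap q.primeCompl _ ((1 : T) ⊗ₜ[B] x) = 0 := hinj (by
      rw [IsLocalizedModule.map_apply, LinearMap.baseChange_tmul, hx, tmul_zero, map_zero, map_zero])
    obtain ⟨s, hs⟩ := (IsLocalizedModule.eq_zero_iff q.primeCompl _).1 h0
    refine ⟨s, s.2, ?_⟩
    have h2 := congrArg ((TensorProduct.AlgebraTensorModule.rid B T T).toLinearMap ∘ₗ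
      ((LinearMap.proj i : (Fin c → B) →ₗ[B] B).baseChange T)) hs
    rw [Submonoid.smul_def, map_smul, map_zero] at h2
    simp [smul_eq_mul, Algebra.smul_def] at h2
    rwa [show algebraMap B T (x i) = (1 : R') ⊗ₜ[R] x i from Algebra.TensorProduct.right_algebraMap_apply _] at h2

end Groth.Agent.H4RG
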