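import Groth.Prelude
import Groth.Agent.H4RG.FibreFlatOpen
import Groth.Agent.H4RG.PointFlat
import Mathlib

/-!
# Flatness above the closed points along local maps of the algebra
-/

set_option autoImplicit false
set_option linter.style.haveILetI false
set_option backward.isDefEq.respectTransparency.types false

universe u

open TensorProduct IsLocalRing

namespace Groth.Agent.H4RG

/-- Flatness at a prime does not change along linear equivalences. -/
theorem flat_localized_congr {R S M M' : Type u} [CommRing R] [CommRing S] [Algebra R S] [AddCommGroup M] [Module S M]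
    [Module R M] [IsScalarTower R S M] [AddCommGroup M'] [Module S M'] [Module R M'] [IsScalarTower R S M']
    (e : M ≃ₗ[S] M') (q : Ideal S) [q.IsPrime] (h : Module.Flat R (LocalizedModule q.primeCompl M)) :
    Module.Flat R (LocalizedModule q.primeCompl M') :=
  haveI := h
  Module.Flat.of_linearEquiv ((IsLocalizedModule.mapEquiv q.primeCompl (LocalizedModule.mkLinearMap q.primeCompl M)
    (LocalizedModule.mkLinearMap q.primeCompl M') (Localization q.primeCompl) e).restrictScalars R).symm

/-- Flatness at a prime descends along a flat algebra. -/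
theorem flatAt_of_flatAt_baseChange {R T C : Type u} [CommRing R] [CommRing T] [CommRing C] [Algebra R T] [Algebra R C]
    [Algebra T C] [IsScalarTower R T C] [Module.Flat T C] (P : Ideal T) [P.IsPrime] (P1 : Ideal C) [P1.IsPrime]
    (hP : P1.comap (algebraMap T C) = P) (N : Type u) [AddCommGroup N] [Module T N] [Module R N] [IsScalarTower R T N]
    [Module.Flat R (LocalizedModule P1.primeCompl (C ⊗[T] N))] : Module.Flat R (LocalizedModule P.primeCompl N) := by
  obtain ⟨alg, hff, htow, ⟨e⟩⟩ := baseChange_aux P P1 hP N
  letI := alg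
  haveI := hff
  let L := Localization.AtPrime P1
  haveI : IsScalarTower R (Localization.AtPrime P) L := IsScalarTower.of_algebraMap_eq fun x => by
    rw [IsScalarTower.algebraMap_apply R T (Localization.AtPrime P), ← IsScalarTower.algebraMap_apply T (Localization.AtPrime P) L,
      IsScalarTower.algebraMap_apply R C L, IsScalarTower.algebraMap_apply R T C, ← IsScalarTower.algebraMap_apply T C L]
  haveI : Module.Flat R (L ⊗[Localization.AtPrime P] LocalizedModule P.primeCompl N) :=
    Module.Flat.of_linearEquiv (e.restrictScalars R)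
  exact flat_of_tensor_faithfullyFlat (B := Localization.AtPrime P) (L := L)

/-- Flatness at primes of a finite algebra and at the prime below. -/
theorem flatAt_iff_forall_over {R T C : Type u} [CommRing R] [CommRing T] [CommRing C] [Algebra R T] [Algebra R C]
    [Algebra T C] [IsScalarTower R T C] [Algebra.IsIntegral T C] {M : Type u} [AddCommGroup M] [Module C M]
    [Module T M] [Module R M] [IsScalarTower T C M] [IsScalarTower R T M] [IsScalarTower R C M] (q : Ideal T) [q.IsPrime] :
    Module.Flat R (LocalizedModule q.primeCompl M) ↔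
      ∀ (Q : Ideal C) [Q.IsPrime], Q.comap (algebraMap T C) = q → Module.Flat R (LocalizedModule Q.primeCompl M) := by
  constructor
  · intro h Q _ hQ
    refine (FlatModel.flat_localized_iff (M := M) Q.primeCompl (LocalizedModule.mkLinearMap Q.primeCompl M)).2
      fun J y hy => ?_
    obtain ⟨s, hs, hsy⟩ := (FlatModel.flat_localized_iff (M := M) q.primeCompl
      (LocalizedModule.mkLinearMap q.primeCompl M)).1 h J y hy
    exact ⟨algebraMap T C s, fun hm => hs (hQ.le hm), by rw [algebraMap_smul]; exact hsy⟩
  · intro h
    refine (FlatModel.flat_localized_iff (M := M) q.primeCompl (LocalizedModule.mkLinearMap q.primeCompl M)).2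
      fun J y hy => ?_
    by_contra hno
    push Not at hno
    let a : Ideal C := LinearMap.ker (LinearMap.toSpanSingleton C _ y)
    have ha : a.comap (algebraMap T C) ≤ q := fun t ht => by
      by_contra htq
      refine hno t htq ?_
      rw [← algebraMap_smul C t y]
      exact LinearMap.mem_ker.1 ht
    obtain ⟨Q, hQa, hQ, hQq⟩ := Ideal.exists_ideal_over_prime_of_isIntegral q a ha
    obtain ⟨s, hs, hsy⟩ := (FlatModel.flat_localized_iff (M := M) Q.primeCompl
      (LocalizedModule.mkLinearMap Q.primeCompl M)).1 (h Q hQq) J y hy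
    exact hs (hQa (LinearMap.mem_ker.2 hsy))

section

variable {A B C : Type u} [CommRing A] [CommRing B] [CommRing C] [Algebra A B] [Algebra B C] [Algebra A C] [IsScalarTower A B C]
  {A' : Type u} [CommRing A'] [Algebra A A']
  {B' : Type u} [CommRing B'] [Algebra B B'] [Algebra A' B'] [Algebra A B'] [IsScalarTower A B B'] [IsScalarTower A A' B']
  [Algebra.IsPushout A B A' B']
  {C' : Type u} [CommRing C'] [Algebra C C'] [Algebra A' C'] [Algebra A C'] [IsScalarTower A C C'] [IsScalarTower A A' C']
  [Algebra.IsPushout A C A' C']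

/-- The map of base changes along a map of algebras, for arbitrary models. -/
theorem exists_modelMap : ∃ (_ : Algebra B' C') (_ : Algebra B C') (_ : IsScalarTower A' B' C') (_ : IsScalarTower B B' C')
    (_ : IsScalarTower B C C') (_ : IsScalarTower A B C') (_ : IsScalarTower A B' C'), Algebra.IsPushout B C B' C' := by
  haveI : Algebra.IsPushout A A' B B' := Algebra.IsPushout.symm inferInstance
  let e := Algebra.IsPushout.equiv A A' B B'
  let σ : A' ⊗[A] B →ₐ[A'] C' := Algebra.TensorProduct.lift (Algebra.ofId A' C')
    ((IsScalarTower.toAlgHom A C C').comp (IsScalarTower.toAlgHom A B C)) fun _ _ => .all _ _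
  let φ : B' →ₐ[A'] C' := σ.comp e.symm.toAlgHom
  letI : Algebra B' C' := φ.toRingHom.toAlgebra
  letI : Algebra B C' := ((algebraMap C C').comp (algebraMap B C)).toAlgebra
  haveI h1 : IsScalarTower A' B' C' := IsScalarTower.of_algHom φ
  haveI h2 : IsScalarTower B B' C' := IsScalarTower.of_algebraMap_eq fun b => by
    show _ = σ (e.symm (algebraMap B B' b))
    rw [Algebra.IsPushout.equiv_symm_algebraMap_right, Algebra.TensorProduct.lift_tmul, map_one, one_mul]
    rfl
  haveI h3 : IsScalarTower B C C' := IsScalarTower.of_algebraMap_eq fun _ => rfl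
  haveI h4 : IsScalarTower A B C' := IsScalarTower.of_algebraMap_eq fun a => by
    show _ = algebraMap C C' (algebraMap B C (algebraMap A B a))
    rw [← IsScalarTower.algebraMap_apply A B C, ← IsScalarTower.algebraMap_apply A C C']
  haveI h5 : IsScalarTower A B' C' := IsScalarTower.of_algebraMap_eq fun a => by
    rw [IsScalarTower.algebraMap_apply A B B', ← IsScalarTower.algebraMap_apply B B' C',
      ← IsScalarTower.algebraMap_apply A B C']
  exact ⟨inferInstance, inferInstance, h1, h2, h3, h4, h5,
    (Algebra.IsPushout.comp_iff (R := A) (S := B) (T := C) (R' := A') (S' := B') (T' := C')).1 inferInstance⟩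

end

/-- Flat local extensions of the algebra: flatness above the closed points ascends and descends. -/
theorem flatAboveClosedPoints_iff_flat {A B C : Type u} [CommRing A] [CommRing B] [IsLocalRing B] [CommRing C]
    [IsLocalRing C] [Algebra A B] [Algebra B C] [IsLocalHom (algebraMap B C)] [Algebra A C] [IsScalarTower A B C]
    [Module.Flat B C] (M : Type u) [AddCommGroup M] [Module B M] (N : Type u) [AddCommGroup N] [Module C N]
    [Module B N] [IsScalarTower B C N] (g : M →ₗ[B] N) (hg : IsBaseChange C g)
    (A' : Type u) [CommRing A'] [IsLocalRing A'] [Algebra A A']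
    (B' M' : Type u) [CommRing B'] [Algebra B B'] [Algebra A' B'] [Algebra A B'] [IsScalarTower A B B'] [IsScalarTower A A' B']
    [Algebra.IsPushout A B A' B'] [AddCommGroup M'] [Module B' M'] [Module B M'] [IsScalarTower B B' M'] [Module A' M']
    [IsScalarTower A' B' M'] (fB : M →ₗ[B] M') (hfB : IsBaseChange B' fB)
    (C' N' : Type u) [CommRing C'] [Algebra C C'] [Algebra A' C'] [Algebra A C'] [IsScalarTower A C C'] [IsScalarTower A A' C']
    [Algebra.IsPushout A C A' C'] [AddCommGroup N'] [Module C' N'] [Module C N'] [IsScalarTower C C' N'] [Module A' N']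
    [IsScalarTower A' C' N'] (fC : N →ₗ[C] N') (hfC : IsBaseChange C' fC) :
    FlatCA.FlatAboveClosedPoints B A' B' M' ↔ FlatCA.FlatAboveClosedPoints C A' C' N' := by
  obtain ⟨_, _, _, _, _, _, _, hpush⟩ := exists_modelMap (A := A) (B := B) (C := C) (A' := A') (B' := B') (C' := C')
  haveI : Module.Flat B' C' := Module.Flat.isBaseChange B B' C C' (Algebra.IsPushout.symm hpush).out
  let e : C' ⊗[B'] M' ≃ₗ[C'] N' :=
    (AlgebraTensorModule.congr (LinearEquiv.refl C' C') hfB.equiv.symm).trans
      ((AlgebraTensorModule.cancelBaseChange B B' C' C' M).trans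
        ((AlgebraTensorModule.cancelBaseChange B C C' C' M).symm.trans
          ((AlgebraTensorModule.congr (LinearEquiv.refl C' C') hg.equiv).trans hfC.equiv)))
  haveI : IsScalarTower A' B' (C' ⊗[B'] M') := IsScalarTower.of_algebraMap_smul fun a z => by
    rw [← algebraMap_smul C' (algebraMap A' B' a), ← IsScalarTower.algebraMap_apply, algebraMap_smul]
  have hloc : (maximalIdeal B).map (algebraMap B C) ≤ maximalIdeal C :=
    ((IsLocalRing.local_hom_TFAE (algebraMap B C)).out 0 2).1 ‹_›
  constructor
  · intro h Q _ hQ
    haveI : (Q.comap (algebraMap B' C')).IsPrime := Ideal.comap_isPrime _ _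
    haveI : Module.Flat A' (LocalizedModule (Q.comap (algebraMap B' C')).primeCompl M') := by
      refine h _ (sup_le ?_ ?_)
      · rw [Ideal.map_le_iff_le_comap, Ideal.comap_comap, ← IsScalarTower.algebraMap_eq, ← Ideal.map_le_iff_le_comap]
        exact le_sup_left.trans hQ
      · rw [Ideal.map_le_iff_le_comap, Ideal.comap_comap, ← IsScalarTower.algebraMap_eq, IsScalarTower.algebraMap_eq B C C',
          ← Ideal.comap_comap, ← Ideal.map_le_iff_le_comap]
        exact hloc.trans (Ideal.map_le_iff_le_comap.1 (le_sup_right.trans hQ))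
    exact flat_localized_congr e Q (flat_baseChange _ Q rfl M')
  · intro h q _ hq
    have hqB : q.comap (algebraMap B B') = maximalIdeal B := ((maximalIdeal.isMaximal B).eq_of_le
      (Ideal.IsPrime.ne_top (Ideal.comap_isPrime _ _)) (Ideal.map_le_iff_le_comap.1 (le_sup_right.trans hq))).symm
    haveI : Algebra.IsPushout B B' C C' := Algebra.IsPushout.symm hpush
    obtain ⟨Q, hQ, hQB, hQC⟩ := exists_prime_pushout (D := C') q (maximalIdeal C)
      (hqB.trans (((IsLocalRing.local_hom_TFAE (algebraMap B C)).out 0 4).1 ‹_› :
        (maximalIdeal C).comap (algebraMap B C) = maximalIdeal B).symm)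
    haveI : Module.Flat A' (LocalizedModule Q.primeCompl (C' ⊗[B'] M')) := by
      refine flat_localized_congr e.symm Q (@h Q hQ (sup_le ?_ ?_))
      · rw [Ideal.map_le_iff_le_comap, IsScalarTower.algebraMap_eq A' B' C', ← Ideal.comap_comap, hQB,
          ← Ideal.map_le_iff_le_comap]
        exact le_sup_left.trans hq
      · rw [Ideal.map_le_iff_le_comap, hQC]
    exact flatAt_of_flatAt_baseChange q Q hQB M'

/-- Finite local extensions of the algebra do not change flatness above the closed points. -/
theorem flatAboveClosedPoints_iff_finite {A B C : Type u} [CommRing A] [CommRing B] [IsLocalRing B] [CommRing C]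
    [IsLocalRing C] [Algebra A B] [Algebra B C] [IsLocalHom (algebraMap B C)] [Algebra A C] [IsScalarTower A B C]
    [Module.Finite B C] (N : Type u) [AddCommGroup N] [Module C N] [Module B N] [IsScalarTower B C N]
    (A' : Type u) [CommRing A'] [IsLocalRing A'] [Algebra A A']
    (B' M' : Type u) [CommRing B'] [Algebra B B'] [Algebra A' B'] [Algebra A B'] [IsScalarTower A B B'] [IsScalarTower A A' B']
    [Algebra.IsPushout A B A' B'] [AddCommGroup M'] [Module B' M'] [Module B M'] [IsScalarTower B B' M'] [Module A' M']
    [IsScalarTower A' B' M'] (fB : N →ₗ[B] M') (hfB : IsBaseChange B' fB)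
    (C' N' : Type u) [CommRing C'] [Algebra C C'] [Algebra A' C'] [Algebra A C'] [IsScalarTower A C C'] [IsScalarTower A A' C']
    [Algebra.IsPushout A C A' C'] [AddCommGroup N'] [Module C' N'] [Module C N'] [IsScalarTower C C' N'] [Module A' N']
    [IsScalarTower A' C' N'] (fC : N →ₗ[C] N') (hfC : IsBaseChange C' fC) :
    FlatCA.FlatAboveClosedPoints B A' B' M' ↔ FlatCA.FlatAboveClosedPoints C A' C' N' := by
  obtain ⟨_, _, _, _, _, _, _, hpush⟩ := exists_modelMap (A := A) (B := B) (C := C) (A' := A') (B' := B') (C' := C')
  haveI : Algebra.IsPushout B B' C C' := Algebra.IsPushout.symm hpush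
  haveI : Module.Finite B' C' := Module.Finite.equiv (Algebra.IsPushout.equiv B B' C C').toLinearEquiv
  letI : Module B' N' := Module.compHom N' (algebraMap B' C')
  haveI : IsScalarTower B' C' N' := IsScalarTower.of_algebraMap_smul fun _ _ => rfl
  haveI : IsScalarTower A' B' N' := IsScalarTower.of_algebraMap_smul fun a z => by
    show algebraMap B' C' (algebraMap A' B' a) • z = _
    rw [← IsScalarTower.algebraMap_apply, algebraMap_smul]
  let eN : C' ⊗[C] N ≃ₗ[B'] B' ⊗[B] N := Algebra.IsPushout.cancelBaseChange B B' C C' N
  let e : M' ≃ₗ[B'] N' := hfB.equiv.symm.trans (eN.symm.trans (hfC.equiv.restrictScalars B'))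
  have hloc : (maximalIdeal B).map (algebraMap B C) ≤ maximalIdeal C :=
    ((IsLocalRing.local_hom_TFAE (algebraMap B C)).out 0 2).1 ‹_›
  constructor
  · intro h Q _ hQ
    haveI : (Q.comap (algebraMap B' C')).IsPrime := Ideal.comap_isPrime _ _
    refine (flatAt_iff_forall_over (T := B') (C := C') (M := N') (Q.comap (algebraMap B' C'))).1
      (flat_localized_congr e _ (h _ (sup_le ?_ ?_))) Q rfl
    · rw [Ideal.map_le_iff_le_comap, Ideal.comap_comap, ← IsScalarTower.algebraMap_eq, ← Ideal.map_le_iff_le_comap]
      exact le_sup_left.trans hQ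
    · rw [Ideal.map_le_iff_le_comap, Ideal.comap_comap, ← IsScalarTower.algebraMap_eq, IsScalarTower.algebraMap_eq B C C',
        ← Ideal.comap_comap, ← Ideal.map_le_iff_le_comap]
      exact hloc.trans (Ideal.map_le_iff_le_comap.1 (le_sup_right.trans hQ))
  · intro h q _ hq
    have hqB : q.comap (algebraMap B B') = maximalIdeal B := ((maximalIdeal.isMaximal B).eq_of_le
      (Ideal.IsPrime.ne_top (Ideal.comap_isPrime _ _)) (Ideal.map_le_iff_le_comap.1 (le_sup_right.trans hq))).symm
    refine flat_localized_congr e.symm q ((flatAt_iff_forall_over (T := B') (C := C') (M := N') q).2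
      fun Q _ hQq => h Q (sup_le ?_ ?_))
    · rw [Ideal.map_le_iff_le_comap, IsScalarTower.algebraMap_eq A' B' C', ← Ideal.comap_comap, hQq,
        ← Ideal.map_le_iff_le_comap]
      exact le_sup_left.trans hq
    · rw [Ideal.map_le_iff_le_comap]
      haveI : (Q.comap (algebraMap C C')).IsPrime := Ideal.comap_isPrime _ _
      have h1 : (Q.comap (algebraMap C C')).comap (algebraMap B C) = maximalIdeal B := by
        rw [Ideal.comap_comap, ← IsScalarTower.algebraMap_eq, IsScalarTower.algebraMap_eq B B' C',
          ← Ideal.comap_comap, hQq, hqB]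
      exact (IsLocalRing.eq_maximalIdeal (Ideal.isMaximal_of_isIntegral_of_isMaximal_comap (R := B) (S := C) _
        (by rw [h1]; exact maximalIdeal.isMaximal B))).ge

end Groth.Agent.H4RG
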