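import Groth.Prelude
import Groth.Agent.H4RG.SpreadGen
import Groth.Agent.CAlgUI.FlatML
import Mathlib

/-!
# Stages covering a whole fibre

A module flat along a fibre becomes, after an etale change of the base without residue extension, projective over the
base on the complement of the zero set of a function equal to one on the fibre.
-/

set_option autoImplicit false
set_option linter.style.haveILetI false
set_option backward.isDefEq.respectTransparency.types false

universe u

open TensorProduct

namespace Groth.Agent.H4RG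

attribute [local instance] Algebra.TensorProduct.rightAlgebra

/-- Projectivity is local on a basic open covering. -/
theorem projective_of_span {R S N : Type u} [CommRing R] [CommRing S] [Algebra R S] [Algebra.FiniteType R S]
    [AddCommGroup N] [Module S N] [Module R N] [IsScalarTower R S N] [Module.Finite S N] {m : ℕ} (g : Fin m → S) {t : S}
    (ht : t ∈ Ideal.span (Set.range g))
    (h : ∀ i, Module.Projective R (LocalizedModule (Submonoid.powers (g i * t)) N)) :
    Module.Projective R (LocalizedModule (Submonoid.powers t) N) := by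
  classical
  let W := Submonoid.powers t
  let L := LocalizedModule W N
  let iN := LocalizedModule.mkLinearMap W N
  let ii := fun i => LocalizedModule.mkLinearMap (Submonoid.powers (g i * t)) N
  have hu : ∀ i, ∀ x : W, IsUnit (algebraMap S (Module.End S (LocalizedModule (Submonoid.powers (g i * t)) N)) x) := by
    rintro i ⟨_, k, rfl⟩
    have h1 := (Module.End.isUnit_iff _).1
      (IsLocalizedModule.map_units (ii i) (⟨(g i * t) ^ k, k, rfl⟩ : Submonoid.powers (g i * t)))
    refine (Module.End.isUnit_iff _).2 ⟨fun a b hab => h1.1 ?_, fun y => ?_⟩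
    · show (g i * t) ^ k • a = (g i * t) ^ k • b
      have hab' : t ^ k • a = t ^ k • b := hab
      rw [mul_pow, mul_smul, mul_smul, hab']
    · obtain ⟨z, hz⟩ := h1.2 y
      refine ⟨g i ^ k • z, ?_⟩
      show t ^ k • g i ^ k • z = y
      rw [smul_smul, show t ^ k * g i ^ k = (g i * t) ^ k by ring]
      exact hz
  let j : L →ₗ[S] (∀ i, LocalizedModule (Submonoid.powers (g i * t)) N) :=
    LinearMap.pi fun i => IsLocalizedModule.lift W iN (ii i) (hu i)
  let jR := j.restrictScalars R
  have hj : CAlgX.UniversallyInjective R jR := by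
    intro M' _ _
    rw [injective_iff_map_eq_zero]
    intro z hz
    obtain ⟨⟨z0, s⟩, hs⟩ := IsLocalizedModule.surj W (AlgebraTensorModule.rTensor R M' iN) z
    have h0 : AlgebraTensorModule.rTensor R M' j (AlgebraTensorModule.rTensor R M' iN z0) = 0 := by
      rw [← hs, Submonoid.smul_def, map_smul]
      rw [show AlgebraTensorModule.rTensor R M' j z = jR.rTensor M' z from rfl, hz, smul_zero]
    have hk : ∀ i, ∃ k : ℕ, (g i * t) ^ k • z0 = 0 := fun i => by
      have h1 : AlgebraTensorModule.rTensor R M' (ii i) z0 = 0 := by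
        have hc : ∀ w : N ⊗[R] M', AlgebraTensorModule.rTensor R M' (ii i) w =
            AlgebraTensorModule.rTensor R M' (LinearMap.proj i ∘ₗ j) (AlgebraTensorModule.rTensor R M' iN w) := fun w => by
          induction w using TensorProduct.induction_on with
          | zero => simp
          | add a b ha hb => simp only [map_add, ha, hb]
          | tmul a b => exact congrArg (· ⊗ₜ[R] b) (IsLocalizedModule.lift_apply _ _ _ (hu i) a).symm
        rw [hc]
        have hp : ∀ v : L ⊗[R] M', AlgebraTensorModule.rTensor R M' (LinearMap.proj i ∘ₗ j) v =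
            AlgebraTensorModule.rTensor R M' (LinearMap.proj i : (∀ i, LocalizedModule (Submonoid.powers (g i * t)) N) →ₗ[S] _)
              (AlgebraTensorModule.rTensor R M' j v) := fun v => by
          induction v using TensorProduct.induction_on with
          | zero => simp
          | add a b ha hb => simp only [map_add, ha, hb]
          | tmul a b => rfl
        rw [hp, h0, map_zero]
      obtain ⟨⟨_, k, rfl⟩, hk⟩ := (IsLocalizedModule.eq_zero_iff (Submonoid.powers (g i * t)) _).1 h1
      exact ⟨k, hk⟩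
    obtain ⟨n, hn⟩ : t ∈ ((Submodule.span S {z0}).annihilator).radical := by
      have hmul : ∀ i, g i * t ∈ ((Submodule.span S {z0}).annihilator).radical := fun i => by
        obtain ⟨k, hk⟩ := hk i
        exact ⟨k, (Submodule.mem_annihilator_span_singleton _ _).2 hk⟩
      obtain ⟨c, hc⟩ := (Submodule.mem_span_range_iff_exists_fun S).1 ht
      have h2 : t * t ∈ ((Submodule.span S {z0}).annihilator).radical := by
        nth_rewrite 1 [← hc]
        rw [Finset.sum_mul]
        exact sum_mem fun i _ => by rw [smul_eq_mul, mul_assoc]; exact Ideal.mul_mem_left _ _ (hmul i)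
      obtain ⟨n, hn⟩ := h2
      exact ⟨2 * n, by rwa [pow_mul, pow_two]⟩
    refine ((Module.End.isUnit_iff _).1 (IsLocalizedModule.map_units (AlgebraTensorModule.rTensor R M' iN) s)).1 ?_
    show s • z = (s : S) • (0 : L ⊗[R] M')
    rw [smul_zero, hs]
    exact (IsLocalizedModule.eq_zero_iff W _).2 ⟨⟨t ^ n, n, rfl⟩, (Submodule.mem_annihilator_span_singleton _ _).1 hn⟩
  haveI : Module.Projective R (∀ i, LocalizedModule (Submonoid.powers (g i * t)) N) :=
    haveI := h
    Module.Projective.of_equiv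
      (DFinsupp.linearEquivFunOnFintype (R := R) (M := fun i => LocalizedModule (Submonoid.powers (g i * t)) N))
  haveI : Module.Flat R L := CAlgUI.flat_left_of_ui (M₂ := ∀ i, LocalizedModule (Submonoid.powers (g i * t)) N) hj
  haveI : Algebra.FiniteType R (Localization W) :=
    Algebra.FiniteType.trans (S := S) (inferInstance : Algebra.FiniteType R S)
      (haveI := IsLocalization.Away.finitePresentation t (S := Localization W); inferInstance)
  haveI : Module.Finite (Localization W) L := Module.Finite.of_isLocalizedModule W iN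
  exact CAlgUI.projective_of_flat_ml_countablyGenerated (CAlgUI.ml_of_ui jR hj CAlgUI.ml_of_projective)
    (countablyGenerated_of_finite R (S := Localization W) L)

variable {R S : Type u} [CommRing R] [CommRing S] [Algebra R S]

/-- The point of a prime of the fibre. -/
theorem exists_point_instances (p : Ideal R) [p.IsPrime] (q : Ideal S) [q.IsPrime] (h : q.comap (algebraMap R S) = p) :
    ∃ (_ : Algebra p.ResidueField q.ResidueField), IsScalarTower R p.ResidueField q.ResidueField := by
  haveI : q.LiesOver p := ⟨h.symm⟩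
  let m : p.ResidueField →ₐ[R] q.ResidueField := Ideal.ResidueField.mapₐ p q (Algebra.ofId R S) (q.over_def p)
  letI : Algebra p.ResidueField q.ResidueField := m.toRingHom.toAlgebra
  exact ⟨inferInstance, IsScalarTower.of_algebraMap_eq fun r => (m.commutes r).symm⟩

variable [Algebra.FinitePresentation R S] (N : Type u) [AddCommGroup N] [Module S N] [Module R N] [IsScalarTower R S N]
  [Module.FinitePresentation S N] (p : Ideal R) [p.IsPrime]

/-- Finitely many good stages whose neighbourhoods cover a fibre. -/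
theorem exists_cover_stages (hflat : ∀ (q : Ideal S) [q.IsPrime], q.LiesOver p → FlatCA.FlatAt R q N) :
    ∃ (R' : Type u) (_ : CommRing R') (_ : Algebra R R') (_ : Algebra.Etale R R') (ε : R' →ₐ[R] p.ResidueField)
      (m : ℕ) (g : Fin m → R' ⊗[R] S),
      (∀ i, ∃ (L : Type u) (_ : Field L) (_ : Algebra S L) (_ : Algebra R L) (_ : IsScalarTower R S L)
        (_ : Algebra p.ResidueField L) (_ : IsScalarTower R p.ResidueField L),
        GoodStage R p.ResidueField L S N ε (g i)) ∧
      ∀ Q : Ideal (R' ⊗[R] S), Q.IsPrime → Q.comap (algebraMap R' (R' ⊗[R] S)) = RingHom.ker ε → ∃ i, g i ∉ Q := by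
  classical
  let K := p.ResidueField
  have hK : FracPoint R K := fracPoint_residueField p
  -- one stage at each point of the fibre
  have hone : ∀ q : {q : Ideal S // q.IsPrime ∧ q.comap (algebraMap R S) = p},
      ∃ (s : S) (R1 : Type u) (_ : CommRing R1) (_ : Algebra R R1) (_ : Algebra.Etale R R1) (ε : R1 →ₐ[R] K)
        (g : R1 ⊗[R] S) (L : Type u) (_ : Field L) (_ : Algebra S L) (_ : Algebra R L) (_ : IsScalarTower R S L)
        (_ : Algebra K L) (_ : IsScalarTower R K L), GoodStage R K L S N ε g ∧ s ∉ q.1 ∧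
        ∃ v : R, algebraMap R K v ≠ 0 ∧ algebraMap R (R1 ⊗[R] S) v * g - algebraMap S (R1 ⊗[R] S) s ∈
          (RingHom.ker ε).map (algebraMap R1 (R1 ⊗[R] S)) := by
    rintro ⟨q, hq, hqp⟩
    haveI := hq
    obtain ⟨_, _⟩ := exists_point_instances p q hqp
    let L := q.ResidueField
    haveI : q.LiesOver p := ⟨hqp.symm⟩
    obtain ⟨R1, _, _, _, ε, g, hg⟩ := spreads_of_flat (K := K) (L := L) hK q (Ideal.ker_algebraMap_residueField q) N
      (hflat q inferInstance)
    obtain ⟨v, s, hv, hs⟩ := exists_stage_rep (S := S) hK ε g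
    refine ⟨s, R1, inferInstance, inferInstance, inferInstance, ε, g, L, inferInstance, inferInstance, inferInstance,
      inferInstance, inferInstance, inferInstance, hg, fun hsq => ?_, v, hv, hs⟩
    haveI : (RingHom.ker (pt L S ε)).IsPrime := RingHom.ker_isPrime _
    have hI : (RingHom.ker ε).map (algebraMap R1 (R1 ⊗[R] S)) ≤ RingHom.ker (pt L S ε) :=
      Ideal.map_le_iff_le_comap.2 fun a ha => by
        rw [Ideal.mem_comap, RingHom.mem_ker]
        show pt L S ε (a ⊗ₜ[R] (1 : S)) = 0
        rw [pt_tmul, RingHom.mem_ker.1 ha, map_zero, zero_mul]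
    have hgn : pt L S ε g ≠ 0 := by
      letI := ε.toRingHom.toAlgebra
      exact fun h0 => Good.notMem hg (RingHom.mem_ker.2 h0)
    have h0 := hI hs
    rw [RingHom.mem_ker, map_sub, map_mul, sub_eq_zero] at h0
    have hs0 : pt L S ε (algebraMap S (R1 ⊗[R] S) s) = 0 := by
      show pt L S ε ((1 : R1) ⊗ₜ[R] s) = 0
      rw [pt_tmul, map_one, map_one, one_mul]
      exact Ideal.algebraMap_residueField_eq_zero.2 hsq
    rw [hs0] at h0
    refine (mul_ne_zero ?_ hgn) h0
    rw [AlgHom.commutes, IsScalarTower.algebraMap_apply R K L]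
    exact fun h => hv ((map_eq_zero _).1 h)
  choose s R1 i1 i2 i3 ε1 g1 L1 j1 j2 j3 j4 j5 j6 hg hs hrep using hone
  -- finitely many suffice
  let F := p.Fiber S
  let ι : S →+* F := (Algebra.TensorProduct.includeRight (R := R) (A := K) (B := S)).toRingHom
  have htop : Ideal.span (Set.range fun q => ι (s q)) = (⊤ : Ideal F) := by
    by_contra hne
    obtain ⟨M, hM, hle⟩ := Ideal.exists_le_maximal _ hne
    have hp : (M.comap ι).comap (algebraMap R S) = p := by
      have hh : (M.comap ι).comap (algebraMap R S) = (M.comap (algebraMap K F)).comap (algebraMap R K) := by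
        ext r
        rw [Ideal.mem_comap, Ideal.mem_comap, Ideal.mem_comap, Ideal.mem_comap]
        have h : ι (algebraMap R S r) = algebraMap K F (algebraMap R K r) := by
          rw [← IsScalarTower.algebraMap_apply]
          exact (Algebra.TensorProduct.includeRight (R := R) (A := K) (B := S)).commutes r
        rw [h]
      rw [hh, show M.comap (algebraMap K F) = ⊥ from
        (Ideal.eq_bot_or_top _).resolve_right (Ideal.comap_ne_top _ hM.ne_top), ← RingHom.ker_eq_comap_bot,
        Ideal.ker_algebraMap_residueField]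
    exact hs ⟨M.comap ι, Ideal.comap_isPrime _ _, hp⟩ (hle (Ideal.subset_span ⟨_, rfl⟩))
  obtain ⟨T, hT1, hT2⟩ := Submodule.mem_span_finite_of_mem_span (htop ▸ Submodule.mem_top : (1 : F) ∈ _)
  choose idx hidx using fun x : T => hT1 x.2
  let m := Fintype.card T
  let eT := (Fintype.equivFin T).symm
  let qs : Fin m → {q : Ideal S // q.IsPrime ∧ q.comap (algebraMap R S) = p} := fun i => idx (eT i)
  -- a common stage
  have hcommon : ∀ n (f : Fin n → {q : Ideal S // q.IsPrime ∧ q.comap (algebraMap R S) = p}),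
      ∃ (R3 : Type u) (_ : CommRing R3) (_ : Algebra R R3) (_ : Algebra.Etale R R3) (ε3 : R3 →ₐ[R] K),
        ∀ i, ∃ α : R1 (f i) →ₐ[R] R3, ε3.comp α = ε1 (f i) := by
    intro n
    induction n with
    | zero => exact fun f => ⟨R, inferInstance, inferInstance, inferInstance, Algebra.ofId R K, fun i => i.elim0⟩
    | succ n ih =>
      intro f
      obtain ⟨Ra, _, _, _, εa, ha⟩ := ih fun i => f i.succ
      obtain ⟨R3, _, _, _, ε3, α1, α2, hα1, hα2⟩ := exists_common_stage (ε1 (f 0)) εa
      refine ⟨R3, inferInstance, inferInstance, inferInstance, ε3, fun i => ?_⟩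
      refine Fin.cases ⟨α1, hα1⟩ (fun i => ?_) i
      obtain ⟨α, hα⟩ := ha i
      exact ⟨α2.comp α, by rw [← AlgHom.comp_assoc, hα2, hα]⟩
  obtain ⟨R3, _, _, _, ε3, h3⟩ := hcommon m qs
  choose α hα using h3
  refine ⟨R3, inferInstance, inferInstance, inferInstance, ε3, m,
    fun i => Algebra.TensorProduct.map (α i) (AlgHom.id R S) (g1 (qs i)),
    fun i => ⟨L1 (qs i), j1 _, j2 _, j3 _, j4 _, j5 _, j6 _, (hg (qs i)).map hK (α i) (hα i)⟩, fun Q hQ hQR => ?_⟩
  by_contra hne
  push Not at hne
  haveI := hQ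
  let q := Q.comap (algebraMap S (R3 ⊗[R] S))
  have hqp : q.comap (algebraMap R S) = p := by
    show (Q.comap _).comap _ = p
    rw [Ideal.comap_comap, ← IsScalarTower.algebraMap_eq, IsScalarTower.algebraMap_eq R R3 (R3 ⊗[R] S), ← Ideal.comap_comap, hQR]
    ext r
    rw [Ideal.mem_comap, RingHom.mem_ker, AlgHom.commutes, Ideal.algebraMap_residueField_eq_zero]
  have hsq : ∀ i, s (qs i) ∈ q := fun i => by
    obtain ⟨v, hv, hvs⟩ := hrep (qs i)
    let φ := Algebra.TensorProduct.map (α i) (AlgHom.id R S)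
    have hI : (RingHom.ker (ε1 (qs i))).map (algebraMap (R1 (qs i)) (R1 (qs i) ⊗[R] S)) ≤ Q.comap φ.toRingHom :=
      Ideal.map_le_iff_le_comap.2 fun a ha => by
        show φ (a ⊗ₜ[R] (1 : S)) ∈ Q
        rw [Algebra.TensorProduct.map_tmul, map_one]
        refine (hQR.ge (?_ : α i a ∈ RingHom.ker ε3) : α i a ⊗ₜ[R] (1 : S) ∈ Q)
        rw [RingHom.mem_ker]
        exact (AlgHom.congr_fun (hα i) a).trans (RingHom.mem_ker.1 ha)
    have h1 : φ (algebraMap R (R1 (qs i) ⊗[R] S) v * g1 (qs i)) - φ (algebraMap S (R1 (qs i) ⊗[R] S) (s (qs i))) ∈ Q := by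
      rw [← map_sub]
      exact hI hvs
    have h2 : φ (algebraMap R (R1 (qs i) ⊗[R] S) v * g1 (qs i)) ∈ Q := by
      rw [map_mul]
      exact Q.mul_mem_left _ (hne i)
    have h3 := sub_mem h2 h1
    rw [sub_sub_cancel] at h3
    show algebraMap S (R3 ⊗[R] S) (s (qs i)) ∈ Q
    rw [show algebraMap S (R1 (qs i) ⊗[R] S) (s (qs i)) = (1 : R1 (qs i)) ⊗ₜ[R] s (qs i) from rfl,
      Algebra.TensorProduct.map_tmul, map_one, AlgHom.id_apply] at h3
    exact h3
  haveI : q.IsPrime := Ideal.comap_isPrime _ _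
  haveI : q.LiesOver p := ⟨hqp.symm⟩
  obtain ⟨_, _⟩ := exists_point_instances p q hqp
  let χ : F →ₐ[R] q.ResidueField :=
    Algebra.TensorProduct.lift (IsScalarTower.toAlgHom R K q.ResidueField) (IsScalarTower.toAlgHom R S q.ResidueField)
      fun _ _ => .all _ _
  have hχ : ∀ x ∈ T, χ x = 0 := fun x hx => by
    rw [show x = ι (s (idx ⟨x, hx⟩)) from (hidx ⟨x, hx⟩).symm]
    show Algebra.TensorProduct.lift _ _ _ ((1 : K) ⊗ₜ[R] s (idx ⟨x, hx⟩)) = 0
    rw [Algebra.TensorProduct.lift_tmul, map_one, one_mul]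
    refine Ideal.algebraMap_residueField_eq_zero.2 ?_
    have := hsq (eT.symm ⟨x, hx⟩)
    rwa [show qs (eT.symm ⟨x, hx⟩) = idx ⟨x, hx⟩ from congrArg idx (eT.apply_symm_apply _)] at this
  have h1 : (1 : F) ∈ RingHom.ker χ :=
    (Submodule.span_le.2 fun x hx => RingHom.mem_ker.2 (hχ x hx) : Submodule.span F (T : Set F) ≤ RingHom.ker χ) hT2
  rw [RingHom.mem_ker, map_one] at h1
  exact one_ne_zero h1

/-- A stage projective off the zero set of a function equal to one on the fibre, inverting a given function of the base. -/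
theorem exists_stage_cover_unit (hflat : ∀ (q : Ideal S) [q.IsPrime], q.LiesOver p → FlatCA.FlatAt R q N)
    (b : R) (hb : b ∉ p) :
    ∃ (R' : Type u) (_ : CommRing R') (_ : Algebra R R') (_ : Algebra.Etale R R') (ε : R' →ₐ[R] p.ResidueField)
      (t : R' ⊗[R] S), IsUnit (algebraMap R R' b) ∧ t - 1 ∈ (RingHom.ker ε).map (algebraMap R' (R' ⊗[R] S)) ∧
      Module.Projective R' (LocalizedModule (Submonoid.powers t) ((R' ⊗[R] S) ⊗[S] N)) := by
  classical
  let K := p.ResidueField
  have hK : FracPoint R K := fracPoint_residueField p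
  obtain ⟨R3, _, _, _, ε3, m, g, hg, hcov⟩ := exists_cover_stages N p hflat
  let SA := R3 ⊗[R] S
  let I := (RingHom.ker ε3).map (algebraMap R3 SA)
  obtain ⟨f0, hf0, hmem⟩ : ∃ f0 : R3, ε3 f0 ≠ 0 ∧ algebraMap R3 SA f0 ∈ Ideal.span (Set.range g) ⊔ I := by
    by_contra hne
    push Not at hne
    let W : Submonoid SA := Submonoid.map (algebraMap R3 SA)
      { carrier := {a | ε3 a ≠ 0},
        mul_mem' := fun {a b} ha hb => show ε3 (a * b) ≠ 0 by rw [map_mul]; exact mul_ne_zero ha hb,
        one_mem' := show ε3 1 ≠ 0 by rw [map_one]; exact one_ne_zero }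
    obtain ⟨Q, hQ, hle, hQW⟩ := Ideal.exists_le_prime_disjoint (Ideal.span (Set.range g) ⊔ I) W (Set.disjoint_left.2
      fun y hy hyW => by
        obtain ⟨a, ha, rfl⟩ := hyW
        exact hne a ha hy)
    obtain ⟨i, hi⟩ := hcov Q hQ (le_antisymm (fun a ha => RingHom.mem_ker.2 (by
      by_contra h0
      exact Set.disjoint_left.1 hQW ha ⟨a, h0, rfl⟩)) (Ideal.map_le_iff_le_comap.1 (le_sup_right.trans hle)))
    exact hi (hle (Ideal.mem_sup_left (Ideal.subset_span ⟨i, rfl⟩)))
  obtain ⟨t0, ht0, r0, hr0, hsum⟩ := Submodule.mem_sup.1 hmem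
  have hshrink : ∀ i, ∃ f : R3, ε3 f ≠ 0 ∧ ∀ (R2 : Type u) [CommRing R2] [Algebra R R2] (ε2 : R2 →ₐ[R] K) (α : R3 →ₐ[R] R2),
      ε2.comp α = ε3 → IsUnit (α f) → Module.Projective R2
        (LocalizedModule (Submonoid.powers (Algebra.TensorProduct.map α (AlgHom.id R S) (g i * t0))) ((R2 ⊗[R] S) ⊗[S] N)) := by
    intro i
    obtain ⟨L, _, _, _, _, _, _, hi⟩ := hg i
    obtain ⟨f, hf, hk⟩ := GoodStage.shrink hK hi (t := t0) (fun h0 => hf0 (by
      have hI : I ≤ RingHom.ker (pt L S ε3) := Ideal.map_le_iff_le_comap.2 fun a ha => by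
        rw [Ideal.mem_comap, RingHom.mem_ker]
        show pt L S ε3 (a ⊗ₜ[R] (1 : S)) = 0
        rw [pt_tmul, RingHom.mem_ker.1 ha, map_zero, zero_mul]
      have h1 : pt L S ε3 (algebraMap R3 SA f0) = 0 := by rw [← hsum, map_add, h0, RingHom.mem_ker.1 (hI hr0), add_zero]
      change pt L S ε3 (f0 ⊗ₜ[R] (1 : S)) = 0 at h1
      rwa [pt_tmul, map_one, mul_one, map_eq_zero] at h1))
    exact ⟨f, hf, fun R2 _ _ ε2 α hα hu => by
      letI := ε2.toRingHom.toAlgebra
      exact Good.proj (hk R2 ε2 α hα hu)⟩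
  choose f hf hk using hshrink
  obtain ⟨R4, _, _, _, ε4, α, hα, hu⟩ := exists_away_stage ε3 (f := f0 * algebraMap R R3 b * ∏ i, f i) (by
    rw [map_mul, map_mul, map_prod, AlgHom.commutes]
    exact mul_ne_zero (mul_ne_zero hf0 fun h => hb (Ideal.algebraMap_residueField_eq_zero.1 h))
      (Finset.prod_ne_zero_iff.2 fun i _ => hf i))
  rw [map_mul, map_mul, AlgHom.commutes] at hu
  have hub : IsUnit (algebraMap R R4 b) := isUnit_of_mul_isUnit_right (isUnit_of_mul_isUnit_left hu)
  obtain ⟨w, hw⟩ := isUnit_of_mul_isUnit_left (isUnit_of_mul_isUnit_left hu)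
  have huf : ∀ i, IsUnit (α (f i)) := fun i =>
    isUnit_of_dvd_unit (map_dvd α (Finset.dvd_prod_of_mem f (Finset.mem_univ i))) (isUnit_of_mul_isUnit_right hu)
  let φ := Algebra.TensorProduct.map α (AlgHom.id R S)
  let S4 := R4 ⊗[R] S
  let t : S4 := algebraMap R4 S4 (↑w⁻¹) * φ t0
  have hφR : ∀ a : R3, φ (algebraMap R3 SA a) = algebraMap R4 S4 (α a) := fun a => by
    show φ (a ⊗ₜ[R] (1 : S)) = α a ⊗ₜ[R] (1 : S)
    rw [Algebra.TensorProduct.map_tmul, map_one]
  refine ⟨R4, inferInstance, inferInstance, inferInstance, ε4, t, hub, ?_, ?_⟩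
  · have h1 : φ r0 ∈ (RingHom.ker ε4).map (algebraMap R4 S4) := by
      refine (Ideal.map_le_iff_le_comap.2 fun a ha => ?_ :
        I ≤ ((RingHom.ker ε4).map (algebraMap R4 S4)).comap φ.toRingHom) hr0
      rw [Ideal.mem_comap, Ideal.mem_comap, show φ.toRingHom (algebraMap R3 SA a) = φ (algebraMap R3 SA a) from rfl, hφR]
      exact Ideal.mem_map_of_mem _ (RingHom.mem_ker.2 ((AlgHom.congr_fun hα a).trans (RingHom.mem_ker.1 ha)))
    have h2 : φ t0 = algebraMap R4 S4 (α f0) - φ r0 := by rw [← hφR, ← hsum, map_add]; ring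
    have h3 : t - 1 = - (algebraMap R4 S4 (↑w⁻¹) * φ r0) := by
      show algebraMap R4 S4 (↑w⁻¹) * φ t0 - 1 = _
      rw [h2, mul_sub, ← map_mul, ← hw, Units.inv_mul, map_one]
      ring
    rw [h3]
    exact neg_mem (Ideal.mul_mem_left _ _ h1)
  letI := ε4.toRingHom.toAlgebra
  haveI : Algebra.FiniteType R4 S4 := inferInstance
  haveI : Module.Finite S4 (S4 ⊗[S] N) := inferInstance
  refine projective_of_span (fun i => φ (g i)) ?_ fun i => ?_
  · refine Ideal.mul_mem_left _ _ ?_
    have := Ideal.mem_map_of_mem φ.toRingHom ht0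
    rw [Ideal.map_span, ← Set.range_comp] at this
    exact this
  · have hp := hk i R4 ε4 α hα (huf i)
    have heq : φ (g i) * t = algebraMap R4 S4 (↑w⁻¹) * φ (g i * t0) := by
      rw [map_mul]; ring
    rw [heq]
    let u := algebraMap R4 S4 (↑w⁻¹)
    have hu' : IsUnit u := (w⁻¹.isUnit).map _
    let iL := LocalizedModule.mkLinearMap (Submonoid.powers (φ (g i * t0))) (S4 ⊗[S] N)
    haveI : IsLocalizedModule (Submonoid.powers (u * φ (g i * t0))) iL :=
      { map_units := by
          rintro ⟨_, k, rfl⟩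
          have h1 := IsLocalizedModule.map_units iL
            (⟨φ (g i * t0) ^ k, k, rfl⟩ : Submonoid.powers (φ (g i * t0)))
          simp only [mul_pow, map_mul, map_pow] at h1 ⊢
          exact ((hu'.map _).pow k).mul h1
        surj := fun y => by
          obtain ⟨⟨x, ⟨_, k, rfl⟩⟩, hx⟩ := IsLocalizedModule.surj (Submonoid.powers (φ (g i * t0))) iL y
          refine ⟨⟨u ^ k • x, ⟨(u * φ (g i * t0)) ^ k, k, rfl⟩⟩, ?_⟩
          show (u * φ (g i * t0)) ^ k • y = iL (u ^ k • x)
          rw [mul_pow, mul_smul, map_smul]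
          exact congrArg (u ^ k • ·) hx
        exists_of_eq := fun {a b} hab => by
          obtain ⟨⟨_, k, rfl⟩, hk⟩ := IsLocalizedModule.exists_of_eq (S := Submonoid.powers (φ (g i * t0))) (f := iL) hab
          refine ⟨⟨(u * φ (g i * t0)) ^ k, k, rfl⟩, ?_⟩
          show (u * φ (g i * t0)) ^ k • a = (u * φ (g i * t0)) ^ k • b
          rw [mul_pow, mul_smul, mul_smul]
          exact congrArg (u ^ k • ·) hk }
    exact Module.Projective.of_equiv
      ((IsLocalizedModule.iso (Submonoid.powers (u * φ (g i * t0))) iL).restrictScalars R4).symm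

/-- A stage projective off the zero set of a function equal to one on the fibre. -/
theorem exists_stage_cover (hflat : ∀ (q : Ideal S) [q.IsPrime], q.LiesOver p → FlatCA.FlatAt R q N) :
    ∃ (R' : Type u) (_ : CommRing R') (_ : Algebra R R') (_ : Algebra.Etale R R') (ε : R' →ₐ[R] p.ResidueField)
      (t : R' ⊗[R] S), t - 1 ∈ (RingHom.ker ε).map (algebraMap R' (R' ⊗[R] S)) ∧
      Module.Projective R' (LocalizedModule (Submonoid.powers t) ((R' ⊗[R] S) ⊗[S] N)) := by
  obtain ⟨R', i1, i2, i3, ε, t, -, h1, h2⟩ :=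
    exists_stage_cover_unit N p hflat 1 ((Ideal.ne_top_iff_one p).1 ‹p.IsPrime›.ne_top)
  exact ⟨R', i1, i2, i3, ε, t, h1, h2⟩

end Groth.Agent.H4RG
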