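import Groth.Prelude
import Groth.Agent.H4RG.FiberTools
import Mathlib

/-!
# Modules projective over the base are universally pure
-/

set_option autoImplicit false
set_option linter.style.haveILetI false
set_option backward.isDefEq.respectTransparency.types false

universe u

open TensorProduct

namespace Groth.Agent.H4RG

attribute [local instance] Algebra.TensorProduct.rightAlgebra

/-- Associated primes of fibres of a projective module specialise to the fibre over every specialisation. -/
theorem exists_specialization_of_projective {A B : Type u} [CommRing A] [CommRing B] [Algebra A B] (N : Type u)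
    [AddCommGroup N] [Module B N] [Module A N] [IsScalarTower A B N] [Module.Projective A N] (t' t : Ideal A)
    [t'.IsPrime] [t.IsPrime] (ht : t' ≤ t) (P : Ideal B) [P.IsPrime]
    (hP : FlatCA.fiberIdeal t' P ∈ associatedPrimes (t'.Fiber B) (FlatCA.fiberMod t' B N)) :
    ∃ P' : Ideal B, P'.IsPrime ∧ P ≤ P' ∧ P'.comap (algebraMap A B) = t := by
  by_contra hne
  push Not at hne
  -- an element of `P` which is a unit on the fibre over `t`
  obtain ⟨x, hx, u, hu, hxu⟩ : ∃ x ∈ P, ∃ u ∉ t, algebraMap A B u - x ∈ t.map (algebraMap A B) := by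
    by_contra hne'
    push Not at hne'
    let J := P ⊔ t.map (algebraMap A B)
    have hd : Disjoint (J : Set B) (Algebra.algebraMapSubmonoid B t.primeCompl) := by
      rw [Set.disjoint_left]
      rintro _ hy ⟨u, hu, rfl⟩
      obtain ⟨a, ha, b, hb, hab⟩ := Submodule.mem_sup.1 hy
      exact hne' a ha u hu (by rw [← hab, add_sub_cancel_left]; exact hb)
    obtain ⟨Q, hQ, hJQ, hQd⟩ := Ideal.exists_le_prime_disjoint J _ hd
    refine hne Q hQ (le_sup_left.trans hJQ) (le_antisymm (fun a ha => ?_) ?_)
    · by_contra hat
      exact Set.disjoint_left.1 hQd ha ⟨a, hat, rfl⟩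
    · exact Ideal.map_le_iff_le_comap.1 (le_sup_right.trans hJQ)
  obtain ⟨e⟩ := exists_fiber_equiv (R := A) (S := B) N t'
  obtain ⟨m, hm0, hm⟩ := exists_smul_eq_zero_of_mem_assoc hP
    (Ideal.mem_map_of_mem (Algebra.TensorProduct.includeRight (R := A) (A := t'.ResidueField) (B := B)).toRingHom hx)
  have hinj : ∀ w : N ⊗[A] t.ResidueField, x • w = 0 → w = 0 := fun w hw => by
    have hzero : ∀ b ∈ t.map (algebraMap A B), b • w = 0 := fun b hb => by
      have hle : t.map (algebraMap A B) ≤ (Submodule.span B {w}).annihilator := by
        refine Ideal.map_le_iff_le_comap.2 fun a ha => ?_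
        rw [Ideal.mem_comap, Submodule.mem_annihilator_span_singleton, algebraMap_smul]
        clear hw
        induction w using TensorProduct.induction_on with
        | zero => rw [smul_zero]
        | add p q hp hq => rw [smul_add, hp, hq, add_zero]
        | tmul n c =>
          rw [← tmul_smul, Algebra.smul_def, Ideal.algebraMap_residueField_eq_zero.2 ha, zero_mul, tmul_zero]
      exact (Submodule.mem_annihilator_span_singleton _ _).1 (hle hb)
    have h1 : algebraMap A B u • w = 0 := by
      rw [← sub_add_cancel (algebraMap A B u) x, add_smul, hw, add_zero, hzero _ hxu]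
    have hu0 : algebraMap A t.ResidueField u ≠ 0 := fun h => hu (Ideal.algebraMap_residueField_eq_zero.1 h)
    rw [algebraMap_smul] at h1
    have h2 := congrArg ((LinearMap.mulLeft A (algebraMap A t.ResidueField u)⁻¹).lTensor N) h1
    rw [map_zero, map_smul] at h2
    rw [← h2]
    clear h1 h2 hzero hw
    induction w using TensorProduct.induction_on with
    | zero => simp
    | add p q hp hq => rw [map_add, smul_add, ← hp, ← hq]
    | tmul n c =>
      rw [LinearMap.lTensor_tmul, ← tmul_smul, LinearMap.mulLeft_apply, Algebra.smul_def, ← mul_assoc,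
        mul_inv_cancel₀ hu0, one_mul]
  have hw0 : x • e.symm m = 0 := by
    rw [← map_smul, ← show algebraMap B (t'.Fiber B) x • m = x • m from
      IsScalarTower.algebraMap_smul (M := (t'.Fiber B) ⊗[B] N) (t'.Fiber B) x m]
    exact (congrArg e.symm hm).trans (map_zero _)
  obtain ⟨v, hv, hv0⟩ := eq_zero_of_projective N (residueField_frac t) x hinj t'.ResidueField (e.symm m) hw0
  refine hm0 (e.symm.injective ?_)
  have hv' : algebraMap A t'.ResidueField v ≠ 0 := fun h =>
    hv (Ideal.algebraMap_residueField_eq_zero.2 (ht (Ideal.algebraMap_residueField_eq_zero.1 h)))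
  have h3 := congrArg ((LinearMap.mulLeft A (algebraMap A t'.ResidueField v)⁻¹).lTensor N) hv0
  rw [map_zero, map_smul] at h3
  rw [map_zero, ← h3]
  generalize e.symm m = w
  induction w using TensorProduct.induction_on with
  | zero => simp
  | add p q hp hq => rw [map_add, smul_add, ← hp, ← hq]
  | tmul n c =>
    rw [LinearMap.lTensor_tmul, ← tmul_smul, LinearMap.mulLeft_apply, Algebra.smul_def, ← mul_assoc,
      mul_inv_cancel₀ hv', one_mul]

end Groth.Agent.H4RG
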