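import Groth.Prelude
import Groth.Agent.H4RG.StageCover
import Groth.Agent.H4RG.FiberTools
import Groth.Agent.H4RG.UnivPure
import Groth.Agent.AssFiber.Basic
import Mathlib

/-!
# Associated points of fibres and impurities under base change
-/

set_option autoImplicit false
set_option linter.style.haveILetI false
set_option backward.isDefEq.respectTransparency.types false

universe u

open TensorProduct

namespace Groth.Agent.H4RG

attribute [local instance] Algebra.TensorProduct.rightAlgebra

section fiber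

variable {R S : Type u} [CommRing R] [CommRing S] [Algebra R S] (p : Ideal R) [p.IsPrime]

/-- A prime of a fibre ring lies over the base prime. -/
theorem comap_fiber_eq (Q : Ideal (p.Fiber S)) [Q.IsPrime] :
    (Q.comap (algebraMap S (p.Fiber S))).comap (algebraMap R S) = p := by
  rw [Ideal.comap_comap, ← IsScalarTower.algebraMap_eq, IsScalarTower.algebraMap_eq R p.ResidueField (p.Fiber S),
    ← Ideal.comap_comap, show Q.comap (algebraMap p.ResidueField (p.Fiber S)) = ⊥ from
      (Ideal.eq_bot_or_top _).resolve_right (Ideal.comap_ne_top _ ‹Q.IsPrime›.ne_top), ← RingHom.ker_eq_comap_bot,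
    Ideal.ker_algebraMap_residueField]

/-- A prime of a fibre ring is extended from the algebra. -/
theorem fiberIdeal_comap (Q : Ideal (p.Fiber S)) [Q.IsPrime] :
    FlatCA.fiberIdeal p (Q.comap (algebraMap S (p.Fiber S))) = Q := by
  refine le_antisymm (Ideal.map_le_iff_le_comap.2 fun x hx => hx) fun b hb => ?_
  obtain ⟨r, hr, s, hs⟩ := AssFiber.exists_smul_eq_includeRight p b
  have hs' : algebraMap S (p.Fiber S) s ∈ Q := by
    show (1 : p.ResidueField) ⊗ₜ[R] s ∈ Q
    rw [← hs]
    exact Q.mul_mem_left _ hb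
  refine (Ideal.unit_mul_mem_iff_mem _ (isUnit_fiber p hr)).1 ?_
  show (1 : p.ResidueField) ⊗ₜ[R] algebraMap R S r * b ∈ _
  rw [hs]
  exact Ideal.mem_map_of_mem _ hs'

/-- A prime over the base prime is contracted from its extension to the fibre ring. -/
theorem mem_fiberIdeal_iff {P : Ideal S} [P.IsPrime] (hP : P.comap (algebraMap R S) = p) (s : S) :
    algebraMap S (p.Fiber S) s ∈ FlatCA.fiberIdeal p P ↔ s ∈ P := by
  haveI : P.LiesOver p := ⟨hP.symm⟩
  exact ⟨fun h => mem_of_mem_fiberIdeal p P h, fun h => Ideal.mem_map_of_mem _ h⟩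

end fiber

/-- Associated points of fibres lift along base change. -/
theorem exists_assoc_over {R S R2 S2 : Type u} [CommRing R] [CommRing S] [CommRing R2] [CommRing S2]
    [Algebra R S] [Algebra R R2] [Algebra S S2] [Algebra R2 S2] [Algebra R S2] [IsScalarTower R S S2]
    [IsScalarTower R R2 S2] [Algebra.IsPushout R S R2 S2] [Algebra.FiniteType R S]
    (M : Type u) [AddCommGroup M] [Module S M] [Module R M] [IsScalarTower R S M]
    (M2 : Type u) [AddCommGroup M2] [Module S2 M2] [Module S M2] [IsScalarTower S S2 M2] [Module R2 M2]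
    [IsScalarTower R2 S2 M2] (f : M →ₗ[S] M2) (hf : IsBaseChange S2 f)
    (p : Ideal R) [p.IsPrime] (p2 : Ideal R2) [p2.IsPrime] (hp : p2.comap (algebraMap R R2) = p)
    (P : Ideal S) [P.IsPrime] (hP : P.comap (algebraMap R S) = p)
    (hass : FlatCA.fiberIdeal p P ∈ associatedPrimes (p.Fiber S) (FlatCA.fiberMod p S M)) :
    ∃ P2 : Ideal S2, P2.IsPrime ∧ P2.comap (algebraMap S S2) = P ∧ P2.comap (algebraMap R2 S2) = p2 ∧
      FlatCA.fiberIdeal p2 P2 ∈ associatedPrimes (p2.Fiber S2) (FlatCA.fiberMod p2 S2 M2) := by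
  classical
  let K := p.ResidueField
  let L := p2.ResidueField
  obtain ⟨_, _⟩ := exists_point_instances p p2 hp
  haveI : Algebra.IsPushout R R2 S S2 := Algebra.IsPushout.symm inferInstance
  haveI : Algebra.FiniteType R2 S2 :=
    Algebra.FiniteType.equiv (inferInstance : Algebra.FiniteType R2 (R2 ⊗[R] S)) (Algebra.IsPushout.equiv R R2 S S2)
  haveI : IsNoetherianRing (p.Fiber S) := Algebra.FiniteType.isNoetherianRing K _
  haveI : IsNoetherianRing (p2.Fiber S2) := Algebra.FiniteType.isNoetherianRing L _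
  obtain ⟨hprime, m, hm⟩ := isAssociatedPrime_iff.1 hass
  obtain ⟨e⟩ := exists_fiber_equiv (R := R) (S := S) M p
  obtain ⟨e2⟩ := exists_fiber_equiv (R := R2) (S := S2) M2 p2
  set x0 := e.symm m with hx0
  have hPx : ∀ s : S, s • x0 = 0 ↔ s ∈ P := fun s => by
    have h1 : algebraMap S (p.Fiber S) s • m = s • m :=
      IsScalarTower.algebraMap_smul (M := p.Fiber S ⊗[S] M) (p.Fiber S) s m
    rw [← mem_fiberIdeal_iff p hP, hm, Submodule.mem_colon_singleton, Submodule.mem_bot, h1, hx0, ← map_smul,
      LinearEquiv.map_eq_zero_iff]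
  -- the base change map on the fibre modules
  haveI : SMulCommClass R2 S M2 := ⟨fun a s y => by
    rw [← algebraMap_smul S2 a, ← algebraMap_smul S2 s, smul_comm, algebraMap_smul S2 s, algebraMap_smul S2 a]⟩
  letI : Module R M2 := Module.compHom M2 (algebraMap R R2)
  haveI : IsScalarTower R R2 M2 := IsScalarTower.of_algebraMap_smul fun _ _ => rfl
  haveI : IsScalarTower R S M2 := IsScalarTower.of_algebraMap_smul fun r y => by
    rw [← algebraMap_smul S2 (algebraMap R S r), ← IsScalarTower.algebraMap_apply, IsScalarTower.algebraMap_apply R R2 S2,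
      algebraMap_smul]
    rfl
  let J : M ⊗[R] L →ₗ[S] M2 ⊗[R2] L :=
    AlgebraTensorModule.lift
      { toFun := fun y =>
          { toFun := fun c => f y ⊗ₜ[R2] c
            map_add' := fun a b => tmul_add _ _ _
            map_smul' := fun r c => by
              rw [RingHom.id_apply, ← algebraMap_smul R2 r c, ← smul_tmul, algebraMap_smul, smul_tmul'] }
        map_add' := fun a b => LinearMap.ext fun c => by
          show f (a + b) ⊗ₜ[R2] c = f a ⊗ₜ c + f b ⊗ₜ c
          rw [map_add, add_tmul]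
        map_smul' := fun s a => LinearMap.ext fun c => by
          show f (s • a) ⊗ₜ[R2] c = s • (f a ⊗ₜ[R2] c)
          rw [map_smul, smul_tmul'] }
  have hJ : Function.Bijective J := by
    let E : R2 ⊗[R] M ≃ₗ[R2] M2 :=
      (Algebra.IsPushout.cancelBaseChange R R2 S S2 M).symm.trans (hf.equiv.restrictScalars R2)
    let ψ := ((TensorProduct.comm R M L).toAddEquiv.trans
      (AlgebraTensorModule.cancelBaseChange R R2 R2 L M).symm.toAddEquiv).trans
      ((TensorProduct.AlgebraTensorModule.congr (LinearEquiv.refl R2 L) E).toAddEquiv.trans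
        (TensorProduct.comm R2 L M2).toAddEquiv)
    have hψ : (J : M ⊗[R] L → M2 ⊗[R2] L) = ψ := funext fun w => by
      induction w using TensorProduct.induction_on with
      | zero => simp
      | add a b ha hb => simp only [map_add, ha, hb]
      | tmul y c =>
        have hE : E ((1 : R2) ⊗ₜ[R] y) = f y := by
          show hf.equiv ((Algebra.IsPushout.cancelBaseChange R R2 S S2 M).symm ((1 : R2) ⊗ₜ[R] y)) = f y
          rw [Algebra.IsPushout.cancelBaseChange_symm_tmul, map_one, hf.equiv_tmul, one_smul]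
        show f y ⊗ₜ[R2] c = ψ (y ⊗ₜ[R] c)
        simp [ψ, hE]
    rw [hψ]
    exact ψ.bijective
  let Je := LinearEquiv.ofBijective J hJ
  let j : M ⊗[R] K →ₗ[S] M ⊗[R] L := AlgebraTensorModule.lTensor S M ((Algebra.linearMap K L).restrictScalars R)
  let bs := Module.Free.chooseBasis K L
  let π : Module.Free.ChooseBasisIndex K L → (M ⊗[R] L →ₗ[S] M ⊗[R] K) := fun i =>
    AlgebraTensorModule.lTensor S M ((bs.coord i).restrictScalars R)
  have hπ : ∀ z, (∀ i, π i z = 0) → z = 0 := fun z hz => by
    let e1 : M ⊗[R] L ≃ₗ[R] (Module.Free.ChooseBasisIndex K L →₀ M ⊗[R] K) :=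
      (TensorProduct.congr (LinearEquiv.refl R M) (bs.repr.restrictScalars R)).trans
        (TensorProduct.finsuppRight R R M K _)
    have hc : ∀ w i, e1 w i = π i w := fun w i => by
      induction w using TensorProduct.induction_on with
      | zero => simp
      | add a b ha hb => simp only [map_add, Finsupp.add_apply, ha, hb]
      | tmul y c => simp [e1, π]
    exact e1.injective ((Finsupp.ext fun i => by rw [hc, hz, Finsupp.zero_apply]).trans (map_zero e1).symm)
  let D : Set (M ⊗[R] L) := {z | ∀ i, ∃ u ∉ p, ∃ s : S, u • π i z = s • x0}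
  have hD : ∀ b : S2, ∃ z ∈ D, J z = b • J (j x0) := by
    intro b
    refine IsBaseChange.inductionOn (Algebra.IsPushout.out (R := R) (S := S) (R' := R2) (S' := S2)) b (fun b => ∃ z ∈ D, J z = b • J (j x0)) ?_ ?_ ?_ ?_
    · exact ⟨0, fun i => ⟨1, fun h => ‹p.IsPrime›.ne_top ((Ideal.eq_top_iff_one _).2 h), 0, by simp⟩, by simp⟩
    · intro a
      let μ : M ⊗[R] L →ₗ[S] M ⊗[R] L :=
        AlgebraTensorModule.lTensor S M (LinearMap.mulLeft R (algebraMap R2 L a))
      have hμ : ∀ z, J (μ z) = a • J z := fun z => by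
        induction z using TensorProduct.induction_on with
        | zero => simp
        | add v w hv hw => simp only [map_add, smul_add, hv, hw]
        | tmul y c =>
          show f y ⊗ₜ[R2] (algebraMap R2 L a * c) = a • (f y ⊗ₜ[R2] c)
          rw [← tmul_smul, Algebra.smul_def]
      refine ⟨μ (j x0), fun i => ?_, by
        rw [hμ, show (IsScalarTower.toAlgHom R R2 S2).toLinearMap a = algebraMap R2 S2 a from rfl, algebraMap_smul]⟩
      let lam := bs.coord i (algebraMap R2 L a)
      have hlam : ∀ w, π i (μ (j w)) = AlgebraTensorModule.lTensor S M (LinearMap.mulLeft R lam) w := fun w => by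
        induction w using TensorProduct.induction_on with
        | zero => simp
        | add v w hv hw => simp only [map_add, hv, hw]
        | tmul y c =>
          show y ⊗ₜ[R] bs.coord i (algebraMap R2 L a * algebraMap K L c) = y ⊗ₜ[R] (lam * c)
          rw [mul_comm, ← Algebra.smul_def, map_smul, smul_eq_mul, mul_comm]
      obtain ⟨r, u, hu, hur⟩ := residueField_frac p lam
      refine ⟨u, fun h => hu (Ideal.algebraMap_residueField_eq_zero.2 h), algebraMap R S r, ?_⟩
      rw [hlam, algebraMap_smul]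
      induction x0 using TensorProduct.induction_on with
      | zero => simp
      | add v w hv hw => rw [map_add, smul_add, hv, hw, smul_add]
      | tmul y c =>
        show u • (y ⊗ₜ[R] (lam * c)) = r • (y ⊗ₜ[R] c)
        rw [← tmul_smul, ← tmul_smul, Algebra.smul_def, Algebra.smul_def, ← mul_assoc, hur]
    · rintro s b' ⟨z, hz, hzb⟩
      refine ⟨s • z, fun i => ?_, by rw [map_smul, hzb, smul_assoc]⟩
      obtain ⟨u, hu, s', hs'⟩ := hz i
      exact ⟨u, hu, s * s', by rw [map_smul, smul_comm, hs', smul_smul]⟩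
    · rintro b1 b2 ⟨z, hz, hzb⟩ ⟨z', hz', hzb'⟩
      refine ⟨z + z', fun i => ?_, by rw [map_add, hzb, hzb', add_smul]⟩
      obtain ⟨u, hu, s, hs⟩ := hz i
      obtain ⟨u', hu', s', hs'⟩ := hz' i
      refine ⟨u * u', fun h => (‹p.IsPrime›.mem_or_mem h).elim hu hu', algebraMap R S u' * s + algebraMap R S u * s', ?_⟩
      rw [map_add, smul_add, add_smul, mul_smul (algebraMap R S u'), mul_smul (algebraMap R S u), algebraMap_smul,
        algebraMap_smul, ← hs, ← hs', smul_smul, smul_smul, mul_comm u' u]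
  have hm0 : m ≠ 0 := fun h0 => hprime.ne_top (by
    rw [hm, h0, Ideal.eq_top_iff_one, Submodule.mem_colon_singleton, smul_zero]
    exact zero_mem _)
  have hx00 : x0 ≠ 0 := fun h0 => hm0 (e.symm.injective (h0.trans (map_zero e.symm).symm))
  have hjx : J (j x0) ≠ 0 := fun h0 => by
    obtain ⟨σ, hσ⟩ := (Algebra.linearMap K L).exists_leftInverse_of_injective
      (LinearMap.ker_eq_bot.2 (algebraMap K L).injective)
    have hinv : ∀ w, AlgebraTensorModule.lTensor S M (σ.restrictScalars R) (j w) = w := fun w => by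
      induction w using TensorProduct.induction_on with
      | zero => simp
      | add v w hv hw => simp only [map_add, hv, hw]
      | tmul y c =>
        show y ⊗ₜ[R] σ (Algebra.linearMap K L c) = _
        rw [show σ (Algebra.linearMap K L c) = c from LinearMap.congr_fun hσ c]
    have h1 : j x0 = 0 := hJ.1 (h0.trans (map_zero J).symm)
    exact hx00 (by rw [← hinv x0, h1, map_zero])
  let F2 := p2.Fiber S2
  set m2 := e2 (J (j x0)) with hm2
  let W : Submodule F2 (FlatCA.fiberMod p2 S2 M2) := Submodule.span F2 {m2}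
  have hm20 : (⟨m2, Submodule.mem_span_singleton_self _⟩ : W) ≠ 0 := fun h0 => by
    have : m2 = 0 := congrArg Subtype.val h0
    exact hjx (e2.injective (this.trans (map_zero e2).symm))
  obtain ⟨Q, hQ, hle⟩ := exists_le_isAssociatedPrime_of_isNoetherianRing F2 _ hm20
  haveI := hQ.isPrime
  have hsmul : ∀ (b : S2) (y : FlatCA.fiberMod p2 S2 M2), algebraMap S2 F2 b • y = b • y :=
    fun b y => IsScalarTower.algebraMap_smul (M := F2 ⊗[S2] M2) F2 b y
  refine ⟨Q.comap (algebraMap S2 F2), Ideal.comap_isPrime _ _, le_antisymm (fun s hs => ?_) (fun s hs => ?_),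
    comap_fiber_eq p2 Q, ?_⟩
  · by_contra hsP
    obtain ⟨-, y, hy⟩ := isAssociatedPrime_iff.1 hQ
    obtain ⟨⟨y, hyW⟩, rfl⟩ : ∃ y' : W, y' = y := ⟨y, rfl⟩
    obtain ⟨c, rfl⟩ := Submodule.mem_span_singleton.1 hyW
    obtain ⟨r, hr, b, hb⟩ := AssFiber.exists_smul_eq_includeRight p2 c
    change algebraMap S2 F2 (algebraMap R2 S2 r) * c = algebraMap S2 F2 b at hb
    obtain ⟨z, hzD, hz⟩ := hD b
    have h1 : algebraMap S2 F2 (algebraMap S S2 s) • (c • m2) = 0 := by
      rw [Ideal.mem_comap, Ideal.mem_comap, hy, Submodule.mem_colon_singleton, Submodule.mem_bot] at hs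
      exact congrArg Subtype.val hs
    have hne : c • m2 ≠ 0 := fun h0 => hQ.isPrime.ne_top (by
      rw [hy, Ideal.eq_top_iff_one, Submodule.mem_colon_singleton, one_smul, Submodule.mem_bot]
      exact Subtype.ext h0)
    have hbne : b • m2 ≠ 0 := fun h0 => hne ((isUnit_fiber p2 hr).smul_eq_zero.1 (by rw [smul_smul, hb, hsmul, h0]))
    have hbs : algebraMap S S2 s • b • m2 = 0 := by
      rw [← hsmul b, ← hb, ← hsmul (algebraMap S S2 s), smul_smul, mul_left_comm, ← smul_smul, ← smul_smul, h1, smul_zero]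
    refine hbne ?_
    have hsz : s • z = 0 := hJ.1 (e2.injective (by
      rw [map_smul, hz, map_zero, map_zero, ← algebraMap_smul S2 s, map_smul, map_smul]
      exact hbs))
    have hz0 : z = 0 := hπ z fun i => by
      obtain ⟨u, hu, s', hs'⟩ := hzD i
      have h2 : (s * s') • x0 = 0 := by rw [mul_smul, ← hs', smul_comm, ← map_smul, hsz, map_zero, smul_zero]
      have h3 : u • π i z = 0 := by
        rw [hs']
        exact (hPx s').2 ((‹P.IsPrime›.mem_or_mem ((hPx _).1 h2)).resolve_left hsP)
      let w := π i z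
      let U : M ⊗[R] K →ₗ[S] M ⊗[R] K :=
        AlgebraTensorModule.lTensor S M (LinearMap.mulLeft R (algebraMap R K u)⁻¹)
      have hU : ∀ v, U (u • v) = v := fun v => by
        induction v using TensorProduct.induction_on with
        | zero => simp
        | add a c ha hc => simp only [smul_add, map_add, ha, hc]
        | tmul y c =>
          rw [← tmul_smul]
          show y ⊗ₜ[R] ((algebraMap R K u)⁻¹ * (u • c)) = y ⊗ₜ[R] c
          rw [Algebra.smul_def, inv_mul_cancel_left₀ fun h0 => hu (Ideal.algebraMap_residueField_eq_zero.1 h0)]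
      rw [← hU (π i z), h3, map_zero]
    rw [hm2, ← map_smul, ← hz, hz0, map_zero, map_zero]
  · refine hle ?_
    rw [Submodule.mem_colon_singleton, Submodule.mem_bot]
    apply Subtype.ext
    show algebraMap S2 F2 (algebraMap S S2 s) • m2 = 0
    rw [hsmul, hm2, ← map_smul, algebraMap_smul, ← map_smul, ← map_smul, (hPx s).2 hs, map_zero, map_zero, map_zero]
  · rw [fiberIdeal_comap]
    exact hQ.map_of_injective W.subtype Subtype.val_injective

/-- An impurity does not survive a flat base change over which the module becomes projective. -/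
theorem not_impurity_of_projective {A B : Type u} [CommRing A] [CommRing B] [Algebra A B] [Algebra.FiniteType A B]
    {N : Type u} [AddCommGroup N] [Module B N] {p : Ideal A} [p.IsPrime]
    {A' B' N' : Type u} [CommRing A'] [CommRing B'] [Algebra A A'] [Algebra B B'] [Algebra A' B'] [Algebra A B']
    [IsScalarTower A B B'] [IsScalarTower A A' B'] [AddCommGroup N'] [Module B' N'] [Module B N'] [IsScalarTower B B' N']
    [Module A' N'] [IsScalarTower A' B' N'] {f : N →ₗ[B] N'} {t' t : Ideal A'} [t'.IsPrime] [t.IsPrime]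
    {P : Ideal B'} [P.IsPrime] (himp : FlatCA.IsImpurity A B N p A' B' N' f t' t P)
    (A2 : Type u) [CommRing A2] [Algebra A' A2] [Module.Flat A' A2] (t2 : Ideal A2) [t2.IsPrime]
    (ht2 : t2.comap (algebraMap A' A2) = t) [Module.Projective A2 (A2 ⊗[A'] N')] : False := by
  obtain ⟨hpush, hbc, hle, _, hPt, hass, hno⟩ := himp
  haveI := hpush
  haveI : Algebra.IsPushout A A' B B' := Algebra.IsPushout.symm inferInstance
  haveI : Algebra.FiniteType A' B' :=
    Algebra.FiniteType.equiv (inferInstance : Algebra.FiniteType A' (A' ⊗[A] B)) (Algebra.IsPushout.equiv A A' B B')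
  haveI : t2.LiesOver t := ⟨ht2.symm⟩
  obtain ⟨t3, hle2, _, ht3⟩ := Ideal.exists_ideal_le_liesOver_of_le (p := t') (q := t) t2 hle
  let B2 := A2 ⊗[A'] B'
  let N2 := B2 ⊗[B'] N'
  haveI : Algebra.IsPushout A' A2 B' B2 := inferInstance
  haveI : Algebra.IsPushout A' B' A2 B2 := Algebra.IsPushout.symm inferInstance
  haveI : Module.Projective A2 N2 :=
    Module.Projective.of_equiv (Algebra.IsPushout.cancelBaseChange A' A2 B' B2 N').symm
  obtain ⟨P2, hP2, hP2P, hP2t, hass2⟩ := exists_assoc_over N' N2 (TensorProduct.mk B' B2 N' 1)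
    (TensorProduct.isBaseChange B' N' B2) t' t3 ht3.over.symm P hPt.over.symm hass
  obtain ⟨P3, hP3, hle3, hc⟩ := exists_specialization_of_projective N2 t3 t2 hle2 P2 hass2
  refine hno (P3.comap (algebraMap B' B2)) (hP2P ▸ Ideal.comap_mono hle3) ⟨?_⟩
  rw [Ideal.under_def, Ideal.comap_comap, ← IsScalarTower.algebraMap_eq, IsScalarTower.algebraMap_eq A' A2 B2,
    ← Ideal.comap_comap, hc, ht2]

/-- Two points over the same point give a point of the tensor product. -/
theorem exists_prime_over_pair {A A1 A2 : Type u} [CommRing A] [CommRing A1] [CommRing A2] [Algebra A A1] [Algebra A A2]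
    (t : Ideal A1) [t.IsPrime] (z : Ideal A2) [z.IsPrime]
    (h : t.comap (algebraMap A A1) = z.comap (algebraMap A A2)) :
    ∃ (T : Ideal (A1 ⊗[A] A2)), T.IsPrime ∧ T.comap (algebraMap A1 (A1 ⊗[A] A2)) = t ∧
      T.comap (algebraMap A2 (A1 ⊗[A] A2)) = z := by
  let p := t.comap (algebraMap A A1)
  haveI : p.IsPrime := Ideal.comap_isPrime _ _
  obtain ⟨_, _⟩ := exists_point_instances p t rfl
  obtain ⟨_, _⟩ := exists_point_instances p z h.symm
  obtain ⟨Q, hQ⟩ := Ideal.exists_maximal (t.ResidueField ⊗[p.ResidueField] z.ResidueField)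
  haveI := hQ
  let φ : A1 ⊗[A] A2 →ₐ[A] t.ResidueField ⊗[p.ResidueField] z.ResidueField :=
    Algebra.TensorProduct.lift
      ((Algebra.TensorProduct.includeLeft (R := p.ResidueField) (S := A) (A := t.ResidueField) (B := z.ResidueField)).comp
        (IsScalarTower.toAlgHom A A1 t.ResidueField))
      (((Algebra.TensorProduct.includeRight (R := p.ResidueField) (A := t.ResidueField) (B := z.ResidueField)).restrictScalars A).comp
        (IsScalarTower.toAlgHom A A2 z.ResidueField)) fun _ _ => .all _ _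
  refine ⟨Q.comap φ.toRingHom, Ideal.comap_isPrime _ _, ?_, ?_⟩
  · ext a
    rw [Ideal.mem_comap, Ideal.mem_comap]
    show φ (a ⊗ₜ[A] 1) ∈ Q ↔ _
    rw [Algebra.TensorProduct.lift_tmul, map_one, mul_one]
    show Algebra.TensorProduct.includeLeftRingHom (algebraMap A1 t.ResidueField a) ∈ Q ↔ _
    rw [← Ideal.mem_comap, (Ideal.eq_bot_or_top _).resolve_right (Ideal.comap_ne_top _ hQ.ne_top), Ideal.mem_bot,
      Ideal.algebraMap_residueField_eq_zero]
  · ext a
    rw [Ideal.mem_comap, Ideal.mem_comap]
    show φ (1 ⊗ₜ[A] a) ∈ Q ↔ _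
    rw [Algebra.TensorProduct.lift_tmul, map_one, one_mul]
    show (Algebra.TensorProduct.includeRight : z.ResidueField →ₐ[p.ResidueField] _).toRingHom
      (algebraMap A2 z.ResidueField a) ∈ Q ↔ _
    rw [← Ideal.mem_comap, (Ideal.eq_bot_or_top _).resolve_right (Ideal.comap_ne_top _ hQ.ne_top), Ideal.mem_bot,
      Ideal.algebraMap_residueField_eq_zero]

/-- Over the image of a flat algebra along which the module becomes projective the module is universally pure. -/
theorem isUnivPureAlong_of_projective {A B : Type u} [CommRing A] [CommRing B] [Algebra A B] [Algebra.FiniteType A B]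
    (N : Type u) [AddCommGroup N] [Module B N] [Module A N] [IsScalarTower A B N]
    (R : Type u) [CommRing R] [Algebra A R] [Module.Flat A R] [Module.Projective R (R ⊗[A] N)]
    (z : Ideal R) [z.IsPrime] (p : Ideal A) [p.IsPrime] (hz : z.comap (algebraMap A R) = p) :
    FlatCA.IsUnivPureAlong A B N p := by
  intro A' B' N' _ _ _ _ _ _ _ _ _ _ _ _ _ _ f t' t _ _ P _ himp
  have hbc := himp.2.1
  haveI := himp.1
  haveI : Algebra.IsPushout A A' B B' := Algebra.IsPushout.symm inferInstance
  obtain ⟨T, hT, hTt, -⟩ := exists_prime_over_pair t z (himp.2.2.2.1.over.symm.trans hz.symm)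
  let A2 := A' ⊗[A] R
  let e : A' ⊗[A] N ≃ₗ[A'] N' :=
    (Algebra.IsPushout.cancelBaseChange A A' B B' N).symm.trans (hbc.equiv.restrictScalars A')
  haveI : Module.Projective A2 (A2 ⊗[R] (R ⊗[A] N)) := inferInstance
  haveI : Module.Projective A2 (A2 ⊗[A'] N') := Module.Projective.of_equiv
    (((AlgebraTensorModule.cancelBaseChange A R A2 A2 N).trans
      (AlgebraTensorModule.cancelBaseChange A A' A2 A2 N).symm).trans
      (TensorProduct.AlgebraTensorModule.congr (LinearEquiv.refl A2 A2) e))
  exact not_impurity_of_projective himp A2 T hTt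

/-- An impurity stays an impurity after a base change of the test ring. -/
theorem exists_impurity_baseChange {A B : Type u} [CommRing A] [CommRing B] [Algebra A B] [Algebra.FiniteType A B]
    {N : Type u} [AddCommGroup N] [Module B N] {p : Ideal A} [p.IsPrime]
    {A1 B1 N1 : Type u} [CommRing A1] [CommRing B1] [Algebra A A1] [Algebra B B1] [Algebra A1 B1] [Algebra A B1]
    [IsScalarTower A B B1] [IsScalarTower A A1 B1] [AddCommGroup N1] [Module B1 N1] [Module B N1] [IsScalarTower B B1 N1]
    [Module A1 N1] [IsScalarTower A1 B1 N1] {f : N →ₗ[B] N1} {t' t : Ideal A1} [t'.IsPrime] [t.IsPrime]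
    {P : Ideal B1} [P.IsPrime] (himp : FlatCA.IsImpurity A B N p A1 B1 N1 f t' t P)
    (C : Type u) [CommRing C] [Algebra A C] [Algebra A1 C] [IsScalarTower A A1 C]
    (t3 t2 : Ideal C) [t3.IsPrime] [t2.IsPrime] (hle : t3 ≤ t2) (h2 : t2.comap (algebraMap A1 C) = t)
    (h3 : t3.comap (algebraMap A1 C) = t') :
    ∃ (P2 : Ideal (C ⊗[A] B)) (_ : P2.IsPrime), FlatCA.IsImpurity A B N p C (C ⊗[A] B) ((C ⊗[A] B) ⊗[B] N)
      (TensorProduct.mk B (C ⊗[A] B) N 1) t3 t2 P2 := by
  obtain ⟨hpush, hbc, hle1, htp, hPt, hass, hno⟩ := himp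
  haveI := hpush
  haveI : Algebra.IsPushout A A1 B B1 := Algebra.IsPushout.symm inferInstance
  haveI : Algebra.FiniteType A1 B1 :=
    Algebra.FiniteType.equiv (inferInstance : Algebra.FiniteType A1 (A1 ⊗[A] B)) (Algebra.IsPushout.equiv A A1 B B1)
  let B2 := C ⊗[A] B
  let N2 := B2 ⊗[B] N
  let χ : B1 →ₐ[A1] B2 :=
    (Algebra.TensorProduct.map (Algebra.ofId A1 C) (AlgHom.id A B)).comp (Algebra.IsPushout.equiv A A1 B B1).symm.toAlgHom
  letI : Algebra B1 B2 := χ.toRingHom.toAlgebra
  have hχ : ∀ b : B, χ (algebraMap B B1 b) = (1 : C) ⊗ₜ[A] b := fun b => by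
    show Algebra.TensorProduct.map _ _ ((Algebra.IsPushout.equiv A A1 B B1).symm (algebraMap B B1 b)) = _
    rw [Algebra.IsPushout.equiv_symm_algebraMap_right, Algebra.TensorProduct.map_tmul, map_one]
    rfl
  haveI : IsScalarTower B B1 B2 := IsScalarTower.of_algebraMap_eq fun b => (hχ b).symm
  haveI : IsScalarTower A1 B1 B2 := IsScalarTower.of_algebraMap_eq fun a => (χ.commutes a).symm
  haveI : IsScalarTower A B1 B2 := IsScalarTower.of_algebraMap_eq fun a => by
    rw [IsScalarTower.algebraMap_apply A B B2, IsScalarTower.algebraMap_apply B B1 B2, ← IsScalarTower.algebraMap_apply A B B1]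
  haveI : Algebra.IsPushout A C B B2 := inferInstance
  haveI : Algebra.IsPushout A1 C B1 B2 := (Algebra.IsPushout.comp_iff A A1 B B1 (T := C) (T' := B2)).1 inferInstance
  haveI : Algebra.IsPushout A1 B1 C B2 := Algebra.IsPushout.symm inferInstance
  haveI : SMulCommClass B B1 B2 := ⟨fun b c x => by
    rw [← algebraMap_smul B2 b, ← algebraMap_smul B2 c x, ← algebraMap_smul B2 b, ← algebraMap_smul B2 c, smul_comm]⟩
  letI : Module B1 N2 := TensorProduct.leftModule
  haveI : IsScalarTower B1 B2 N2 := TensorProduct.isScalarTower_left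
  haveI : IsScalarTower B B1 N2 := IsScalarTower.of_algebraMap_smul fun b y => by
    rw [← algebraMap_smul B2 (algebraMap B B1 b), ← IsScalarTower.algebraMap_apply, algebraMap_smul]
  let g : N1 →ₗ[B1] N2 := hbc.lift (TensorProduct.mk B B2 N 1)
  have hg : IsBaseChange B2 g := (hbc.comp_iff (T := B2) (h := g)).1 (by
    rw [show (g.restrictScalars B) ∘ₗ f = TensorProduct.mk B B2 N 1 from LinearMap.ext fun n => hbc.lift_eq _ n]
    exact TensorProduct.isBaseChange B N B2)
  obtain ⟨P2, hP2, hP2P, hP2t, hass2⟩ := exists_assoc_over N1 N2 g hg t' t3 h3 P hPt.over.symm hass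
  refine ⟨P2, hP2, inferInstance, TensorProduct.isBaseChange B N B2, hle, ⟨?_⟩, ⟨hP2t.symm⟩, hass2, fun P3 hP3 hP23 hov => ?_⟩
  · rw [Ideal.under_def, IsScalarTower.algebraMap_eq A A1 C, ← Ideal.comap_comap, h2]
    exact htp.over
  · refine hno (P3.comap (algebraMap B1 B2)) (hP2P ▸ Ideal.comap_mono hP23) ⟨?_⟩
    rw [Ideal.under_def, Ideal.comap_comap, ← IsScalarTower.algebraMap_eq, IsScalarTower.algebraMap_eq A1 C B2,
      ← Ideal.comap_comap, show P3.comap (algebraMap C B2) = t2 from hov.over.symm, h2]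

/-- An impurity of a module is one of its base changes. -/
theorem exists_impurity_of_baseChange {A B : Type u} [CommRing A] [CommRing B] [Algebra A B]
    {N : Type u} [AddCommGroup N] [Module B N] {p : Ideal A} [p.IsPrime]
    (A' B' N' : Type u) [CommRing A'] [CommRing B'] [Algebra A A'] [Algebra B B'] [Algebra A' B'] [Algebra A B']
    [IsScalarTower A B B'] [IsScalarTower A A' B'] [Algebra.IsPushout A B A' B']
    [AddCommGroup N'] [Module B' N'] [Module B N'] [IsScalarTower B B' N'] (f : N →ₗ[B] N') (hf : IsBaseChange B' f)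
    (p' : Ideal A') [p'.IsPrime]
    (C : Type u) [CommRing C] [Algebra A C] [Algebra A' C] [IsScalarTower A A' C]
    (t3 t2 : Ideal C) [t3.IsPrime] [t2.IsPrime] (h2 : t2.comap (algebraMap A' C) = p')
    (P2 : Ideal (C ⊗[A] B)) [P2.IsPrime]
    (himp : FlatCA.IsImpurity A B N p C (C ⊗[A] B) ((C ⊗[A] B) ⊗[B] N) (TensorProduct.mk B (C ⊗[A] B) N 1) t3 t2 P2)
    (Q : ∀ (X : Type u) [CommRing X] [Algebra A' X], Ideal X → Prop) (hQ : Q C t2) :
    FlatCA.HasImpurity A' B' N' p' Q := by
  obtain ⟨-, -, hle, -, hPt, hass, hno⟩ := himp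
  haveI : Algebra.IsPushout A A' B B' := Algebra.IsPushout.symm inferInstance
  let B2 := C ⊗[A] B
  let N2 := B2 ⊗[B] N
  let χ : B' →ₐ[A'] B2 :=
    (Algebra.TensorProduct.map (Algebra.ofId A' C) (AlgHom.id A B)).comp (Algebra.IsPushout.equiv A A' B B').symm.toAlgHom
  letI : Algebra B' B2 := χ.toRingHom.toAlgebra
  have hχ : ∀ b : B, χ (algebraMap B B' b) = (1 : C) ⊗ₜ[A] b := fun b => by
    show Algebra.TensorProduct.map _ _ ((Algebra.IsPushout.equiv A A' B B').symm (algebraMap B B' b)) = _
    rw [Algebra.IsPushout.equiv_symm_algebraMap_right, Algebra.TensorProduct.map_tmul, map_one]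
    rfl
  haveI : IsScalarTower B B' B2 := IsScalarTower.of_algebraMap_eq fun b => (hχ b).symm
  haveI : IsScalarTower A' B' B2 := IsScalarTower.of_algebraMap_eq fun a => (χ.commutes a).symm
  haveI : IsScalarTower A B' B2 := IsScalarTower.of_algebraMap_eq fun a => by
    rw [IsScalarTower.algebraMap_apply A B B2, IsScalarTower.algebraMap_apply B B' B2, ← IsScalarTower.algebraMap_apply A B B']
  haveI : Algebra.IsPushout A' C B' B2 :=
    (Algebra.IsPushout.comp_iff A A' B B' (T := C) (T' := B2)).1 inferInstance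
  haveI : Algebra.IsPushout A' B' C B2 := Algebra.IsPushout.symm inferInstance
  haveI : SMulCommClass B B' B2 := ⟨fun b c x => by
    rw [← algebraMap_smul B2 b, ← algebraMap_smul B2 c x, ← algebraMap_smul B2 b, ← algebraMap_smul B2 c, smul_comm]⟩
  letI : Module B' N2 := TensorProduct.leftModule
  haveI : IsScalarTower B' B2 N2 := TensorProduct.isScalarTower_left
  haveI : IsScalarTower B B' N2 := IsScalarTower.of_algebraMap_smul fun b y => by
    rw [← algebraMap_smul B2 (algebraMap B B' b), ← IsScalarTower.algebraMap_apply, algebraMap_smul]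
  let g : N' →ₗ[B'] N2 := hf.lift (TensorProduct.mk B B2 N 1)
  have hg : IsBaseChange B2 g := (hf.comp_iff (T := B2) (h := g)).1 (by
    rw [show (g.restrictScalars B) ∘ₗ f = TensorProduct.mk B B2 N 1 from LinearMap.ext fun n => hf.lift_eq _ n]
    exact TensorProduct.isBaseChange B N B2)
  exact ⟨C, B2, N2, inferInstance, inferInstance, inferInstance, inferInstance, inferInstance, inferInstance, inferInstance,
    inferInstance, inferInstance, inferInstance, inferInstance, inferInstance, inferInstance, inferInstance, g, t3, t2,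
    inferInstance, inferInstance, P2, inferInstance, ⟨inferInstance, hg, hle, ⟨h2.symm⟩, hPt, hass, hno⟩, hQ⟩

end Groth.Agent.H4RG
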