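import Groth.Prelude
import Groth.Agent.H4RG.ImpurityBC
import Groth.Agent.H4RG.AssFlatGen
import Mathlib

/-!
# Associated points of fibres map down and survive localisation
-/

set_option autoImplicit false
set_option linter.style.haveILetI false
set_option backward.isDefEq.respectTransparency.types false

universe u

open TensorProduct

namespace Groth.Agent.H4RG

attribute [local instance] Algebra.TensorProduct.rightAlgebra

/-- An element of the fibre module with prime annihilator gives an associated point. -/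
theorem fiberIdeal_mem_of_annihilator {R S : Type u} [CommRing R] [CommRing S] [Algebra R S] (p : Ideal R) [p.IsPrime]
    (N : Type u) [AddCommGroup N] [Module S N] [Module R N] [IsScalarTower R S N] (q : Ideal S) [hq : q.IsPrime]
    (y : FlatCA.fiberMod p S N) (hy : ∀ a : S, a • y = 0 ↔ a ∈ q) :
    FlatCA.fiberIdeal p q ∈ associatedPrimes (p.Fiber S) (FlatCA.fiberMod p S N) := by
  have h1 : q ∈ FlatCA.ass S (FlatCA.fiberMod p S N) := by
    refine ⟨hq, y, ?_⟩
    ext a
    rw [Submodule.mem_annihilator_span_singleton, hy]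
  rw [AssFiber.ass_fiberMod_eq p N] at h1
  obtain ⟨r, ⟨hr, z, hz⟩, hrq⟩ := h1
  rw [show FlatCA.fiberIdeal p q = r from EssFPDescent.map_includeRight_eq p r q hrq]
  refine ⟨hr, z, ?_⟩
  rw [← Ideal.IsPrime.radical hr]
  conv_lhs => rw [hz]
  congr 1
  ext a
  rw [Submodule.mem_colon_singleton, Submodule.mem_bot, Submodule.mem_annihilator_span_singleton]

/-- Associated points of fibres map to associated points. -/
theorem assoc_of_baseChange {R S R2 S2 : Type u} [CommRing R] [CommRing S] [CommRing R2] [CommRing S2]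
    [Algebra R S] [Algebra R R2] [Algebra S S2] [Algebra R2 S2] [Algebra R S2] [IsScalarTower R S S2]
    [IsScalarTower R R2 S2] [Algebra.IsPushout R S R2 S2] [Algebra.FiniteType R S]
    (M : Type u) [AddCommGroup M] [Module S M] [Module R M] [IsScalarTower R S M]
    (M2 : Type u) [AddCommGroup M2] [Module S2 M2] [Module S M2] [IsScalarTower S S2 M2] [Module R2 M2]
    [IsScalarTower R2 S2 M2] (f : M →ₗ[S] M2) (hf : IsBaseChange S2 f)
    (p : Ideal R) [p.IsPrime] (p2 : Ideal R2) [p2.IsPrime] (hp : p2.comap (algebraMap R R2) = p)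
    (P2 : Ideal S2) [P2.IsPrime] (hP2 : P2.comap (algebraMap R2 S2) = p2)
    (hass : FlatCA.fiberIdeal p2 P2 ∈ associatedPrimes (p2.Fiber S2) (FlatCA.fiberMod p2 S2 M2))
    (P : Ideal S) [P.IsPrime] (hP : P2.comap (algebraMap S S2) = P) :
    FlatCA.fiberIdeal p P ∈ associatedPrimes (p.Fiber S) (FlatCA.fiberMod p S M) := by
  classical
  let K := p.ResidueField
  let L := p2.ResidueField
  obtain ⟨_, _⟩ := exists_point_instances p p2 hp
  haveI : Algebra.IsPushout R R2 S S2 := Algebra.IsPushout.symm inferInstance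
  haveI : Algebra.FiniteType R2 S2 :=
    Algebra.FiniteType.equiv (inferInstance : Algebra.FiniteType R2 (R2 ⊗[R] S)) (Algebra.IsPushout.equiv R R2 S S2)
  haveI : IsNoetherianRing (p2.Fiber S2) := Algebra.FiniteType.isNoetherianRing L _
  obtain ⟨hprime, m, hm⟩ := isAssociatedPrime_iff.1 hass
  obtain ⟨e⟩ := exists_fiber_equiv (R := R) (S := S) M p
  obtain ⟨e2⟩ := exists_fiber_equiv (R := R2) (S := S2) M2 p2
  haveI : SMulCommClass R2 S M2 := ⟨fun a s y => by
    rw [← algebraMap_smul S2 a, ← algebraMap_smul S2 s, smul_comm, algebraMap_smul S2 s, algebraMap_smul S2 a]⟩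
  letI : Module R M2 := Module.compHom M2 (algebraMap R R2)
  haveI : IsScalarTower R R2 M2 := IsScalarTower.of_algebraMap_smul fun _ _ => rfl
  haveI : IsScalarTower R S M2 := IsScalarTower.of_algebraMap_smul fun r y => by
    rw [← algebraMap_smul S2 (algebraMap R S r), ← IsScalarTower.algebraMap_apply, IsScalarTower.algebraMap_apply R R2 S2,
      algebraMap_smul]
    rfl
  let J : M ⊗[R] L →ₗ[S] M2 ⊗[R2] L :=
    AlgebraTensorModule.lift
      { toFun := fun y =>
          { toFun := fun c => f y ⊗ₜ[R2] c
            map_add' := fun a b => tmul_add _ _ _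
            map_smul' := fun r c => by
              rw [RingHom.id_apply, ← algebraMap_smul R2 r c, ← smul_tmul, algebraMap_smul, smul_tmul'] }
        map_add' := fun a b => LinearMap.ext fun c => by
          show f (a + b) ⊗ₜ[R2] c = f a ⊗ₜ c + f b ⊗ₜ c
          rw [map_add, add_tmul]
        map_smul' := fun s a => LinearMap.ext fun c => by
          show f (s • a) ⊗ₜ[R2] c = s • (f a ⊗ₜ[R2] c)
          rw [map_smul, smul_tmul'] }
  have hJ : Function.Bijective J := by
    let E : R2 ⊗[R] M ≃ₗ[R2] M2 :=
      (Algebra.IsPushout.cancelBaseChange R R2 S S2 M).symm.trans (hf.equiv.restrictScalars R2)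
    let ψ := ((TensorProduct.comm R M L).toAddEquiv.trans
      (AlgebraTensorModule.cancelBaseChange R R2 R2 L M).symm.toAddEquiv).trans
      ((TensorProduct.AlgebraTensorModule.congr (LinearEquiv.refl R2 L) E).toAddEquiv.trans
        (TensorProduct.comm R2 L M2).toAddEquiv)
    have hψ : (J : M ⊗[R] L → M2 ⊗[R2] L) = ψ := funext fun w => by
      induction w using TensorProduct.induction_on with
      | zero => simp
      | add a b ha hb => simp only [map_add, ha, hb]
      | tmul y c =>
        have hE : E ((1 : R2) ⊗ₜ[R] y) = f y := by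
          show hf.equiv ((Algebra.IsPushout.cancelBaseChange R R2 S S2 M).symm ((1 : R2) ⊗ₜ[R] y)) = f y
          rw [Algebra.IsPushout.cancelBaseChange_symm_tmul, map_one, hf.equiv_tmul, one_smul]
        show f y ⊗ₜ[R2] c = ψ (y ⊗ₜ[R] c)
        simp [ψ, hE]
    rw [hψ]
    exact ψ.bijective
  let bs := Module.Free.chooseBasis K L
  let π : Module.Free.ChooseBasisIndex K L → (M ⊗[R] L →ₗ[S] M ⊗[R] K) := fun i =>
    AlgebraTensorModule.lTensor S M ((bs.coord i).restrictScalars R)
  let e1 : M ⊗[R] L ≃ₗ[R] (Module.Free.ChooseBasisIndex K L →₀ M ⊗[R] K) :=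
    (TensorProduct.congr (LinearEquiv.refl R M) (bs.repr.restrictScalars R)).trans
      (TensorProduct.finsuppRight R R M K _)
  have hc : ∀ w i, e1 w i = π i w := fun w i => by
    induction w using TensorProduct.induction_on with
    | zero => simp
    | add a b ha hb => simp only [map_add, Finsupp.add_apply, ha, hb]
    | tmul y c => simp [e1, π]
  obtain ⟨z, hz⟩ := hJ.2 (e2.symm m)
  have hsmul : ∀ (b : S2) (y : FlatCA.fiberMod p2 S2 M2), algebraMap S2 (p2.Fiber S2) b • y = b • y :=
    fun b y => IsScalarTower.algebraMap_smul (M := p2.Fiber S2 ⊗[S2] M2) (p2.Fiber S2) b y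
  have hzP : ∀ s : S, s • z = 0 ↔ s ∈ P := fun s => by
    rw [← hP, Ideal.mem_comap, ← mem_fiberIdeal_iff p2 hP2, hm, Submodule.mem_colon_singleton, Submodule.mem_bot,
      hsmul, ← e2.symm.map_eq_zero_iff, map_smul, algebraMap_smul, ← hz, ← map_smul, map_eq_zero_iff J hJ.1]
  let T := (e1 z).support
  let a : Module.Free.ChooseBasisIndex K L → Ideal S := fun i => LinearMap.ker (LinearMap.toSpanSingleton S _ (π i z))
  have hle : T.inf a ≤ P := fun s hs => by
    rw [← hzP]
    refine e1.injective ((Finsupp.ext fun i => ?_).trans (map_zero e1).symm)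
    rw [Finsupp.zero_apply, hc, map_smul]
    by_cases hi : i ∈ T
    · exact LinearMap.mem_ker.1 (Finset.inf_le (f := a) hi hs)
    · rw [← hc, show e1 z i = 0 from Finsupp.notMem_support_iff.1 hi, smul_zero]
  obtain ⟨i, -, hi⟩ := ((‹P.IsPrime›).inf_le' (s := T) (f := a)).1 hle
  refine fiberIdeal_mem_of_annihilator p M P (e (π i z)) fun s => ?_
  rw [← map_smul, LinearEquiv.map_eq_zero_iff]
  exact ⟨fun h => hi (LinearMap.mem_ker.2 h), fun h => by rw [← map_smul, (hzP s).2 h, map_zero]⟩

/-- Associated points of a fibre in a principal open are associated points of its fibre. -/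
theorem assoc_away {R S : Type u} [CommRing R] [CommRing S] [Algebra R S] [Algebra.FiniteType R S]
    (N : Type u) [AddCommGroup N] [Module S N] [Module R N] [IsScalarTower R S N] (g : S)
    (T N' : Type u) [CommRing T] [Algebra S T] [Algebra R T] [IsScalarTower R S T] [IsLocalization.Away g T]
    [AddCommGroup N'] [Module T N'] [Module S N'] [IsScalarTower S T N'] [Module R N'] [IsScalarTower R T N']
    (f : N →ₗ[S] N') (hf : IsBaseChange T f)
    (p : Ideal R) [p.IsPrime] (P : Ideal S) [P.IsPrime] [hPp : P.LiesOver p]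
    (hass : FlatCA.fiberIdeal p P ∈ associatedPrimes (p.Fiber S) (FlatCA.fiberMod p S N))
    (P' : Ideal T) [P'.IsPrime] (hP' : P'.comap (algebraMap S T) = P) :
    FlatCA.fiberIdeal p P' ∈ associatedPrimes (p.Fiber T) (FlatCA.fiberMod p T N') := by
  haveI : IsLocalizedModule (Submonoid.powers g) f := (isLocalizedModule_iff_isBaseChange (Submonoid.powers g) T f).2 hf
  haveI : IsScalarTower R S N' := IsScalarTower.of_algebraMap_smul fun r y => by
    rw [← algebraMap_smul T (algebraMap R S r), ← IsScalarTower.algebraMap_apply, algebraMap_smul]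
  have hgP : g ∉ P := fun h => (‹P'.IsPrime›).ne_top (Ideal.eq_top_of_isUnit_mem _ (hP'.ge h)
    (IsLocalization.Away.algebraMap_isUnit g))
  have hc : (FlatCA.fiberIdeal p P).comap (algebraMap S (p.Fiber S)) = P :=
    le_antisymm (fun s hs => mem_of_mem_fiberIdeal p P hs) (fun s hs => Ideal.mem_map_of_mem _ hs)
  obtain ⟨x, hx⟩ := exists_witness p N hass P hc
  refine fiberIdeal_mem_associatedPrimes p N' P' (f x) fun t => ?_
  obtain ⟨⟨s, w⟩, hsw⟩ := IsLocalization.surj (Submonoid.powers g) t
  have hu : IsUnit (algebraMap S T w) := IsLocalization.map_units T w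
  rw [← Ideal.mul_unit_mem_iff_mem P' hu, hsw, ← Ideal.mem_comap, hP', toFiberMod_eq_zero_iff]
  have hts : algebraMap S T w • (t • f x) = f (s • x) := by
    rw [smul_smul, mul_comm, hsw, algebraMap_smul, map_smul]
  constructor
  · rintro ⟨c, hcp, hcm⟩
    have h1 : c • f (s • x) ∈ p • (⊤ : Submodule R N') := by
      rw [← hts, smul_comm]
      refine Submodule.smul_induction_on hcm (fun a ha n _ => ?_) (fun a b ha hb => ?_)
      · rw [smul_comm]
        exact Submodule.smul_mem_smul ha Submodule.mem_top
      · rw [smul_add]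
        exact add_mem ha hb
    have h2 : ∀ y ∈ p • (⊤ : Submodule R N'), ∃ k : ℕ, ∃ n ∈ p • (⊤ : Submodule R N), g ^ k • y = f n := by
      intro y hy
      refine Submodule.smul_induction_on hy (fun a ha n _ => ?_) (fun a b ha hb => ?_)
      · obtain ⟨⟨n0, _, k, rfl⟩, hn⟩ := IsLocalizedModule.surj (Submonoid.powers g) f n
        refine ⟨k, a • n0, Submodule.smul_mem_smul ha Submodule.mem_top, ?_⟩
        change g ^ k • n = f n0 at hn
        rw [smul_comm, hn, ← algebraMap_smul S a (f n0), ← map_smul, algebraMap_smul]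
      · obtain ⟨k, n, hn, hk⟩ := ha
        obtain ⟨l, m, hm, hl⟩ := hb
        refine ⟨k + l, algebraMap R S 1 • (g ^ l • n) + g ^ k • m, add_mem ?_ ?_, ?_⟩
        · rw [map_one, one_smul]
          refine Submodule.smul_induction_on hn (fun a ha n _ => ?_) (fun a b ha hb => ?_)
          · rw [smul_comm]; exact Submodule.smul_mem_smul ha Submodule.mem_top
          · rw [smul_add]; exact add_mem ha hb
        · refine Submodule.smul_induction_on hm (fun a ha n _ => ?_) (fun a b ha hb => ?_)
          · rw [smul_comm]; exact Submodule.smul_mem_smul ha Submodule.mem_top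
          · rw [smul_add]; exact add_mem ha hb
        · rw [map_one, one_smul, map_add, map_smul, map_smul, ← hk, ← hl, smul_add, pow_add, mul_smul, mul_smul]
          congr 1
          exact smul_comm _ _ _
    obtain ⟨k, n, hn, hk⟩ := h2 _ h1
    rw [← algebraMap_smul S c, ← map_smul, ← map_smul] at hk
    obtain ⟨⟨_, i, rfl⟩, hi⟩ := (IsLocalizedModule.eq_iff_exists (Submonoid.powers g) f).1 hk
    change g ^ i • (g ^ k • (algebraMap R S c • s • x)) = g ^ i • n at hi
    have h3 : c • ((g ^ i * g ^ k * s) • x) ∈ p • (⊤ : Submodule R N) := by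
      rw [← algebraMap_smul S c, smul_comm, mul_smul, mul_smul, smul_comm (s : S), hi]
      refine Submodule.smul_induction_on hn (fun a ha m _ => ?_) (fun a b ha hb => ?_)
      · rw [smul_comm]; exact Submodule.smul_mem_smul ha Submodule.mem_top
      · rw [smul_add]; exact add_mem ha hb
    have h4 := (hx _).1 ((toFiberMod_eq_zero_iff p N _).2 ⟨c, hcp, h3⟩)
    exact ((‹P.IsPrime›).mem_or_mem h4).resolve_left fun h =>
      ((‹P.IsPrime›).mem_or_mem h).elim (fun h => hgP ((‹P.IsPrime›).mem_of_pow_mem _ h))
        (fun h => hgP ((‹P.IsPrime›).mem_of_pow_mem _ h))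
  · intro hs
    obtain ⟨c, hcp, hcm⟩ := (toFiberMod_eq_zero_iff p N _).1 ((hx s).2 hs)
    refine ⟨c, hcp, ?_⟩
    have h1 : c • f (s • x) ∈ p • (⊤ : Submodule R N') := by
      rw [← algebraMap_smul S c, ← map_smul, algebraMap_smul]
      refine Submodule.smul_induction_on hcm (fun a ha n _ => ?_) (fun a b ha hb => ?_)
      · rw [← algebraMap_smul S a, map_smul, algebraMap_smul]; exact Submodule.smul_mem_smul ha Submodule.mem_top
      · rw [map_add]; exact add_mem ha hb
    rw [← hts, smul_comm] at h1
    obtain ⟨v, hv⟩ := hu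
    have h2 : c • t • f x = (↑v⁻¹ : T) • (algebraMap S T w • c • t • f x) := by
      rw [← hv, smul_smul, Units.inv_mul, one_smul]
    rw [h2]
    refine Submodule.smul_induction_on h1 (fun a ha n _ => ?_) (fun a b ha hb => ?_)
    · rw [smul_comm]; exact Submodule.smul_mem_smul ha Submodule.mem_top
    · rw [smul_add]; exact add_mem ha hb

end Groth.Agent.H4RG
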