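import Groth.Prelude
import Groth.Agent.H4RG.AssFlatGen
import Groth.Agent.H4RG.FibreAss
import Groth.Agent.QCoh.FlatOver
import Groth.Agent.QCoh.AnnIdeal
import Groth.Agent.VarDim.Scheme

/-!
# Relative associated points and flatness on affine charts
-/

set_option autoImplicit false
set_option linter.style.haveILetI false
set_option backward.isDefEq.respectTransparency false
set_option backward.isDefEq.respectTransparency.types false

universe u

open CategoryTheory AlgebraicGeometry TensorProduct IsLocalRing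

attribute [local instance] Algebra.TensorProduct.rightAlgebra

namespace Groth.Agent.H4RG

/-- An associated maximal ideal of the fibre of a localised module, from a witness. -/
theorem isAssociatedPrime_of_witness {R A L N F : Type u} [CommRing R] [CommRing A] [Algebra R A] [CommRing L]
    [IsLocalRing L] [Algebra A L] [Algebra R L] [IsScalarTower R A L] (p : Ideal R) [p.IsPrime] (Q : Ideal A) [Q.IsPrime]
    [Q.LiesOver p] [IsLocalization.AtPrime L Q] [AddCommGroup N] [Module A N] [Module R N] [IsScalarTower R A N]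
    [AddCommGroup F] [Module L F] [Module A F] [IsScalarTower A L F] (g : N →ₗ[A] F) [IsLocalizedModule Q.primeCompl g]
    (I : Ideal L) (hI : I = p.map (algebraMap R L))
    (x : N) (hx : ∀ a : A, FlatCA.toFiberMod p (S := A) N (a • x) = 0 ↔ a ∈ Q) :
    IsAssociatedPrime (maximalIdeal L) (F ⧸ (I • (⊤ : Submodule L F))) := by
  have hmem : ∀ n : N, g n ∈ I • (⊤ : Submodule L F) ↔ ∃ u ∉ Q, u • n ∈ AssFiber.pN p (S := A) N := by
    intro n
    constructor
    · intro h
      have hI' : I = (p.map (algebraMap R A)).map (algebraMap A L) := by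
        rw [hI, Ideal.map_map, ← IsScalarTower.algebraMap_eq]
      have key : ∀ z ∈ I • (⊤ : Submodule L F), ∃ u ∉ Q, ∃ m ∈ AssFiber.pN p (S := A) N, u • z = g m := by
        intro z hz
        refine Submodule.smul_induction_on hz (fun b hb w _ => ?_) (fun a b ha hb => ?_)
        · rw [hI'] at hb
          obtain ⟨⟨⟨a, ha⟩, u⟩, hau⟩ := (IsLocalization.mem_map_algebraMap_iff Q.primeCompl L).1 hb
          obtain ⟨⟨m, v⟩, hmv⟩ := IsLocalizedModule.surj Q.primeCompl g w
          refine ⟨u * v, Q.primeCompl.mul_mem u.2 v.2, a • m, Submodule.smul_mem_smul ha Submodule.mem_top, ?_⟩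
          rw [map_smul, ← hmv, Submonoid.smul_def, mul_smul, ← algebraMap_smul L a, ← hau, mul_comm b,
            mul_smul, algebraMap_smul, smul_comm b]
        · obtain ⟨u, hu, m, hm, e⟩ := ha
          obtain ⟨v, hv, m', hm', e'⟩ := hb
          refine ⟨v * u, Q.primeCompl.mul_mem hv hu, v • m + u • m',
            add_mem (Submodule.smul_mem _ _ hm) (Submodule.smul_mem _ _ hm'), ?_⟩
          rw [map_add, map_smul, map_smul, ← e, ← e', smul_add, smul_smul, smul_smul, mul_comm v u]
      obtain ⟨u, hu, m, hm, e⟩ := key _ h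
      rw [← map_smul] at e
      obtain ⟨t, ht⟩ := IsLocalizedModule.exists_of_eq (S := Q.primeCompl) e
      refine ⟨t * u, Q.primeCompl.mul_mem t.2 hu, ?_⟩
      rw [mul_smul, ← Submonoid.smul_def, ht]
      exact Submodule.smul_mem _ _ hm
    · rintro ⟨u, hu, h⟩
      have h1 : g (u • n) ∈ I • (⊤ : Submodule L F) := by
        refine Submodule.smul_induction_on h (fun a ha w _ => ?_) fun a b ha hb => by rw [map_add]; exact add_mem ha hb
        rw [map_smul, ← algebraMap_smul L a]
        refine Submodule.smul_mem_smul ?_ Submodule.mem_top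
        rw [hI, IsScalarTower.algebraMap_eq R A L, ← Ideal.map_map]
        exact Ideal.mem_map_of_mem _ ha
      rw [map_smul, ← algebraMap_smul L u] at h1
      exact (Submodule.smul_mem_iff_of_isUnit _ (IsLocalization.map_units L (⟨u, hu⟩ : Q.primeCompl))).1 h1
  refine ⟨(maximalIdeal.isMaximal L).isPrime, Submodule.Quotient.mk (g x), ?_⟩
  rw [show (⊥ : Submodule L (F ⧸ I • (⊤ : Submodule L F))).colon {Submodule.Quotient.mk (g x)} = maximalIdeal L from ?_,
    (maximalIdeal.isMaximal L).isPrime.radical]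
  ext t
  rw [Submodule.mem_colon_singleton, Submodule.mem_bot, ← Submodule.Quotient.mk_smul, Submodule.Quotient.mk_eq_zero]
  obtain ⟨a, s, rfl⟩ := IsLocalization.exists_mk'_eq Q.primeCompl t
  rw [IsLocalization.AtPrime.mk'_mem_maximal_iff L Q a s, ← hx,
    ← Submodule.smul_mem_iff_of_isUnit _ (IsLocalization.map_units L s), smul_smul, IsLocalization.mk'_spec',
    algebraMap_smul, ← map_smul, hmem]
  constructor
  · rintro ⟨u, hu, h⟩
    refine (hx a).2 ?_
    have h0 := AssFiber.toFiberMod_eq_zero_of_mem p N h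
    rw [smul_smul, hx] at h0
    exact (‹Q.IsPrime›.mem_or_mem h0).resolve_left hu
  · intro h
    obtain ⟨c, hc, hcx⟩ := AssFiber.exists_smul_mem_of_toFiberMod_eq_zero p (S := A) N h
    exact ⟨algebraMap R A c, EssFPDescent.algebraMap_mem_primeCompl p Q hc, hcx⟩

variable {X S : Scheme.{u}} (f : X ⟶ S) {F : X.Modules} {U : X.Opens} {V : S.Opens}

/-- Flatness over the base at a point, on sections. -/
theorem isFlatOverAt_iff_localized (hF : Coh.IsQCoh F) (hU : IsAffineOpen U) (hV : IsAffineOpen V) (hle : U ≤ f ⁻¹ᵁ V)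
    {z : X} (hz : z ∈ U) :
    FlatMod.IsFlatOverAt f F z ↔
      (letI : Algebra Γ(S, V) Γ(X, U) := (f.appLE V U hle).hom.toAlgebra
       letI : Module Γ(S, V) Γ(F, U) := Module.compHom _ (f.appLE V U hle).hom
       haveI : IsScalarTower Γ(S, V) Γ(X, U) Γ(F, U) := IsScalarTower.of_algebraMap_smul fun _ _ => rfl
       Module.Flat Γ(S, V) (LocalizedModule (hU.primeIdealOf ⟨z, hz⟩).asIdeal.primeCompl Γ(F, U))) := by
  letI : Algebra Γ(S, V) Γ(X, U) := (f.appLE V U hle).hom.toAlgebra
  letI : Module Γ(S, V) Γ(F, U) := Module.compHom _ (f.appLE V U hle).hom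
  haveI : IsScalarTower Γ(S, V) Γ(X, U) Γ(F, U) := IsScalarTower.of_algebraMap_smul fun _ _ => rfl
  rw [QCoh.isFlatOverAt_iff f hV hle hz]
  letI := QCoh.stalkModule F hz
  letI : Module Γ(S, V) (F.presheaf.stalk z) :=
    Module.compHom _ ((f.appLE V U hle) ≫ X.presheaf.germ U z hz).hom
  haveI : IsScalarTower Γ(S, V) Γ(X, U) (F.presheaf.stalk z) := IsScalarTower.of_algebraMap_smul fun _ _ => rfl
  haveI := QCoh.isLocalizedModule_germLin hF hU hz
  let e := (IsLocalizedModule.iso (hU.primeIdealOf ⟨z, hz⟩).asIdeal.primeCompl (QCoh.germLin F hz)).restrictScalars Γ(S, V)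
  exact ⟨fun _ => Module.Flat.of_linearEquiv e, fun _ => Module.Flat.of_linearEquiv e.symm⟩

/-- A witness on sections gives a relative associated point. -/
theorem mem_relAss_of_witness (hF : Coh.IsQCoh F) (hU : IsAffineOpen U) (hV : IsAffineOpen V) (hle : U ≤ f ⁻¹ᵁ V)
    {z : X} (hz : z ∈ U)
    (h : letI : Algebra Γ(S, V) Γ(X, U) := (f.appLE V U hle).hom.toAlgebra
      letI : Module Γ(S, V) Γ(F, U) := Module.compHom _ (f.appLE V U hle).hom
      haveI : IsScalarTower Γ(S, V) Γ(X, U) Γ(F, U) := IsScalarTower.of_algebraMap_smul fun _ _ => rfl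
      ∃ x : Γ(F, U), ∀ a : Γ(X, U),
        FlatCA.toFiberMod ((hU.primeIdealOf ⟨z, hz⟩).asIdeal.comap (algebraMap Γ(S, V) Γ(X, U))) (S := Γ(X, U)) Γ(F, U) (a • x) = 0 ↔
          a ∈ (hU.primeIdealOf ⟨z, hz⟩).asIdeal) :
    z ∈ MoreMor.relAss f F := by
  letI : Algebra Γ(S, V) Γ(X, U) := (f.appLE V U hle).hom.toAlgebra
  letI : Module Γ(S, V) Γ(F, U) := Module.compHom _ (f.appLE V U hle).hom
  haveI : IsScalarTower Γ(S, V) Γ(X, U) Γ(F, U) := IsScalarTower.of_algebraMap_smul fun _ _ => rfl
  obtain ⟨x, hx⟩ := h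
  let Q := (hU.primeIdealOf ⟨z, hz⟩).asIdeal
  let p := Q.comap (algebraMap Γ(S, V) Γ(X, U))
  haveI : Q.IsPrime := (hU.primeIdealOf ⟨z, hz⟩).2
  haveI : Q.LiesOver p := ⟨rfl⟩
  letI := QCoh.stalkAlg (X := X) hz
  haveI := QCoh.isLocalization_stalk' hU hz
  letI : Algebra Γ(S, V) (X.presheaf.stalk z) := ((f.appLE V U hle) ≫ X.presheaf.germ U z hz).hom.toAlgebra
  haveI : IsScalarTower Γ(S, V) Γ(X, U) (X.presheaf.stalk z) := IsScalarTower.of_algebraMap_eq fun _ => rfl
  letI := QCoh.stalkModule F hz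
  haveI := QCoh.isScalarTower_stalk F hz
  haveI := QCoh.isLocalizedModule_germLin hF hU hz
  show IsAssociatedPrime _ _
  refine isAssociatedPrime_of_witness p Q (QCoh.germLin F hz) _ ?_ x hx
  -- the maximal ideal of the base stalk
  letI := QCoh.stalkAlg (X := S) (U := V) (x := f.base z) (hle hz)
  haveI := QCoh.isLocalization_stalk' hV (hle hz)
  have hcomp : (algebraMap Γ(S, V) (X.presheaf.stalk z)) =
      (f.stalkMap z).hom.comp (algebraMap Γ(S, V) (S.presheaf.stalk (f.base z))) := by
    refine RingHom.ext fun a => ?_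
    show X.presheaf.germ U z hz (f.appLE V U hle a) = f.stalkMap z (S.presheaf.germ V (f.base z) (hle hz) a)
    rw [Scheme.Hom.germ_stalkMap_apply f V z (hle hz) a]
    exact (X.presheaf.germ_res_apply (homOfLE hle) z hz _)
  let p' := (hV.primeIdealOf ⟨f.base z, hle hz⟩).asIdeal
  have hp' : p'.map (algebraMap Γ(S, V) (S.presheaf.stalk (f.base z))) = maximalIdeal (S.presheaf.stalk (f.base z)) :=
    IsLocalization.AtPrime.map_eq_maximalIdeal p' _
  have hpp' : p = p' := by
    rw [show p' = (maximalIdeal (S.presheaf.stalk (f.base z))).comap (algebraMap Γ(S, V) (S.presheaf.stalk (f.base z))) from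
      (IsLocalization.AtPrime.under_maximalIdeal (S.presheaf.stalk (f.base z)) p').symm]
    show Q.comap _ = _
    rw [show Q = (maximalIdeal (X.presheaf.stalk z)).comap (algebraMap Γ(X, U) (X.presheaf.stalk z)) from
      (IsLocalization.AtPrime.under_maximalIdeal (X.presheaf.stalk z) Q).symm, Ideal.comap_comap,
      ← IsScalarTower.algebraMap_eq, hcomp, ← Ideal.comap_comap,
      IsLocalRing.maximalIdeal_comap (f.stalkMap z).hom]
  rw [hpp', hcomp, ← Ideal.map_map, hp']

end Groth.Agent.H4RG
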