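import Groth.Prelude
import Groth.Agent.H4RG.RelAssAffine
import Groth.Agent.QCoh.Support
import Groth.Agent.VarDim.Local

/-!
# Flatness at the relative associated points gives flatness
-/

set_option autoImplicit false
set_option linter.style.haveILetI false
set_option backward.isDefEq.respectTransparency false
set_option backward.isDefEq.respectTransparency.types false

universe u

open CategoryTheory AlgebraicGeometry TensorProduct

attribute [local instance] Algebra.TensorProduct.rightAlgebra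

namespace Groth.Agent.H4RG

variable {X S : Scheme.{u}} (f : X ⟶ S) [LocallyOfFiniteType f] {F : X.Modules}

/-- A finite type module is flat at a point if it is flat at the relative associated points generalising it in
its fibre. -/
theorem isFlatOverAt_of_relAss (hF : Coh.IsQCoh F) (hft : CohB1.IsFT F) (x : X)
    (H : ∀ z ∈ MoreMor.relAss f F, z ⤳ x → f.base z = f.base x → FlatMod.IsFlatOverAt f F z) :
    FlatMod.IsFlatOverAt f F x := by
  obtain ⟨_, ⟨V, hV, rfl⟩, hxV, -⟩ :=
    S.isBasis_affineOpens.exists_subset_of_mem_open (Set.mem_univ (f.base x)) isOpen_univ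
  obtain ⟨_, ⟨U, hU, rfl⟩, hxU, hle'⟩ :=
    X.isBasis_affineOpens.exists_subset_of_mem_open (show x ∈ f ⁻¹ᵁ V from hxV) (f ⁻¹ᵁ V).2
  have hle : U ≤ f ⁻¹ᵁ V := hle'
  rw [isFlatOverAt_iff_localized f hF hU hV hle hxU]
  let R := Γ(S, V)
  let A := Γ(X, U)
  let N := Γ(F, U)
  letI : Algebra R A := (f.appLE V U hle).hom.toAlgebra
  letI : Module R N := Module.compHom _ (f.appLE V U hle).hom
  haveI : IsScalarTower R A N := IsScalarTower.of_algebraMap_smul fun _ _ => rfl
  haveI : Algebra.FiniteType R A := Scheme.Hom.finiteType_appLE f hV hU hle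
  haveI : Module.Finite A N := QCoh.finite_sections ⟨hF, hft⟩ hU
  let Q := hU.primeIdealOf ⟨x, hxU⟩
  haveI := Q.2
  let p := Q.asIdeal.comap (algebraMap R A)
  haveI : Q.asIdeal.LiesOver p := ⟨rfl⟩
  refine flatAt_of_ass N p Q.asIdeal fun q' hq' hqQ hqp hass => ?_
  haveI := hqp
  obtain ⟨x0, hx0⟩ := exists_witness p N hass q'
    (le_antisymm (fun a ha => mem_of_mem_fiberIdeal p q' ha) fun a ha => Ideal.mem_map_of_mem _ ha)
  let q : PrimeSpectrum A := ⟨q', hq'⟩
  let z := hU.fromSpec q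
  have hz : z ∈ U := VarDim.fromSpec_mem hU q
  have hzq : hU.primeIdealOf ⟨z, hz⟩ = q :=
    hU.fromSpec.isOpenEmbedding.injective (hU.fromSpec_primeIdealOf ⟨z, hz⟩)
  have hp : (hU.primeIdealOf ⟨z, hz⟩).asIdeal.comap (algebraMap R A) = p := by
    rw [hzq]
    exact (Ideal.LiesOver.over (P := q') (p := p)).symm
  have hzx : z ⤳ x := by
    rw [show x = hU.fromSpec Q from (hU.fromSpec_primeIdealOf ⟨x, hxU⟩).symm]
    exact (VarDim.fromSpec_specializes_iff hU q Q).2 hqQ
  have hcomm : ∀ a : PrimeSpectrum A, f.base (hU.fromSpec a) = hV.fromSpec (PrimeSpectrum.comap (algebraMap R A) a) :=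
    fun a => by
      show (hU.fromSpec ≫ f) a = _
      rw [← hV.SpecMap_appLE_fromSpec f hU hle]
      rfl
  have hfz : f.base z = f.base x := by
    rw [hcomm q, show x = hU.fromSpec Q from (hU.fromSpec_primeIdealOf ⟨x, hxU⟩).symm, hcomm Q]
    exact congrArg _ (PrimeSpectrum.ext (Ideal.LiesOver.over (P := q') (p := p)).symm)
  have hrel : z ∈ MoreMor.relAss f F := mem_relAss_of_witness f hF hU hV hle hz ⟨x0, by
    have hpp : q'.comap (algebraMap R A) = p := (Ideal.LiesOver.over (P := q') (p := p)).symm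
    intro a
    rw [toFiberMod_eq_zero_iff, hzq]
    show (∃ c ∉ q'.comap (algebraMap R A), c • a • x0 ∈ q'.comap (algebraMap R A) • (⊤ : Submodule R N)) ↔ a ∈ q'
    rw [hpp, ← hx0, toFiberMod_eq_zero_iff]⟩
  have h := (isFlatOverAt_iff_localized f hF hU hV hle hz).1 (H z hrel hzx hfz)
  haveI := (hU.primeIdealOf ⟨z, hz⟩).2
  exact flatAt_mono (congrArg PrimeSpectrum.asIdeal hzq).ge h

omit [LocallyOfFiniteType f] in
/-- Flatness at a point passes to its generalisations. -/
theorem isFlatOverAt_of_specializes (hF : Coh.IsQCoh F) {z x : X} (hzx : z ⤳ x) (h : FlatMod.IsFlatOverAt f F x) :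
    FlatMod.IsFlatOverAt f F z := by
  obtain ⟨_, ⟨V, hV, rfl⟩, hxV, -⟩ :=
    S.isBasis_affineOpens.exists_subset_of_mem_open (Set.mem_univ (f.base x)) isOpen_univ
  obtain ⟨_, ⟨U, hU, rfl⟩, hxU, hle'⟩ :=
    X.isBasis_affineOpens.exists_subset_of_mem_open (show x ∈ f ⁻¹ᵁ V from hxV) (f ⁻¹ᵁ V).2
  have hle : U ≤ f ⁻¹ᵁ V := hle'
  have hzU : z ∈ U := hzx.mem_open U.2 hxU
  rw [isFlatOverAt_iff_localized f hF hU hV hle hzU]
  rw [isFlatOverAt_iff_localized f hF hU hV hle hxU] at h
  letI : Algebra Γ(S, V) Γ(X, U) := (f.appLE V U hle).hom.toAlgebra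
  letI : Module Γ(S, V) Γ(F, U) := Module.compHom _ (f.appLE V U hle).hom
  haveI : IsScalarTower Γ(S, V) Γ(X, U) Γ(F, U) := IsScalarTower.of_algebraMap_smul fun _ _ => rfl
  haveI := (hU.primeIdealOf ⟨z, hzU⟩).2
  haveI := (hU.primeIdealOf ⟨x, hxU⟩).2
  refine flatAt_mono ?_ h
  refine (VarDim.fromSpec_specializes_iff hU _ _).1 ?_
  rwa [hU.fromSpec_primeIdealOf, hU.fromSpec_primeIdealOf]

end Groth.Agent.H4RG
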