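import Groth.Prelude
import Groth.Agent.H4RG.ImpurityBC
import Groth.Agent.H4RG.AssDown
import Mathlib

/-!
# Associated points of free modules generalise from associated points of the closed fibre
-/

set_option autoImplicit false
set_option linter.style.haveILetI false
set_option backward.isDefEq.respectTransparency.types false

universe u

open TensorProduct IsLocalRing

namespace Groth.Agent.H4RG

attribute [local instance] Algebra.TensorProduct.rightAlgebra

/-- Membership in an extended submodule of a free module is read off the coordinates. -/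
theorem mem_smul_top_iff_coord {R M ι : Type u} [CommRing R] [AddCommGroup M] [Module R M] (b : Module.Basis ι R M)
    (I : Ideal R) (n : M) : n ∈ I • (⊤ : Submodule R M) ↔ ∀ i, b.repr n i ∈ I := by
  constructor
  · intro h i
    have h1 : b.coord i n ∈ I • (⊤ : Submodule R R) := by
      have : (I • (⊤ : Submodule R M)).map (b.coord i) ≤ I • (⊤ : Submodule R R) := by
        rw [Submodule.map_smul'']
        exact Submodule.smul_mono le_rfl le_top
      exact this (Submodule.mem_map_of_mem h)
    rwa [Ideal.smul_eq_mul, Ideal.mul_top] at h1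
  · intro h
    rw [← b.linearCombination_repr n, Finsupp.linearCombination_apply]
    exact Submodule.sum_mem _ fun i _ => Submodule.smul_mem_smul (h i) Submodule.mem_top

/-- An endomorphism of a free module injective on the closed fibre is injective on every quotient. -/
theorem reflects_smul_top_of_free {R M : Type u} [CommRing R] [IsLocalRing R] [AddCommGroup M] [Module R M]
    [Module.Free R M] (f : M →ₗ[R] M)
    (hf : ∀ n, f n ∈ maximalIdeal R • (⊤ : Submodule R M) → n ∈ maximalIdeal R • (⊤ : Submodule R M))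
    (I : Ideal R) (n : M) (hn : f n ∈ I • (⊤ : Submodule R M)) : n ∈ I • (⊤ : Submodule R M) := by
  classical
  let b := Module.Free.chooseBasis R M
  let s := (b.repr n).support
  let w : Finset (Module.Free.ChooseBasisIndex R M) := s.biUnion fun i => (b.repr (f (b i))).support
  let e : (s → R) →ₗ[R] M := Fintype.linearCombination R fun i : s => b i
  let g : (s → R) →ₗ[R] (w → R) := LinearMap.pi fun j => b.coord j ∘ₗ f ∘ₗ e
  have he : ∀ (v : s → R) (i : s), b.repr (e v) i = v i := fun v i => by
    simp [e, Fintype.linearCombination_apply, Finsupp.single_apply, Subtype.val_inj]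
  have hout : ∀ (v : s → R) (j : Module.Free.ChooseBasisIndex R M), j ∉ w → b.repr (f (e v)) j = 0 := fun v j hj => by
    simp only [e, Fintype.linearCombination_apply, map_sum, map_smul, Finsupp.coe_finsetSum, Finset.sum_apply,
      Finsupp.smul_apply]
    refine Finset.sum_eq_zero fun i _ => ?_
    rw [Finsupp.notMem_support_iff.1 fun h => hj (Finset.mem_biUnion.2 ⟨i, i.2, h⟩), smul_zero]
  have hcoord : ∀ (J : Ideal R) (v : s → R), (∀ j, g v j ∈ J) ↔ f (e v) ∈ J • (⊤ : Submodule R M) := fun J v => by
    rw [mem_smul_top_iff_coord b]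
    refine ⟨fun h j => ?_, fun h j => h j⟩
    by_cases hj : j ∈ w
    · exact h ⟨j, hj⟩
    · rw [hout v j hj]; exact J.zero_mem
  have hg : Function.Injective (g.lTensor (ResidueField R)) := by
    rw [injective_iff_map_eq_zero]
    intro y hy
    obtain ⟨v, rfl⟩ := TensorProduct.mk_surjective R (s → R) (ResidueField R) Ideal.Quotient.mk_surjective y
    have h1 : g v ∈ maximalIdeal R • (⊤ : Submodule R (w → R)) := by
      rw [← LinearMap.ker_tensorProductMk]
      exact hy
    have h2 : ∀ j, g v j ∈ maximalIdeal R := fun j => by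
      have : (maximalIdeal R • (⊤ : Submodule R (w → R))).map (LinearMap.proj j) ≤
          maximalIdeal R • (⊤ : Submodule R R) := by
        rw [Submodule.map_smul'']
        exact Submodule.smul_mono le_rfl le_top
      have := this (Submodule.mem_map_of_mem h1)
      rwa [Ideal.smul_eq_mul, Ideal.mul_top] at this
    have h3 := (mem_smul_top_iff_coord b _ _).1 (hf _ ((hcoord _ v).1 h2))
    have h4 : v ∈ maximalIdeal R • (⊤ : Submodule R (s → R)) :=
      (mem_smul_top_iff_coord (Pi.basisFun R s) _ v).2 fun i => by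
        rw [Pi.basisFun_repr, ← he v i]; exact h3 i
    rw [← LinearMap.ker_tensorProductMk] at h4
    exact h4
  obtain ⟨l, hl⟩ := (IsLocalRing.split_injective_iff_lTensor_residueField_injective g).2 hg
  let v : s → R := fun i => b.repr n i
  have hev : e v = n := by
    simp only [e, v, Fintype.linearCombination_apply]
    conv_rhs => rw [← b.linearCombination_repr n, Finsupp.linearCombination_apply, Finsupp.sum]
    exact Finset.sum_coe_sort s fun i => b.repr n i • b i
  have h5 : g v ∈ I • (⊤ : Submodule R (w → R)) :=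
    (mem_smul_top_iff_coord (Pi.basisFun R w) _ _).2 fun j => by
      rw [Pi.basisFun_repr]; exact (hcoord I v).2 (hev ▸ hn) j
  have h6 : v ∈ I • (⊤ : Submodule R (s → R)) := by
    have : (I • (⊤ : Submodule R (w → R))).map l ≤ I • (⊤ : Submodule R (s → R)) := by
      rw [Submodule.map_smul'']
      exact Submodule.smul_mono le_rfl le_top
    have := this (Submodule.mem_map_of_mem h5)
    rwa [show l (g v) = v from LinearMap.congr_fun hl v] at this
  have : (I • (⊤ : Submodule R (s → R))).map e ≤ I • (⊤ : Submodule R M) := by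
    rw [Submodule.map_smul'']
    exact Submodule.smul_mono le_rfl le_top
  exact hev ▸ this (Submodule.mem_map_of_mem h6)

/-- For a free module every associated point of a fibre lies under an associated point of the closed fibre. -/
theorem exists_assoc_closed_specialization {R S : Type u} [CommRing R] [IsLocalRing R] [CommRing S] [Algebra R S]
    [Algebra.FiniteType R S] (M : Type u) [AddCommGroup M] [Module S M] [Module R M] [IsScalarTower R S M]
    [Module.Finite S M] [Module.Free R M] (t : Ideal R) [t.IsPrime] (Q : Ideal S) [Q.IsPrime] [Q.LiesOver t]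
    (hass : FlatCA.fiberIdeal t Q ∈ associatedPrimes (t.Fiber S) (FlatCA.fiberMod t S M)) :
    ∃ (q : Ideal S) (_ : q.IsPrime), Q ≤ q ∧ q.LiesOver (maximalIdeal R) ∧
      FlatCA.fiberIdeal (maximalIdeal R) q ∈
        associatedPrimes ((maximalIdeal R).Fiber S) (FlatCA.fiberMod (maximalIdeal R) S M) := by
  classical
  let m := maximalIdeal R
  let F := m.Fiber S
  haveI : IsNoetherianRing F := Algebra.FiniteType.isNoetherianRing m.ResidueField _
  haveI : Module.Finite F (FlatCA.fiberMod m S M) := inferInstanceAs (Module.Finite F (F ⊗[S] M))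
  by_contra hcon
  push Not at hcon
  have hfin : (associatedPrimes F (FlatCA.fiberMod m S M)).Finite := associatedPrimes.finite F _
  obtain ⟨a, haQ, ha⟩ : ∃ a ∈ Q, ∀ ρ ∈ associatedPrimes F (FlatCA.fiberMod m S M), algebraMap S F a ∉ ρ := by
    by_contra h
    push Not at h
    obtain ⟨ρ, hρ, hQρ⟩ := (Ideal.subset_union_prime_finite (f := fun ρ : Ideal F => ρ.comap (algebraMap S F)) hfin
      (⊥ : Ideal F) (⊥ : Ideal F) (fun ρ hρ _ _ => haveI : ρ.IsPrime := hρ.1; Ideal.comap_isPrime _ _)).1
      (fun y hy => Set.mem_iUnion₂.2 (by obtain ⟨ρ, hρ, hyρ⟩ := h y hy; exact ⟨ρ, hρ, hyρ⟩))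
    haveI : ρ.IsPrime := hρ.1
    haveI : (ρ.comap (algebraMap S F)).IsPrime := Ideal.comap_isPrime _ _
    refine hcon (ρ.comap (algebraMap S F)) inferInstance hQρ ⟨(comap_fiber_eq m ρ).symm⟩ ?_
    rw [fiberIdeal_comap m ρ]
    exact hρ
  let f : M →ₗ[R] M := (LinearMap.lsmul S M a).restrictScalars R
  have hf : ∀ n, f n ∈ m • (⊤ : Submodule R M) → n ∈ m • (⊤ : Submodule R M) := fun n hn => by
    have h0 : FlatCA.toFiberMod m (S := S) M (a • n) = 0 :=
      (toFiberMod_eq_zero_iff m M _).2 ⟨1, fun h => (maximalIdeal.isMaximal R).ne_top ((Ideal.eq_top_iff_one _).2 h), by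
        rw [one_smul]; exact hn⟩
    have h1 : FlatCA.toFiberMod m (S := S) M n = 0 := by
      by_contra hne
      have hz : algebraMap S F a ∈ {r : F | ∃ x : FlatCA.fiberMod m S M, x ≠ 0 ∧ r • x = 0} :=
        ⟨_, hne, by
          rw [AssFiber.algebraMap_smul_fiberMod, ← map_smul]
          exact h0⟩
      rw [← biUnion_associatedPrimes_eq_zero_divisors, Set.mem_iUnion₂] at hz
      obtain ⟨ρ, hρ, hmem⟩ := hz
      exact ha ρ hρ hmem
    obtain ⟨c, hc, hcn⟩ := (toFiberMod_eq_zero_iff m M n).1 h1
    obtain ⟨c', rfl⟩ : IsUnit c := IsLocalRing.notMem_maximalIdeal.1 hc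
    rw [← one_smul R n, ← c'.inv_mul, mul_smul]
    exact Submodule.smul_mem _ _ hcn
  obtain ⟨x, hx⟩ := exists_witness t M hass Q (le_antisymm (fun s hs => mem_of_mem_fiberIdeal t Q hs)
    fun s hs => Ideal.mem_map_of_mem _ hs)
  obtain ⟨c, hc, hcx⟩ := (toFiberMod_eq_zero_iff t M _).1 ((hx a).2 haQ)
  have h7 : c • x ∈ t • (⊤ : Submodule R M) := reflects_smul_top_of_free f hf t (c • x) (by
    show a • c • x ∈ _
    rw [smul_comm]
    exact hcx)
  refine (‹Q.IsPrime›).ne_top ((Ideal.eq_top_iff_one _).2 ((hx 1).1 ?_))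
  rw [one_smul]
  exact (toFiberMod_eq_zero_iff t M x).2 ⟨c, hc, h7⟩

/-- Associated points of fibres of a principal open are associated points of the whole fibre. -/
theorem assoc_of_away {R S : Type u} [CommRing R] [CommRing S] [Algebra R S] [Algebra.FiniteType R S]
    (N : Type u) [AddCommGroup N] [Module S N] [Module R N] [IsScalarTower R S N] (g : S)
    (T N' : Type u) [CommRing T] [Algebra S T] [Algebra R T] [IsScalarTower R S T] [IsLocalization.Away g T]
    [Algebra.FiniteType R T]
    [AddCommGroup N'] [Module T N'] [Module S N'] [IsScalarTower S T N'] [Module R N'] [IsScalarTower R T N']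
    (f : N →ₗ[S] N') (hf : IsBaseChange T f)
    (p : Ideal R) [p.IsPrime] (P' : Ideal T) [P'.IsPrime] [P'.LiesOver p]
    (hass : FlatCA.fiberIdeal p P' ∈ associatedPrimes (p.Fiber T) (FlatCA.fiberMod p T N'))
    (P : Ideal S) [P.IsPrime] [P.LiesOver p] (hP : P'.comap (algebraMap S T) = P) :
    FlatCA.fiberIdeal p P ∈ associatedPrimes (p.Fiber S) (FlatCA.fiberMod p S N) := by
  haveI : IsLocalizedModule (Submonoid.powers g) f := (isLocalizedModule_iff_isBaseChange (Submonoid.powers g) T f).2 hf
  haveI : IsScalarTower R S N' := IsScalarTower.of_algebraMap_smul fun r y => by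
    rw [← algebraMap_smul T (algebraMap R S r), ← IsScalarTower.algebraMap_apply, algebraMap_smul]
  let fR : N →ₗ[R] N' := f.restrictScalars R
  have hgP : ∀ i : ℕ, algebraMap S T (g ^ i) ∉ P' := fun i h => (‹P'.IsPrime›).ne_top (Ideal.eq_top_of_isUnit_mem _ h
    ((map_pow (algebraMap S T) g i).symm ▸ (IsLocalization.Away.algebraMap_isUnit g).pow i))
  obtain ⟨y, hy⟩ := exists_witness p N' hass P' (le_antisymm (fun s hs => mem_of_mem_fiberIdeal p P' hs)
    fun s hs => Ideal.mem_map_of_mem _ hs)
  obtain ⟨⟨x, _, k, rfl⟩, hk⟩ := IsLocalizedModule.surj (Submonoid.powers g) f y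
  change g ^ k • y = f x at hk
  have hy' : ∀ s : S, FlatCA.toFiberMod p (S := T) N' (algebraMap S T s • f x) = 0 ↔ s ∈ P := fun s => by
    rw [← hk, algebraMap_smul T s, smul_smul, ← algebraMap_smul T (s * g ^ k) y, hy, map_mul, ← hP, Ideal.mem_comap]
    exact ⟨fun h => ((‹P'.IsPrime›).mem_or_mem h).resolve_right (hgP k), fun h => P'.mul_mem_right _ h⟩
  have himage : (p • (⊤ : Submodule R N)).map fR ≤ p • (⊤ : Submodule R N') := by
    rw [Submodule.map_smul'']
    exact Submodule.smul_mono le_rfl le_top
  let F := p.Fiber S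
  haveI : IsNoetherianRing F := Algebra.FiniteType.isNoetherianRing p.ResidueField _
  let y0 : ℕ → FlatCA.fiberMod p S N := fun j => FlatCA.toFiberMod p (S := S) N (g ^ j • x)
  let J : ℕ →o Ideal F := ⟨fun j => LinearMap.ker (LinearMap.toSpanSingleton F _ (y0 j)),
    monotone_nat_of_le_succ fun j b hb => by
      rw [LinearMap.mem_ker, LinearMap.toSpanSingleton_apply] at hb ⊢
      show b • FlatCA.toFiberMod p (S := S) N (g ^ (j + 1) • x) = 0
      rw [pow_succ', mul_smul, map_smul, ← AssFiber.algebraMap_smul_fiberMod p N g, smul_comm, hb, smul_zero]⟩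
  obtain ⟨K, hK⟩ := monotone_stabilizes_iff_noetherian.2 (inferInstance : IsNoetherian F F) J
  have hJ : ∀ (j : ℕ) (s : S), algebraMap S F s ∈ J j ↔ FlatCA.toFiberMod p (S := S) N (s • g ^ j • x) = 0 := fun j s => by
    show algebraMap S F s • y0 j = 0 ↔ _
    rw [AssFiber.algebraMap_smul_fiberMod, ← map_smul]
  refine fiberIdeal_mem_associatedPrimes p N P (g ^ K • x) fun s => ?_
  constructor
  · intro h
    obtain ⟨c, hc, hcx⟩ := (toFiberMod_eq_zero_iff p N _).1 h
    refine ((‹P.IsPrime›).mem_or_mem ((hy' (s * g ^ K)).1 ((toFiberMod_eq_zero_iff p N' _).2 ⟨c, hc, ?_⟩))).resolve_right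
      fun hg => hgP K (Ideal.mem_comap.1 (hP.ge hg))
    rw [algebraMap_smul T (s * g ^ K), ← map_smul, mul_smul,
      show c • f (s • g ^ K • x) = fR (c • (s • g ^ K • x)) from (fR.map_smul c _).symm]
    exact himage (Submodule.mem_map_of_mem hcx)
  · intro hs
    obtain ⟨c, hc, hcm⟩ := (toFiberMod_eq_zero_iff p N' _).1 ((hy' s).2 hs)
    rw [algebraMap_smul T s, ← map_smul, show c • f (s • x) = fR (c • (s • x)) from (fR.map_smul c (s • x)).symm] at hcm
    have h2 : ∀ z ∈ p • (⊤ : Submodule R N'), ∃ l : ℕ, ∃ n ∈ p • (⊤ : Submodule R N), g ^ l • z = f n := by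
      intro z hz
      refine Submodule.smul_induction_on hz (fun a ha n _ => ?_) (fun a b ha hb => ?_)
      · obtain ⟨⟨n0, _, l, rfl⟩, hn⟩ := IsLocalizedModule.surj (Submonoid.powers g) f n
        refine ⟨l, a • n0, Submodule.smul_mem_smul ha Submodule.mem_top, ?_⟩
        change g ^ l • n = f n0 at hn
        rw [smul_comm, hn, show f (a • n0) = fR (a • n0) from rfl, fR.map_smul]
        rfl
      · obtain ⟨l1, n, hn, h1⟩ := ha
        obtain ⟨l2, m, hm, h2⟩ := hb
        refine ⟨l1 + l2, g ^ l2 • n + g ^ l1 • m, add_mem ?_ ?_, ?_⟩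
        · exact Submodule.smul_induction_on hn (fun a ha n _ => by rw [smul_comm]; exact Submodule.smul_mem_smul ha Submodule.mem_top)
            (fun a b ha hb => by rw [smul_add]; exact add_mem ha hb)
        · exact Submodule.smul_induction_on hm (fun a ha n _ => by rw [smul_comm]; exact Submodule.smul_mem_smul ha Submodule.mem_top)
            (fun a b ha hb => by rw [smul_add]; exact add_mem ha hb)
        · rw [map_add, map_smul, map_smul, ← h1, ← h2, smul_add, pow_add, mul_smul, mul_smul]
          congr 1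
          exact smul_comm _ _ _
    obtain ⟨l, n, hn, hl⟩ := h2 _ hcm
    rw [show g ^ l • fR (c • (s • x)) = f (g ^ l • (c • (s • x))) from (f.map_smul _ _).symm] at hl
    obtain ⟨⟨_, i, rfl⟩, hi⟩ := (IsLocalizedModule.eq_iff_exists (Submonoid.powers g) f).1 hl
    change g ^ i • (g ^ l • (c • (s • x))) = g ^ i • n at hi
    have h3 : c • ((g ^ i * g ^ l * s) • x) ∈ p • (⊤ : Submodule R N) := by
      rw [mul_smul, mul_smul, smul_comm c (g ^ i), smul_comm c (g ^ l), hi]
      exact Submodule.smul_induction_on hn (fun a ha n _ => by rw [smul_comm]; exact Submodule.smul_mem_smul ha Submodule.mem_top)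
        (fun a b ha hb => by rw [smul_add]; exact add_mem ha hb)
    have h5 : FlatCA.toFiberMod p (S := S) N (s • g ^ (K + (i + l)) • x) = 0 :=
      (toFiberMod_eq_zero_iff p N _).2 ⟨c, hc, by
        have h6 : (g ^ K : S) • (c • ((g ^ i * g ^ l * s) • x)) ∈ p • (⊤ : Submodule R N) :=
          Submodule.smul_induction_on h3 (fun a ha n _ => by rw [smul_comm]; exact Submodule.smul_mem_smul ha Submodule.mem_top)
            (fun a b ha hb => by rw [smul_add]; exact add_mem ha hb)
        rw [smul_comm, smul_smul] at h6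
        rwa [smul_smul s, show s * g ^ (K + (i + l)) = g ^ K * (g ^ i * g ^ l * s) from by ring]⟩
    rw [← hJ, ← hK (K + (i + l)) (Nat.le_add_right _ _), hJ] at h5
    exact h5

end Groth.Agent.H4RG
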