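import Groth.Prelude
import Groth.Agent.H4RG.ImpurityBC
import Groth.Agent.H4RG.AssDown
import Mathlib

/-!
# Impurities descend to finitely generated stages
-/

set_option autoImplicit false
set_option linter.style.haveILetI false
set_option backward.isDefEq.respectTransparency.types false

universe u

open TensorProduct

namespace Groth.Agent.H4RG

attribute [local instance] Algebra.TensorProduct.rightAlgebra

section

variable {A B : Type u} [CommRing A] [CommRing B] [Algebra A B]
variable {A' B' : Type u} [CommRing A'] [CommRing B'] [Algebra A A'] [Algebra B B'] [Algebra A' B'] [Algebra A B']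
  [IsScalarTower A B B'] [IsScalarTower A A' B']

/-- The map from a stage to a model of the base change. -/
noncomputable def pushMap (C : Type u) [CommRing C] [Algebra A C] [Algebra C A'] [IsScalarTower A C A'] :
    C ⊗[A] B →ₐ[A] B' :=
  Algebra.TensorProduct.lift ((IsScalarTower.toAlgHom A A' B').comp (IsScalarTower.toAlgHom A C A'))
    (IsScalarTower.toAlgHom A B B') fun _ _ => .all _ _

theorem pushMap_tmul (C : Type u) [CommRing C] [Algebra A C] [Algebra C A'] [IsScalarTower A C A'] (c : C) (b : B) :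
    (pushMap (A' := A') C : C ⊗[A] B →ₐ[A] B') (c ⊗ₜ[A] b) = algebraMap A' B' (algebraMap C A' c) * algebraMap B B' b :=
  Algebra.TensorProduct.lift_tmul _ _ _ _ _

/-- Every element of the base change lives at a finitely generated stage. -/
theorem exists_finset_range [Algebra.IsPushout A B A' B'] (x : B') :
    ∃ F : Finset A', ∀ (C : Type u) [CommRing C] [Algebra A C] [Algebra C A'] [IsScalarTower A C A'],
      (↑F : Set A') ⊆ Set.range (algebraMap C A') → ∃ x0 : C ⊗[A] B, pushMap (A' := A') C x0 = x := by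
  classical
  haveI : Algebra.IsPushout A A' B B' := Algebra.IsPushout.symm inferInstance
  obtain ⟨y, rfl⟩ := (Algebra.IsPushout.equiv A A' B B').surjective x
  induction y using TensorProduct.induction_on with
  | zero => exact ⟨∅, fun C _ _ _ _ _ => ⟨0, by simp⟩⟩
  | add a b ha hb =>
    obtain ⟨F, hF⟩ := ha
    obtain ⟨G, hG⟩ := hb
    refine ⟨F ∪ G, fun C _ _ _ _ h => ?_⟩
    obtain ⟨a0, ha0⟩ := hF C fun z hz => h (Finset.mem_union_left _ hz)
    obtain ⟨b0, hb0⟩ := hG C fun z hz => h (Finset.mem_union_right _ hz)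
    exact ⟨a0 + b0, by rw [map_add, map_add, ha0, hb0]⟩
  | tmul a b =>
    refine ⟨{a}, fun C _ _ _ _ h => ?_⟩
    obtain ⟨c, hc⟩ := h (Finset.mem_singleton_self a)
    exact ⟨c ⊗ₜ b, by rw [pushMap_tmul, hc, Algebra.IsPushout.equiv_tmul]⟩

/-- Members of an extended ideal live at a finitely generated stage. -/
theorem exists_finset_mem_map [Algebra.IsPushout A B A' B'] (t : Ideal A') {w : B'}
    (hw : w ∈ t.map (algebraMap A' B')) :
    ∃ F : Finset A', ∀ (C : Type u) [CommRing C] [Algebra A C] [Algebra C A'] [IsScalarTower A C A'],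
      (↑F : Set A') ⊆ Set.range (algebraMap C A') →
        ∃ w0 ∈ (t.comap (algebraMap C A')).map (algebraMap C (C ⊗[A] B)), pushMap (A' := A') C w0 = w := by
  classical
  induction hw using Submodule.span_induction with
  | mem x hx =>
    obtain ⟨a, ha, rfl⟩ := hx
    refine ⟨{a}, fun C _ _ _ _ h => ?_⟩
    obtain ⟨c, hc⟩ := h (Finset.mem_singleton_self a)
    refine ⟨algebraMap C _ c, Ideal.mem_map_of_mem _ (Ideal.mem_comap.2 (hc.symm ▸ ha)), ?_⟩
    rw [show algebraMap C (C ⊗[A] B) c = c ⊗ₜ[A] (1 : B) from rfl, pushMap_tmul, hc, map_one, mul_one]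
  | zero => exact ⟨∅, fun C _ _ _ _ _ => ⟨0, Ideal.zero_mem _, map_zero _⟩⟩
  | add a b _ _ ha hb =>
    obtain ⟨F, hF⟩ := ha
    obtain ⟨G, hG⟩ := hb
    refine ⟨F ∪ G, fun C _ _ _ _ h => ?_⟩
    obtain ⟨a0, ha1, ha0⟩ := hF C fun z hz => h (Finset.mem_union_left _ hz)
    obtain ⟨b0, hb1, hb0⟩ := hG C fun z hz => h (Finset.mem_union_right _ hz)
    exact ⟨a0 + b0, Ideal.add_mem _ ha1 hb1, by rw [map_add, ha0, hb0]⟩
  | smul x a _ ha =>
    obtain ⟨F, hF⟩ := ha
    obtain ⟨G, hG⟩ := exists_finset_range (A := A) (B := B) (A' := A') x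
    refine ⟨F ∪ G, fun C _ _ _ _ h => ?_⟩
    obtain ⟨a0, ha1, ha0⟩ := hF C fun z hz => h (Finset.mem_union_left _ hz)
    obtain ⟨x0, hx0⟩ := hG C fun z hz => h (Finset.mem_union_right _ hz)
    exact ⟨x0 * a0, Ideal.mul_mem_left _ _ ha1, by rw [map_mul, hx0, ha0, smul_eq_mul]⟩

end

section

variable {A B : Type u} [CommRing A] [CommRing B] [Algebra A B] {N : Type u} [AddCommGroup N] [Module B N]
  {p : Ideal A} [p.IsPrime]
variable {A' B' N' : Type u} [CommRing A'] [CommRing B'] [Algebra A A'] [Algebra B B'] [Algebra A' B'] [Algebra A B']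
  [IsScalarTower A B B'] [IsScalarTower A A' B'] [AddCommGroup N'] [Module B' N'] [Module B N'] [IsScalarTower B B' N']
  [Module A' N'] [IsScalarTower A' B' N'] {f : N →ₗ[B] N'} {t' t : Ideal A'} [t'.IsPrime] [t.IsPrime]
  {P : Ideal B'} [P.IsPrime]

/-- An impurity has an element outside the point which separates the two closed sets. -/
theorem exists_sep (himp : FlatCA.IsImpurity A B N p A' B' N' f t' t P) :
    ∃ s ∉ t, algebraMap A' B' s ∈ P ⊔ t.map (algebraMap A' B') := by
  by_contra h
  push Not at h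
  obtain ⟨Q, hQ, hle, hd⟩ := Ideal.exists_le_prime_disjoint (P ⊔ t.map (algebraMap A' B'))
    (Algebra.algebraMapSubmonoid B' t.primeCompl) (Set.disjoint_left.2 fun y hy hyS => by
      obtain ⟨s, hs, rfl⟩ := hyS
      exact h s hs hy)
  refine @himp.2.2.2.2.2.2 Q hQ (le_sup_left.trans hle) ⟨le_antisymm (Ideal.map_le_iff_le_comap.1 (le_sup_right.trans hle))
    fun a ha => ?_⟩
  by_contra hat
  exact Set.disjoint_left.1 hd (Ideal.mem_comap.1 ha) ⟨a, hat, rfl⟩

/-- A separated pair of sets gives an impurity. -/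
theorem no_specialization_of_sep {C C' : Type u} [CommRing C] [CommRing C'] [Algebra C C'] {P0 : Ideal C'}
    {T T2 : Ideal C} {s : C} (hs : algebraMap C C' s ∈ P0 ⊔ T.map (algebraMap C C')) (hT : T ≤ T2) (hsT : s ∉ T2)
    (Q : Ideal C') (hQ : P0 ≤ Q) : ¬ Q.LiesOver T2 := fun hov => by
  refine hsT (hov.over.ge ?_)
  exact Ideal.mem_comap.2 ((sup_le hQ (Ideal.map_le_iff_le_comap.2 (hT.trans hov.over.le))) hs)

/-- An impurity descends to every stage containing a suitable finite set, with a separating element. -/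
theorem exists_impurity_down [Algebra.FiniteType A B] (himp : FlatCA.IsImpurity A B N p A' B' N' f t' t P) :
    ∃ F : Finset A', ∀ (C : Type u) [CommRing C] [Algebra A C] [Algebra C A'] [IsScalarTower A C A'],
      (↑F : Set A') ⊆ Set.range (algebraMap C A') → ∃ (P0 : Ideal (C ⊗[A] B)) (_ : P0.IsPrime) (s : C),
        FlatCA.IsImpurity A B N p C (C ⊗[A] B) ((C ⊗[A] B) ⊗[B] N) (TensorProduct.mk B (C ⊗[A] B) N 1)
          (t'.comap (algebraMap C A')) (t.comap (algebraMap C A')) P0 ∧
        s ∉ t.comap (algebraMap C A') ∧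
        algebraMap C (C ⊗[A] B) s ∈ P0 ⊔ (t.comap (algebraMap C A')).map (algebraMap C (C ⊗[A] B)) := by
  classical
  obtain ⟨s, hst, hs⟩ := exists_sep himp
  obtain ⟨hpush, hbc, hle, htp, hPt, hass, -⟩ := himp
  haveI := hpush
  obtain ⟨π, hπ, w, hw, hsw⟩ := Submodule.mem_sup.1 hs
  obtain ⟨F, hF⟩ := exists_finset_mem_map (A := A) (B := B) t hw
  refine ⟨insert s F, fun C _ _ _ _ hC => ?_⟩
  obtain ⟨s0, hs0⟩ := hC (Finset.mem_insert_self s F)
  obtain ⟨w0, hw0, hw0'⟩ := hF C fun z hz => hC (Finset.mem_insert_of_mem hz)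
  let B0 := C ⊗[A] B
  let N0 := B0 ⊗[B] N
  let θ : B0 →ₐ[A] B' := pushMap (A' := A') C
  letI : Algebra B0 B' := θ.toRingHom.toAlgebra
  letI : Algebra C B' := ((algebraMap A' B').comp (algebraMap C A')).toAlgebra
  haveI : IsScalarTower C A' B' := IsScalarTower.of_algebraMap_eq fun _ => rfl
  haveI : IsScalarTower C B0 B' := IsScalarTower.of_algebraMap_eq fun c => by
    show _ = θ (c ⊗ₜ[A] (1 : B))
    rw [pushMap_tmul, map_one, mul_one]
    rfl
  haveI : IsScalarTower B B0 B' := IsScalarTower.of_algebraMap_eq fun b => by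
    show _ = θ ((1 : C) ⊗ₜ[A] b)
    rw [pushMap_tmul, map_one, map_one, one_mul]
  haveI : IsScalarTower A B0 B' := IsScalarTower.of_algebraMap_eq fun r => (θ.commutes r).symm
  haveI : IsScalarTower A C B' := IsScalarTower.of_algebraMap_eq fun r => by
    rw [IsScalarTower.algebraMap_apply A A' B', IsScalarTower.algebraMap_apply A C A']
    rfl
  haveI : Algebra.IsPushout A A' B B' := Algebra.IsPushout.symm inferInstance
  haveI : Algebra.IsPushout A C B B0 := inferInstance
  haveI : Algebra.IsPushout C A' B0 B' := (Algebra.IsPushout.comp_iff A C B B0 (T := A') (T' := B')).1 inferInstance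
  haveI : Algebra.IsPushout C B0 A' B' := Algebra.IsPushout.symm inferInstance
  letI : Module B0 N' := Module.compHom N' (algebraMap B0 B')
  haveI : IsScalarTower B0 B' N' := IsScalarTower.of_algebraMap_smul fun _ _ => rfl
  haveI : IsScalarTower B B0 N' := IsScalarTower.of_algebraMap_smul fun b y => by
    show algebraMap B0 B' (algebraMap B B0 b) • y = b • y
    rw [← IsScalarTower.algebraMap_apply, algebraMap_smul]
  let g : N0 →ₗ[B0] N' := (TensorProduct.isBaseChange B N B0).lift f
  have hg : IsBaseChange B' g := ((TensorProduct.isBaseChange B N B0).comp_iff (T := B') (h := g)).1 (by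
    rw [show (g.restrictScalars B) ∘ₗ (TensorProduct.mk B B0 N 1) = f from
      LinearMap.ext fun n => (TensorProduct.isBaseChange B N B0).lift_eq f n]
    exact hbc)
  let P0 := P.comap (algebraMap B0 B')
  haveI : P0.IsPrime := Ideal.comap_isPrime _ _
  have hP0 : P0.comap (algebraMap C B0) = t'.comap (algebraMap C A') := by
    rw [Ideal.comap_comap, ← IsScalarTower.algebraMap_eq, IsScalarTower.algebraMap_eq C A' B', ← Ideal.comap_comap,
      show P.comap (algebraMap A' B') = t' from hPt.over.symm]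
  have hass0 := assoc_of_baseChange (R := C) (S := B0) (R2 := A') (S2 := B') N0 N' g hg
    (t'.comap (algebraMap C A')) t' rfl P hPt.over.symm hass P0 rfl
  have hsep : algebraMap C B0 s0 ∈ P0 ⊔ (t.comap (algebraMap C A')).map (algebraMap C B0) := by
    refine Submodule.mem_sup.2 ⟨algebraMap C B0 s0 - w0, ?_, w0, hw0, sub_add_cancel _ _⟩
    rw [Ideal.mem_comap, map_sub, ← IsScalarTower.algebraMap_apply, show algebraMap B0 B' w0 = w from hw0',
      IsScalarTower.algebraMap_apply C A' B', hs0, ← hsw, add_sub_cancel_right]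
    exact hπ
  have hs0t : s0 ∉ t.comap (algebraMap C A') := fun h => hst (hs0 ▸ h)
  refine ⟨P0, inferInstance, s0, ⟨inferInstance, TensorProduct.isBaseChange B N B0, Ideal.comap_mono hle, ⟨?_⟩,
    ⟨hP0.symm⟩, hass0, fun Q _ hQ => no_specialization_of_sep hsep le_rfl hs0t Q hQ⟩, hs0t, hsep⟩
  rw [Ideal.under_def, Ideal.comap_comap, ← IsScalarTower.algebraMap_eq]
  exact htp.over

/-- A separated impurity moves to any point above which the separating element does not vanish. -/
theorem exists_impurity_push [Algebra.FiniteType A B] (himp : FlatCA.IsImpurity A B N p A' B' N' f t' t P)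
    (s : A') (hs : algebraMap A' B' s ∈ P ⊔ t.map (algebraMap A' B'))
    (C : Type u) [CommRing C] [Algebra A C] [Algebra A' C] [IsScalarTower A A' C]
    (t3 t2 : Ideal C) [t3.IsPrime] [t2.IsPrime] (hle : t3 ≤ t2) (h3 : t3.comap (algebraMap A' C) = t')
    (h2 : t ≤ t2.comap (algebraMap A' C)) (hs2 : algebraMap A' C s ∉ t2) (hp : t2.LiesOver p)
    (Q : ∀ (X : Type u) [CommRing X] [Algebra A X], Ideal X → Prop) (hQ : Q C t2) :
    FlatCA.HasImpurity A B N p Q := by
  obtain ⟨hpush, hbc, -, htp, hPt, hass, -⟩ := himp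
  haveI := hpush
  haveI : Algebra.IsPushout A A' B B' := Algebra.IsPushout.symm inferInstance
  haveI : Algebra.FiniteType A' B' :=
    Algebra.FiniteType.equiv (inferInstance : Algebra.FiniteType A' (A' ⊗[A] B)) (Algebra.IsPushout.equiv A A' B B')
  let B2 := C ⊗[A] B
  let N2 := B2 ⊗[B] N
  let χ : B' →ₐ[A'] B2 :=
    (Algebra.TensorProduct.map (Algebra.ofId A' C) (AlgHom.id A B)).comp (Algebra.IsPushout.equiv A A' B B').symm.toAlgHom
  letI : Algebra B' B2 := χ.toRingHom.toAlgebra
  have hχ : ∀ b : B, χ (algebraMap B B' b) = (1 : C) ⊗ₜ[A] b := fun b => by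
    show Algebra.TensorProduct.map _ _ ((Algebra.IsPushout.equiv A A' B B').symm (algebraMap B B' b)) = _
    rw [Algebra.IsPushout.equiv_symm_algebraMap_right, Algebra.TensorProduct.map_tmul, map_one]
    rfl
  haveI : IsScalarTower B B' B2 := IsScalarTower.of_algebraMap_eq fun b => (hχ b).symm
  haveI : IsScalarTower A' B' B2 := IsScalarTower.of_algebraMap_eq fun a => (χ.commutes a).symm
  haveI : IsScalarTower A B' B2 := IsScalarTower.of_algebraMap_eq fun a => by
    rw [IsScalarTower.algebraMap_apply A B B2, IsScalarTower.algebraMap_apply B B' B2, ← IsScalarTower.algebraMap_apply A B B']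
  haveI : Algebra.IsPushout A C B B2 := inferInstance
  haveI : Algebra.IsPushout A' C B' B2 := (Algebra.IsPushout.comp_iff A A' B B' (T := C) (T' := B2)).1 inferInstance
  haveI : Algebra.IsPushout A' B' C B2 := Algebra.IsPushout.symm inferInstance
  haveI : SMulCommClass B B' B2 := ⟨fun b c x => by
    rw [← algebraMap_smul B2 b, ← algebraMap_smul B2 c x, ← algebraMap_smul B2 b, ← algebraMap_smul B2 c, smul_comm]⟩
  letI : Module B' N2 := TensorProduct.leftModule
  haveI : IsScalarTower B' B2 N2 := TensorProduct.isScalarTower_left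
  haveI : IsScalarTower B B' N2 := IsScalarTower.of_algebraMap_smul fun b y => by
    rw [← algebraMap_smul B2 (algebraMap B B' b), ← IsScalarTower.algebraMap_apply, algebraMap_smul]
  let g : N' →ₗ[B'] N2 := hbc.lift (TensorProduct.mk B B2 N 1)
  have hg : IsBaseChange B2 g := (hbc.comp_iff (T := B2) (h := g)).1 (by
    rw [show (g.restrictScalars B) ∘ₗ f = TensorProduct.mk B B2 N 1 from LinearMap.ext fun n => hbc.lift_eq _ n]
    exact TensorProduct.isBaseChange B N B2)
  obtain ⟨P2, hP2, hP2P, hP2t, hass2⟩ := exists_assoc_over N' N2 g hg t' t3 h3 P hPt.over.symm hass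
  have hs' : algebraMap C B2 (algebraMap A' C s) ∈ P2 ⊔ (t.map (algebraMap A' C)).map (algebraMap C B2) := by
    rw [← IsScalarTower.algebraMap_apply, IsScalarTower.algebraMap_apply A' B' B2, Ideal.map_map,
      ← IsScalarTower.algebraMap_eq, IsScalarTower.algebraMap_eq A' B' B2, ← Ideal.map_map]
    have := Ideal.mem_map_of_mem (algebraMap B' B2) hs
    rw [Ideal.map_sup] at this
    exact sup_le_sup_right (Ideal.map_le_iff_le_comap.2 hP2P.ge) _ this
  exact ⟨C, B2, N2, inferInstance, inferInstance, inferInstance, inferInstance, inferInstance, inferInstance, inferInstance,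
    inferInstance, inferInstance, inferInstance, inferInstance, inferInstance, inferInstance, inferInstance,
    TensorProduct.mk B B2 N 1, t3, t2, inferInstance, inferInstance, P2, hP2,
    ⟨inferInstance, TensorProduct.isBaseChange B N B2, hle, hp, ⟨hP2t.symm⟩, hass2,
      fun Q2 _ hQ2 => no_specialization_of_sep hs' (Ideal.map_le_iff_le_comap.2 h2) hs2 Q2 hQ2⟩, hQ⟩

end

end Groth.Agent.H4RG
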