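import Groth.Prelude
import Groth.Agent.H4RG.ImpurityDown
import Mathlib

/-!
# Associated points of fibres along algebras over the base and along flat algebras
-/

set_option autoImplicit false
set_option linter.style.haveILetI false
set_option backward.isDefEq.respectTransparency.types false

universe u

open TensorProduct

namespace Groth.Agent.H4RG

attribute [local instance] Algebra.TensorProduct.rightAlgebra

/-- A model over a base algebra maps to every model over a further algebra. -/
theorem exists_relative_algebra {A B : Type u} [CommRing A] [CommRing B] [Algebra A B]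
    (A' BA : Type u) [CommRing A'] [CommRing BA] [Algebra A A'] [Algebra A BA] [Algebra B BA] [Algebra A' BA]
    [IsScalarTower A B BA] [IsScalarTower A A' BA] [Algebra.IsPushout A B A' BA]
    (SC : Type u) [CommRing SC] [Algebra A SC] [Algebra B SC] [Algebra A' SC] [IsScalarTower A B SC]
    [IsScalarTower A A' SC] :
    ∃ (_ : Algebra BA SC), IsScalarTower B BA SC ∧ IsScalarTower A' BA SC ∧ IsScalarTower A BA SC := by
  haveI : Algebra.IsPushout A A' B BA := Algebra.IsPushout.symm inferInstance
  let χ : BA →ₐ[A'] SC := (Algebra.TensorProduct.lift (Algebra.ofId A' SC) (IsScalarTower.toAlgHom A B SC)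
    fun _ _ => .all _ _).comp (Algebra.IsPushout.equiv A A' B BA).symm.toAlgHom
  letI : Algebra BA SC := χ.toRingHom.toAlgebra
  haveI h1 : IsScalarTower A' BA SC := IsScalarTower.of_algebraMap_eq fun a => (χ.commutes a).symm
  refine ⟨inferInstance, IsScalarTower.of_algebraMap_eq fun b => ?_, h1, IsScalarTower.of_algebraMap_eq fun r => ?_⟩
  · show _ = (Algebra.TensorProduct.lift (Algebra.ofId A' SC) (IsScalarTower.toAlgHom A B SC) (fun _ _ => .all _ _))
      ((Algebra.IsPushout.equiv A A' B BA).symm (algebraMap B BA b))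
    rw [Algebra.IsPushout.equiv_symm_algebraMap_right, Algebra.TensorProduct.lift_tmul, map_one, one_mul]
    rfl
  · rw [IsScalarTower.algebraMap_apply A A' BA, ← IsScalarTower.algebraMap_apply A' BA SC, ← IsScalarTower.algebraMap_apply]

/-- Associated points over an algebra lift to associated points over a further algebra. -/
theorem exists_assoc_up
    {A B : Type u} [CommRing A] [CommRing B] [Algebra A B] [Algebra.FiniteType A B]
    {N : Type u} [AddCommGroup N] [Module B N]
    {A' BA NA : Type u} [CommRing A'] [CommRing BA] [Algebra A A'] [Algebra A BA] [Algebra B BA] [Algebra A' BA]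
    [IsScalarTower A B BA] [IsScalarTower A A' BA] [Algebra.IsPushout A B A' BA]
    [AddCommGroup NA] [Module BA NA] [Module B NA] [IsScalarTower B BA NA] [Module A' NA] [IsScalarTower A' BA NA]
    {fA : N →ₗ[B] NA}
    {C SC NC : Type u} [CommRing C] [CommRing SC] [Algebra A C] [Algebra A' C] [IsScalarTower A A' C]
    [Algebra A SC] [Algebra B SC] [Algebra A' SC] [Algebra C SC] [IsScalarTower A B SC] [IsScalarTower A A' SC]
    [IsScalarTower A C SC] [IsScalarTower A' C SC] [Algebra.IsPushout A B C SC]
    [Algebra BA SC] [IsScalarTower B BA SC] [IsScalarTower A' BA SC]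
    [AddCommGroup NC] [Module SC NC] [Module B NC] [IsScalarTower B SC NC] [Module C NC] [IsScalarTower C SC NC]
    {fC : N →ₗ[B] NC}
    (hfA : IsBaseChange BA fA) (hfC : IsBaseChange SC fC) (t' : Ideal A') [t'.IsPrime]
    (t3 : Ideal C) [t3.IsPrime] (h3 : t3.comap (algebraMap A' C) = t') (Q : Ideal BA) [Q.IsPrime]
    (hQ : Q.comap (algebraMap A' BA) = t')
    (hass : FlatCA.fiberIdeal t' Q ∈ associatedPrimes (t'.Fiber BA) (FlatCA.fiberMod t' BA NA)) :
    ∃ P2 : Ideal SC, P2.IsPrime ∧ P2.comap (algebraMap BA SC) = Q ∧ P2.comap (algebraMap C SC) = t3 ∧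
      FlatCA.fiberIdeal t3 P2 ∈ associatedPrimes (t3.Fiber SC) (FlatCA.fiberMod t3 SC NC) := by
  haveI : IsScalarTower A BA SC := IsScalarTower.of_algebraMap_eq fun r => by
    rw [IsScalarTower.algebraMap_apply A B BA, ← IsScalarTower.algebraMap_apply B BA SC, ← IsScalarTower.algebraMap_apply]
  haveI : Algebra.IsPushout A A' B BA := Algebra.IsPushout.symm inferInstance
  haveI : Algebra.FiniteType A' BA :=
    Algebra.FiniteType.equiv (inferInstance : Algebra.FiniteType A' (A' ⊗[A] B)) (Algebra.IsPushout.equiv A A' B BA)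
  haveI : Algebra.IsPushout A C B SC := Algebra.IsPushout.symm inferInstance
  haveI : Algebra.IsPushout A' C BA SC := (Algebra.IsPushout.comp_iff A A' B BA (T := C) (T' := SC)).1 inferInstance
  haveI : Algebra.IsPushout A' BA C SC := Algebra.IsPushout.symm inferInstance
  letI : Module BA NC := Module.compHom NC (algebraMap BA SC)
  haveI : IsScalarTower BA SC NC := IsScalarTower.of_algebraMap_smul fun _ _ => rfl
  haveI : IsScalarTower B BA NC := IsScalarTower.of_algebraMap_smul fun b y => by
    show algebraMap BA SC (algebraMap B BA b) • y = b • y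
    rw [← IsScalarTower.algebraMap_apply, algebraMap_smul]
  let g : NA →ₗ[BA] NC := hfA.lift fC
  have hg : IsBaseChange SC g := (hfA.comp_iff (T := SC) (h := g)).1 (by
    rw [show (g.restrictScalars B) ∘ₗ fA = fC from LinearMap.ext fun n => hfA.lift_eq _ n]
    exact hfC)
  exact exists_assoc_over NA NC g hg t' t3 h3 Q hQ hass

/-- Associated points over an algebra map to associated points over the algebra it comes from. -/
theorem assoc_down
    {A B : Type u} [CommRing A] [CommRing B] [Algebra A B] [Algebra.FiniteType A B]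
    {N : Type u} [AddCommGroup N] [Module B N]
    {A' BA NA : Type u} [CommRing A'] [CommRing BA] [Algebra A A'] [Algebra A BA] [Algebra B BA] [Algebra A' BA]
    [IsScalarTower A B BA] [IsScalarTower A A' BA] [Algebra.IsPushout A B A' BA]
    [AddCommGroup NA] [Module BA NA] [Module B NA] [IsScalarTower B BA NA] [Module A' NA] [IsScalarTower A' BA NA]
    {fA : N →ₗ[B] NA}
    {C SC NC : Type u} [CommRing C] [CommRing SC] [Algebra A C] [Algebra A' C] [IsScalarTower A A' C]
    [Algebra A SC] [Algebra B SC] [Algebra A' SC] [Algebra C SC] [IsScalarTower A B SC] [IsScalarTower A A' SC]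
    [IsScalarTower A C SC] [IsScalarTower A' C SC] [Algebra.IsPushout A B C SC]
    [Algebra BA SC] [IsScalarTower B BA SC] [IsScalarTower A' BA SC]
    [AddCommGroup NC] [Module SC NC] [Module B NC] [IsScalarTower B SC NC] [Module C NC] [IsScalarTower C SC NC]
    {fC : N →ₗ[B] NC}
    (hfA : IsBaseChange BA fA) (hfC : IsBaseChange SC fC) (t' : Ideal A') [t'.IsPrime]
    (t3 : Ideal C) [t3.IsPrime] (h3 : t3.comap (algebraMap A' C) = t') (P2 : Ideal SC) [P2.IsPrime]
    (hP2 : P2.comap (algebraMap C SC) = t3)
    (hass : FlatCA.fiberIdeal t3 P2 ∈ associatedPrimes (t3.Fiber SC) (FlatCA.fiberMod t3 SC NC))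
    (Q : Ideal BA) [Q.IsPrime] (hQ : P2.comap (algebraMap BA SC) = Q) :
    FlatCA.fiberIdeal t' Q ∈ associatedPrimes (t'.Fiber BA) (FlatCA.fiberMod t' BA NA) := by
  haveI : IsScalarTower A BA SC := IsScalarTower.of_algebraMap_eq fun r => by
    rw [IsScalarTower.algebraMap_apply A B BA, ← IsScalarTower.algebraMap_apply B BA SC, ← IsScalarTower.algebraMap_apply]
  haveI : Algebra.IsPushout A A' B BA := Algebra.IsPushout.symm inferInstance
  haveI : Algebra.FiniteType A' BA :=
    Algebra.FiniteType.equiv (inferInstance : Algebra.FiniteType A' (A' ⊗[A] B)) (Algebra.IsPushout.equiv A A' B BA)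
  haveI : Algebra.IsPushout A C B SC := Algebra.IsPushout.symm inferInstance
  haveI : Algebra.IsPushout A' C BA SC := (Algebra.IsPushout.comp_iff A A' B BA (T := C) (T' := SC)).1 inferInstance
  haveI : Algebra.IsPushout A' BA C SC := Algebra.IsPushout.symm inferInstance
  letI : Module BA NC := Module.compHom NC (algebraMap BA SC)
  haveI : IsScalarTower BA SC NC := IsScalarTower.of_algebraMap_smul fun _ _ => rfl
  haveI : IsScalarTower B BA NC := IsScalarTower.of_algebraMap_smul fun b y => by
    show algebraMap BA SC (algebraMap B BA b) • y = b • y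
    rw [← IsScalarTower.algebraMap_apply, algebraMap_smul]
  let g : NA →ₗ[BA] NC := hfA.lift fC
  have hg : IsBaseChange SC g := (hfA.comp_iff (T := SC) (h := g)).1 (by
    rw [show (g.restrictScalars B) ∘ₗ fA = fC from LinearMap.ext fun n => hfA.lift_eq _ n]
    exact hfC)
  exact assoc_of_baseChange (R := A') (S := BA) (R2 := C) (S2 := SC) NA NC g hg t' t3 h3 P2 hP2 hass Q hQ


/-- A point with trivial residue field extension gives a single point over each point of the fibre. -/
theorem eq_of_over_same {A B A' BA : Type u} [CommRing A] [CommRing B] [CommRing A'] [CommRing BA] [Algebra A B]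
    [Algebra A A'] [Algebra A BA] [Algebra B BA] [Algebra A' BA] [IsScalarTower A B BA] [IsScalarTower A A' BA]
    [Algebra.IsPushout A B A' BA] (p : Ideal A) [p.IsPrime] (p' : Ideal A') [p'.IsPrime]
    (hsurj : ∀ a' : A', ∃ a c : A, a ∉ p ∧ a • a' - algebraMap A A' c ∈ p') (hover : p'.comap (algebraMap A A') = p)
    (Q Q' : Ideal BA) [Q.IsPrime] [Q'.IsPrime] (hQ : Q.comap (algebraMap A' BA) = p')
    (hQ' : Q'.comap (algebraMap A' BA) = p') (h : Q.comap (algebraMap B BA) = Q'.comap (algebraMap B BA)) : Q = Q' := by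
  haveI : Algebra.IsPushout A A' B BA := Algebra.IsPushout.symm inferInstance
  have hz : ∀ z : BA, ∃ a ∉ p, ∃ b : B, a • z - algebraMap B BA b ∈ p'.map (algebraMap A' BA) := fun z => by
    obtain ⟨y, rfl⟩ := (Algebra.IsPushout.equiv A A' B BA).surjective z
    induction y using TensorProduct.induction_on with
    | zero => exact ⟨1, p.one_notMem, 0, by simp⟩
    | add u v hu hv =>
      obtain ⟨a, ha, b, hb⟩ := hu
      obtain ⟨c, hc, d, hd⟩ := hv
      refine ⟨a * c, fun h => ((‹p.IsPrime›).mem_or_mem h).elim ha hc, algebraMap A B c * b + algebraMap A B a * d, ?_⟩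
      have := add_mem ((p'.map (algebraMap A' BA)).mul_mem_left (algebraMap A BA c) hb)
        ((p'.map (algebraMap A' BA)).mul_mem_left (algebraMap A BA a) hd)
      convert this using 1
      simp only [map_add, map_mul, ← IsScalarTower.algebraMap_apply, Algebra.smul_def]
      ring
    | tmul a' b =>
      obtain ⟨a, c, ha, hc⟩ := hsurj a'
      refine ⟨a, ha, algebraMap A B c * b, ?_⟩
      have := (p'.map (algebraMap A' BA)).mul_mem_right (algebraMap B BA b) (Ideal.mem_map_of_mem (algebraMap A' BA) hc)
      convert this using 1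
      rw [Algebra.IsPushout.equiv_tmul, map_sub, sub_mul]
      simp only [map_mul, Algebra.smul_def, ← IsScalarTower.algebraMap_apply]
      ring
  have key : ∀ (Q Q' : Ideal BA) [Q.IsPrime] [Q'.IsPrime], Q.comap (algebraMap A' BA) = p' →
      Q'.comap (algebraMap A' BA) = p' → Q.comap (algebraMap B BA) = Q'.comap (algebraMap B BA) → Q ≤ Q' := by
    intro Q Q' _ _ hQ hQ' h z hzQ
    obtain ⟨a, ha, b, hb⟩ := hz z
    have h1 : a • z - algebraMap B BA b ∈ Q := (Ideal.map_le_iff_le_comap.2 hQ.ge) hb
    have h2 : algebraMap B BA b ∈ Q := by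
      have := sub_mem (Q.smul_of_tower_mem a hzQ) h1
      rwa [sub_sub_cancel] at this
    rw [← Ideal.mem_comap, h, Ideal.mem_comap] at h2
    have h3 : a • z ∈ Q' := by
      have := add_mem ((Ideal.map_le_iff_le_comap.2 hQ'.ge) hb) h2
      rwa [sub_add_cancel] at this
    rw [Algebra.smul_def] at h3
    refine ((‹Q'.IsPrime›).mem_or_mem h3).resolve_left fun h4 => ha ?_
    rw [← hover, Ideal.mem_comap, ← hQ', Ideal.mem_comap, ← IsScalarTower.algebraMap_apply]
    exact h4
  exact le_antisymm (key Q Q' hQ hQ' h) (key Q' Q hQ' hQ h.symm)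

/-- Residue fields being equal, elements are congruent to fractions from the base. -/
theorem exists_frac_of_bijective {A A' : Type u} [CommRing A] [CommRing A'] [Algebra A A'] (p : Ideal A) [p.IsPrime]
    (p' : Ideal A') [p'.IsPrime] (h : p = p'.under A)
    (hbij : Function.Bijective (Ideal.ResidueField.mapₐ p p' (Algebra.ofId A A') h)) (a' : A') :
    ∃ a c : A, a ∉ p ∧ a • a' - algebraMap A A' c ∈ p' := by
  let φ := Ideal.ResidueField.mapₐ p p' (Algebra.ofId A A') h
  obtain ⟨y, hy⟩ := hbij.2 (algebraMap A' p'.ResidueField a')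
  obtain ⟨c, s, hs, hcs⟩ := IsFractionRing.div_surjective (A ⧸ p) y
  obtain ⟨c, rfl⟩ := Ideal.Quotient.mk_surjective c
  obtain ⟨s, rfl⟩ := Ideal.Quotient.mk_surjective s
  rw [Ideal.algebraMap_quotient_residueField_mk, Ideal.algebraMap_quotient_residueField_mk] at hcs
  have hsp : s ∉ p := fun h0 => (mem_nonZeroDivisors_iff_ne_zero.mp hs) (Ideal.Quotient.eq_zero_iff_mem.2 h0)
  have hs0 : algebraMap A p.ResidueField s ≠ 0 := fun e => hsp (Ideal.algebraMap_residueField_eq_zero.1 e)
  refine ⟨s, c, hsp, ?_⟩
  rw [← Ideal.algebraMap_residueField_eq_zero, map_sub, Algebra.smul_def, map_mul, ← hy, sub_eq_zero,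
    ← IsScalarTower.algebraMap_apply, ← IsScalarTower.algebraMap_apply, ← φ.commutes s, ← φ.commutes c, ← map_mul,
    (div_eq_iff hs0).1 hcs, mul_comm]

/-- A point of a flat algebra over an associated point gives an associated point above it. -/
theorem exists_assoc_flat {R S S' : Type u} [CommRing R] [CommRing S] [CommRing S'] [Algebra R S] [Algebra R S']
    [Algebra S S'] [IsScalarTower R S S'] [Algebra.FiniteType R S] [Algebra.FiniteType R S'] [Module.Flat S S']
    (M : Type u) [AddCommGroup M] [Module S M] [Module R M] [IsScalarTower R S M]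
    (M' : Type u) [AddCommGroup M'] [Module S' M'] [Module S M'] [IsScalarTower S S' M'] [Module R M']
    [IsScalarTower R S' M'] (f : M →ₗ[S] M') (hf : IsBaseChange S' f)
    (t : Ideal R) [t.IsPrime] (P : Ideal S) [P.IsPrime] [P.LiesOver t]
    (hass : FlatCA.fiberIdeal t P ∈ associatedPrimes (t.Fiber S) (FlatCA.fiberMod t S M))
    (P' : Ideal S') [P'.IsPrime] (hP' : P'.comap (algebraMap S S') = P) :
    ∃ (P1 : Ideal S') (_ : P1.IsPrime), P ≤ P1.comap (algebraMap S S') ∧ P1.LiesOver t ∧
      FlatCA.fiberIdeal t P1 ∈ associatedPrimes (t.Fiber S') (FlatCA.fiberMod t S' M') := by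
  haveI : IsScalarTower R S M' := IsScalarTower.of_algebraMap_smul fun r y => by
    rw [← algebraMap_smul S' (algebraMap R S r), ← IsScalarTower.algebraMap_apply, algebraMap_smul]
  obtain ⟨x, hx⟩ := exists_witness t M hass P (le_antisymm (fun s hs => mem_of_mem_fiberIdeal t P hs)
    fun s hs => Ideal.mem_map_of_mem _ hs)
  have hne : FlatCA.toFiberMod t (S := S') M' (f x) ≠ 0 := fun h => by
    obtain ⟨c, hc, hcm⟩ := (toFiberMod_eq_zero_iff t M' _).1 h
    let K := AssFiber.pN t (S := S) M
    let I : Ideal S := LinearMap.ker (K.mkQ ∘ₗ LinearMap.toSpanSingleton S M (c • x))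
    have hI : I ≤ P := fun s hs => by
      have h1 : s • c • x ∈ K := (Submodule.Quotient.mk_eq_zero K).1 (LinearMap.mem_ker.1 hs)
      refine (hx s).1 ((toFiberMod_eq_zero_iff t M _).2 ⟨c, hc, ?_⟩)
      rw [smul_comm]
      exact AssFiber.mem_smul_top_of_mem_pN t M h1
    let ι : (S ⧸ I) →ₗ[S] M ⧸ K := Submodule.liftQ I (K.mkQ ∘ₗ LinearMap.toSpanSingleton S M (c • x)) le_rfl
    have hι : Function.Injective ι := by
      rw [← LinearMap.ker_eq_bot]
      exact Submodule.ker_liftQ_eq_bot _ _ _ le_rfl
    have hι' := Module.Flat.lTensor_preserves_injective_linearMap (M := S') ι hι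
    let F0 : M →ₗ[S] S' ⊗[S] (M ⧸ K) := (TensorProduct.mk S S' (M ⧸ K) 1).comp K.mkQ
    let μ : M' →ₗ[S'] S' ⊗[S] (M ⧸ K) := hf.lift F0
    have hμ : μ (c • f x) = 0 := by
      have h2 := AssFiber.smul_mem_pN (S := S') t M' hcm
      have hle : AssFiber.pN t (S := S') M' ≤ LinearMap.ker μ := Submodule.smul_le.2 fun s' hs' m _ => by
        rw [LinearMap.mem_ker, map_smul]
        have hkill : t.map (algebraMap R S') ≤ Module.annihilator S' (S' ⊗[S] (M ⧸ K)) :=
          Ideal.map_le_iff_le_comap.2 fun r hr => by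
            rw [Ideal.mem_comap, Module.mem_annihilator]
            intro z
            induction z using TensorProduct.induction_on with
            | zero => exact smul_zero _
            | add a b ha hb => rw [smul_add, ha, hb, add_zero]
            | tmul a b =>
              obtain ⟨b, rfl⟩ := Submodule.Quotient.mk_surjective _ b
              rw [IsScalarTower.algebraMap_apply R S S', algebraMap_smul, ← tmul_smul, ← Submodule.Quotient.mk_smul,
                (Submodule.Quotient.mk_eq_zero K).2 (Submodule.smul_mem_smul (Ideal.mem_map_of_mem _ hr) Submodule.mem_top),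
                tmul_zero]
        exact Module.mem_annihilator.1 (hkill hs') _
      exact hle h2
    have h3 : (1 : S') ⊗ₜ[S] (Ideal.Quotient.mk I (1 : S)) = 0 := hι' (by
      rw [LinearMap.lTensor_tmul, map_zero]
      show (1 : S') ⊗ₜ[S] K.mkQ ((1 : S) • c • x) = 0
      rw [one_smul, ← hμ, show c • f x = f (c • x) from ((f.restrictScalars R).map_smul c x).symm]
      exact (hf.lift_eq F0 (c • x)).symm)
    let ν : S' ⊗[S] (S ⧸ I) →ₐ[S] S' ⧸ I.map (algebraMap S S') :=
      Algebra.TensorProduct.lift (IsScalarTower.toAlgHom S S' (S' ⧸ I.map (algebraMap S S'))) (Ideal.Quotient.liftₐ I (Algebra.ofId S _) fun s hs => by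
        show algebraMap S (S' ⧸ I.map (algebraMap S S')) s = 0
        rw [IsScalarTower.algebraMap_apply S S' (S' ⧸ I.map (algebraMap S S'))]
        exact Ideal.Quotient.eq_zero_iff_mem.2 (Ideal.mem_map_of_mem _ hs)) fun _ _ => .all _ _
    have h4 := congrArg ν h3
    rw [map_zero, show (1 : S') ⊗ₜ[S] (Ideal.Quotient.mk I (1 : S)) = 1 from rfl, map_one] at h4
    have h5 : (1 : S') ∈ I.map (algebraMap S S') := Ideal.Quotient.eq_zero_iff_mem.1 h4
    exact (‹P'.IsPrime›).ne_top ((Ideal.eq_top_iff_one _).2 (Ideal.map_le_iff_le_comap.2 (hI.trans hP'.ge) h5))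
  haveI : IsNoetherianRing (t.Fiber S') := Algebra.FiniteType.isNoetherianRing t.ResidueField _
  obtain ⟨ρ, hρ, hle⟩ := exists_le_isAssociatedPrime_of_isNoetherianRing (R := t.Fiber S') _ hne
  haveI : ρ.IsPrime := hρ.1
  refine ⟨ρ.comap (algebraMap S' (t.Fiber S')), Ideal.comap_isPrime _ _, fun s hs => ?_, ⟨(comap_fiber_eq t ρ).symm⟩, ?_⟩
  · rw [Ideal.mem_comap, Ideal.mem_comap]
    refine hle ?_
    rw [Submodule.mem_colon_singleton, Submodule.mem_bot, AssFiber.algebraMap_smul_fiberMod, ← map_smul,
      algebraMap_smul, ← map_smul, toFiberMod_eq_zero_iff]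
    obtain ⟨c, hc, hcx⟩ := (toFiberMod_eq_zero_iff t M _).1 ((hx s).2 hs)
    refine ⟨c, hc, ?_⟩
    have himage : (t • (⊤ : Submodule R M)).map (f.restrictScalars R) ≤ t • (⊤ : Submodule R M') := by
      rw [Submodule.map_smul'']
      exact Submodule.smul_mono le_rfl le_top
    rw [show c • f (s • x) = f.restrictScalars R (c • (s • x)) from ((f.restrictScalars R).map_smul c _).symm]
    exact himage (Submodule.mem_map_of_mem hcx)
  · rw [fiberIdeal_comap t ρ]
    exact hρ

end Groth.Agent.H4RG
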