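import Mathlib

/-!
# Weil restriction of a closed subscheme along an affine projective algebra
-/

set_option autoImplicit false
set_option linter.style.haveILetI false

universe u

open CategoryTheory CategoryTheory.Limits AlgebraicGeometry TensorProduct

namespace Groth.Agent.H4RG.ClosedRestriction

theorem isPushout_quotient {O T : Type u} [CommRing O] [CommRing T] (ρ : O →+* T) (J : Ideal O) :
    IsPushout (CommRingCat.ofHom (Ideal.Quotient.mk J)) (CommRingCat.ofHom ρ)
      (CommRingCat.ofHom (Ideal.quotientMap (J.map ρ) ρ Ideal.le_comap_map))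
      (CommRingCat.ofHom (Ideal.Quotient.mk (J.map ρ))) := by
  refine IsPushout.of_isColimit' ⟨by ext x; rfl⟩ (PushoutCocone.isColimitAux' _ fun s => ?_)
  have hker : ∀ x ∈ J.map ρ, s.inr.hom x = 0 := by
    refine fun x hx => (Ideal.map_le_iff_le_comap (K := RingHom.ker s.inr.hom)).2 (fun j hj => ?_) hx
    show s.inr.hom (ρ j) = 0
    have h := congrArg (fun f => f.hom j) s.condition
    simp only [CommRingCat.hom_comp, CommRingCat.hom_ofHom, RingHom.comp_apply,
      Ideal.Quotient.eq_zero_iff_mem.2 hj, map_zero] at h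
    exact h.symm
  refine ⟨CommRingCat.ofHom (Ideal.Quotient.lift _ s.inr.hom hker), ?_, ?_, fun {m} _ h2 => ?_⟩
  · ext x
    exact (congrArg (fun f => f.hom x) s.condition).symm
  · ext x; rfl
  · refine CommRingCat.hom_ext (RingHom.ext fun x => ?_)
    obtain ⟨x, rfl⟩ := Ideal.Quotient.mk_surjective (x : T ⧸ J.map ρ)
    exact congrArg (fun f => f.hom x) h2

variable {A B : Type u} [CommRing A] [CommRing B] [Algebra A B]

/-- The ideal of the coefficients of an ideal. -/
def coeffIdeal (J : Ideal B) : Ideal A :=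
  Ideal.span {a | ∃ (φ : B →ₗ[A] A) (b : B), b ∈ J ∧ φ b = a}

theorem le_map_coeffIdeal [Module.Projective A B] (J : Ideal B) :
    J ≤ (coeffIdeal (A := A) J).map (algebraMap A B) := by
  obtain ⟨s, hs⟩ := Module.Projective.out (R := A) (P := B)
  intro b hb
  have h := hs b
  rw [Finsupp.linearCombination_apply] at h
  rw [← h]
  refine Ideal.sum_mem _ fun e _ => ?_
  show s b e • id e ∈ _
  rw [Algebra.smul_def]
  exact Ideal.mul_mem_right _ _ (Ideal.mem_map_of_mem _
    (Ideal.subset_span ⟨(Finsupp.lapply e).comp s, b, hb, rfl⟩))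

/-- The coefficient ideal dies in an algebra over which the ideal dies. -/
theorem coeffIdeal_le_ker (J : Ideal B) (A' : Type u) [CommRing A'] [Algebra A A']
    (h : ∀ b ∈ J, b ⊗ₜ[A] (1 : A') = 0) : coeffIdeal (A := A) J ≤ RingHom.ker (algebraMap A A') := by
  refine Ideal.span_le.2 ?_
  rintro _ ⟨φ, b, hb, rfl⟩
  have h1 := congrArg ((TensorProduct.lid A A').toLinearMap.comp (φ.rTensor A')) (h b hb)
  rw [map_zero] at h1
  rw [SetLike.mem_coe, RingHom.mem_ker]
  simpa [Algebra.smul_def] using h1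

theorem coeffIdeal_fg [Module.Projective A B] (J : Ideal B) (hJ : J.FG) : (coeffIdeal (A := A) J).FG := by
  classical
  obtain ⟨t, ht⟩ := hJ
  obtain ⟨s, hs⟩ := Module.Projective.out (R := A) (P := B)
  let K₀ : Ideal A := Ideal.span ((t.biUnion fun b => (s b).frange : Finset A) : Set A)
  have hJK : J ≤ K₀.map (algebraMap A B) := by
    rw [← ht, Ideal.span_le]
    intro b hb
    have h := hs b
    rw [Finsupp.linearCombination_apply] at h
    rw [SetLike.mem_coe, ← h]
    refine Ideal.sum_mem _ fun e he => ?_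
    show s b e • id e ∈ _
    rw [Algebra.smul_def]
    refine Ideal.mul_mem_right _ _ (Ideal.mem_map_of_mem _ (Ideal.subset_span ?_))
    rw [Finset.mem_coe, Finset.mem_biUnion]
    exact ⟨b, hb, Finsupp.mem_frange.2 ⟨Finsupp.mem_support_iff.1 he, e, rfl⟩⟩
  refine ⟨t.biUnion fun b => (s b).frange, le_antisymm (Ideal.span_le.2 fun a ha => ?_) ?_⟩
  · rw [Finset.mem_coe, Finset.mem_biUnion] at ha
    obtain ⟨b, hb, hab⟩ := ha
    obtain ⟨-, e, rfl⟩ := Finsupp.mem_frange.1 hab
    exact Ideal.subset_span ⟨(Finsupp.lapply e).comp s, b, ht ▸ Ideal.subset_span hb, rfl⟩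
  · refine Ideal.span_le.2 ?_
    rintro _ ⟨φ, b, hb, rfl⟩
    have h := hJK hb
    show φ b ∈ K₀
    rw [Ideal.map] at h
    refine Submodule.span_induction (p := fun x _ => ∀ c : B, φ (c * x) ∈ K₀) ?_ ?_ ?_ ?_ h 1 |> fun h => by
      rwa [one_mul] at h
    · rintro _ ⟨a, ha, rfl⟩ c
      rw [mul_comm, ← Algebra.smul_def, map_smul, smul_eq_mul]
      exact Ideal.mul_mem_right _ _ ha
    · intro c; rw [mul_zero, map_zero]; exact zero_mem _
    · intro x y _ _ hx hy c; rw [mul_add, map_add]; exact add_mem (hx c) (hy c)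
    · intro r x _ hx c; rw [smul_eq_mul, ← mul_assoc]; exact hx _

variable (A) in
/-- Base change of a closed subscheme of `Spec B` is everything iff the structure map kills the coefficients. -/
theorem factors_iff [Module.Projective A B] (J : Ideal B) {T : Scheme.{u}} (h : T ⟶ Spec (CommRingCat.of A)) :
    (∃ l : pullback (Spec.map (CommRingCat.ofHom (algebraMap A B))) h ⟶ Spec (CommRingCat.of (B ⧸ J)),
      l ≫ Spec.map (CommRingCat.ofHom (Ideal.Quotient.mk J)) = pullback.fst _ _) ↔
    ∃ l : T ⟶ Spec (CommRingCat.of (A ⧸ coeffIdeal (A := A) J)),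
      l ≫ Spec.map (CommRingCat.ofHom (Ideal.Quotient.mk (coeffIdeal (A := A) J))) = h := by
  set K := coeffIdeal (A := A) J with hK
  let π := Spec.map (CommRingCat.ofHom (algebraMap A B))
  constructor
  · rintro ⟨l, hl⟩
    let φ : A →+* Γ(T, ⊤) := ((Scheme.ΓSpecIso (CommRingCat.of A)).inv ≫ h.appTop).hom
    have hres : ∀ U : T.affineOpens, ∀ a ∈ K, T.presheaf.map (homOfLE (le_top : U.1 ≤ ⊤)).op (φ a) = 0 := by
      intro U a ha
      obtain ⟨ψ, hψ⟩ := Spec.map_surjective (U.2.fromSpec ≫ h)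
      letI : Algebra A Γ(T, U.1) := ψ.hom.toAlgebra
      let u : Spec (CommRingCat.of (B ⊗[A] Γ(T, U.1))) ⟶ pullback π h :=
        pullback.lift (Spec.map (CommRingCat.ofHom Algebra.TensorProduct.includeLeftRingHom))
          (Spec.map (CommRingCat.ofHom (Algebra.TensorProduct.includeRight (R := A) (A := B)).toRingHom) ≫ U.2.fromSpec) (by
          rw [Category.assoc, ← hψ, ← Spec.map_comp, ← Spec.map_comp]
          congr 1
          exact CommRingCat.hom_ext (RingHom.ext fun a => by
            show (algebraMap A B a) ⊗ₜ[A] (1 : Γ(T, U.1)) = (1 : B) ⊗ₜ[A] algebraMap A Γ(T, U.1) a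
            rw [Algebra.algebraMap_eq_smul_one, Algebra.algebraMap_eq_smul_one, smul_tmul]))
      have hu : u ≫ l ≫ Spec.map (CommRingCat.ofHom (Ideal.Quotient.mk J)) =
          Spec.map (CommRingCat.ofHom Algebra.TensorProduct.includeLeftRingHom) := by
        rw [hl, pullback.lift_fst]
      obtain ⟨χ, hχ⟩ := Spec.map_surjective (u ≫ l)
      rw [← Category.assoc, ← hχ, ← Spec.map_comp] at hu
      have hJ0 : ∀ b ∈ J, b ⊗ₜ[A] (1 : Γ(T, U.1)) = 0 := fun b hb => by
        have e := RingHom.congr_fun (congrArg CommRingCat.Hom.hom (Spec.map_injective hu)) b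
        refine e.symm.trans ?_
        show χ (Ideal.Quotient.mk J b) = 0
        rw [Ideal.Quotient.eq_zero_iff_mem.2 hb, map_zero]
      have h1 : ψ a = 0 := coeffIdeal_le_ker J Γ(T, U.1) hJ0 ha
      have hfac : h = T.toSpecΓ ≫ Spec.map (CommRingCat.ofHom φ) := by
        rw [show CommRingCat.ofHom φ = (Scheme.ΓSpecIso (CommRingCat.of A)).inv ≫ h.appTop from rfl, Spec.map_comp,
          ← Category.assoc, ← Scheme.toSpecΓ_naturality, Category.assoc, toSpecΓ_SpecMap_ΓSpecIso_inv,
          Category.comp_id]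
      have hψ' : ψ = CommRingCat.ofHom φ ≫ T.presheaf.map (homOfLE (le_top : U.1 ≤ ⊤)).op := by
        refine Spec.map_injective ?_
        rw [hψ, Spec.map_comp, hfac, ← Category.assoc, IsAffineOpen.fromSpec_toSpecΓ]
      rw [hψ'] at h1
      exact h1
    have hzero : ∀ a ∈ K, φ a = 0 := fun a ha =>
      T.sheaf.eq_of_locally_eq' (fun U : T.affineOpens => U.1) ⊤ (fun U => homOfLE le_top)
        (by rw [iSup_affineOpens_eq_top]) _ _ fun U => (hres U a ha).trans (map_zero _).symm
    refine ⟨T.toSpecΓ ≫ Spec.map (CommRingCat.ofHom (Ideal.Quotient.lift K φ hzero)), ?_⟩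
    rw [Category.assoc, ← Spec.map_comp, show CommRingCat.ofHom (Ideal.Quotient.mk K) ≫
      CommRingCat.ofHom (Ideal.Quotient.lift K φ hzero) = (Scheme.ΓSpecIso (CommRingCat.of A)).inv ≫ h.appTop from
      CommRingCat.hom_ext (RingHom.ext fun a => Ideal.Quotient.lift_mk K φ hzero)]
    rw [Spec.map_comp, ← Category.assoc, ← Scheme.toSpecΓ_naturality, Category.assoc,
      toSpecΓ_SpecMap_ΓSpecIso_inv, Category.comp_id]
  · rintro ⟨l, rfl⟩
    let KB := K.map (algebraMap A B)
    have hsq : IsPullback (Spec.map (CommRingCat.ofHom (Ideal.Quotient.mk KB)))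
        (Spec.map (CommRingCat.ofHom (Ideal.quotientMap KB (algebraMap A B) Ideal.le_comap_map)))
        π (Spec.map (CommRingCat.ofHom (Ideal.Quotient.mk K))) := by
      exact isPullback_SpecMap_of_isPushout _ _ _ _ (isPushout_quotient (algebraMap A B) K).flip
    refine ⟨hsq.lift (pullback.fst _ _) (pullback.snd _ _ ≫ l) (by rw [pullback.condition, Category.assoc]) ≫
      Spec.map (CommRingCat.ofHom (Ideal.Quotient.factor (le_map_coeffIdeal (A := A) J))), ?_⟩
    rw [Category.assoc, ← Spec.map_comp, show CommRingCat.ofHom (Ideal.Quotient.mk J) ≫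
      CommRingCat.ofHom (Ideal.Quotient.factor (le_map_coeffIdeal (A := A) J)) =
      CommRingCat.ofHom (Ideal.Quotient.mk KB) from CommRingCat.hom_ext (RingHom.ext fun b => rfl), hsq.lift_fst]

end Groth.Agent.H4RG.ClosedRestriction
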