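import Groth.Prelude.Def_FlatCA
import Mathlib.LinearAlgebra.DirectSum.Finsupp
import Mathlib.LinearAlgebra.TensorProduct.RightExactness
import Mathlib.RingTheory.TensorProduct.Basic

/-! Tensor products with the members of a directed system of rings. -/

universe u

open TensorProduct

namespace Groth.Agent.H4RG

variable {A₀ : Type u} [CommRing A₀] {ι : Type u} [Preorder ι] {G : ι → Type u} [∀ i, CommRing (G i)]
  [∀ i, Algebra A₀ (G i)] {g : ∀ i j, i ≤ j → G i →ₐ[A₀] G j}
  {A : Type u} [CommRing A] [Algebra A₀ A] [∀ i, Algebra (G i) A] [∀ i, IsScalarTower A₀ (G i) A]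

/-- The map of tensor products from a member to the colimit. -/
noncomputable abbrev toColim (A₀ : Type u) [CommRing A₀] {ι : Type u} (G : ι → Type u) [∀ i, CommRing (G i)]
    [∀ i, Algebra A₀ (G i)] (A : Type u) [CommRing A] [Algebra A₀ A] [∀ i, Algebra (G i) A]
    [∀ i, IsScalarTower A₀ (G i) A] (X : Type u) [AddCommGroup X] [Module A₀ X] (i : ι) :
    G i ⊗[A₀] X →ₗ[A₀] A ⊗[A₀] X :=
  ((IsScalarTower.toAlgHom A₀ (G i) A).toLinearMap).rTensor X

theorem toColim_g (hcolim : FlatCA.IsDirectedColimitRing G (fun i j h => (g i j h).toRingHom) A) {i j : ι}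
    (h : i ≤ j) (X : Type u) [AddCommGroup X] [Module A₀ X] (y : G i ⊗[A₀] X) :
    toColim A₀ G A X j ((g i j h).toLinearMap.rTensor X y) = toColim A₀ G A X i y := by
  rw [← LinearMap.rTensor_comp_apply]
  congr 2
  exact LinearMap.ext fun x => RingHom.congr_fun (hcolim.2.2.2.2.1 i j h) x

theorem g_g (hcolim : FlatCA.IsDirectedColimitRing G (fun i j h => (g i j h).toRingHom) A) {i j k : ι}
    (hij : i ≤ j) (hjk : j ≤ k) (X : Type u) [AddCommGroup X] [Module A₀ X] (y : G i ⊗[A₀] X) :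
    (g j k hjk).toLinearMap.rTensor X ((g i j hij).toLinearMap.rTensor X y) =
      (g i k (hij.trans hjk)).toLinearMap.rTensor X y := by
  rw [← LinearMap.rTensor_comp_apply]
  congr 2
  exact LinearMap.ext fun x => RingHom.congr_fun (hcolim.2.2.2.1 i j k hij hjk) x

/-- Every tensor comes from a member, which may be taken arbitrarily late. -/
theorem exists_tensor_lift (hcolim : FlatCA.IsDirectedColimitRing G (fun i j h => (g i j h).toRingHom) A)
    (X : Type u) [AddCommGroup X] [Module A₀ X] (z : A ⊗[A₀] X) (i₀ : ι) :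
    ∃ i, i₀ ≤ i ∧ ∃ y, toColim A₀ G A X i y = z := by
  induction z using TensorProduct.induction_on with
  | zero => exact ⟨i₀, le_rfl, 0, map_zero _⟩
  | tmul a x =>
    obtain ⟨i, b, rfl⟩ := hcolim.2.2.2.2.2.1 a
    obtain ⟨k, hik, hk⟩ := hcolim.1.directed i i₀
    refine ⟨k, hk, (g i k hik).toLinearMap.rTensor X (b ⊗ₜ x), ?_⟩
    rw [toColim_g hcolim]
    rfl
  | add u v hu hv =>
    obtain ⟨i, hi, y, rfl⟩ := hu
    obtain ⟨j, -, y', rfl⟩ := hv
    obtain ⟨k, hik, hjk⟩ := hcolim.1.directed i j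
    exact ⟨k, hi.trans hik, (g i k hik).toLinearMap.rTensor X y + (g j k hjk).toLinearMap.rTensor X y',
      by rw [map_add, toColim_g hcolim, toColim_g hcolim]⟩

theorem exists_finset_zero (hcolim : FlatCA.IsDirectedColimitRing G (fun i j h => (g i j h).toRingHom) A) (i : ι)
    (s : Finset (G i)) (hs : ∀ x ∈ s, algebraMap (G i) A x = 0) :
    ∃ j, ∃ h : i ≤ j, ∀ x ∈ s, g i j h x = 0 := by
  classical
  induction s using Finset.induction_on with
  | empty => exact ⟨i, le_rfl, by simp⟩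
  | insert a s _ ih =>
    obtain ⟨j, hj, hj'⟩ := ih fun x hx => hs x (Finset.mem_insert_of_mem hx)
    obtain ⟨j', hij', ha⟩ := hcolim.2.2.2.2.2.2 i a (hs a (Finset.mem_insert_self _ _))
    obtain ⟨k, hjk, hj'k⟩ := hcolim.1.directed j j'
    refine ⟨k, hj.trans hjk, fun x hx => ?_⟩
    rcases Finset.mem_insert.1 hx with rfl | hx
    · have h2 := RingHom.congr_fun (hcolim.2.2.2.1 i j' k hij' hj'k) x
      simp only [RingHom.comp_apply] at h2
      rw [show (g i j' hij').toRingHom x = 0 from ha, map_zero] at h2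
      exact h2.symm
    · have h2 := RingHom.congr_fun (hcolim.2.2.2.1 i j k hj hjk) x
      simp only [RingHom.comp_apply] at h2
      rw [show (g i j hj).toRingHom x = 0 from hj' x hx, map_zero] at h2
      exact h2.symm

/-- A tensor vanishing in the colimit vanishes at a later member. -/
theorem exists_tensor_zero (hcolim : FlatCA.IsDirectedColimitRing G (fun i j h => (g i j h).toRingHom) A)
    (X : Type u) [AddCommGroup X] [Module A₀ X] {i : ι} (y : G i ⊗[A₀] X) (hy : toColim A₀ G A X i y = 0) :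
    ∃ j, ∃ h : i ≤ j, (g i j h).toLinearMap.rTensor X y = 0 := by
  classical
  let π : (X →₀ A₀) →ₗ[A₀] X := Finsupp.linearCombination A₀ id
  have hπ : Function.Surjective π := fun x => ⟨Finsupp.single x 1, by
    show Finsupp.linearCombination A₀ id (Finsupp.single x (1 : A₀)) = x
    simp⟩
  let K : Submodule A₀ (X →₀ A₀) := LinearMap.ker π
  have hex : Function.Exact (LinearMap.ker π).subtype π := LinearMap.exact_subtype_ker_map π
  have hfree : ∀ {i : ι} (f : G i ⊗[A₀] (X →₀ A₀)), toColim A₀ G A (X →₀ A₀) i f = 0 →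
      ∃ j, ∃ h : i ≤ j, (g i j h).toLinearMap.rTensor (X →₀ A₀) f = 0 := by
    intro i f hf
    let e : G i ⊗[A₀] (X →₀ A₀) ≃ₗ[A₀] X →₀ G i := TensorProduct.finsuppScalarRight A₀ A₀ (G i) X
    let eA : A ⊗[A₀] (X →₀ A₀) ≃ₗ[A₀] X →₀ A := TensorProduct.finsuppScalarRight A₀ A₀ A X
    have hcomm : ∀ (u : G i ⊗[A₀] (X →₀ A₀)) (x : X), eA (toColim A₀ G A (X →₀ A₀) i u) x = algebraMap (G i) A (e u x) := by
      intro u x
      induction u using TensorProduct.induction_on with
      | zero => simp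
      | add p q hp hq => simp only [map_add, Finsupp.add_apply, hp, hq]
      | tmul a v =>
        show TensorProduct.finsuppScalarRight A₀ A₀ A X (algebraMap (G i) A a ⊗ₜ[A₀] v) x =
          algebraMap (G i) A (TensorProduct.finsuppScalarRight A₀ A₀ (G i) X (a ⊗ₜ[A₀] v) x)
        rw [TensorProduct.finsuppScalarRight_apply_tmul_apply, TensorProduct.finsuppScalarRight_apply_tmul_apply]
        exact (map_smul (IsScalarTower.toAlgHom A₀ (G i) A) _ _).symm
    obtain ⟨j, h, hj⟩ := exists_finset_zero hcolim i ((e f).support.image (e f)) fun a ha => by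
      obtain ⟨x, -, rfl⟩ := Finset.mem_image.1 ha
      rw [← hcomm, hf, map_zero, Finsupp.zero_apply]
    refine ⟨j, h, (TensorProduct.finsuppScalarRight A₀ A₀ (G j) X).injective (Finsupp.ext fun x => ?_)⟩
    have hcomm' : ∀ u : G i ⊗[A₀] (X →₀ A₀),
        TensorProduct.finsuppScalarRight A₀ A₀ (G j) X ((g i j h).toLinearMap.rTensor (X →₀ A₀) u) x = g i j h (e u x) := by
      intro u
      induction u using TensorProduct.induction_on with
      | zero => simp
      | add p q hp hq => simp only [map_add, Finsupp.add_apply, hp, hq]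
      | tmul a v =>
        show TensorProduct.finsuppScalarRight A₀ A₀ (G j) X (g i j h a ⊗ₜ[A₀] v) x =
          g i j h (TensorProduct.finsuppScalarRight A₀ A₀ (G i) X (a ⊗ₜ[A₀] v) x)
        rw [TensorProduct.finsuppScalarRight_apply_tmul_apply, TensorProduct.finsuppScalarRight_apply_tmul_apply]
        exact (map_smul (g i j h) _ _).symm
    rw [hcomm', map_zero, Finsupp.zero_apply]
    by_cases hx : x ∈ (e f).support
    · exact hj _ (Finset.mem_image_of_mem _ hx)
    · rw [Finsupp.notMem_support_iff.1 hx, map_zero]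
  obtain ⟨f, rfl⟩ := LinearMap.lTensor_surjective (G i) hπ y
  have h1 : π.lTensor A (toColim A₀ G A (X →₀ A₀) i f) = 0 := by
    rw [← LinearMap.comp_apply, LinearMap.lTensor_comp_rTensor, ← LinearMap.rTensor_comp_lTensor,
      LinearMap.comp_apply]
    exact hy
  obtain ⟨z, hz⟩ := (@_root_.lTensor_exact A₀ (LinearMap.ker π) (X →₀ A₀) X _ _ _ _ _ _ _ (LinearMap.ker π).subtype π A _ _ hex hπ _).1 h1
  obtain ⟨k, hik, w, rfl⟩ := exists_tensor_lift hcolim K z i
  have h2 : toColim A₀ G A (X →₀ A₀) k ((g i k hik).toLinearMap.rTensor (X →₀ A₀) f - K.subtype.lTensor (G k) w) = 0 := by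
    rw [map_sub, toColim_g hcolim, sub_eq_zero, ← hz, ← LinearMap.comp_apply, ← LinearMap.comp_apply,
      LinearMap.lTensor_comp_rTensor, LinearMap.rTensor_comp_lTensor]
  obtain ⟨j, hkj, hj⟩ := hfree _ h2
  refine ⟨j, hik.trans hkj, ?_⟩
  have hc : ∀ {M N P Q : Type u} [AddCommMonoid M] [AddCommMonoid N] [AddCommMonoid P] [AddCommMonoid Q]
      [Module A₀ M] [Module A₀ N] [Module A₀ P] [Module A₀ Q] (f : M →ₗ[A₀] N) (v : P →ₗ[A₀] Q) (z : P ⊗[A₀] M),
      v.rTensor N (f.lTensor P z) = f.lTensor Q (v.rTensor M z) := fun f v z => by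
    rw [← LinearMap.comp_apply, LinearMap.rTensor_comp_lTensor, ← LinearMap.lTensor_comp_rTensor, LinearMap.comp_apply]
  rw [map_sub, sub_eq_zero, g_g hcolim, hc] at hj
  rw [hc, hj, ← LinearMap.lTensor_comp_apply,
    hex.linearMap_comp_eq_zero, LinearMap.lTensor_zero, LinearMap.zero_apply]

/-- A cofinal tail of a directed system, as a system of algebras over its first member. -/
theorem exists_tail {ι : Type u} [Preorder ι] {G : ι → Type u} [∀ i, CommRing (G i)]
    {g : ∀ i j, i ≤ j → G i →+* G j} {A : Type u} [CommRing A] [∀ i, Algebra (G i) A]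
    (hcolim : FlatCA.IsDirectedColimitRing G g A) (i₀ : ι) :
    ∃ (_ : ∀ j : Set.Ici i₀, Algebra (G i₀) (G j.1)) (_ : ∀ j : Set.Ici i₀, IsScalarTower (G i₀) (G j.1) A)
      (g' : ∀ i j : Set.Ici i₀, i ≤ j → G i.1 →ₐ[G i₀] G j.1),
      (∀ (j : Set.Ici i₀) (x : G i₀), algebraMap (G i₀) (G j.1) x = g i₀ j.1 j.2 x) ∧
      (∀ i j (h : i ≤ j), (g' i j h).toRingHom = g i.1 j.1 h) ∧
        FlatCA.IsDirectedColimitRing (fun j : Set.Ici i₀ => G j.1) (fun i j h => (g' i j h).toRingHom) A := by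
  obtain ⟨hdir, -, hid, hcomp, halg, hsurj, hinj⟩ := hcolim
  let alg : ∀ j : Set.Ici i₀, Algebra (G i₀) (G j.1) := fun j => (g i₀ j.1 j.2).toAlgebra
  letI := alg
  haveI tow : ∀ j : Set.Ici i₀, IsScalarTower (G i₀) (G j.1) A := fun j =>
    IsScalarTower.of_algebraMap_eq fun x => (RingHom.congr_fun (halg i₀ j.1 j.2) x).symm
  let g' : ∀ i j : Set.Ici i₀, i ≤ j → G i.1 →ₐ[G i₀] G j.1 := fun i j h =>
    { g i.1 j.1 h with commutes' := fun r => RingHom.congr_fun (hcomp i₀ i.1 j.1 i.2 h) r }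
  refine ⟨alg, tow, g', fun j x => rfl, fun i j h => rfl, ⟨fun i j => ?_⟩, ⟨⟨i₀, le_rfl⟩⟩, fun i => hid i.1,
    fun i j k hij hjk => hcomp i.1 j.1 k.1 hij hjk, fun i j h => halg i.1 j.1 h, fun a => ?_, fun i x hx => ?_⟩
  · obtain ⟨k, hik, hjk⟩ := hdir.directed i.1 j.1
    exact ⟨⟨k, i.2.trans hik⟩, hik, hjk⟩
  · obtain ⟨i, x, rfl⟩ := hsurj a
    obtain ⟨k, hik, hk⟩ := hdir.directed i i₀
    exact ⟨⟨k, hk⟩, g i k hik x, RingHom.congr_fun (halg i k hik) x⟩
  · obtain ⟨j, hj, hj0⟩ := hinj i.1 x hx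
    exact ⟨⟨j, i.2.trans hj⟩, hj, hj0⟩

end Groth.Agent.H4RG
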