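import Groth.Prelude
import Groth.Agent.H4RG.DevissageGood
import Groth.Agent.H4RG.SmoothPrime
import Groth.Agent.ValEtale7.Local
import Mathlib

/-!
# Content ideals in flat finite modules over a valuation ring
-/

set_option autoImplicit false
set_option linter.style.haveILetI false
set_option backward.isDefEq.respectTransparency.types false

universe u

open TensorProduct IsLocalRing MvPolynomial

namespace Groth.Agent.H4RG

namespace Gauss

theorem sameValues_trans {V W X : Type u} [CommRing V] [CommRing W] [CommRing X] [Algebra V W] [Algebra W X]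
    [Algebra V X] [IsScalarTower V W X] (h : ValEtale7.SameValues V W) (h' : ValEtale7.SameValues W X) :
    ValEtale7.SameValues V X where
  isDomain := h'.isDomain
  dvd_total := h'.dvd_total
  inj := by rw [IsScalarTower.algebraMap_eq V W X]; exact h'.inj.comp h.inj
  isLocalHom := by
    refine ⟨fun a ha => h.isLocalHom.map_nonunit a (h'.isLocalHom.map_nonunit _ ?_)⟩
    rwa [← IsScalarTower.algebraMap_apply]
  exists_eq b hb := by
    obtain ⟨w, u, rfl⟩ := h'.exists_eq b hb
    have hw : w ≠ 0 := fun h0 => hb (by rw [h0, map_zero, mul_zero])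
    obtain ⟨a, t, rfl⟩ := h.exists_eq w hw
    exact ⟨a, u * t.map (algebraMap W X).toMonoidHom, by
      rw [Units.val_mul, map_mul, ← IsScalarTower.algebraMap_apply V W X, Units.coe_map, mul_assoc]; rfl⟩

theorem atPrime_congr {A L : Type*} [CommRing A] [CommRing L] [Algebra A L] {q₀ q : Ideal A} [q₀.IsPrime]
    [q.IsPrime] (h : q₀ = q) [IsLocalization.AtPrime L q₀] : IsLocalization.AtPrime L q := by
  subst h
  assumption

theorem exists_dvd_all {V : Type u} [CommRing V] [IsDomain V] [ValuationRing V] {ι : Type*} (s : Finset ι)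
    (hs : s.Nonempty) (f : ι → V) : ∃ i ∈ s, ∀ j ∈ s, f i ∣ f j := by
  induction hs using Finset.Nonempty.cons_induction with
  | singleton a => exact ⟨a, by simp⟩
  | cons a s ha hs ih =>
    obtain ⟨i, hi, hij⟩ := ih
    rcases ValuationRing.dvd_total (f a) (f i) with h | h
    · exact ⟨a, Finset.mem_cons_self _ _, fun j hj => (Finset.mem_cons.mp hj).elim (fun e => e ▸ dvd_rfl)
        fun hj => h.trans (hij j hj)⟩
    · exact ⟨i, Finset.mem_cons.mpr (.inr hi), fun j hj => (Finset.mem_cons.mp hj).elim (fun e => e ▸ h)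
        fun hj => hij j hj⟩

/-- The Gauss valuation ring. -/
theorem sameValues_gauss {V : Type u} [CommRing V] [IsDomain V] [ValuationRing V] (n : ℕ)
    (Q0 : Ideal (MvPolynomial (Fin n) V)) [Q0.IsPrime]
    (hQ0 : Q0 = (IsLocalRing.maximalIdeal V).map MvPolynomial.C) :
    ValEtale7.SameValues V (Localization.AtPrime Q0) := by
  let W := Localization.AtPrime Q0
  have hle : Q0.primeCompl ≤ nonZeroDivisors _ := Q0.primeCompl_le_nonZeroDivisors
  have hPW : Function.Injective (algebraMap (MvPolynomial (Fin n) V) W) := IsLocalization.injective W hle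
  have hC : ∀ c : V, algebraMap V W c = algebraMap (MvPolynomial (Fin n) V) W (MvPolynomial.C c) :=
    fun c => IsScalarTower.algebraMap_apply V (MvPolynomial (Fin n) V) W c
  have hinj : Function.Injective (algebraMap V W) := fun a b h => by
    rw [hC, hC] at h
    exact MvPolynomial.C_injective _ _ (hPW h)
  have hCu : ∀ f : MvPolynomial (Fin n) V, f ≠ 0 → ∃ (c : V) (u : Wˣ), algebraMap _ W f = u * algebraMap V W c := by
    intro f hf
    obtain ⟨d, hd, hdd⟩ := exists_dvd_all f.support (MvPolynomial.support_nonempty.mpr hf) (fun e => f.coeff e)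
    set c := f.coeff d with hc
    have hd0 : c ≠ 0 := MvPolynomial.mem_support_iff.mp hd
    obtain ⟨f0, hf0⟩ : MvPolynomial.C c ∣ f := by
      rw [MvPolynomial.C_dvd_iff_dvd_coeff]
      intro e
      by_cases he : e ∈ f.support
      · exact hdd e he
      · simp [MvPolynomial.notMem_support_iff.mp he]
    have h1 : f0.coeff d = 1 := by
      have h := congrArg (MvPolynomial.coeff d) hf0
      rw [MvPolynomial.coeff_C_mul] at h
      exact mul_left_cancel₀ hd0 (by rw [mul_one]; exact h.symm)
    have hf0Q : f0 ∈ Q0.primeCompl := fun h => by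
      have h' : f0 ∈ Q0 := h
      rw [hQ0, MvPolynomial.mem_map_C_iff] at h'
      exact (IsLocalRing.mem_maximalIdeal _).mp (h' d) (h1 ▸ isUnit_one)
    refine ⟨c, (IsLocalization.map_units W (⟨f0, hf0Q⟩ : Q0.primeCompl)).unit, ?_⟩
    rw [IsUnit.unit_spec, hC, ← map_mul, hf0, mul_comm]
  have hex : ∀ x : W, x ≠ 0 → ∃ (c : V) (u : Wˣ), x = u * algebraMap V W c := by
    intro x hx
    obtain ⟨⟨f, s⟩, hxs⟩ := IsLocalization.surj Q0.primeCompl x
    have hs := IsLocalization.map_units W s
    have hf : f ≠ 0 := fun h => hx ((hs.mul_left_eq_zero).mp (hxs.trans (by simp [h])))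
    obtain ⟨c, u, hu⟩ := hCu f hf
    refine ⟨c, u * hs.unit⁻¹, hs.mul_right_cancel ?_⟩
    rw [hxs, hu, Units.val_mul]
    have := hs.val_inv_mul
    linear_combination (-((u : W) * algebraMap V W c)) * this
  refine ⟨IsLocalization.isDomain_localization hle, fun a b => ?_, hinj, ⟨fun a ha => ?_⟩, hex⟩
  · rcases eq_or_ne a 0 with rfl | ha
    · exact Or.inr (dvd_zero b)
    rcases eq_or_ne b 0 with rfl | hb
    · exact Or.inl (dvd_zero a)
    obtain ⟨c, u, rfl⟩ := hex a ha
    obtain ⟨d, t, rfl⟩ := hex b hb
    simp only [Units.mul_left_dvd, Units.dvd_mul_left]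
    exact (ValuationRing.dvd_total c d).imp (map_dvd _) (map_dvd _)
  · by_contra h
    rw [hC] at ha
    refine (IsLocalRing.mem_maximalIdeal _).mp ?_ ha
    exact (IsLocalization.AtPrime.to_map_mem_maximal_iff W Q0 _).mpr
      (hQ0 ▸ Ideal.mem_map_of_mem _ ((IsLocalRing.mem_maximalIdeal _).mpr h))


end Gauss

/-- Every element has a principal content ideal. -/
def ContentMod (R F : Type u) [CommRing R] [AddCommGroup F] [Module R F] : Prop :=
  ∀ x : F, ∃ a : R, ∀ b : R, (∃ y : F, b • y = x) ↔ b ∣ a

/-- A universally injective map reflects divisibility by scalars. -/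
theorem exists_smul_eq_of_univInjective {R F F' : Type u} [CommRing R] [AddCommGroup F] [Module R F] [AddCommGroup F']
    [Module R F'] (f : F →ₗ[R] F') (hf : ∀ (M : Type u) [AddCommGroup M] [Module R M], Function.Injective (f.rTensor M))
    (b : R) (x : F) (h : ∃ y, b • y = f x) : ∃ y, b • y = x := by
  obtain ⟨y, hy⟩ := h
  have h0 : f.rTensor (R ⧸ Ideal.span {b}) (x ⊗ₜ[R] (1 : R ⧸ Ideal.span {b})) = 0 := by
    rw [LinearMap.rTensor_tmul, ← hy, smul_tmul, Algebra.smul_def, mul_one,
      show algebraMap R (R ⧸ Ideal.span {b}) b = 0 from Ideal.Quotient.eq_zero_iff_mem.2 (Ideal.mem_span_singleton_self b),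
      tmul_zero]
  have h1 := congrArg (TensorProduct.tensorQuotEquivQuotSMul F (Ideal.span {b})) (hf _ (h0.trans (map_zero _).symm))
  rw [map_zero, show (1 : R ⧸ Ideal.span {b}) = Ideal.Quotient.mk (Ideal.span {b}) 1 from rfl,
    TensorProduct.tensorQuotEquivQuotSMul_tmul_mk, one_smul, Submodule.Quotient.mk_eq_zero,
    Submodule.ideal_span_singleton_smul, Submodule.mem_smul_pointwise_iff_exists] at h1
  obtain ⟨y', -, hy'⟩ := h1
  exact ⟨y', hy'⟩

theorem ContentMod.of_univInjective {R F F' : Type u} [CommRing R] [AddCommGroup F] [Module R F] [AddCommGroup F']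
    [Module R F'] (f : F →ₗ[R] F') (hf : ∀ (M : Type u) [AddCommGroup M] [Module R M], Function.Injective (f.rTensor M))
    (h : ContentMod R F') : ContentMod R F := fun x => by
  obtain ⟨a, ha⟩ := h (f x)
  refine ⟨a, fun b => ⟨fun ⟨y, hy⟩ => (ha b).1 ⟨f y, by rw [← map_smul, hy]⟩, fun hb => ?_⟩⟩
  exact exists_smul_eq_of_univInjective f hf b x ((ha b).2 hb)

theorem ContentMod.of_equiv {R F F' : Type u} [CommRing R] [AddCommGroup F] [Module R F] [AddCommGroup F']
    [Module R F'] (e : F ≃ₗ[R] F') (h : ContentMod R F') : ContentMod R F :=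
  ContentMod.of_univInjective e.toLinearMap (fun M _ _ => (e.rTensor M).injective) h

theorem ContentMod.of_subsingleton {R F : Type u} [CommRing R] [AddCommGroup F] [Module R F] [Subsingleton F] :
    ContentMod R F := fun x => ⟨0, fun b => ⟨fun _ => dvd_zero b, fun _ => ⟨x, Subsingleton.elim _ _⟩⟩⟩

theorem ContentMod.of_exact {R A B C : Type u} [CommRing R] [IsDomain R] [ValuationRing R] [AddCommGroup A] [Module R A]
    [AddCommGroup B] [Module R B] [AddCommGroup C] [Module R C] [Module.Flat R C] (α : A →ₗ[R] B) (β : B →ₗ[R] C)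
    (hα : Function.Injective α) (hex : Function.Exact α β) (hβ : Function.Surjective β) (hA : ContentMod R A)
    (hC : ContentMod R C) : ContentMod R B := by
  intro x
  have hu : ∀ (M : Type u) [AddCommGroup M] [Module R M], Function.Injective (α.rTensor M) := fun M _ _ =>
    (LinearMap.lTensor_inj_iff_rTensor_inj M α).1 (W4Lib.lTensor_injective_of_flat_quotient hα hex hβ M)
  obtain ⟨a, ha⟩ := hC (β x)
  obtain ⟨c, hc⟩ := (ha a).2 dvd_rfl
  obtain ⟨n, rfl⟩ := hβ c
  obtain ⟨e, he⟩ := (hex (x - a • n)).1 (by rw [map_sub, map_smul, hc, sub_self])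
  obtain ⟨a', ha'⟩ := hA e
  have hsub : ∀ b : R, b ∣ a → ((∃ y, b • y = x) ↔ b ∣ a') := fun b ⟨k, hk⟩ => by
    refine ⟨fun ⟨y, hy⟩ => (ha' b).1 (exists_smul_eq_of_univInjective α hu b e ⟨y - k • n, ?_⟩), fun hb => ?_⟩
    · rw [he, smul_sub, hy, smul_smul, ← hk]
    · obtain ⟨e', he'⟩ := (ha' b).2 hb
      exact ⟨α e' + k • n, by rw [smul_add, ← map_smul, he', he, smul_smul, ← hk, sub_add_cancel]⟩
  have hdvd : ∀ b : R, (∃ y, b • y = x) → b ∣ a := fun b ⟨y, hy⟩ => (ha b).1 ⟨β y, by rw [← map_smul, hy]⟩
  rcases ValuationRing.dvd_total a a' with h | h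
  · exact ⟨a, fun b => ⟨hdvd b, fun hb => (hsub b hb).2 (hb.trans h)⟩⟩
  · exact ⟨a', fun b => ⟨fun hb => (hsub b (hdvd b hb)).1 hb, fun hb => (hsub b (hb.trans h)).2 hb⟩⟩

theorem ContentMod.pi {R F : Type u} [CommRing R] [IsDomain R] [ValuationRing R] [AddCommGroup F] [Module R F] (c : ℕ)
    (h : ContentMod R F) : ContentMod R (Fin c → F) := fun x => by
  choose a ha using fun i => h (x i)
  obtain ⟨g, hg, hgd⟩ : ∃ g : R, (∀ i, g ∣ a i) ∧ ∀ b, (∀ i, b ∣ a i) → b ∣ g := by
    rcases (Finset.univ : Finset (Fin c)).eq_empty_or_nonempty with h0 | hne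
    · exact ⟨0, fun i => (Finset.notMem_empty i (h0 ▸ Finset.mem_univ i)).elim, fun b _ => dvd_zero b⟩
    · obtain ⟨i, -, hi⟩ := Gauss.exists_dvd_all Finset.univ hne a
      exact ⟨a i, fun j => hi j (Finset.mem_univ j), fun b hb => hb i⟩
  refine ⟨g, fun b => ⟨fun ⟨y, hy⟩ => hgd b fun i => (ha i b).1 ⟨y i, by rw [← hy]; rfl⟩, fun hb => ?_⟩⟩
  choose y hy using fun i => (ha i b).2 (hb.trans (hg i))
  exact ⟨y, funext hy⟩

/-- The local ring of an etale algebra over affine space at a prime over the Gauss point. -/
theorem sameValues_etale {V : Type u} [CommRing V] [IsDomain V] [ValuationRing V] {E : Type u} [CommRing E] [Algebra V E]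
    {d : ℕ} [Algebra (MvPolynomial (Fin d) V) E] [IsScalarTower V (MvPolynomial (Fin d) V) E]
    [Algebra.Etale (MvPolynomial (Fin d) V) E] (p : Ideal E) [p.IsPrime] (Q0 : Ideal (MvPolynomial (Fin d) V))
    [Q0.IsPrime] (hQ0 : Q0 = (maximalIdeal V).map MvPolynomial.C)
    (hQ : p.comap (algebraMap (MvPolynomial (Fin d) V) E) = Q0) :
    ValEtale7.SameValues V (Localization.AtPrime p) := by
  let P := MvPolynomial (Fin d) V
  let A' := E
  let W := Localization.AtPrime Q0
  have hW : ValEtale7.SameValues V W := Gauss.sameValues_gauss _ Q0 hQ0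
  haveI : IsDomain W := hW.isDomain
  haveI : ValuationRing W := hW.valuationRing
  let M := Algebra.algebraMapSubmonoid E Q0.primeCompl
  let S' := Localization M
  haveI hloc : IsLocalization (Submonoid.map (algebraMap P E) Q0.primeCompl) S' := (inferInstance : IsLocalization M S')
  letI : Algebra W S' := (IsLocalization.map S' (algebraMap P E) (Submonoid.le_comap_map Q0.primeCompl) : W →+* S').toAlgebra
  haveI : IsScalarTower P W S' := IsScalarTower.of_algebraMap_eq fun x => by
    show algebraMap P S' x = IsLocalization.map S' (algebraMap P E) _ (algebraMap P W x)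
    rw [IsLocalization.map_eq, IsScalarTower.algebraMap_apply P E S']
  haveI : IsScalarTower V W S' := IsScalarTower.of_algebraMap_eq fun x => by
    rw [IsScalarTower.algebraMap_apply V P W, ← IsScalarTower.algebraMap_apply P W S',
      IsScalarTower.algebraMap_apply P E S', ← IsScalarTower.algebraMap_apply V P E,
      ← IsScalarTower.algebraMap_apply V E S']
  haveI : Algebra.IsPushout P E W S' := Algebra.isPushout_of_isLocalization Q0.primeCompl W E S'
  haveI : Algebra.IsPushout P W E S' := Algebra.IsPushout.symm inferInstance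
  haveI : Algebra.Etale W (TensorProduct P W E) := inferInstance
  haveI : Algebra.Etale W S' := Algebra.Etale.of_equiv (R := W) (A := TensorProduct P W E) (B := S') (Algebra.IsPushout.equiv P W E S')
  have hdisj' : Disjoint (M : Set E) (p : Set E) := by
    rw [Set.disjoint_left]
    rintro _ ⟨s, hs, rfl⟩ h
    exact hs (hQ ▸ h)
  let m : Ideal S' := p.map (algebraMap E S')
  haveI : m.IsPrime := IsLocalization.isPrime_of_isPrime_disjoint M S' p ‹_› hdisj'
  have hm' : m.comap (algebraMap E S') = p := IsLocalization.comap_map_of_isPrime_disjoint M S' ‹_› hdisj'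
  have hm : m.comap (algebraMap W S') = IsLocalRing.maximalIdeal W := by
    have h1 : (m.comap (algebraMap W S')).comap (algebraMap P W) = Q0 := by
      rw [Ideal.comap_comap, ← IsScalarTower.algebraMap_eq, IsScalarTower.algebraMap_eq P E S',
        ← Ideal.comap_comap, hm', hQ]
    rw [← IsLocalization.map_comap Q0.primeCompl W (m.comap (algebraMap W S')),
      show Ideal.under P (m.comap (algebraMap W S')) = Q0 from h1]
    exact (Localization.AtPrime.map_eq_maximalIdeal)
  have hS : ValEtale7.SameValues V (Localization.AtPrime m) :=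
    Gauss.sameValues_trans hW (ValEtale7.sameValues_localization (A := W) m hm)
  -- compare the local rings
  haveI : IsLocalization.AtPrime (Localization.AtPrime m) (m.comap (algebraMap E S')) :=
    IsLocalization.isLocalization_isLocalization_atPrime_isLocalization M (Localization.AtPrime m) m
  haveI : IsLocalization.AtPrime (Localization.AtPrime m) p := Gauss.atPrime_congr (L := Localization.AtPrime m) (q := p) hm'
  exact hS.of_algEquiv ((IsLocalization.algEquiv p.primeCompl (Localization.AtPrime m)
    (Localization.AtPrime p)).restrictScalars V)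

/-- Stalks of etale algebras over affine space have principal contents. -/
theorem content_etale {R E : Type u} [CommRing R] [IsDomain R] [ValuationRing R] [CommRing E] [Algebra R E] {d : ℕ}
    [Algebra (MvPolynomial (Fin d) R) E] [IsScalarTower R (MvPolynomial (Fin d) R) E]
    [Algebra.Etale (MvPolynomial (Fin d) R) E] (P : Ideal E) [P.IsPrime]
    (hP : P.comap (algebraMap R E) = maximalIdeal R) : ContentMod R (LocalizedModule P.primeCompl E) := by
  let A := MvPolynomial (Fin d) R
  haveI : Algebra.Smooth R A := ⟨inferInstance, inferInstance⟩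
  haveI : Algebra.Smooth R E := Algebra.Smooth.comp R A E
  let B := Localization.AtPrime P
  haveI h𝔭 : ((maximalIdeal R).map (algebraMap R B)).IsPrime := isPrime_map_maximalIdeal P hP
  let p : Ideal E := ((maximalIdeal R).map (algebraMap R B)).comap (algebraMap E B)
  haveI : p.IsPrime := Ideal.comap_isPrime _ _
  have hpP : p ≤ P := fun x hx => by
    by_contra hxP
    exact h𝔭.ne_top (Ideal.eq_top_of_isUnit_mem _ hx (IsLocalization.map_units B (⟨x, hxP⟩ : P.primeCompl)))
  have hmp : (maximalIdeal R).map (algebraMap R E) ≤ p := Ideal.map_le_iff_le_comap.2 fun r hr => by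
    show algebraMap E B (algebraMap R E r) ∈ (maximalIdeal R).map (algebraMap R B)
    rw [← IsScalarTower.algebraMap_apply]
    exact Ideal.mem_map_of_mem _ hr
  let Q0 : Ideal A := (maximalIdeal R).map MvPolynomial.C
  haveI : Q0.IsPrime := by
    rw [← Ideal.Quotient.isDomain_iff_prime]
    exact MulEquiv.isDomain (MvPolynomial (Fin d) (R ⧸ maximalIdeal R))
      (MvPolynomial.quotientEquivQuotientMvPolynomial (σ := Fin d) (maximalIdeal R)).symm.toMulEquiv
  have hQ : p.comap (algebraMap A E) = Q0 := by
    have hle : Q0 ≤ p.comap (algebraMap A E) := Ideal.map_le_iff_le_comap.2 fun r hr => by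
      show algebraMap A E (MvPolynomial.C r) ∈ p
      rw [← MvPolynomial.algebraMap_eq, ← IsScalarTower.algebraMap_apply]
      exact hmp (Ideal.mem_map_of_mem _ hr)
    haveI : p.LiesOver (p.comap (algebraMap A E)) := ⟨rfl⟩
    haveI : Module.Flat A E := inferInstance
    obtain ⟨q, hqp, hq, hqQ⟩ := Ideal.exists_ideal_le_liesOver_of_le (p := Q0) (q := p.comap (algebraMap A E)) p hle
    have hpq : p ≤ q := fun x hx => by
      have hx' : algebraMap E B x ∈ ((maximalIdeal R).map (algebraMap R E)).map (algebraMap E B) := by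
        rw [Ideal.map_map, ← IsScalarTower.algebraMap_eq]
        exact hx
      obtain ⟨t, ht, htx⟩ := (IsLocalization.algebraMap_mem_map_algebraMap_iff P.primeCompl B _ _).1 hx'
      have hmq : (maximalIdeal R).map (algebraMap R E) ≤ q := Ideal.map_le_iff_le_comap.2 fun r hr => by
        have h0 : (MvPolynomial.C r) ∈ Q0 := Ideal.mem_map_of_mem _ hr
        rw [hqQ.over] at h0
        show algebraMap R E r ∈ q
        rw [IsScalarTower.algebraMap_apply R A E]
        exact h0
      exact (hq.mem_or_mem (hmq htx)).resolve_left fun h => ht (hpP (hqp h))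
    have hqe : p = q := le_antisymm hpq hqp
    simp only [hqe]
    exact hqQ.over.symm
  have hS : ValEtale7.SameValues R (Localization.AtPrime p) := sameValues_etale p Q0 rfl hQ
  let V := Localization.AtPrime p
  haveI := hS.isDomain
  have hu : ∀ t : P.primeCompl, IsUnit (algebraMap E V t) := fun t =>
    IsLocalization.map_units V (⟨t.1, fun h => t.2 (hpP h)⟩ : p.primeCompl)
  let φ : B →+* V := IsLocalization.lift (g := algebraMap E V) hu
  have hφ : ∀ e : E, φ (algebraMap E B e) = algebraMap E V e := IsLocalization.lift_eq _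
  have hφR : ∀ r : R, φ (algebraMap R B r) = algebraMap R V r := fun r => by
    rw [IsScalarTower.algebraMap_apply R E B, hφ, ← IsScalarTower.algebraMap_apply]
  -- divisibility by scalars is detected at the generic point of the closed fibre
  have hback : ∀ (b : R) (x : B), algebraMap R V b ∣ φ x → algebraMap R B b ∣ x := by
    rintro b x ⟨z, hz⟩
    obtain ⟨e, s, rfl⟩ := IsLocalization.exists_mk'_eq p.primeCompl z
    obtain ⟨e', t, rfl⟩ := IsLocalization.exists_mk'_eq P.primeCompl x
    have h1 : algebraMap E V (e' * s) = algebraMap E V (algebraMap R E b * e * t) := by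
      rw [map_mul, ← hφ e', ← IsLocalization.mk'_spec B e' t, map_mul, hφ, hz, map_mul, map_mul,
        ← IsScalarTower.algebraMap_apply R E V, ← IsLocalization.mk'_spec V e s]
      ring
    obtain ⟨w, hw⟩ := (IsLocalization.eq_iff_exists p.primeCompl V).1 h1
    have h2 : algebraMap E B ((w * s : E)) * algebraMap E B e' ∈ (Ideal.span {b}).map (algebraMap R B) := by
      rw [Ideal.map_span, Set.image_singleton, Ideal.mem_span_singleton, ← map_mul,
        show (w : E) * s * e' = algebraMap R E b * (w * e * t) by linear_combination hw, map_mul,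
        ← IsScalarTower.algebraMap_apply]
      exact dvd_mul_right _ _
    have h3 := mem_map_of_mul_mem_map P hP (s := (w * s : E)) (fun h => (w * s).2 h) (Ideal.span {b}) h2
    rw [Ideal.map_span, Set.image_singleton, Ideal.mem_span_singleton, ← IsLocalization.mk'_spec B e' t] at h3
    exact (IsUnit.dvd_mul_right (IsLocalization.map_units B t)).1 h3
  have hdvd : ∀ b a : R, algebraMap R V b ∣ algebraMap R V a → b ∣ a := by
    rintro b a ⟨z, hz⟩
    rcases eq_or_ne z 0 with rfl | hz0
    · rw [mul_zero, ← map_zero (algebraMap R V)] at hz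
      rw [hS.inj hz]
      exact dvd_zero b
    obtain ⟨k, u, rfl⟩ := hS.exists_eq z hz0
    rcases eq_or_ne (b * k) 0 with h0 | h0
    · have : algebraMap R V a = 0 := by rw [hz, mul_left_comm, ← map_mul, h0, map_zero, mul_zero]
      rw [← map_zero (algebraMap R V)] at this
      rw [hS.inj this]
      exact dvd_zero b
    rcases ValuationRing.dvd_total (b * k) a with h | ⟨l, hl⟩
    · exact (dvd_mul_right b k).trans h
    · have h1 : algebraMap R V a * (u * algebraMap R V l) = algebraMap R V a * 1 := by
        rw [mul_one, mul_left_comm, ← map_mul, ← hl, map_mul, hz]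
        ring
      have ha : algebraMap R V a ≠ 0 := fun h => h0 (by
        rw [← map_zero (algebraMap R V)] at h
        rw [hl, hS.inj h, zero_mul])
      have hlu : IsUnit l := hS.isLocalHom.map_nonunit l (IsUnit.of_mul_eq_one_right _ (mul_left_cancel₀ ha h1))
      exact ⟨k * hlu.unit⁻¹, by rw [← mul_assoc, hl, mul_assoc, hlu.mul_val_inv, mul_one]⟩
  have hB : ContentMod R B := by
    intro x
    obtain ⟨a, u, hau⟩ : ∃ (a : R) (u : Vˣ), φ x = u * algebraMap R V a := by
      rcases eq_or_ne (φ x) 0 with h | h
      · exact ⟨0, 1, by rw [h, map_zero, mul_zero]⟩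
      · exact hS.exists_eq _ h
    refine ⟨a, fun b => ⟨fun ⟨y, hy⟩ => hdvd b a ?_, fun ⟨k, hk⟩ => ?_⟩⟩
    · refine (Units.dvd_mul_left (u := u)).1 (Dvd.intro (φ y) ?_)
      rw [← hau, ← hy, Algebra.smul_def, map_mul, hφR]
    · obtain ⟨y, hy⟩ := hback b x (by rw [hau, hk, map_mul]; exact Dvd.intro _ (mul_left_comm _ _ _))
      exact ⟨y, by rw [Algebra.smul_def, ← hy]⟩
  exact ContentMod.of_equiv ((IsLocalizedModule.iso P.primeCompl (Algebra.linearMap E B)).restrictScalars R) hB

/-- The statement proved by induction on the relative dimension. -/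
def ContentAt (d : ℕ) : Prop :=
  ∀ (R E : Type u) [CommRing R] [IsDomain R] [ValuationRing R] [CommRing E] [Algebra R E] [Algebra (MvPolynomial (Fin d) R) E]
    [IsScalarTower R (MvPolynomial (Fin d) R) E] [Algebra.Etale (MvPolynomial (Fin d) R) E]
    (P : Ideal E) [P.IsPrime], P.comap (algebraMap R E) = maximalIdeal R →
    ∀ (M : Type u) [AddCommGroup M] [Module E M] [Module R M] [IsScalarTower R E M] [Module.Finite E M],
      Module.Flat R (LocalizedModule P.primeCompl M) → ContentMod R (LocalizedModule P.primeCompl M)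

theorem content_step {d : ℕ} (IH : ContentAt.{u} d) {R T : Type u} [CommRing R] [IsDomain R] [ValuationRing R] [CommRing T]
    [Algebra R T] [Algebra.FiniteType R T] [Algebra (MvPolynomial (Fin d) R) T]
    [IsScalarTower R (MvPolynomial (Fin d) R) T] (Pb : Ideal T) [Pb.IsPrime]
    (hPb : Pb.comap (algebraMap R T) = maximalIdeal R) [Algebra.QuasiFiniteAt (MvPolynomial (Fin d) R) Pb]
    (N : Type u) [AddCommGroup N] [Module T N] [Module R N] [IsScalarTower R T N] [Module.Finite T N]
    (hflat : Module.Flat R (LocalizedModule Pb.primeCompl N)) : ContentMod R (LocalizedModule Pb.primeCompl N) := by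
  refine of_finite_chart (d := d) Pb hPb ?_
  intro E C _ _ _ _ _ _ _ _ _ _ _ _ _ P' _ hP' P1 _ h1 huniq h2
  haveI := hflat
  let N1 := C ⊗[T] N
  haveI : Module.Flat R (LocalizedModule P1.primeCompl N1) := flat_baseChange Pb P1 h2 N
  haveI : IsScalarTower E C N1 := inferInstance
  haveI : IsScalarTower R E N1 := IsScalarTower.of_algebraMap_smul fun x m => by
    rw [← algebraMap_smul C (algebraMap R E x) m, ← IsScalarTower.algebraMap_apply, algebraMap_smul]
  haveI : Module.Finite E N1 := Module.Finite.trans C N1
  have hdiv := exists_dvd_of_unique P' P1 huniq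
  have hfl : Module.Flat R (LocalizedModule P'.primeCompl N1) := (flat_restrict_iff P' P1 h1 hdiv).1 ‹_›
  have hgood := IH R E P' hP' N1 hfl
  haveI := isLocalizedModule_restrict P' P1 h1 hdiv (M := N1) (M' := LocalizedModule P1.primeCompl N1)
    (LocalizedModule.mkLinearMap P1.primeCompl N1)
  let eE := IsLocalizedModule.iso P'.primeCompl ((LocalizedModule.mkLinearMap P1.primeCompl N1).restrictScalars E)
  obtain ⟨alg, hff, htow, ⟨e⟩⟩ := baseChange_aux Pb P1 h2 N
  letI := alg
  let TP := Localization.AtPrime Pb
  let L := Localization.AtPrime P1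
  haveI : IsScalarTower R TP L := IsScalarTower.of_algebraMap_eq fun x => by
    rw [IsScalarTower.algebraMap_apply R T TP, ← IsScalarTower.algebraMap_apply T TP L,
      IsScalarTower.algebraMap_apply R C L, IsScalarTower.algebraMap_apply R T C,
      ← IsScalarTower.algebraMap_apply T C L]
  refine ContentMod.of_univInjective ((TensorProduct.mk TP L (LocalizedModule Pb.primeCompl N) 1).restrictScalars R)
    (fun M _ _ => rTensor_mk_injective M) ?_
  exact ContentMod.of_equiv ((e.restrictScalars R).trans (eE.restrictScalars R).symm) hgood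

theorem contentAt : ∀ d, ContentAt.{u} d := by
  intro d
  induction d using Nat.strong_induction_on with
  | _ d IH => ?_
  intro R E _ _ _ _ _ _ _ _ P _ hP N _ _ _ _ _ hflat
  classical
  haveI : Algebra.FiniteType R E := Algebra.FiniteType.trans (S := MvPolynomial (Fin d) R) inferInstance inferInstance
  let B := Localization.AtPrime P
  obtain ⟨c, β, hβinj, hQflat, s, hsp, hsQ⟩ := exists_free_part (d := d) P hP N hflat
  let Q := N ⧸ LinearMap.range β
  let iQ := LocalizedModule.mkLinearMap P.primeCompl Q
  let iF := LocalizedModule.mkLinearMap P.primeCompl (Fin c → E)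
  let iP := LocalizedModule.mkLinearMap P.primeCompl N
  let βP := IsLocalizedModule.map P.primeCompl iF iP β
  let πP := IsLocalizedModule.map P.primeCompl iP iQ (LinearMap.range β).mkQ
  have hexP : Function.Exact βP πP :=
    IsLocalizedModule.map_exact P.primeCompl iF iP iQ β _ (LinearMap.exact_map_mkQ_range β)
  have hπP : Function.Surjective πP :=
    IsLocalizedModule.map_surjective P.primeCompl iP iQ _ (Submodule.mkQ_surjective _)
  have hF : ContentMod R (LocalizedModule P.primeCompl (Fin c → E)) := by
    let pf : (Fin c → E) →ₗ[E] (Fin c → LocalizedModule P.primeCompl E) :=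
      LinearMap.pi fun i => (LocalizedModule.mkLinearMap P.primeCompl E).comp (LinearMap.proj i)
    haveI : IsLocalizedModule P.primeCompl pf := inferInstance
    exact ContentMod.of_equiv ((IsLocalizedModule.iso P.primeCompl pf).restrictScalars R)
      (ContentMod.pi c (content_etale (d := d) P hP))
  have hQ : ContentMod R (LocalizedModule P.primeCompl Q) := by
    by_cases hsP : s ∈ P
    · obtain ⟨d', hd', θ, hθ⟩ := exists_cut (d := d) P hP s hsP hsp
      let T := E ⧸ Ideal.span {s}
      letI : Algebra (MvPolynomial (Fin d') R) T := θ.toRingHom.toAlgebra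
      haveI : IsScalarTower R (MvPolynomial (Fin d') R) T := IsScalarTower.of_algebraMap_eq fun r => (θ.commutes r).symm
      have hann : Module.IsTorsionBySet E Q (Ideal.span {s} : Ideal E) := by
        rintro y ⟨z, hz⟩
        obtain ⟨w, rfl⟩ := Ideal.mem_span_singleton'.1 hz
        show (w * s) • y = 0
        rw [mul_smul, hsQ, smul_zero]
      letI : Module T Q := hann.module
      haveI : IsScalarTower E T Q := hann.isScalarTower
      haveI : IsScalarTower R T Q := hann.isScalarTower
      haveI : Module.Finite T Q := Module.Finite.of_restrictScalars_finite E T Q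
      let Pb : Ideal T := P.map (Ideal.Quotient.mk (Ideal.span {s}))
      have hle : Ideal.span {s} ≤ P := (Ideal.span_singleton_le_iff_mem _).2 hsP
      haveI : Pb.IsPrime := Ideal.map_isPrime_of_surjective Ideal.Quotient.mk_surjective (by rwa [Ideal.mk_ker])
      have hPbP : Pb.comap (algebraMap E T) = P := by
        show (P.map (Ideal.Quotient.mk (Ideal.span {s}))).comap (Ideal.Quotient.mk _) = P
        rw [Ideal.comap_map_of_surjective _ Ideal.Quotient.mk_surjective, ← RingHom.ker_eq_comap_bot, Ideal.mk_ker]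
        exact sup_eq_left.2 hle
      haveI := hθ Pb hPbP
      have hPbR : Pb.comap (algebraMap R T) = maximalIdeal R := by
        rw [IsScalarTower.algebraMap_eq R E T, ← Ideal.comap_comap, hPbP, hP]
      have hdiv : ∀ z ∉ Pb, ∃ u ∉ P, ∃ z', z * z' = algebraMap E T u := fun z hz => by
        obtain ⟨u, rfl⟩ := Ideal.Quotient.mk_surjective z
        exact ⟨u, fun h => hz (Ideal.mem_map_of_mem _ h), 1, mul_one _⟩
      haveI := isLocalizedModule_restrict P Pb hPbP hdiv (LocalizedModule.mkLinearMap Pb.primeCompl Q)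
      exact ContentMod.of_equiv
        ((IsLocalizedModule.iso P.primeCompl ((LocalizedModule.mkLinearMap Pb.primeCompl Q).restrictScalars E)).restrictScalars R)
        (content_step (IH d' hd') Pb hPbR Q ((flat_restrict_iff P Pb hPbP hdiv).2 hQflat))
    · haveI : Subsingleton (LocalizedModule P.primeCompl Q) :=
        LocalizedModule.subsingleton_iff.2 fun y => ⟨s, hsP, hsQ y⟩
      exact ContentMod.of_subsingleton
  exact ContentMod.of_exact (βP.restrictScalars R) (πP.restrictScalars R) hβinj hexP hπP hF hQ

end Groth.Agent.H4RG
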