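import Groth.Prelude
import Groth.Agent.CAlgUI.ML
import Mathlib

/-!
# An element killed at all points over the closed point vanishes

In a flat Mittag-Leffler algebra an element has a smallest content ideal.  If a local extension of the base does not
kill that ideal, the element survives at some point over the closed point.
-/

set_option autoImplicit false
set_option linter.style.haveILetI false
set_option backward.isDefEq.respectTransparency.types false

universe u

open TensorProduct IsLocalRing

namespace Groth.Agent.H4RG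

attribute [local instance] Algebra.TensorProduct.rightAlgebra

/-- A point of a base change over both closed points. -/
def IsPt {R R' B : Type u} [CommRing R] [CommRing R'] [IsLocalRing R'] [CommRing B] [IsLocalRing B] [Algebra R R']
    [Algebra R B] (q : Ideal (R' ⊗[R] B)) : Prop :=
  q.comap (Algebra.TensorProduct.includeRight : B →ₐ[R] R' ⊗[R] B) = maximalIdeal B ∧
    q.comap (algebraMap R' (R' ⊗[R] B)) = maximalIdeal R'

/-- A flat Mittag-Leffler module has content ideals. -/
theorem exists_content {R F : Type u} [CommRing R] [AddCommGroup F] [Module R F] [Module.Flat R F]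
    (hML : CAlg.IsMittagLeffler R F) (x : F) :
    ∃ c : Ideal R, c.FG ∧ x ∈ c • (⊤ : Submodule R F) ∧ ∀ J : Ideal R, x ∈ J • (⊤ : Submodule R F) → c ≤ J := by
  let ι : Type u := {J : Ideal R // x ∈ J • (⊤ : Submodule R F)}
  let c : Ideal R := ⨅ J : ι, J.1
  have hmin : ∀ J : Ideal R, x ∈ J • (⊤ : Submodule R F) → c ≤ J := fun J hJ => iInf_le (fun J : ι => J.1) ⟨J, hJ⟩
  let δ : (R ⧸ c) →ₗ[R] (∀ J : ι, R ⧸ J.1) :=
    LinearMap.pi fun J => Submodule.mapQ c J.1 LinearMap.id (iInf_le (fun J : ι => J.1) J)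
  have hδ : Function.Injective δ := by
    rw [injective_iff_map_eq_zero]
    intro a ha
    obtain ⟨a, rfl⟩ := Submodule.Quotient.mk_surjective _ a
    refine (Submodule.Quotient.mk_eq_zero _).2 (Submodule.mem_iInf _ |>.2 fun J => ?_)
    exact (Submodule.Quotient.mk_eq_zero _).1 (congrFun ha J)
  have hzero : ∀ (K : Ideal R), x ⊗ₜ[R] (Submodule.Quotient.mk 1 : R ⧸ K) = 0 ↔ x ∈ K • (⊤ : Submodule R F) := by
    intro K
    rw [← (TensorProduct.tensorQuotEquivQuotSMul F K).map_eq_zero_iff]
    rw [show (Submodule.Quotient.mk 1 : R ⧸ K) = Ideal.Quotient.mk K 1 from rfl,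
      TensorProduct.tensorQuotEquivQuotSMul_tmul_mk, one_smul, Submodule.Quotient.mk_eq_zero]
  have hx : x ∈ c • (⊤ : Submodule R F) := by
    rw [← hzero]
    apply Module.Flat.lTensor_preserves_injective_linearMap (M := F) δ hδ
    apply hML ι (fun J => R ⧸ J.1)
    ext J
    rw [LinearMap.lTensor_tmul, TensorProduct.piRightHom_tmul, map_zero, map_zero]
    exact (hzero J.1).2 J.2
  have key : ∃ c₀ : Ideal R, c₀.FG ∧ c₀ ≤ c ∧ x ∈ c₀ • (⊤ : Submodule R F) := by
    refine Submodule.smul_induction_on hx (fun r hr f _ => ?_) (fun y z hy hz => ?_)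
    · exact ⟨Ideal.span {r}, ⟨{r}, by simp⟩, (Ideal.span_singleton_le_iff_mem _).2 hr,
        Submodule.smul_mem_smul (Ideal.mem_span_singleton_self r) Submodule.mem_top⟩
    · obtain ⟨a, ha, hac, hay⟩ := hy
      obtain ⟨b, hb, hbc, hbz⟩ := hz
      exact ⟨a ⊔ b, Submodule.FG.sup ha hb, sup_le hac hbc,
        add_mem (Submodule.smul_mono_left le_sup_left hay) (Submodule.smul_mono_left le_sup_right hbz)⟩
  obtain ⟨c₀, hc₀, hle, hxc₀⟩ := key
  exact ⟨c, by rwa [le_antisymm (hmin c₀ hxc₀) hle], hx, hmin⟩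

/-- Linearly independent elements of a Noetherian local ring stay independent modulo a power of the maximal ideal. -/
theorem exists_indep_mod_pow {k B : Type u} [Field k] [CommRing B] [IsLocalRing B] [IsNoetherianRing B] [Algebra k B]
    {r : ℕ} (b : Fin r → B) (hb : LinearIndependent k b) :
    ∃ N : ℕ, LinearIndependent k fun i => Ideal.Quotient.mk (maximalIdeal B ^ N) (b i) := by
  let φ : (Fin r → k) →ₗ[k] B := Fintype.linearCombination k b
  let D : ℕ → Submodule k (Fin r → k) := fun N => Submodule.comap φ ((maximalIdeal B ^ N).restrictScalars k)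
  have hanti : Antitone D := fun i j hij =>
    Submodule.comap_mono (Ideal.pow_le_pow_right hij : maximalIdeal B ^ j ≤ maximalIdeal B ^ i)
  obtain ⟨N, hN⟩ := IsArtinian.monotone_stabilizes ⟨fun i => OrderDual.toDual (D i), fun i j hij => hanti hij⟩
  refine ⟨N, Fintype.linearIndependent_iff.2 fun g hg i => ?_⟩
  have hgN : g ∈ D N := by
    show φ g ∈ maximalIdeal B ^ N
    rw [← Ideal.Quotient.eq_zero_iff_mem, ← hg, Fintype.linearCombination_apply, map_sum]
    exact Finset.sum_congr rfl fun j _ => rfl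
  have h0 : φ g = 0 := by
    have hall : φ g ∈ ⨅ M : ℕ, maximalIdeal B ^ M := Submodule.mem_iInf _ |>.2 fun M => by
      rcases le_total N M with h | h
      · have he : D N = D M := hN M h
        exact (he ▸ hgN : g ∈ D M)
      · exact Ideal.pow_le_pow_right h hgN
    rw [Ideal.iInf_pow_eq_bot_of_isLocalRing (maximalIdeal B) (maximalIdeal.isMaximal B).ne_top] at hall
    exact (Submodule.mem_bot _).1 hall
  exact Fintype.linearIndependent_iff.1 hb g (by rw [← Fintype.linearCombination_apply]; exact h0) i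

/-- A tensor in terms of the left algebra. -/
theorem tmul_eq_algebraMap_mul (k : Type u) {L B : Type u} [CommRing k] [CommRing L] [Algebra k L] [CommRing B] [Algebra k B]
    (x : L) (v : B) : algebraMap L (L ⊗[k] B) x * (((1 : L) ⊗ₜ[k] (1 : B)) * ((1 : L) ⊗ₜ[k] v)) = x ⊗ₜ[k] v := by
  simp

/-- An element surviving in no stalk over the closed points has content killed by the extension. -/
theorem map_content_eq_bot {R R' B : Type u} [CommRing R] [IsLocalRing R] [CommRing R'] [IsLocalRing R'] [Algebra R R']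
    [IsLocalHom (algebraMap R R')] [CommRing B] [IsLocalRing B] [Algebra R B] [IsLocalHom (algebraMap R B)]
    [Algebra.EssFiniteType R B] [Module.Flat R B] (c : Ideal R) (hc : c.FG) (b : B) (hb : b ∈ c • (⊤ : Submodule R B))
    (hmin : ∀ J : Ideal R, b ∈ J • (⊤ : Submodule R B) → c ≤ J)
    (hdie : ∀ (q : Ideal (R' ⊗[R] B)) [q.IsPrime], IsPt q → ∃ s ∉ q, s * ((1 : R') ⊗ₜ[R] b) = 0) :
    c.map (algebraMap R R') = ⊥ := by
  classical
  by_contra hne
  let k := ResidueField R
  let k' := ResidueField R'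
  have hex : ∃ r, ∃ g : Fin r → R, Ideal.span (Set.range g) = c := Submodule.fg_iff_exists_fin_generating_family.1 hc
  obtain ⟨r, hrmin, g, hg⟩ : ∃ r, (∀ m < r, ¬ ∃ g : Fin m → R, Ideal.span (Set.range g) = c) ∧
      ∃ g : Fin r → R, Ideal.span (Set.range g) = c :=
    ⟨Nat.find hex, fun _ h => Nat.find_min hex h, Nat.find_spec hex⟩
  obtain ⟨e, he⟩ : ∃ e : Fin r → B, ∑ i, g i • e i = b := by
    rw [← hg] at hb
    refine Submodule.smul_induction_on hb (fun a ha y _ => ?_) (fun y z ⟨e₁, h₁⟩ ⟨e₂, h₂⟩ => ?_)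
    · obtain ⟨l, rfl⟩ := Submodule.mem_span_range_iff_exists_fun _ |>.1 ha
      exact ⟨fun i => l i • y, by simp only [Finset.sum_smul, smul_smul, smul_eq_mul]; exact Finset.sum_congr rfl fun i _ => by rw [mul_comm]⟩
    · exact ⟨e₁ + e₂, by simp [smul_add, Finset.sum_add_distrib, h₁, h₂]⟩
  let m := maximalIdeal R
  let Bk := B ⧸ m.map (algebraMap R B)
  letI : Algebra k Bk := Ideal.Quotient.algebraQuotientMapQuotient
  haveI : IsScalarTower R k Bk := IsScalarTower.of_algebraMap_eq fun a => rfl
  -- the coefficients are independent on the closed fibre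
  have hind : LinearIndependent k fun i => Ideal.Quotient.mk (m.map (algebraMap R B)) (e i) := by
    rw [Fintype.linearIndependent_iff]
    intro l hl
    by_contra hl'
    push Not at hl'
    obtain ⟨j, hj⟩ := hl'
    choose a ha using fun i => Ideal.Quotient.mk_surjective (I := m) (l i)
    have hje : Ideal.Quotient.mk (m.map (algebraMap R B)) (∑ i, a i • e i) = 0 := by
      rw [map_sum, ← hl]
      refine Finset.sum_congr rfl fun i _ => ?_
      rw [← ha i]
      rfl
    have hju : IsUnit (a j) := IsLocalRing.notMem_maximalIdeal.1 fun h => hj (by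
      rw [← ha j]; exact Ideal.Quotient.eq_zero_iff_mem.2 h)
    obtain ⟨r', hr'⟩ : ∃ r', r = r' + 1 := ⟨r - 1, by have := j.2; omega⟩
    have hJ : b ∈ (Ideal.span (Set.range fun i : {i // i ≠ j} => g i - (↑hju.unit⁻¹ : R) * a i * g j) ⊔ m * c) •
        (⊤ : Submodule R B) := by
      have hmem : ∑ i, a i • e i ∈ m • (⊤ : Submodule R B) := by
        rw [Ideal.smul_top_eq_map, Submodule.restrictScalars_mem]
        exact Ideal.Quotient.eq_zero_iff_mem.1 hje
      have hgj : g j ∈ c := hg ▸ Ideal.subset_span ⟨j, rfl⟩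
      have heq : b = ∑ i, (g i - (↑hju.unit⁻¹ : R) * a i * g j) • e i + ((↑hju.unit⁻¹ : R) * g j) • ∑ i, a i • e i := by
        rw [← he, Finset.smul_sum, ← Finset.sum_add_distrib]
        refine Finset.sum_congr rfl fun i _ => ?_
        rw [smul_smul, ← add_smul]
        congr 1
        ring
      rw [heq]
      refine add_mem (sum_mem fun i _ => ?_) ?_
      · by_cases hij : i = j
        · rw [hij, hju.val_inv_mul, one_mul, sub_self, zero_smul]
          exact zero_mem _
        · exact Submodule.smul_mem_smul (Submodule.mem_sup_left (Ideal.subset_span ⟨⟨i, hij⟩, rfl⟩)) Submodule.mem_top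
      · refine Submodule.smul_mono_left (le_sup_right : m * c ≤ _) ?_
        rw [mul_comm m c]
        show _ ∈ (c • m : Submodule R R) • (⊤ : Submodule R B)
        rw [Submodule.smul_assoc]
        exact Submodule.smul_mem_smul (c.mul_mem_left _ hgj) hmem
    have hle : c ≤ Ideal.span (Set.range fun i : {i // i ≠ j} => g i - (↑hju.unit⁻¹ : R) * a i * g j) :=
      Submodule.le_of_le_smul_of_le_jacobson_bot hc (IsLocalRing.jacobson_eq_maximalIdeal ⊥ bot_ne_top).ge (hmin _ hJ)
    have hge : Ideal.span (Set.range fun i : {i // i ≠ j} => g i - (↑hju.unit⁻¹ : R) * a i * g j) ≤ c :=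
      Ideal.span_le.2 fun _ ⟨i, hi⟩ => hi ▸ sub_mem (hg ▸ Ideal.subset_span ⟨i.1, rfl⟩)
        (c.mul_mem_left _ (hg ▸ Ideal.subset_span ⟨j, rfl⟩))
    have hcard : Fintype.card {i // i ≠ j} = r' := by simp [hr']
    refine hrmin r' (by omega) ⟨(fun i : {i // i ≠ j} => g i - (↑hju.unit⁻¹ : R) * a i * g j) ∘
      (Fintype.equivFinOfCardEq hcard).symm, ?_⟩
    rw [EquivLike.range_comp]
    exact le_antisymm hge hle
  -- a functional on the extended content
  let c' : Ideal R' := c.map (algebraMap R R')
  have hgc : ∀ i, algebraMap R R' (g i) ∈ c' := fun i => Ideal.mem_map_of_mem _ (hg ▸ Ideal.subset_span ⟨i, rfl⟩)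
  obtain ⟨φ, i₀, hi₀⟩ : ∃ φ : c' →ₗ[R'] k', ∃ i₀, φ ⟨_, hgc i₀⟩ ≠ 0 := by
    let V := k' ⊗[R'] c'
    obtain ⟨i₀, hi₀⟩ : ∃ i, (1 : k') ⊗ₜ[R'] (⟨_, hgc i⟩ : c') ≠ 0 := by
      by_contra hall
      push Not at hall
      have hfgc : c'.FG := Ideal.FG.map hc _
      haveI : Module.Finite R' c' := Module.Finite.iff_fg.2 hfgc
      have hsub : Subsingleton V := by
        refine ⟨fun v w => ?_⟩
        have hz : ∀ v : V, v = 0 := by
          intro v
          induction v using TensorProduct.induction_on with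
          | zero => rfl
          | add s t hs ht => rw [hs, ht, add_zero]
          | tmul l y =>
            have hy : y ∈ Submodule.span R' (Set.range fun i => (⟨_, hgc i⟩ : c')) := by
              apply (Submodule.apply_mem_span_image_iff_mem_span (f := c'.subtype) Subtype.val_injective).1
              rw [← Set.range_comp]
              have : c' = Ideal.span (Set.range fun i => algebraMap R R' (g i)) := by
                show c.map _ = _
                rw [← hg, Ideal.map_span, ← Set.range_comp]; rfl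
              exact (this.le y.2 :)
            induction hy using Submodule.span_induction with
            | mem y hy =>
              obtain ⟨i, rfl⟩ := hy
              rw [show l = l • (1 : k') by rw [smul_eq_mul, mul_one], ← smul_tmul', hall i, smul_zero]
            | zero => exact tmul_zero _ _
            | add s t _ _ hs ht => rw [tmul_add, hs, ht, add_zero]
            | smul a s _ hs => rw [tmul_smul, hs, smul_zero]
        rw [hz v, hz w]
      have : Subsingleton c' := IsLocalRing.subsingleton_tensorProduct.1 hsub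
      exact hne ((Submodule.eq_bot_iff _).2 fun y hy => congrArg Subtype.val (Subsingleton.elim (⟨y, hy⟩ : c') 0))
    obtain ⟨ψ, hψ⟩ := Module.Projective.exists_dual_ne_zero k' hi₀
    exact ⟨(ψ.restrictScalars R').comp (TensorProduct.mk R' k' c' 1), i₀, hψ⟩
  let t : Fin r → k' := fun i => φ ⟨_, hgc i⟩
  -- independence modulo a power
  haveI : IsNoetherianRing Bk := by
    haveI : Algebra.EssFiniteType k Bk := Algebra.EssFiniteType.of_comp R k Bk
    exact Algebra.EssFiniteType.isNoetherianRing k Bk
  have hmB : m.map (algebraMap R B) ≤ maximalIdeal B := Ideal.map_le_iff_le_comap.2 fun a ha =>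
    (IsLocalRing.mem_maximalIdeal _).2 fun hu =>
      (IsLocalRing.mem_maximalIdeal _).1 ha ((isUnit_map_iff (algebraMap R B) a).1 hu)
  haveI : Nontrivial Bk := Ideal.Quotient.nontrivial_iff.2 fun h =>
    (maximalIdeal.isMaximal B).ne_top (top_le_iff.1 (h ▸ hmB))
  haveI : IsLocalRing Bk := IsLocalRing.of_surjective' (Ideal.Quotient.mk _) Ideal.Quotient.mk_surjective
  obtain ⟨BN, _, _, _, _, toBN, hindN, hnilN⟩ : ∃ (BN : Type u) (_ : CommRing BN) (_ : Algebra k BN) (_ : Algebra R BN)
      (_ : IsScalarTower R k BN) (toBN : B →ₐ[R] BN),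
      LinearIndependent k (fun i => toBN (e i)) ∧ ∀ x ∈ maximalIdeal B, IsNilpotent (toBN x) := by
    obtain ⟨N, hN⟩ := exists_indep_mod_pow _ hind
    refine ⟨Bk ⧸ maximalIdeal Bk ^ N, inferInstance, inferInstance, inferInstance, inferInstance,
      (Ideal.Quotient.mkₐ R (maximalIdeal Bk ^ N)).comp (Ideal.Quotient.mkₐ R (m.map (algebraMap R B))), hN,
      fun x hx => ⟨N, ?_⟩⟩
    show (Ideal.Quotient.mk _ (Ideal.Quotient.mk _ x)) ^ N = 0
    rw [← map_pow, Ideal.Quotient.eq_zero_iff_mem]
    refine Ideal.pow_mem_pow ((IsLocalRing.mem_maximalIdeal _).2 fun hu => (IsLocalRing.mem_maximalIdeal _).1 hx ?_) N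
    haveI := IsLocalHom.of_surjective (Ideal.Quotient.mk (m.map (algebraMap R B))) Ideal.Quotient.mk_surjective
    exact (isUnit_map_iff _ x).1 hu
  let D := k' ⊗[k] BN
  let ρ : R' ⊗[R] B →ₐ[R] D := Algebra.TensorProduct.lift
    (((Algebra.TensorProduct.includeLeft : k' →ₐ[k] D).restrictScalars R).comp (IsScalarTower.toAlgHom R R' k'))
    (((Algebra.TensorProduct.includeRight : BN →ₐ[k] D).restrictScalars R).comp toBN) (fun x y => Commute.all (S := D) _ _)
  let zN : D := ∑ i, t i ⊗ₜ[k] toBN (e i)
  have hzN : zN ≠ 0 := by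
    intro h0
    obtain ⟨l, hl⟩ := LinearMap.exists_leftInverse_of_injective
      (Fintype.linearCombination k fun i => toBN (e i)) (LinearMap.ker_eq_bot.2 hindN.fintypeLinearCombination_injective)
    let f : BN →ₗ[k] k := (LinearMap.proj i₀).comp l
    have hf : ∀ i, f (toBN (e i)) = (Pi.single i (1 : k) : Fin r → k) i₀ := fun i => by
      have := LinearMap.congr_fun hl (Pi.single i (1 : k))
      rw [LinearMap.comp_apply, Fintype.linearCombination_apply_single, one_smul] at this
      exact congrFun this i₀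
    have := congrArg ((TensorProduct.rid k k').toLinearMap ∘ₗ f.lTensor k') h0
    simp only [zN, map_sum, LinearMap.comp_apply, LinearMap.lTensor_tmul, LinearEquiv.coe_coe, TensorProduct.rid_tmul,
      map_zero] at this
    rw [Finset.sum_eq_single i₀ (fun i _ hi => by rw [show f (toBN (e i)) = 0 from (hf i).trans (by simp [hi]), zero_smul])
      (fun h => absurd (Finset.mem_univ i₀) h), show f (toBN (e i₀)) = 1 from (hf i₀).trans (by simp), one_smul] at this
    exact hi₀ this
  obtain ⟨Q, hQ, hQle⟩ := Ideal.exists_le_maximal (LinearMap.ker (LinearMap.toSpanSingleton D D zN)) fun h => hzN (by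
    have : (1 : D) ∈ LinearMap.ker (LinearMap.toSpanSingleton D D zN) := h ▸ Submodule.mem_top
    simpa using this)
  haveI hQp := @Ideal.IsMaximal.isPrime D _ Q hQ
  have hPt : IsPt (Q.comap ρ) := by
    constructor
    · refine ((maximalIdeal.isMaximal B).eq_of_le (Ideal.comap_ne_top _ (Ideal.comap_ne_top _ hQ.ne_top)) fun x hx => ?_).symm
      show ρ ((1 : R') ⊗ₜ[R] x) ∈ Q
      have hnil : IsNilpotent (ρ ((1 : R') ⊗ₜ[R] x)) := by
        obtain ⟨N, hN⟩ := hnilN x hx
        refine ⟨N, ?_⟩
        simp only [ρ, Algebra.TensorProduct.lift_tmul, map_one, one_mul, AlgHom.comp_apply]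
        show ((1 : k') ⊗ₜ[k] toBN x : D) ^ N = 0
        rw [Algebra.TensorProduct.tmul_pow, hN, tmul_zero]
      exact nilpotent_iff_mem_prime.1 hnil Q hQp
    · refine ((maximalIdeal.isMaximal R').eq_of_le (Ideal.comap_ne_top _ (Ideal.comap_ne_top _ hQ.ne_top)) fun a ha => ?_).symm
      show ρ (algebraMap R' _ a) ∈ Q
      rw [Algebra.TensorProduct.algebraMap_apply, Algebra.algebraMap_self, RingHom.id_apply]
      simp only [ρ, Algebra.TensorProduct.lift_tmul, map_one, mul_one, AlgHom.comp_apply]
      show (algebraMap R' k' a) ⊗ₜ[k] (1 : BN) ∈ Q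
      rw [ResidueField.algebraMap_eq, (IsLocalRing.residue_eq_zero_iff _).2 ha, zero_tmul]
      exact zero_mem _
  obtain ⟨s, hs, hs0⟩ := hdie _ hPt
  -- transport through the functional
  have hρ : ∀ (a : R') (β : R' ⊗[R] B), ρ (a • β) = algebraMap k' D (algebraMap R' k' a) * ρ β := fun a β => by
    rw [Algebra.smul_def a β, map_mul, Algebra.TensorProduct.algebraMap_apply, Algebra.algebraMap_self, RingHom.id_apply]
    congr 1
    simp only [ρ, Algebra.TensorProduct.lift_tmul, map_one, mul_one, AlgHom.comp_apply]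
    rfl
  let G : c' ⊗[R'] (R' ⊗[R] B) →+ D := TensorProduct.liftAddHom
    (AddMonoidHom.mk' (fun y => (AddMonoidHom.mulLeft (algebraMap k' D (φ y))).comp ρ.toAddMonoidHom)
      (fun y y' => by ext β; simp [add_mul]))
    (fun a y β => by
      show algebraMap k' D (φ (a • y)) * ρ β = algebraMap k' D (φ y) * ρ (a • β)
      rw [hρ, map_smul, Algebra.smul_def, map_mul, mul_assoc, mul_left_comm])
  let y : c' ⊗[R'] (R' ⊗[R] B) := ∑ i, (⟨_, hgc i⟩ : c') ⊗ₜ[R'] (s * ((1 : R') ⊗ₜ[R] e i))
  have hy : y = 0 := by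
    apply Module.Flat.rTensor_preserves_injective_linearMap (M := R' ⊗[R] B) c'.subtype Subtype.val_injective
    apply (TensorProduct.lid R' (R' ⊗[R] B)).injective
    simp only [y, map_sum, LinearMap.rTensor_tmul, TensorProduct.lid_tmul, map_zero, Submodule.subtype_apply]
    rw [← hs0, ← he, tmul_sum, Finset.mul_sum]
    refine Finset.sum_congr rfl fun i _ => ?_
    rw [algebraMap_smul, tmul_smul, mul_smul_comm]
  have hGy := congrArg G hy
  rw [map_zero] at hGy
  have hsz : ρ s * zN = 0 := by
    rw [← hGy]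
    simp only [y, G, map_sum, TensorProduct.liftAddHom_tmul, AddMonoidHom.mk'_apply, AddMonoidHom.comp_apply, AddMonoidHom.coe_mulLeft, zN, Finset.mul_sum]
    refine (Finset.mul_sum _ _ _).trans (Finset.sum_congr rfl ?_)
    intro i _
    show ρ s * t i ⊗ₜ[k] toBN (e i) = algebraMap k' D (φ ⟨_, hgc i⟩) * ρ (s * ((1 : R') ⊗ₜ[R] e i))
    rw [map_mul, mul_left_comm]
    congr 1
    simp [ρ, t]
    exact (tmul_eq_algebraMap_mul k _ _).symm
  exact hs (hQle (LinearMap.mem_ker.2 (by rw [LinearMap.toSpanSingleton_apply, smul_eq_mul]; exact hsz)))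

end Groth.Agent.H4RG
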