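import Groth.Prelude
import Groth.Agent.H4RG.FlatNhd
import Mathlib

/-!
# Flat finite type modules and algebras which are finitely presented
-/

set_option autoImplicit false
set_option linter.style.haveILetI false
set_option backward.isDefEq.respectTransparency.types false

universe u

open TensorProduct

namespace Groth.Agent.H4RG

theorem weakAss_finite_of_isDomain (R : Type u) [CommRing R] [IsDomain R] : (FlatCA.weakAss R R).Finite := by
  refine (Set.finite_singleton (⊥ : Ideal R)).subset ?_
  rintro p ⟨m, hm⟩
  by_cases hm0 : m = 0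
  · subst hm0
    exact absurd (eq_top_iff.2 fun a _ => hm.1.2 ((Submodule.mem_annihilator_span_singleton _ _).2 (smul_zero a))) hm.1.1.ne_top
  · have hann : (Submodule.span R {m}).annihilator = ⊥ := eq_bot_iff.2 fun a ha =>
      (mul_eq_zero.1 ((Submodule.mem_annihilator_span_singleton _ _).1 ha)).resolve_right hm0
    rw [hann] at hm
    exact le_antisymm (hm.2 ⟨Ideal.isPrime_bot, le_rfl⟩ bot_le) bot_le

variable {R S : Type u} [CommRing R] [CommRing S] [Algebra R S]

/-- The relations of a quotient ring, read as relations of a module. -/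
theorem mem_span_of_relations {A : Type u} [CommRing A] {G : Finset (Fin 1 → A)} {v : Fin 1 → A}
    (hv : v ∈ Submodule.span A (G : Set (Fin 1 → A))) :
    v 0 ∈ Ideal.span ((fun w : Fin 1 → A => w 0) '' (G : Set (Fin 1 → A))) := by
  have := Submodule.mem_map_of_mem (f := (LinearMap.proj 0 : (Fin 1 → A) →ₗ[A] A)) hv
  rw [Submodule.map_span] at this
  exact this

/-- A finite module flat everywhere is finitely presented when the base has finitely many weakly associated primes. -/
theorem fp_of_flat_of_weakAss [Algebra.FiniteType R S] (hR : (FlatCA.weakAss R R).Finite) (N : Type u) [AddCommGroup N]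
    [Module S N] [Module R N] [IsScalarTower R S N] [Module.Finite S N] [Module.Flat R N] :
    Module.FinitePresentation S N := by
  obtain ⟨n, φ, hφ⟩ := Algebra.FiniteType.iff_quotient_mvPolynomial''.1 ‹Algebra.FiniteType R S›
  let A := MvPolynomial (Fin n) R
  letI : Algebra A S := φ.toRingHom.toAlgebra
  letI : Module A N := Module.compHom N φ.toRingHom
  haveI : IsScalarTower A S N := ⟨fun x y m => mul_smul (φ x) y m⟩
  haveI : IsScalarTower R A N := IsScalarTower.of_algebraMap_smul fun r m => by
    show φ (algebraMap R A r) • m = r • m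
    rw [φ.commutes, algebraMap_smul]
  haveI : Module.Finite A S := Module.Finite.of_surjective (Algebra.linearMap A S) hφ
  haveI : Module.Finite A N := Module.Finite.trans S N
  obtain ⟨c, π, hπ⟩ := Module.Finite.exists_fin' A N
  haveI : Module.FinitePresentation A N := fp_of_local hπ fun q hq => by
    haveI := hq
    obtain ⟨g, hg, G, hG, hk, -⟩ := exists_nhd_of_weakAss hR N π hπ q (EssFPDescent.flat_localizedModule N q.primeCompl)
    exact ⟨g, hg, G, hG, hk⟩
  exact fp_of_fp_of_finite (B := A)

/-- An algebra presented as a module over a polynomial ring is finitely presented. -/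
theorem algebra_fp_of_module_fp {n : ℕ} (φ : MvPolynomial (Fin n) R →ₐ[R] S) (hφ : Function.Surjective φ)
    (h : letI := φ.toRingHom.toAlgebra; Module.FinitePresentation (MvPolynomial (Fin n) R) S) :
    Algebra.FinitePresentation R S := by
  letI := φ.toRingHom.toAlgebra
  haveI := h
  exact Algebra.FinitePresentation.of_surjective hφ
    (Module.FinitePresentation.fg_ker (Algebra.linearMap (MvPolynomial (Fin n) R) S) hφ)

/-- A flat local ring of a finite type algebra is essentially of finite presentation. -/
theorem essFP_of_flat [Algebra.FiniteType R S] (q : Ideal S) [q.IsPrime]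
    (h : Module.Flat R (LocalizedModule q.primeCompl S)) :
    FlatCA.EssFinitePresentation R (Localization.AtPrime q) := by
  classical
  obtain ⟨n, φ, hφ⟩ := Algebra.FiniteType.iff_quotient_mvPolynomial''.1 ‹Algebra.FiniteType R S›
  let A := MvPolynomial (Fin n) R
  letI : Algebra A S := φ.toRingHom.toAlgebra
  haveI : IsScalarTower R A S := IsScalarTower.of_algebraMap_eq fun r => (φ.commutes r).symm
  haveI : Module.Finite A S := Module.Finite.of_surjective (Algebra.linearMap A S) hφ
  let P := q.comap (algebraMap A S)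
  haveI : P.IsPrime := Ideal.comap_isPrime _ _
  have hdiv : ∀ z ∉ q, ∃ u ∉ P, ∃ z', z * z' = algebraMap A S u := fun z hz => by
    obtain ⟨u, hu⟩ := hφ z
    exact ⟨u, fun h => hz (hu ▸ h), 1, (mul_one z).trans hu.symm⟩
  have hfl : Module.Flat R (LocalizedModule P.primeCompl S) := (flat_restrict_iff P q rfl hdiv).1 h
  haveI := fp_of_flat (R := R) S P hfl
  let π : (Fin 1 → A) →ₗ[A] S := (Algebra.linearMap A S).comp (LinearMap.proj 0)
  have hπ : Function.Surjective π := fun y => by
    obtain ⟨a, rfl⟩ := hφ y
    exact ⟨fun _ => a, rfl⟩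
  obtain ⟨G, hG, hk⟩ := exists_relations_loc π hπ P.primeCompl
  let K0 : Ideal A := Ideal.span ((fun w : Fin 1 → A => w 0) '' (G : Set (Fin 1 → A)))
  let L := Localization.AtPrime q
  let S₀ := A ⧸ K0
  have hK0 : ∀ a ∈ K0, algebraMap A L a = 0 := fun a ha => by
    have hle : K0 ≤ RingHom.ker (algebraMap A L) := Ideal.span_le.2 fun x ⟨w, hw, hwx⟩ => by
      show algebraMap A L x = 0
      rw [IsScalarTower.algebraMap_apply A S L, ← hwx, show algebraMap A S (w 0) = π w from rfl, hG w hw, map_zero]
    exact hle ha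
  letI : Algebra S₀ L := (Ideal.Quotient.lift K0 (algebraMap A L) hK0).toAlgebra
  haveI : IsScalarTower R S₀ L := IsScalarTower.of_algebraMap_eq (R := R) (S := S₀) (A := L) fun r => IsScalarTower.algebraMap_apply R A L r
  refine ⟨S₀, inferInstance, inferInstance, inferInstance, inferInstance, P.primeCompl.map (Ideal.Quotient.mk K0),
    Algebra.FinitePresentation.quotient ⟨G.image fun w => w 0, by rw [Finset.coe_image]⟩, ⟨?_, ?_, ?_⟩⟩
  · rintro ⟨_, u, hu, rfl⟩
    show IsUnit (algebraMap A L u)
    rw [IsScalarTower.algebraMap_apply A S L]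
    exact IsLocalization.map_units L (⟨_, fun h => hu (Ideal.mem_comap.2 h)⟩ : q.primeCompl)
  · intro z
    obtain ⟨⟨s, u⟩, hsu⟩ := IsLocalization.surj q.primeCompl z
    obtain ⟨a, rfl⟩ := hφ s
    obtain ⟨b, hb⟩ := hφ u
    refine ⟨⟨Ideal.Quotient.mk K0 a, ⟨_, b, fun h => u.2 (hb ▸ h), rfl⟩⟩, ?_⟩
    show z * algebraMap A L b = algebraMap A L a
    rw [IsScalarTower.algebraMap_apply A S L b, IsScalarTower.algebraMap_apply A S L a,
      show algebraMap A S b = u from hb]
    exact hsu
  · intro x y hxy
    obtain ⟨x, rfl⟩ := Ideal.Quotient.mk_surjective x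
    obtain ⟨y, rfl⟩ := Ideal.Quotient.mk_surjective y
    have hxy' : algebraMap S L (φ x) = algebraMap S L (φ y) :=
      (IsScalarTower.algebraMap_apply A S L x).symm.trans
        ((show algebraMap A L x = algebraMap A L y from hxy).trans (IsScalarTower.algebraMap_apply A S L y))
    obtain ⟨t, ht⟩ := IsLocalization.exists_of_eq (M := q.primeCompl) hxy'
    obtain ⟨τ, hτ⟩ := hφ t
    obtain ⟨s, hs, hsk⟩ := hk (fun _ => τ * (x - y)) (by
      show φ (τ * (x - y)) = 0
      rw [map_mul, map_sub, mul_sub, hτ, ht, sub_self])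
    have h0 := mem_span_of_relations hsk
    refine ⟨⟨_, s * τ, fun h => (‹P.IsPrime›.mem_or_mem h).elim hs (fun hh => t.2 (hτ ▸ hh)), rfl⟩, ?_⟩
    show Ideal.Quotient.mk K0 (s * τ) * Ideal.Quotient.mk K0 x = Ideal.Quotient.mk K0 (s * τ) * Ideal.Quotient.mk K0 y
    rw [← map_mul, ← map_mul, Ideal.Quotient.mk_eq_mk_iff_sub_mem, ← mul_sub, mul_assoc]
    exact h0

end Groth.Agent.H4RG
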