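import Groth.Prelude
import Groth.Agent.H4RG.FlatFP
import Mathlib

/-!
# Flat modules finitely presented over a dense part of the base
-/

set_option autoImplicit false
set_option linter.style.haveILetI false
set_option backward.isDefEq.respectTransparency.types false

universe u

open TensorProduct MvPolynomial

namespace Groth.Agent.H4RG

attribute [local instance] MvPolynomial.algebraMvPolynomial

/-- A flat finite module whose torsion, relative to some finite presentation, is killed by dense families is
finitely presented. -/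
theorem fp_of_dense {R S : Type u} [CommRing R] [CommRing S] [Algebra R S] [Algebra.FinitePresentation R S]
    (N : Type u) [AddCommGroup N] [Module S N] [Module R N] [IsScalarTower R S N] [Module.Finite S N] [Module.Flat R N]
    {c : ℕ} (π : (Fin c → S) →ₗ[S] N) (hπ : Function.Surjective π) (G0 : Finset (Fin c → S))
    (hG0 : ∀ v ∈ G0, π v = 0)
    (hdense : ∀ k, π k = 0 → ∃ (j : ℕ) (r : Fin j → R), Function.Injective (fun (a : R) (i : Fin j) => r i * a) ∧
      ∀ i, r i • k ∈ Submodule.span S (G0 : Set (Fin c → S))) :
    Module.FinitePresentation S N :=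
  fp_of_local hπ fun q hq => by
    haveI := hq
    obtain ⟨g, hg, G, hG, hk, -⟩ :=
      exists_nhd_of_dense N π hπ G0 hG0 hdense q (EssFPDescent.flat_localizedModule N q.primeCompl)
    exact ⟨g, hg, G, hG, hk⟩

/-- The relations of an algebra which is finitely presented after localising the base are generated there by
finitely many. -/
theorem exists_relations_base {R S : Type u} [CommRing R] [CommRing S] [Algebra R S] {n : ℕ}
    (φ : MvPolynomial (Fin n) R →ₐ[R] S) (hφ : Function.Surjective φ) (p : Ideal R) [p.IsPrime]
    (h : Algebra.FinitePresentation (Localization.AtPrime p) (Localization (Algebra.algebraMapSubmonoid S p.primeCompl))) :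
    ∃ G : Finset (MvPolynomial (Fin n) R), (∀ a ∈ G, φ a = 0) ∧
      ∀ a, φ a = 0 → ∃ r ∉ p, r • a ∈ Ideal.span (G : Set (MvPolynomial (Fin n) R)) := by
  classical
  let A := MvPolynomial (Fin n) R
  let Rp := Localization.AtPrime p
  let Sp := Localization (Algebra.algebraMapSubmonoid S p.primeCompl)
  let Ap := MvPolynomial (Fin n) Rp
  let W := p.primeCompl.map (C (σ := Fin n))
  haveI hloc : IsLocalization W Ap := MvPolynomial.isLocalization p.primeCompl Rp
  let σ : Ap →ₐ[Rp] Sp := MvPolynomial.aeval fun i => algebraMap S Sp (φ (X i))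
  have hσA : ∀ a : A, σ (algebraMap A Ap a) = algebraMap S Sp (φ a) := by
    intro a
    have : σ.toRingHom.comp (algebraMap A Ap) = (algebraMap S Sp).comp φ.toRingHom := by
      refine MvPolynomial.ringHom_ext (fun r => ?_) fun i => ?_
      · show σ (MvPolynomial.map (algebraMap R Rp) (C r)) = algebraMap S Sp (φ (C r))
        rw [map_C, show σ (C (algebraMap R Rp r)) = algebraMap Rp Sp (algebraMap R Rp r) from MvPolynomial.aeval_C _ _,
          show φ (C r) = algebraMap R S r from φ.commutes r, ← IsScalarTower.algebraMap_apply,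
          ← IsScalarTower.algebraMap_apply]
      · show σ (MvPolynomial.map (algebraMap R Rp) (X i)) = _
        rw [map_X]
        exact MvPolynomial.aeval_X _ _
    exact RingHom.congr_fun this a
  have hσ : Function.Surjective σ := by
    intro z
    obtain ⟨⟨s, ⟨_, r, hr, rfl⟩⟩, hz⟩ := IsLocalization.surj (Algebra.algebraMapSubmonoid S p.primeCompl) z
    obtain ⟨a, rfl⟩ := hφ s
    obtain ⟨u, hu⟩ := IsLocalization.map_units Ap (⟨C r, r, hr, rfl⟩ : W)
    refine ⟨algebraMap A Ap a * ↑u⁻¹, ?_⟩
    have h1 : σ (u : Ap) = algebraMap S Sp (algebraMap R S r) := by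
      rw [hu, hσA, show φ (C r) = algebraMap R S r from φ.commutes r]
    refine (u.isUnit.map σ).mul_left_injective ?_
    show σ (algebraMap A Ap a * ↑u⁻¹) * σ (u : Ap) = z * σ (u : Ap)
    rw [← map_mul, mul_assoc, Units.inv_mul, mul_one, hσA, h1]
    exact hz.symm
  have hfg : (RingHom.ker σ.toRingHom).FG := Algebra.FinitePresentation.ker_fG_of_surjective σ hσ
  have hker : RingHom.ker σ.toRingHom = (RingHom.ker φ.toRingHom).map (algebraMap A Ap) := by
    refine le_antisymm (fun z hz => ?_) (Ideal.map_le_iff_le_comap.2 fun a ha => ?_)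
    · obtain ⟨⟨a, w⟩, hw⟩ := IsLocalization.surj W z
      have h0 : algebraMap S Sp (φ a) = 0 := by
        rw [← hσA, ← hw, map_mul, show σ z = 0 from hz, zero_mul]
      obtain ⟨⟨_, r, hr, rfl⟩, ht⟩ := (IsLocalization.map_eq_zero_iff (Algebra.algebraMapSubmonoid S p.primeCompl) Sp _).1 h0
      have hu : IsUnit (algebraMap A Ap (C r) * algebraMap A Ap w) :=
        (IsLocalization.map_units Ap (⟨C r, r, hr, rfl⟩ : W)).mul (IsLocalization.map_units Ap w)
      refine (Ideal.mul_unit_mem_iff_mem _ hu).1 ?_
      rw [← mul_assoc, mul_comm z, mul_assoc, hw, ← map_mul]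
      refine Ideal.mem_map_of_mem _ ?_
      show φ (C r * a) = 0
      rw [map_mul, show φ (C r) = algebraMap R S r from φ.commutes r]
      exact ht
    · show σ (algebraMap A Ap a) = 0
      rw [hσA, show φ a = 0 from ha, map_zero]
  rw [hker, Ideal.map] at hfg
  obtain ⟨T, hT, hTspan⟩ := (Submodule.fg_span_iff_fg_span_finset_subset _).1 hfg
  obtain ⟨G, hG, hGT⟩ := Finset.subset_set_image_iff.1 hT
  refine ⟨G, fun a ha => hG ha, fun a ha => ?_⟩
  have h1 : algebraMap A Ap a ∈ (Ideal.span (G : Set A)).map (algebraMap A Ap) := by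
    rw [Ideal.map_span, ← Finset.coe_image, hGT]
    show _ ∈ Submodule.span Ap (T : Set Ap)
    rw [← hTspan]
    exact Submodule.subset_span ⟨a, ha, rfl⟩
  obtain ⟨_, ⟨r, hr, rfl⟩, hra⟩ := (IsLocalization.algebraMap_mem_map_algebraMap_iff W Ap _ _).1 h1
  exact ⟨r, hr, by rw [Algebra.smul_def]; exact hra⟩

/-- A flat finite type algebra finitely presented at a dense finite set of primes of the base is finitely presented. -/
theorem algebra_fp_of_dense {R S : Type u} [CommRing R] [CommRing S] [Algebra R S] [Algebra.FiniteType R S]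
    [Module.Flat R S] (s : Finset (PrimeSpectrum R))
    (hs : Function.Injective fun r : R => fun p : s => algebraMap R (Localization.AtPrime p.1.asIdeal) r)
    (hloc : ∀ p : s, Algebra.FinitePresentation (Localization.AtPrime p.1.asIdeal)
      (Localization (Algebra.algebraMapSubmonoid S p.1.asIdeal.primeCompl))) :
    Algebra.FinitePresentation R S := by
  classical
  obtain ⟨n, φ, hφ⟩ := Algebra.FiniteType.iff_quotient_mvPolynomial''.1 ‹Algebra.FiniteType R S›
  let A := MvPolynomial (Fin n) R
  refine algebra_fp_of_module_fp φ hφ ?_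
  letI : Algebra A S := φ.toRingHom.toAlgebra
  haveI : IsScalarTower R A S := IsScalarTower.of_algebraMap_eq fun r => (φ.commutes r).symm
  haveI : Module.Finite A S := Module.Finite.of_surjective (Algebra.linearMap A S) hφ
  let π : (Fin 1 → A) →ₗ[A] S := (Algebra.linearMap A S).comp (LinearMap.proj 0)
  have hπ : Function.Surjective π := fun y => by
    obtain ⟨a, rfl⟩ := hφ y
    exact ⟨fun _ => a, rfl⟩
  choose G hG hGr using fun p : s => exists_relations_base φ hφ p.1.asIdeal (hloc p)
  let G0 : Finset (Fin 1 → A) := (Finset.univ.biUnion G).image fun a _ => a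
  refine fp_of_dense (R := R) S π hπ G0 (fun v hv => ?_) fun k hk => ?_
  · obtain ⟨a, ha, rfl⟩ := Finset.mem_image.1 hv
    obtain ⟨p, -, hp⟩ := Finset.mem_biUnion.1 ha
    exact hG p a hp
  · choose r hr hrk using fun p : s => hGr p (k 0) hk
    let e := s.equivFin.symm
    refine ⟨s.card, fun i => r (e i), fun a b hab => hs (funext fun p => ?_), fun i => ?_⟩
    · have h1 : r p * a = r p * b := by
        have := congrFun hab (e.symm p)
        simpa [e] using this
      have hu := IsLocalization.map_units (Localization.AtPrime p.1.asIdeal) (⟨r p, hr p⟩ : p.1.asIdeal.primeCompl)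
      refine hu.mul_right_injective ?_
      show algebraMap R _ (r p) * algebraMap R _ a = algebraMap R _ (r p) * algebraMap R _ b
      rw [← map_mul, ← map_mul, h1]
    · have hle : Ideal.span (G (e i) : Set A) ≤
          Submodule.comap (LinearMap.pi fun _ => LinearMap.id : A →ₗ[A] Fin 1 → A) (Submodule.span A (G0 : Set (Fin 1 → A))) :=
        Submodule.span_le.2 fun a ha => Submodule.subset_span (Finset.mem_coe.2 (Finset.mem_image.2
          ⟨a, Finset.mem_biUnion.2 ⟨_, Finset.mem_univ _, ha⟩, rfl⟩))
      have h2 := hle (hrk (e i))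
      have h3 : r (e i) • k = fun _ => r (e i) • k 0 := funext fun j => by
        rw [Subsingleton.elim j 0]; rfl
      rw [h3]
      exact h2

end Groth.Agent.H4RG
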