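import Groth.Prelude
import Groth.Agent.H4RG.MLBase
import Groth.Agent.H4RG.Devissage
import Groth.Agent.H4RG.DevissageGood
import Groth.Agent.CAlgUI.ML
import Groth.Agent.W4Lib.Flat
import Mathlib

/-!
# Flat stalks of finite modules over a henselian local ring are Mittag-Leffler
-/

set_option autoImplicit false
set_option linter.style.haveILetI false
set_option backward.isDefEq.respectTransparency.types false

universe u

open TensorProduct IsLocalRing MvPolynomial

namespace Groth.Agent.H4RG

theorem ml_of_equiv {R F F' : Type u} [CommRing R] [AddCommGroup F] [Module R F] [AddCommGroup F'] [Module R F']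
    (e : F ≃ₗ[R] F') (h : CAlg.IsMittagLeffler R F') : CAlg.IsMittagLeffler R F :=
  CAlgUI.ml_of_ui e.toLinearMap (fun M _ _ => (e.rTensor M).injective) h

theorem ml_of_exact {R A B C : Type u} [CommRing R] [AddCommGroup A] [Module R A] [AddCommGroup B] [Module R B]
    [AddCommGroup C] [Module R C] [Module.Flat R C] (α : A →ₗ[R] B) (β : B →ₗ[R] C) (hα : Function.Injective α)
    (hex : Function.Exact α β) (hβ : Function.Surjective β) (hA : CAlg.IsMittagLeffler R A)
    (hC : CAlg.IsMittagLeffler R C) : CAlg.IsMittagLeffler R B := by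
  rw [CAlgUI.ml_iff]
  intro ι Q _ _ t ht
  have h0 : β.rTensor _ t = 0 := CAlgUI.ml_iff.1 hC ι Q _ fun i => by
    rw [CAlgUI.piRightHom_rTensor, ht, map_zero]
  obtain ⟨t', rfl⟩ := (rTensor_exact _ hex hβ t).1 h0
  have hinj : ∀ i, Function.Injective (α.rTensor (Q i)) := fun i =>
    (LinearMap.lTensor_inj_iff_rTensor_inj (Q i) α).1 (W4Lib.lTensor_injective_of_flat_quotient hα hex hβ (Q i))
  rw [CAlgUI.ml_iff.1 hA ι Q t' fun i => hinj i (by rw [← CAlgUI.piRightHom_rTensor, ht, map_zero]), map_zero]

theorem ml_pi {R F : Type u} [CommRing R] [AddCommGroup F] [Module R F] (c : ℕ) (h : CAlg.IsMittagLeffler R F) :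
    CAlg.IsMittagLeffler R (Fin c → F) := by
  rw [CAlgUI.ml_iff]
  intro ι Q _ _ t ht
  have hsum : ∀ w : (Fin c → F) ⊗[R] (∀ i, Q i), w = ∑ i, (LinearMap.single R (fun _ : Fin c => F) i).rTensor _
      ((LinearMap.proj i : (Fin c → F) →ₗ[R] F).rTensor _ w) := by
    intro w
    induction w using TensorProduct.induction_on with
    | zero => simp
    | add a b ha hb =>
      conv_lhs => rw [ha, hb]
      simp [map_add, Finset.sum_add_distrib]
    | tmul v m =>
      simp only [LinearMap.rTensor_tmul, LinearMap.proj_apply, ← TensorProduct.sum_tmul]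
      rw [show ∑ i, (LinearMap.single R (fun _ : Fin c => F) i) (v i) = v from Finset.univ_sum_single v]
  rw [hsum t]
  refine Finset.sum_eq_zero fun j _ => ?_
  rw [CAlgUI.ml_iff.1 h ι Q ((LinearMap.proj j : (Fin c → F) →ₗ[R] F).rTensor _ t) fun i => by
    rw [CAlgUI.piRightHom_rTensor, ht, map_zero], map_zero]

/-- A stalk is Mittag-Leffler when cofinally many neighbourhoods are and embed universally in it. -/
theorem ml_stalk {R E : Type u} [CommRing R] [CommRing E] [Algebra R E] (P : Ideal E) [P.IsPrime]
    (H : ∀ h ∉ P, ∃ G : E, h ∣ G ∧ G ∉ P ∧ CAlg.IsMittagLeffler R (Localization.Away G) ∧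
      ∀ (M : Type u) [AddCommGroup M] [Module R M] (w : Localization.Away G ⊗[R] M),
        (∃ t ∉ P, algebraMap E (Localization.Away G) t • w = 0) → w = 0) :
    CAlg.IsMittagLeffler R (LocalizedModule P.primeCompl E) := by
  rw [CAlgUI.ml_iff]
  intro ι Q _ _ t ht
  let L := LocalizedModule P.primeCompl E
  let iP := LocalizedModule.mkLinearMap P.primeCompl E
  obtain ⟨⟨z0, s⟩, hs⟩ := IsLocalizedModule.surj P.primeCompl (AlgebraTensorModule.rTensor R (∀ i, Q i) iP) t
  obtain ⟨G, hsG, hG, hml, hpure⟩ := H s s.2
  let EG := Localization.Away G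
  let iG := Algebra.linearMap E EG
  haveI : IsLocalizedModule (Submonoid.powers G) iG := inferInstance
  have hunits : ∀ x : Submonoid.powers G, IsUnit (algebraMap E (Module.End E L) x) := fun x => by
    refine IsLocalizedModule.map_units (S := P.primeCompl) iP ⟨x, ?_⟩
    obtain ⟨_, n, rfl⟩ := x
    exact fun hm => hG (‹P.IsPrime›.mem_of_pow_mem n hm)
  let j : EG →ₗ[E] L := IsLocalizedModule.lift (Submonoid.powers G) iG iP hunits
  have hj : ∀ x, j (iG x) = iP x := IsLocalizedModule.lift_apply _ iG iP hunits
  let jM (M : Type u) [AddCommGroup M] [Module R M] : EG ⊗[R] M →ₗ[E] L ⊗[R] M := AlgebraTensorModule.rTensor R M j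
  have hjr : ∀ (M : Type u) [AddCommGroup M] [Module R M] (w : EG ⊗[R] M),
      jM M w = (j.restrictScalars R).rTensor M w := fun M _ _ w => by
    induction w using TensorProduct.induction_on with
    | zero => simp
    | add a b ha hb => simp only [map_add, ha, hb]
    | tmul a m => rfl
  have hcomp : ∀ (M : Type u) [AddCommGroup M] [Module R M] (w : E ⊗[R] M),
      jM M (AlgebraTensorModule.rTensor R M iG w) = AlgebraTensorModule.rTensor R M iP w := fun M _ _ w => by
    induction w using TensorProduct.induction_on with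
    | zero => simp
    | add a b ha hb => simp only [map_add, ha, hb]
    | tmul a m => exact congrArg (· ⊗ₜ[R] m) (hj a)
  have hinj : ∀ (M : Type u) [AddCommGroup M] [Module R M] (w : EG ⊗[R] M), jM M w = 0 → w = 0 := by
    intro M _ _ w hw
    obtain ⟨⟨w0, g⟩, hg⟩ := IsLocalizedModule.surj (Submonoid.powers G) (AlgebraTensorModule.rTensor R M iG) w
    have h0 : AlgebraTensorModule.rTensor R M iP w0 = 0 := by
      rw [← hcomp, ← hg, Submonoid.smul_def, map_smul, hw, smul_zero]
    obtain ⟨u, hu⟩ := (IsLocalizedModule.eq_zero_iff P.primeCompl _).1 h0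
    refine hpure M w ⟨(u : E) * g, ?_, ?_⟩
    · refine fun hm => (‹P.IsPrime›.mem_or_mem hm).elim u.2 fun h1 => ?_
      obtain ⟨n, hn⟩ := g.2
      exact hG (‹P.IsPrime›.mem_of_pow_mem n ((show G ^ n = g from hn).symm ▸ h1))
    · rw [algebraMap_smul, mul_smul, ← Submonoid.smul_def g w, hg, ← map_smul]
      exact (congrArg _ hu).trans (map_zero _)
  obtain ⟨v, hv⟩ := (isUnit_of_dvd_unit (map_dvd (algebraMap E EG) hsG)
    (IsLocalization.Away.algebraMap_isUnit G)).exists_left_inv
  let t' := v • AlgebraTensorModule.rTensor R (∀ i, Q i) iG z0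
  have ht' : jM _ t' = t := by
    refine ((Module.End.isUnit_iff _).1 (IsLocalizedModule.map_units (AlgebraTensorModule.rTensor R (∀ i, Q i) iP) s)).1 ?_
    show (s : E) • jM _ t' = (s : E) • t
    rw [← map_smul, ← Submonoid.smul_def s t, hs, ← hcomp, ← algebraMap_smul EG (s : E) t', smul_smul,
      mul_comm, hv, one_smul]
  have h0 : t' = 0 := CAlgUI.ml_iff.1 hml ι Q t' fun i => hinj _ _ (by
    rw [hjr, ← CAlgUI.piRightHom_rTensor, ← hjr, ht', ht])
  rw [← ht', h0, map_zero]

/-- Stalks of smooth algebras over a henselian local ring at primes of the closed fibre are Mittag-Leffler. -/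
theorem ml_smooth {A E : Type u} [CommRing A] [HenselianLocalRing A] [CommRing E] [Algebra A E] [Algebra.Smooth A E]
    (P : Ideal E) [P.IsPrime] (hP : P.comap (algebraMap A E) = maximalIdeal A) :
    CAlg.IsMittagLeffler A (LocalizedModule P.primeCompl E) :=
  ml_stalk P fun _ hh => exists_ml_nhd P hP hh

theorem ml_etale {R E : Type u} [CommRing R] [HenselianLocalRing R] [CommRing E] [Algebra R E] {d : ℕ}
    [Algebra (MvPolynomial (Fin d) R) E] [IsScalarTower R (MvPolynomial (Fin d) R) E]
    [Algebra.Etale (MvPolynomial (Fin d) R) E] (P : Ideal E) [P.IsPrime]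
    (hP : P.comap (algebraMap R E) = maximalIdeal R) : CAlg.IsMittagLeffler R (LocalizedModule P.primeCompl E) :=
  haveI : Algebra.Smooth R (MvPolynomial (Fin d) R) := ⟨inferInstance, inferInstance⟩
  haveI : Algebra.Smooth R E := Algebra.Smooth.comp R (MvPolynomial (Fin d) R) E
  ml_smooth P hP

/-- The statement proved by induction on the relative dimension. -/
def MLAt (d : ℕ) : Prop :=
  ∀ (R E : Type u) [CommRing R] [HenselianLocalRing R] [CommRing E] [Algebra R E] [Algebra (MvPolynomial (Fin d) R) E]
    [IsScalarTower R (MvPolynomial (Fin d) R) E] [Algebra.Etale (MvPolynomial (Fin d) R) E]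
    (P : Ideal E) [P.IsPrime], P.comap (algebraMap R E) = maximalIdeal R →
    ∀ (M : Type u) [AddCommGroup M] [Module E M] [Module R M] [IsScalarTower R E M] [Module.Finite E M],
      Module.Flat R (LocalizedModule P.primeCompl M) → CAlg.IsMittagLeffler R (LocalizedModule P.primeCompl M)

theorem ml_step {d : ℕ} (IH : MLAt.{u} d) {R T : Type u} [CommRing R] [HenselianLocalRing R] [CommRing T]
    [Algebra R T] [Algebra.FiniteType R T] [Algebra (MvPolynomial (Fin d) R) T]
    [IsScalarTower R (MvPolynomial (Fin d) R) T] (Pb : Ideal T) [Pb.IsPrime]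
    (hPb : Pb.comap (algebraMap R T) = maximalIdeal R) [Algebra.QuasiFiniteAt (MvPolynomial (Fin d) R) Pb]
    (N : Type u) [AddCommGroup N] [Module T N] [Module R N] [IsScalarTower R T N] [Module.Finite T N]
    (hflat : Module.Flat R (LocalizedModule Pb.primeCompl N)) : CAlg.IsMittagLeffler R (LocalizedModule Pb.primeCompl N) := by
  refine of_finite_chart (d := d) Pb hPb ?_
  intro E C _ _ _ _ _ _ _ _ _ _ _ _ _ P' _ hP' P1 _ h1 huniq h2
  haveI := hflat
  let N1 := C ⊗[T] N
  haveI : Module.Flat R (LocalizedModule P1.primeCompl N1) := flat_baseChange Pb P1 h2 N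
  haveI : IsScalarTower E C N1 := inferInstance
  haveI : IsScalarTower R E N1 := IsScalarTower.of_algebraMap_smul fun x m => by
    rw [← algebraMap_smul C (algebraMap R E x) m, ← IsScalarTower.algebraMap_apply, algebraMap_smul]
  haveI : Module.Finite E N1 := Module.Finite.trans C N1
  have hdiv := exists_dvd_of_unique P' P1 huniq
  have hfl : Module.Flat R (LocalizedModule P'.primeCompl N1) := (flat_restrict_iff P' P1 h1 hdiv).1 ‹_›
  have hgood := IH R E P' hP' N1 hfl
  haveI := isLocalizedModule_restrict P' P1 h1 hdiv (M := N1) (M' := LocalizedModule P1.primeCompl N1)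
    (LocalizedModule.mkLinearMap P1.primeCompl N1)
  let eE := IsLocalizedModule.iso P'.primeCompl ((LocalizedModule.mkLinearMap P1.primeCompl N1).restrictScalars E)
  obtain ⟨alg, hff, htow, ⟨e⟩⟩ := baseChange_aux Pb P1 h2 N
  letI := alg
  let TP := Localization.AtPrime Pb
  let L := Localization.AtPrime P1
  haveI : IsScalarTower R TP L := IsScalarTower.of_algebraMap_eq fun x => by
    rw [IsScalarTower.algebraMap_apply R T TP, ← IsScalarTower.algebraMap_apply T TP L,
      IsScalarTower.algebraMap_apply R C L, IsScalarTower.algebraMap_apply R T C,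
      ← IsScalarTower.algebraMap_apply T C L]
  refine CAlgUI.ml_of_ui ((TensorProduct.mk TP L (LocalizedModule Pb.primeCompl N) 1).restrictScalars R)
    (fun M _ _ => rTensor_mk_injective M) ?_
  exact ml_of_equiv ((e.restrictScalars R).trans (eE.restrictScalars R).symm) hgood

theorem mlAt : ∀ d, MLAt.{u} d := by
  intro d
  induction d using Nat.strong_induction_on with
  | _ d IH => ?_
  intro R E _ _ _ _ _ _ _ P _ hP N _ _ _ _ _ hflat
  classical
  haveI : Algebra.FiniteType R E := Algebra.FiniteType.trans (S := MvPolynomial (Fin d) R) inferInstance inferInstance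
  let B := Localization.AtPrime P
  obtain ⟨c, β, hβinj, hQflat, s, hsp, hsQ⟩ := exists_free_part (d := d) P hP N hflat
  let Q := N ⧸ LinearMap.range β
  let iQ := LocalizedModule.mkLinearMap P.primeCompl Q
  let iF := LocalizedModule.mkLinearMap P.primeCompl (Fin c → E)
  let iP := LocalizedModule.mkLinearMap P.primeCompl N
  let βP := IsLocalizedModule.map P.primeCompl iF iP β
  let πP := IsLocalizedModule.map P.primeCompl iP iQ (LinearMap.range β).mkQ
  have hexP : Function.Exact βP πP :=
    IsLocalizedModule.map_exact P.primeCompl iF iP iQ β _ (LinearMap.exact_map_mkQ_range β)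
  have hπP : Function.Surjective πP :=
    IsLocalizedModule.map_surjective P.primeCompl iP iQ _ (Submodule.mkQ_surjective _)
  have hF : CAlg.IsMittagLeffler R (LocalizedModule P.primeCompl (Fin c → E)) := by
    let pf : (Fin c → E) →ₗ[E] (Fin c → LocalizedModule P.primeCompl E) :=
      LinearMap.pi fun i => (LocalizedModule.mkLinearMap P.primeCompl E).comp (LinearMap.proj i)
    haveI : IsLocalizedModule P.primeCompl pf := inferInstance
    exact ml_of_equiv ((IsLocalizedModule.iso P.primeCompl pf).restrictScalars R)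
      (ml_pi c (ml_etale (d := d) P hP))
  have hQ : CAlg.IsMittagLeffler R (LocalizedModule P.primeCompl Q) := by
    by_cases hsP : s ∈ P
    · obtain ⟨d', hd', θ, hθ⟩ := exists_cut (d := d) P hP s hsP hsp
      let T := E ⧸ Ideal.span {s}
      letI : Algebra (MvPolynomial (Fin d') R) T := θ.toRingHom.toAlgebra
      haveI : IsScalarTower R (MvPolynomial (Fin d') R) T := IsScalarTower.of_algebraMap_eq fun r => (θ.commutes r).symm
      have hann : Module.IsTorsionBySet E Q (Ideal.span {s} : Ideal E) := by
        rintro y ⟨z, hz⟩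
        obtain ⟨w, rfl⟩ := Ideal.mem_span_singleton'.1 hz
        show (w * s) • y = 0
        rw [mul_smul, hsQ, smul_zero]
      letI : Module T Q := hann.module
      haveI : IsScalarTower E T Q := hann.isScalarTower
      haveI : IsScalarTower R T Q := hann.isScalarTower
      haveI : Module.Finite T Q := Module.Finite.of_restrictScalars_finite E T Q
      let Pb : Ideal T := P.map (Ideal.Quotient.mk (Ideal.span {s}))
      have hle : Ideal.span {s} ≤ P := (Ideal.span_singleton_le_iff_mem _).2 hsP
      haveI : Pb.IsPrime := Ideal.map_isPrime_of_surjective Ideal.Quotient.mk_surjective (by rwa [Ideal.mk_ker])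
      have hPbP : Pb.comap (algebraMap E T) = P := by
        show (P.map (Ideal.Quotient.mk (Ideal.span {s}))).comap (Ideal.Quotient.mk _) = P
        rw [Ideal.comap_map_of_surjective _ Ideal.Quotient.mk_surjective, ← RingHom.ker_eq_comap_bot, Ideal.mk_ker]
        exact sup_eq_left.2 hle
      haveI := hθ Pb hPbP
      have hPbR : Pb.comap (algebraMap R T) = maximalIdeal R := by
        rw [IsScalarTower.algebraMap_eq R E T, ← Ideal.comap_comap, hPbP, hP]
      have hdiv : ∀ z ∉ Pb, ∃ u ∉ P, ∃ z', z * z' = algebraMap E T u := fun z hz => by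
        obtain ⟨u, rfl⟩ := Ideal.Quotient.mk_surjective z
        exact ⟨u, fun h => hz (Ideal.mem_map_of_mem _ h), 1, mul_one _⟩
      haveI := isLocalizedModule_restrict P Pb hPbP hdiv (LocalizedModule.mkLinearMap Pb.primeCompl Q)
      exact ml_of_equiv
        ((IsLocalizedModule.iso P.primeCompl ((LocalizedModule.mkLinearMap Pb.primeCompl Q).restrictScalars E)).restrictScalars R)
        (ml_step (IH d' hd') Pb hPbR Q ((flat_restrict_iff P Pb hPbP hdiv).2 hQflat))
    · haveI : Subsingleton (LocalizedModule P.primeCompl Q) :=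
        LocalizedModule.subsingleton_iff.2 fun y => ⟨s, hsP, hsQ y⟩
      exact CAlgUI.ml_iff.2 fun ι W _ _ t _ => Subsingleton.elim _ _
  exact ml_of_exact (βP.restrictScalars R) (πP.restrictScalars R) hβinj hexP hπP hF hQ

end Groth.Agent.H4RG
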