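import Groth.Prelude
import Groth.Agent.FlatModel.Local
import Mathlib

/-!
# Flatness modulo an ideal, on submodules of the quotient ring
-/

set_option autoImplicit false
set_option linter.style.haveILetI false
set_option backward.isDefEq.respectTransparency.types false

universe u

open TensorProduct IsLocalRing

namespace Groth.Agent.H4RG

/-- Flatness of `X/KX` over `R/K`, in terms of the submodules of `R/K`. -/
def FlatJ {R : Type u} [CommRing R] (K : Ideal R) (X : Type u) [AddCommGroup X] [Module R X] : Prop :=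
  ∀ Y : Submodule R (R ⧸ K), Function.Injective (Y.subtype.lTensor X)

variable {R S : Type u} [CommRing R] [CommRing S] [Algebra R S]

/-- Injectivity of a tensored map after localisation, on elements. -/
theorem injective_lTensor_localized_iff (W : Submonoid S) {M : Type u} [AddCommGroup M] [Module R M] [Module S M]
    [IsScalarTower R S M] {N : Type u} [AddCommGroup N] [Module R N] [Module S N] [IsScalarTower R S N]
    (f : M →ₗ[S] N) [IsLocalizedModule W f] {Y Y' : Type u} [AddCommGroup Y] [Module R Y] [AddCommGroup Y']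
    [Module R Y'] (g : Y →ₗ[R] Y') :
    Function.Injective (g.lTensor N) ↔ ∀ y : M ⊗[R] Y, g.lTensor M y = 0 → ∃ s ∈ W, s • y = 0 := by
  let φ : M ⊗[R] Y →ₗ[S] N ⊗[R] Y := AlgebraTensorModule.rTensor R Y f
  let ψ : M ⊗[R] Y' →ₗ[S] N ⊗[R] Y' := AlgebraTensorModule.rTensor R Y' f
  have hcomm : ∀ y, g.lTensor N (φ y) = ψ (g.lTensor M y) := by
    intro y
    induction y using TensorProduct.induction_on with
    | zero => simp
    | tmul m j => simp [φ, ψ]
    | add y z hy hz => simp only [map_add, hy, hz]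
  constructor
  · intro h y hy
    obtain ⟨s, hs⟩ := (IsLocalizedModule.eq_zero_iff W φ).1 (h (show g.lTensor N (φ y) = g.lTensor N 0 by
      rw [hcomm, hy, map_zero, map_zero]))
    exact ⟨s, s.2, hs⟩
  · intro h
    rw [injective_iff_map_eq_zero]
    intro z hz
    obtain ⟨⟨y, s⟩, hys⟩ := IsLocalizedModule.surj W φ z
    have hsmul : g.lTensor N ((s : S) • z) = (s : S) • g.lTensor N z :=
      (AlgebraTensorModule.lTensor S N g).map_smul _ _
    have h1 : ψ (g.lTensor M y) = 0 := by
      rw [← hcomm, ← hys, Submonoid.smul_def, hsmul, hz, smul_zero]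
    obtain ⟨t, ht⟩ := (IsLocalizedModule.eq_zero_iff W ψ).1 h1
    have h2 : g.lTensor M ((t : S) • y) = 0 := by
      rw [show g.lTensor M ((t : S) • y) = (t : S) • g.lTensor M y from
        (AlgebraTensorModule.lTensor S M g).map_smul _ _]
      exact ht
    obtain ⟨r, hr, hry⟩ := h ((t : S) • y) h2
    have h3 : (r * t * s : S) • z = 0 := by
      rw [mul_smul, ← Submonoid.smul_def, hys, ← map_smul, mul_smul, hry, map_zero]
    have hu : IsUnit (algebraMap S (Module.End S (N ⊗[R] Y)) ((⟨r, hr⟩ : W) * t * s : W)) :=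
      IsLocalizedModule.map_units φ _
    exact ((Module.End.isUnit_iff _).1 hu).1 (h3.trans (map_zero _).symm)

/-- Further localisation keeps flatness modulo an ideal. -/
theorem FlatJ.localization_mono {K : Ideal R} {W W' : Submonoid S} (hW : W ≤ W') {M : Type u} [AddCommGroup M] [Module R M]
    [Module S M] [IsScalarTower R S M] (h : FlatJ K (LocalizedModule W M)) : FlatJ K (LocalizedModule W' M) := fun Y =>
  (injective_lTensor_localized_iff W' (LocalizedModule.mkLinearMap W' M) Y.subtype).2 fun y hy =>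
    let ⟨s, hs, hsy⟩ := (injective_lTensor_localized_iff W (LocalizedModule.mkLinearMap W M) Y.subtype).1 (h Y) y hy
    ⟨s, hW hs, hsy⟩

theorem FlatJ.of_equiv {K : Ideal R} {X X' : Type u} [AddCommGroup X] [Module R X] [AddCommGroup X'] [Module R X']
    (e : X ≃ₗ[R] X') (h : FlatJ K X) : FlatJ K X' := fun Y => by
  have hc : ∀ w, Y.subtype.lTensor X' (e.rTensor Y w) = e.rTensor (R ⧸ K) (Y.subtype.lTensor X w) := fun w => by
    induction w using TensorProduct.induction_on with
    | zero => simp
    | add a b ha hb => simp only [map_add, ha, hb]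
    | tmul x y => rfl
  intro a b hab
  obtain ⟨a, rfl⟩ := (e.rTensor Y).surjective a
  obtain ⟨b, rfl⟩ := (e.rTensor Y).surjective b
  rw [hc, hc] at hab
  rw [h Y ((e.rTensor (R ⧸ K)).injective hab)]

/-- Flat extension of scalars keeps flatness modulo an ideal. -/
theorem FlatJ.tensor {B L : Type u} [CommRing B] [CommRing L] [Algebra R B] [Algebra B L] [Algebra R L]
    [IsScalarTower R B L] [Module.Flat B L] {K : Ideal R} {X : Type u} [AddCommGroup X] [Module B X] [Module R X]
    [IsScalarTower R B X] (h : FlatJ K X) : FlatJ K (L ⊗[B] X) := fun Y => by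
  let g : X ⊗[R] Y →ₗ[B] X ⊗[R] (R ⧸ K) := AlgebraTensorModule.lTensor B X Y.subtype
  have hg : Function.Injective g := h Y
  let e1 : (L ⊗[B] X) ⊗[R] Y ≃ₗ[B] L ⊗[B] (X ⊗[R] Y) := AlgebraTensorModule.assoc R B B L X Y
  let e2 : (L ⊗[B] X) ⊗[R] (R ⧸ K) ≃ₗ[B] L ⊗[B] (X ⊗[R] (R ⧸ K)) := AlgebraTensorModule.assoc R B B L X (R ⧸ K)
  have hc : ∀ w, e2 (Y.subtype.lTensor (L ⊗[B] X) w) = g.lTensor L (e1 w) := fun w => by
    induction w using TensorProduct.induction_on with
    | zero => simp
    | add a b ha hb => simp only [map_add, ha, hb]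
    | tmul z y =>
      induction z using TensorProduct.induction_on with
      | zero => simp
      | add a b ha hb => simp only [add_tmul, map_add, ha, hb]
      | tmul l x => simp [e1, e2, g]
  intro a b hab
  exact e1.injective (Module.Flat.lTensor_preserves_injective_linearMap (M := L) g hg (by rw [← hc, ← hc, hab]))

/-- A tensor with `1` vanishes exactly on multiples of the ideal. -/
theorem tmul_one_eq_zero_iff {X : Type u} [AddCommGroup X] [Module R X] (K : Ideal R) (x : X) :
    x ⊗ₜ[R] (1 : R ⧸ K) = 0 ↔ x ∈ K • (⊤ : Submodule R X) := by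
  rw [show (1 : R ⧸ K) = Ideal.Quotient.mk K 1 from rfl, ← (TensorProduct.tensorQuotEquivQuotSMul X K).map_eq_zero_iff,
    TensorProduct.tensorQuotEquivQuotSMul_tmul_mk, one_smul, Submodule.Quotient.mk_eq_zero]

/-- Every tensor with a quotient of the base is a tensor with `1`. -/
theorem exists_tmul_one {X : Type u} [AddCommGroup X] [Module R X] (K : Ideal R) (z : X ⊗[R] (R ⧸ K)) :
    ∃ x : X, x ⊗ₜ[R] (1 : R ⧸ K) = z := by
  induction z using TensorProduct.induction_on with
  | zero => exact ⟨0, zero_tmul _ _⟩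
  | add a b ha hb =>
    obtain ⟨x, rfl⟩ := ha
    obtain ⟨y, rfl⟩ := hb
    exact ⟨x + y, add_tmul _ _ _⟩
  | tmul x c =>
    obtain ⟨r, rfl⟩ := Ideal.Quotient.mk_surjective c
    exact ⟨r • x, by rw [smul_tmul, Algebra.smul_def, mul_one]; rfl⟩

/-- A cokernel is flat modulo an ideal when the map is pure over that ideal. -/
theorem FlatJ.coker {F N Q : Type u} [AddCommGroup F] [Module R F] [AddCommGroup N] [Module R N] [AddCommGroup Q]
    [Module R Q] {K : Ideal R} (β : F →ₗ[R] N) (π : N →ₗ[R] Q) (hex : Function.Exact β π) (hπ : Function.Surjective π)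
    (hN : FlatJ K N)
    (hpure : ∀ K' : Ideal R, K ≤ K' → ∀ x : F, β x ∈ K' • (⊤ : Submodule R N) → x ∈ K' • (⊤ : Submodule R F)) :
    FlatJ K Q := by
  intro Y
  rw [injective_iff_map_eq_zero]
  intro q hq
  obtain ⟨n, rfl⟩ := LinearMap.rTensor_surjective Y hπ q
  have hc : ∀ w, Y.subtype.lTensor Q (π.rTensor Y w) = π.rTensor (R ⧸ K) (Y.subtype.lTensor N w) := fun w => by
    rw [← LinearMap.comp_apply, ← LinearMap.comp_apply, LinearMap.lTensor_comp_rTensor, LinearMap.rTensor_comp_lTensor]
  obtain ⟨f, hf⟩ := (rTensor_exact (R ⧸ K) hex hπ _).1 (by rw [← hc]; exact hq)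
  obtain ⟨x, rfl⟩ := exists_tmul_one K f
  let K' : Ideal R := Y.comap (Submodule.mkQ K)
  have hK' : K ≤ K' := fun r hr => by
    show Submodule.mkQ K r ∈ Y
    rw [Submodule.mkQ_apply, (Submodule.Quotient.mk_eq_zero K).2 hr]
    exact zero_mem _
  let π' : R ⧸ K →ₗ[R] R ⧸ K' := Submodule.mapQ K K' LinearMap.id hK'
  have hπY : π'.comp Y.subtype = 0 := LinearMap.ext fun y => by
    obtain ⟨r, hr⟩ := Submodule.Quotient.mk_surjective K y.1
    show π' y.1 = 0
    rw [← hr]
    exact (Submodule.Quotient.mk_eq_zero K').2 (show Submodule.mkQ K r ∈ Y by rw [Submodule.mkQ_apply, hr]; exact y.2)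
  have hbx : β x ⊗ₜ[R] (1 : R ⧸ K') = 0 := by
    have h1 := congrArg (π'.lTensor N) hf
    rw [LinearMap.rTensor_tmul, LinearMap.lTensor_tmul, ← LinearMap.lTensor_comp_apply, hπY, LinearMap.lTensor_zero,
      LinearMap.zero_apply] at h1
    exact h1
  have hx := hpure K' hK' x ((tmul_one_eq_zero_iff K' _).1 hbx)
  obtain ⟨f1, hf1⟩ : ∃ f1, Y.subtype.lTensor F f1 = x ⊗ₜ[R] (1 : R ⧸ K) := by
    clear hf hbx
    refine Submodule.smul_induction_on hx (fun r hr y _ => ⟨y ⊗ₜ (⟨Submodule.mkQ K r, hr⟩ : Y), ?_⟩) ?_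
    · rw [LinearMap.lTensor_tmul, smul_tmul]
      congr 1
      show Submodule.mkQ K r = r • (1 : R ⧸ K)
      rw [Algebra.smul_def, mul_one]
      rfl
    · rintro a b ⟨a1, ha⟩ ⟨b1, hb⟩
      exact ⟨a1 + b1, by rw [map_add, ha, hb, add_tmul]⟩
  have hn : n = β.rTensor Y f1 := by
    refine hN Y ?_
    rw [← hf, ← hf1, ← LinearMap.comp_apply, ← LinearMap.comp_apply, LinearMap.lTensor_comp_rTensor,
      LinearMap.rTensor_comp_lTensor]
  rw [hn, ← LinearMap.rTensor_comp_apply, hex.linearMap_comp_eq_zero, LinearMap.rTensor_zero, LinearMap.zero_apply]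

/-- A map to a module flat modulo `K` with kernel in the maximal ideal has kernel in `K`. -/
theorem mem_smul_of_map_mem [IsLocalRing R] [IsLocalRing S] [IsLocalHom (algebraMap R S)] (K : Ideal R)
    {F X : Type u} [AddCommGroup F] [Module S F] [Module R F] [IsScalarTower R S F]
    [AddCommGroup X] [Module S X] [Module R X] [IsScalarTower R S X] (α : F →ₗ[S] X) (hα : Function.Surjective α)
    (hfg : (LinearMap.ker α).FG) (hker : ∀ x, α x = 0 → x ∈ maximalIdeal R • (⊤ : Submodule R F)) (hJ : FlatJ K X)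
    (x : F) (hx : α x ∈ K • (⊤ : Submodule R X)) : x ∈ K • (⊤ : Submodule R F) := by
  classical
  let KF : Submodule S F :=
    { carrier := (K • (⊤ : Submodule R F) : Submodule R F)
      add_mem' := fun {a b} ha hb => add_mem ha hb
      zero_mem' := zero_mem _
      smul_mem' := fun s a ha =>
        Submodule.smul_top_le_comap_smul_top K ((LinearMap.lsmul S F s).restrictScalars R) ha }
  have hKF : ∀ y, y ∈ KF ↔ y ∈ K • (⊤ : Submodule R F) := fun _ => Iff.rfl
  let I : Ideal S := (maximalIdeal R).map (algebraMap R S)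
  have hle : LinearMap.ker α ≤ KF ⊔ I • LinearMap.ker α := by
    intro k hk
    let ι : LinearMap.ker α →ₗ[R] F := (LinearMap.ker α).subtype.restrictScalars R
    let Y : Submodule R (R ⧸ K) := Submodule.map (Submodule.mkQ K) (maximalIdeal R)
    obtain ⟨t, ht⟩ : ∃ t, Y.subtype.lTensor F t = k ⊗ₜ[R] (1 : R ⧸ K) := by
      refine Submodule.smul_induction_on (hker k hk) (fun r hr y _ => ⟨y ⊗ₜ (⟨Submodule.mkQ K r, Submodule.mem_map_of_mem hr⟩ : Y), ?_⟩) ?_
      · rw [LinearMap.lTensor_tmul, smul_tmul]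
        congr 1
        show Submodule.mkQ K r = r • (1 : R ⧸ K)
        rw [Algebra.smul_def, mul_one]
        rfl
      · rintro a b ⟨a1, ha⟩ ⟨b1, hb⟩
        exact ⟨a1 + b1, by rw [map_add, ha, hb, add_tmul]⟩
    let αR := α.restrictScalars R
    have hαt : αR.rTensor Y t = 0 := by
      refine hJ Y ?_
      rw [map_zero, ← LinearMap.comp_apply, LinearMap.lTensor_comp_rTensor, ← LinearMap.rTensor_comp_lTensor,
        LinearMap.comp_apply, ht, LinearMap.rTensor_tmul]
      show α k ⊗ₜ[R] _ = _
      rw [LinearMap.mem_ker.1 hk, zero_tmul]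
    have hex : Function.Exact ι αR := fun y => ⟨fun hy => ⟨⟨y, hy⟩, rfl⟩, fun ⟨z, hz⟩ => hz ▸ z.2⟩
    obtain ⟨z, hz⟩ := (rTensor_exact Y hex hα t).1 hαt
    have key : ∀ z, ∃ w ∈ I • LinearMap.ker α, w ⊗ₜ[R] (1 : R ⧸ K) = Y.subtype.lTensor F (ι.rTensor Y z) := by
      intro z
      induction z using TensorProduct.induction_on with
      | zero => exact ⟨0, zero_mem _, by simp⟩
      | add a b ha hb =>
        obtain ⟨wa, hwa, ha⟩ := ha
        obtain ⟨wb, hwb, hb⟩ := hb
        exact ⟨wa + wb, add_mem hwa hwb, by rw [add_tmul, ha, hb, map_add, map_add]⟩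
      | tmul y c =>
        obtain ⟨r, hr, hrc⟩ := c.2
        refine ⟨algebraMap R S r • (y : F), Submodule.smul_mem_smul (Ideal.mem_map_of_mem _ hr) y.2, ?_⟩
        rw [algebraMap_smul, smul_tmul, LinearMap.rTensor_tmul, LinearMap.lTensor_tmul]
        congr 1
        show r • (1 : R ⧸ K) = c.1
        rw [← hrc, Algebra.smul_def, mul_one]
        rfl
    obtain ⟨w, hw, hwz⟩ := key z
    refine Submodule.mem_sup.2 ⟨k - w, (hKF _).2 ((tmul_one_eq_zero_iff K _).1 ?_), w, hw, sub_add_cancel k w⟩
    rw [sub_tmul, hwz, hz, ht, sub_self]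
  have hIjac : I ≤ Ideal.jacobson ⊥ := by
    rw [IsLocalRing.jacobson_eq_maximalIdeal ⊥ bot_ne_top, Ideal.map_le_iff_le_comap]
    exact fun r hr => (IsLocalRing.mem_maximalIdeal _).2 fun hu =>
      (IsLocalRing.mem_maximalIdeal _).1 hr ((isUnit_map_iff (algebraMap R S) r).1 hu)
  have hkerle := Submodule.le_of_le_smul_of_le_jacobson_bot hfg hIjac hle
  obtain ⟨w, hw, hwx⟩ : ∃ w ∈ K • (⊤ : Submodule R F), α w = α x := by
    have hle2 : K • (⊤ : Submodule R X) ≤ (K • (⊤ : Submodule R F)).map (α.restrictScalars R) := by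
      rw [Submodule.map_smul'', Submodule.map_top,
        LinearMap.range_eq_top.2 (show Function.Surjective (α.restrictScalars R) from hα)]
    exact Submodule.mem_map.1 (hle2 hx)
  have := hkerle (LinearMap.mem_ker.2 (show α (x - w) = 0 by rw [map_sub, hwx, sub_self]))
  have h2 := add_mem ((hKF _).1 this) hw
  rwa [sub_add_cancel] at h2

/-- An extension of flat modules is flat. -/
theorem flat_of_flat_ends {F N Q : Type u} [AddCommGroup F] [Module R F] [AddCommGroup N] [Module R N] [AddCommGroup Q]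
    [Module R Q] [Module.Flat R F] [Module.Flat R Q] (β : F →ₗ[R] N) (π : N →ₗ[R] Q) (hex : Function.Exact β π)
    (hπ : Function.Surjective π) (hβ : Function.Injective β) : Module.Flat R N := by
  rw [Module.Flat.iff_lTensor_injective']
  intro J
  rw [injective_iff_map_eq_zero]
  intro n hn
  have hq : π.rTensor J n = 0 := by
    refine Module.Flat.lTensor_preserves_injective_linearMap (M := Q) J.subtype Subtype.val_injective ?_
    rw [map_zero, ← LinearMap.comp_apply, LinearMap.lTensor_comp_rTensor, ← LinearMap.rTensor_comp_lTensor,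
      LinearMap.comp_apply, hn, map_zero]
  obtain ⟨f, rfl⟩ := (rTensor_exact J hex hπ n).1 hq
  have hf : J.subtype.lTensor F f = 0 := by
    have h2 : β.rTensor R (J.subtype.lTensor F f) = 0 := by
      rw [← LinearMap.comp_apply, LinearMap.rTensor_comp_lTensor, ← LinearMap.lTensor_comp_rTensor, LinearMap.comp_apply,
        hn]
    have hβR : Function.Injective (β.rTensor R) := Module.Flat.rTensor_preserves_injective_linearMap β hβ
    exact hβR (h2.trans (map_zero _).symm)
  rw [Module.Flat.lTensor_preserves_injective_linearMap (M := F) J.subtype Subtype.val_injective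
    (hf.trans (map_zero _).symm), map_zero]

/-- A universally injective map reflects flatness. -/
theorem flat_of_univInjective_map {X X' : Type u} [AddCommGroup X] [Module R X] [AddCommGroup X'] [Module R X']
    [Module.Flat R X'] (j : X →ₗ[R] X') (hj : ∀ (M : Type u) [AddCommGroup M] [Module R M], Function.Injective (j.rTensor M)) :
    Module.Flat R X := by
  rw [Module.Flat.iff_lTensor_injective']
  intro J
  rw [injective_iff_map_eq_zero]
  intro y hy
  refine hj J ?_
  rw [map_zero]
  refine Module.Flat.lTensor_preserves_injective_linearMap (M := X') J.subtype Subtype.val_injective ?_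
  rw [map_zero, ← LinearMap.comp_apply, LinearMap.lTensor_comp_rTensor, ← LinearMap.rTensor_comp_lTensor,
    LinearMap.comp_apply, hy, map_zero]

end Groth.Agent.H4RG
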