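import Groth.Prelude
import Groth.Agent.H4RG.StageCover
import Groth.Agent.H4RG.FiberTools
import Groth.Agent.AssFiber.Basic
import Mathlib

/-!
# Flat pure modules become projective after an etale change of the base
-/

set_option autoImplicit false
set_option linter.style.haveILetI false
set_option backward.isDefEq.respectTransparency.types false

universe u

open TensorProduct

namespace Groth.Agent.H4RG

attribute [local instance] Algebra.TensorProduct.rightAlgebra

section ui

variable {R S : Type u} [CommRing R] [CommRing S] [Algebra R S] [Algebra.FinitePresentation R S]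
  (N : Type u) [AddCommGroup N] [Module S N] [Module R N] [IsScalarTower R S N] [Module.FinitePresentation S N]

/-- A multiplication injective on the fibre at a flat point is universally injective at the point. -/
theorem ui_at_of_fibre_inj (p : Ideal R) [p.IsPrime] (q : Ideal S) [q.IsPrime] (hqp : q.comap (algebraMap R S) = p)
    (hflat : Module.Flat R (LocalizedModule q.primeCompl N)) (t : S)
    (ht : ∀ w : N ⊗[R] p.ResidueField, t • w = 0 → ∃ u ∉ q, u • w = 0)
    (M' : Type u) [AddCommGroup M'] [Module R M'] (w : N ⊗[R] M') (hw : t • w = 0) : ∃ u ∉ q, u • w = 0 := by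
  classical
  let K := p.ResidueField
  let L := q.ResidueField
  obtain ⟨_, _⟩ := exists_point_instances p q hqp
  have hK : FracPoint R K := fracPoint_residueField p
  obtain ⟨R', _, _, _, ε, g, hg⟩ := spreads_of_flat (K := K) (L := L) hK q (Ideal.ker_algebraMap_residueField q) N hflat
  letI := ε.toRingHom.toAlgebra
  haveI : IsScalarTower R R' K := IsScalarTower.of_algebraMap_eq fun r => (ε.commutes r).symm
  let SA := R' ⊗[R] S
  let N' := SA ⊗[S] N
  haveI : Algebra.IsPushout R R' S SA := inferInstance
  haveI : (RingHom.ker (pt L S ε)).IsPrime := RingHom.ker_isPrime _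
  have hgood : Good R' K N' (RingHom.ker (pt L S ε)) g := hg
  let t' := algebraMap S SA t
  have hpt : ∀ s : S, pt L S ε (algebraMap S SA s) = algebraMap S L s := fun s => by
    show pt L S ε ((1 : R') ⊗ₜ[R] s) = _
    rw [pt_tmul, map_one, map_one, one_mul]
  obtain ⟨f, hf, hk⟩ := hgood.exists_ui (t := t') (hK.trans (A := R')) fun v hv => by
    obtain ⟨ψ, hψ, -, hψs⟩ := exists_tensor_equiv (R := R) (A := R') K (TensorProduct.mk S SA N 1)
      (TensorProduct.isBaseChange S N SA)
    obtain ⟨v0, rfl⟩ := hψ.2 v
    obtain ⟨u, hu, huv⟩ := ht v0 (hψ.1 (by rw [hψs, hv, map_zero]))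
    refine hgood.foc _ (algebraMap S SA u) (fun hm => hu ?_) (by rw [← hψs, huv, map_zero])
    rw [RingHom.mem_ker, hpt] at hm
    exact Ideal.algebraMap_residueField_eq_zero.1 hm
  let E1 : SA ⊗[S] (N ⊗[R] M') ≃ₗ[SA] N' ⊗[R'] (R' ⊗[R] M') :=
    (AlgebraTensorModule.assoc R S SA SA N M').symm.trans
      (AlgebraTensorModule.cancelBaseChange R R' SA N' M').symm
  obtain ⟨k, hk'⟩ := hk (R' ⊗[R] M') (E1 ((1 : SA) ⊗ₜ[S] w)) (by
    rw [← map_smul, smul_tmul', smul_eq_mul, mul_one, show t' = t • (1 : SA) from Algebra.algebraMap_eq_smul_one t,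
      smul_tmul, hw, tmul_zero, map_zero])
  rw [← map_smul, LinearEquiv.map_eq_zero_iff, smul_tmul', smul_eq_mul, mul_one] at hk'
  set h := (algebraMap R' SA f * g) ^ k
  have hh : h ∉ RingHom.ker (pt L S ε) := fun hm => by
    have hm' := (RingHom.ker_isPrime (pt L S ε)).mem_of_pow_mem k hm
    rcases (RingHom.ker_isPrime (pt L S ε)).mem_or_mem hm' with h1 | h1
    · rw [RingHom.mem_ker] at h1
      change pt L S ε (f ⊗ₜ[R] (1 : S)) = 0 at h1
      rw [pt_tmul, map_one, mul_one, map_eq_zero] at h1
      exact hf h1
    · exact hgood.notMem h1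
  by_contra hne
  push Not at hne
  let J := (Submodule.span S {w}).annihilator
  have hJq : J ≤ q := fun u hu => by
    by_contra huq
    exact hne u huq ((Submodule.mem_annihilator_span_singleton _ _).1 hu)
  let ρ : S ⧸ J →ₗ[S] N ⊗[R] M' :=
    Submodule.liftQ J (LinearMap.toSpanSingleton S _ w)
      (fun a ha => LinearMap.mem_ker.2 ((Submodule.mem_annihilator_span_singleton _ _).1 ha))
  have hρ : Function.Injective ρ := by
    rw [← LinearMap.ker_eq_bot, Submodule.eq_bot_iff]
    intro x hx
    obtain ⟨a, rfl⟩ := Submodule.Quotient.mk_surjective J x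
    exact (Submodule.Quotient.mk_eq_zero _).2 ((Submodule.mem_annihilator_span_singleton _ _).2 hx)
  haveI : Module.Flat S SA := flat_tensor_right
  have h0 : h ⊗ₜ[S] (Submodule.Quotient.mk 1 : S ⧸ J) = 0 := by
    refine Module.Flat.lTensor_preserves_injective_linearMap (M := SA) ρ hρ ?_
    rw [map_zero, LinearMap.lTensor_tmul, show ρ (Submodule.Quotient.mk 1) = w from one_smul S w, hk']
  have h1' := congrArg (TensorProduct.tensorQuotEquivQuotSMul SA J) h0
  rw [map_zero, show (Submodule.Quotient.mk (1 : S) : S ⧸ J) = Ideal.Quotient.mk J 1 from rfl,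
    TensorProduct.tensorQuotEquivQuotSMul_tmul_mk, one_smul, Submodule.Quotient.mk_eq_zero,
    Ideal.smul_top_eq_map, Submodule.restrictScalars_mem] at h1'
  refine hh ((Ideal.map_le_iff_le_comap.2 fun s hs => ?_ : J.map (algebraMap S SA) ≤ RingHom.ker (pt L S ε)) h1')
  rw [Ideal.mem_comap, RingHom.mem_ker, hpt]
  exact Ideal.algebraMap_residueField_eq_zero.2 (hJq hs)

omit [Algebra.FinitePresentation R S] [Module.FinitePresentation S N] in
/-- A function lying in no associated prime of a fibre is injective on it. -/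
theorem eq_zero_of_notMem_assoc [Algebra.FiniteType R S] (p : Ideal R) [p.IsPrime] (t : S)
    (h : ∀ P : Ideal S, P.IsPrime → P.comap (algebraMap R S) = p →
      FlatCA.fiberIdeal p P ∈ associatedPrimes (p.Fiber S) (FlatCA.fiberMod p S N) → t ∉ P)
    (w : N ⊗[R] p.ResidueField) (hw : t • w = 0) : w = 0 := by
  obtain ⟨e⟩ := exists_fiber_equiv (R := R) (S := S) N p
  by_contra hne
  let F := p.Fiber S
  haveI : Algebra.FiniteType p.ResidueField F := inferInstance
  haveI : IsNoetherianRing F := Algebra.FiniteType.isNoetherianRing p.ResidueField F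
  have hm : e w ≠ 0 := fun h0 => hne (e.injective (h0.trans (map_zero e).symm))
  obtain ⟨P, hP, hle⟩ := exists_le_isAssociatedPrime_of_isNoetherianRing F (e w) hm
  haveI := hP.isPrime
  let P0 := P.comap (algebraMap S F)
  have hc : P0.comap (algebraMap R S) = p := by
    show (P.comap (algebraMap S F)).comap (algebraMap R S) = p
    rw [Ideal.comap_comap, ← IsScalarTower.algebraMap_eq, IsScalarTower.algebraMap_eq R p.ResidueField F,
      ← Ideal.comap_comap, show P.comap (algebraMap p.ResidueField F) = ⊥ from
        (Ideal.eq_bot_or_top _).resolve_right (Ideal.comap_ne_top _ hP.isPrime.ne_top), ← RingHom.ker_eq_comap_bot,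
      Ideal.ker_algebraMap_residueField]
  have hPe : FlatCA.fiberIdeal p P0 = P := by
    refine le_antisymm (Ideal.map_le_iff_le_comap.2 fun x hx => hx) fun b hb => ?_
    obtain ⟨r, hr, s, hs⟩ := AssFiber.exists_smul_eq_includeRight p b
    have hs' : s ∈ P0 := by
      show (1 : p.ResidueField) ⊗ₜ[R] s ∈ P
      rw [← hs]
      exact P.mul_mem_left _ hb
    have hu : IsUnit ((1 : p.ResidueField) ⊗ₜ[R] algebraMap R S r : F) := by
      rw [Algebra.algebraMap_eq_smul_one, ← smul_tmul, ← Algebra.algebraMap_eq_smul_one]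
      exact (isUnit_iff_ne_zero.2 fun h0 => hr (Ideal.algebraMap_residueField_eq_zero.1 h0)).map
        (Algebra.TensorProduct.includeLeftRingHom (R := R) (A := p.ResidueField) (B := S))
    refine (Ideal.unit_mul_mem_iff_mem _ hu).1 ?_
    rw [hs]
    exact Ideal.mem_map_of_mem _ hs'
  refine h P0 (Ideal.comap_isPrime _ _) hc (by rw [hPe]; exact hP) (hle ?_)
  rw [Submodule.mem_colon_singleton, Submodule.mem_bot]
  have h' : t • e w = 0 := by rw [← map_smul, hw, map_zero]
  exact (IsScalarTower.algebraMap_smul (M := F ⊗[S] N) F t (e w)).trans h'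

end ui

section pure

/-- A flat module is flat at every prime. -/
theorem flat_localized_of_flat {R S : Type u} [CommRing R] [CommRing S] [Algebra R S] (N : Type u) [AddCommGroup N]
    [Module S N] [Module R N] [IsScalarTower R S N] [Module.Flat R N] (q : Ideal S) [q.IsPrime] :
    Module.Flat R (LocalizedModule q.primeCompl N) := by
  refine (FlatModel.flat_localized_iff q.primeCompl (LocalizedModule.mkLinearMap q.primeCompl N)).2 fun J y hy =>
    ⟨1, Submonoid.one_mem _, ?_⟩
  rw [one_smul]
  exact (Module.Flat.iff_lTensor_injective'.1 ‹Module.Flat R N› J) (hy.trans (map_zero _).symm)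

variable {R S : Type u} [CommRing R] [CommRing S] [Algebra R S] [Algebra.FinitePresentation R S]
  (N : Type u) [AddCommGroup N] [Module S N] [Module R N] [IsScalarTower R S N] [Module.FinitePresentation S N]

/-- Along a pure fibre a flat module becomes projective after an etale change of the base. -/
theorem exists_projective_stage [Module.Flat R N] (p : Ideal R) [p.IsPrime] (hpure : FlatCA.IsPureAlong R S N p) :
    ∃ (R' : Type u) (_ : CommRing R') (_ : Algebra R R') (_ : Algebra.Etale R R') (_ : R' →ₐ[R] p.ResidueField),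
      Module.Projective R' (R' ⊗[R] N) := by
  classical
  let K := p.ResidueField
  obtain ⟨R1, _, _, _, ε, t, ht, hproj⟩ := exists_stage_cover (R := R) (S := S) N p
    fun q _ _ => flat_localized_of_flat N q
  haveI : (RingHom.ker ε).IsPrime := RingHom.ker_isPrime _
  let SA := R1 ⊗[R] S
  let N1 := SA ⊗[S] N
  have het : FlatCA.IsEtaleNhd R R1 p (RingHom.ker ε) := isEtaleNhd_of_point p ε _ rfl
  haveI : Algebra.IsPushout R S R1 SA := Algebra.IsPushout.symm inferInstance
  haveI : Algebra.IsPushout R R1 S SA := inferInstance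
  have eN : N1 ≃ₗ[R1] R1 ⊗[R] N := Algebra.IsPushout.cancelBaseChange R R1 S SA N
  haveI : Module.Flat R1 N1 := Module.Flat.of_linearEquiv eN
  haveI : Algebra.FinitePresentation R1 SA := inferInstance
  haveI : Module.FinitePresentation SA N1 := inferInstance
  have hno : ∀ (t' : Ideal R1) [t'.IsPrime], t' ≤ RingHom.ker ε → ∀ (P : Ideal SA) [P.IsPrime],
      P.comap (algebraMap R1 SA) = t' →
      FlatCA.fiberIdeal t' P ∈ associatedPrimes (t'.Fiber SA) (FlatCA.fiberMod t' SA N1) → t ∉ P := by
    intro t' _ hle P _ hPt hass htP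
    refine hpure R1 SA N1 (TensorProduct.mk S SA N 1) t' (RingHom.ker ε) P het
      ⟨inferInstance, TensorProduct.isBaseChange S N SA, hle, ?_, ⟨hPt.symm⟩, hass, fun P' hP' hPP' hov => ?_⟩
    · exact het.2.choose
    · refine hP'.ne_top ((Ideal.eq_top_iff_one _).2 ?_)
      have h1 : t - 1 ∈ P' := Ideal.map_le_iff_le_comap.2 hov.over.le ht
      simpa using sub_mem (hPP' htP) h1
  have hui : ∀ (M' : Type u) [AddCommGroup M'] [Module R1 M'] (w : N1 ⊗[R1] M'), t • w = 0 →
      ∃ u ∉ RingHom.ker ε, u • w = 0 := by
    intro M' _ _ w hw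
    by_contra hne
    push Not at hne
    let J := (Submodule.span SA {w}).annihilator
    obtain ⟨Q, hQ, hJQ, hQd⟩ := Ideal.exists_le_prime_disjoint J
      (Algebra.algebraMapSubmonoid SA (RingHom.ker ε).primeCompl) (Set.disjoint_left.2 fun y hy hyW => by
        obtain ⟨a, ha, rfl⟩ := hyW
        refine hne a ha ?_
        rw [← algebraMap_smul SA a w]
        exact (Submodule.mem_annihilator_span_singleton _ _).1 hy)
    haveI := hQ
    let t' := Q.comap (algebraMap R1 SA)
    haveI : t'.IsPrime := Ideal.comap_isPrime _ _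
    have hle : t' ≤ RingHom.ker ε := fun a ha => by
      by_contra h0
      exact Set.disjoint_left.1 hQd ha ⟨a, h0, rfl⟩
    have hfl : Module.Flat R1 (LocalizedModule Q.primeCompl N1) := flat_localized_of_flat N1 Q
    obtain ⟨u, hu, huw⟩ := ui_at_of_fibre_inj N1 t' Q rfl hfl t (fun v hv => ⟨1, hQ.one_notMem, by
      rw [one_smul]
      exact eq_zero_of_notMem_assoc N1 t' t (fun P hP hPc hass => @hno t' _ hle P hP hPc hass) v hv⟩) M' w hw
    exact hu (hJQ ((Submodule.mem_annihilator_span_singleton _ _).2 huw))
  obtain ⟨f, hf, hk⟩ := exists_ui_nhd (R := R1) (S := SA) (M := N1) (RingHom.ker ε) t hui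
  obtain ⟨R2, _, _, _, ε2, α, hα, hu⟩ := exists_away_stage ε (f := f) fun h0 => hf (RingHom.mem_ker.2 h0)
  refine ⟨R2, inferInstance, inferInstance, inferInstance, ε2, ?_⟩
  letI : Algebra R1 R2 := α.toRingHom.toAlgebra
  haveI : IsScalarTower R R1 R2 := IsScalarTower.of_algebraMap_eq fun r => (α.commutes r).symm
  let W := Submonoid.powers t
  let L := LocalizedModule W N1
  let iN := LocalizedModule.mkLinearMap W N1
  haveI : Module.Projective R1 L := hproj
  haveI : Module.Projective R2 (R2 ⊗[R1] L) := inferInstance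
  let j := (iN.restrictScalars R1).baseChange R2
  have hj : CAlgX.UniversallyInjective R2 j := by
    intro M' _ _
    letI : Module R1 M' := Module.compHom M' (algebraMap R1 R2)
    haveI : IsScalarTower R1 R2 M' := IsScalarTower.of_algebraMap_smul fun _ _ => rfl
    rw [← LinearMap.lTensor_inj_iff_rTensor_inj, injective_iff_map_eq_zero]
    intro w hw
    let e1 := AlgebraTensorModule.cancelBaseChange R1 R2 R2 M' N1
    let e2 := AlgebraTensorModule.cancelBaseChange R1 R2 R2 M' L
    have hc : ∀ z, e2 (j.lTensor M' z) = (iN.restrictScalars R1).lTensor M' (e1 z) := fun z => by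
      induction z using TensorProduct.induction_on with
      | zero => simp
      | add a b ha hb => simp only [map_add, ha, hb]
      | tmul m x =>
        induction x using TensorProduct.induction_on with
        | zero => simp
        | add a b ha hb => simp only [tmul_add, map_add, ha, hb]
        | tmul a n => rfl
    have h1 : (iN.restrictScalars R1).lTensor M' (e1 w) = 0 := by rw [← hc, hw, map_zero]
    set v := TensorProduct.comm R1 M' N1 (e1 w) with hv
    have h2 : AlgebraTensorModule.rTensor R1 M' iN v = 0 := by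
      have : ∀ z, AlgebraTensorModule.rTensor R1 M' iN (TensorProduct.comm R1 M' N1 z) =
          TensorProduct.comm R1 M' L ((iN.restrictScalars R1).lTensor M' z) := fun z => by
        induction z using TensorProduct.induction_on with
        | zero => simp
        | add a b ha hb => simp only [map_add, ha, hb]
        | tmul m n => rfl
      rw [hv, this, h1, map_zero]
    obtain ⟨⟨_, i, rfl⟩, hi⟩ := (IsLocalizedModule.eq_zero_iff W _).1 h2
    change t ^ i • v = 0 at hi
    have h3 : ∀ i : ℕ, ∀ z : N1 ⊗[R1] M', t ^ i • z = 0 → ∃ k : ℕ, f ^ k • z = 0 := by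
      intro i
      induction i with
      | zero => exact fun z hz => ⟨0, by simpa using hz⟩
      | succ i ih =>
        intro z hz
        rw [pow_succ, mul_smul] at hz
        obtain ⟨k, hk1⟩ := ih _ hz
        obtain ⟨k', hk2⟩ := hk M' (f ^ k • z) (by rw [smul_comm, hk1])
        exact ⟨k' + k, by rw [pow_add, mul_smul, hk2]⟩
    obtain ⟨k, hk⟩ := h3 i v hi
    have h4 : f ^ k • e1 w = 0 := by
      refine (TensorProduct.comm R1 M' N1).injective ?_
      rw [map_smul, ← hv, hk, map_zero]
    have h5 : (α f) ^ k • e1 w = 0 := by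
      rw [← map_pow, show α (f ^ k) = algebraMap R1 R2 (f ^ k) from rfl, algebraMap_smul]
      exact h4
    exact e1.injective (((hu.pow k).smul_eq_zero.1 h5).trans (map_zero e1).symm)
  haveI : Module.Flat R2 (R2 ⊗[R1] N1) := inferInstance
  obtain ⟨G, hGc, hGs⟩ := countablyGenerated_of_finite R1 (S := SA) N1
  have hcg : CAlg.IsCountablyGenerated R2 (R2 ⊗[R1] N1) := by
    refine ⟨TensorProduct.mk R1 R2 N1 1 '' G, hGc.image _, eq_top_iff.2 ?_⟩
    rintro z -
    induction z using TensorProduct.induction_on with
    | zero => exact zero_mem _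
    | add a b ha hb => exact add_mem ha hb
    | tmul a n =>
      rw [← mul_one a, ← smul_eq_mul, ← smul_tmul']
      refine Submodule.smul_mem _ _ ?_
      have hn : n ∈ Submodule.span R1 G := hGs ▸ Submodule.mem_top
      induction hn using Submodule.span_induction with
      | mem y hy => exact Submodule.subset_span ⟨y, hy, rfl⟩
      | zero => rw [tmul_zero]; exact zero_mem _
      | add y z _ _ hy hz => rw [tmul_add]; exact add_mem hy hz
      | smul r y _ hy =>
        rw [tmul_smul, ← algebraMap_smul R2 r]
        exact Submodule.smul_mem _ _ hy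
  haveI : Module.Projective R2 (R2 ⊗[R1] N1) :=
    CAlgUI.projective_of_flat_ml_countablyGenerated (CAlgUI.ml_of_ui j hj CAlgUI.ml_of_projective) hcg
  exact Module.Projective.of_equiv
    ((TensorProduct.AlgebraTensorModule.congr (LinearEquiv.refl R2 R2) eN).trans
      (AlgebraTensorModule.cancelBaseChange R R1 R2 R2 N))

end pure

end Groth.Agent.H4RG
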