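import Groth.Prelude
import Groth.Agent.S1216
import Groth.Agent.H4RG.PureProj
import Groth.Agent.H4RG.SpreadGen
import Mathlib

/-!
# Separation of flat finite modules over a local domain

An element divisible modulo a prime by every element outside it vanishes modulo the prime: look at its content at the
centre of a valuation dominating a point of its support.
-/

set_option autoImplicit false
set_option linter.style.haveILetI false
set_option backward.isDefEq.respectTransparency.types false

universe u

open TensorProduct IsLocalRing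

namespace Groth.Agent.H4RG

attribute [local instance] Algebra.TensorProduct.rightAlgebra

/-- An element of a flat finite module divisible modulo a prime by all elements outside it vanishes modulo it. -/
theorem mem_smul_of_forall_notMem {A B : Type u} [CommRing A] [IsLocalRing A] [CommRing B] [IsLocalRing B] [Algebra A B]
    [IsLocalHom (algebraMap A B)] [Algebra.EssFiniteType A B]
    (N : Type u) [AddCommGroup N] [Module B N] [Module A N] [IsScalarTower A B N] [Module.Finite B N] [Module.Flat A N]
    (p : Ideal A) [p.IsPrime] (hp : p ≠ maximalIdeal A) (x : N)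
    (h : ∀ d ∉ p, x ∈ (p ⊔ Ideal.span {d}) • (⊤ : Submodule A N)) : x ∈ p • (⊤ : Submodule A N) := by
  classical
  by_contra hx
  let Kp := p.ResidueField
  let eq0 := TensorProduct.tensorQuotEquivQuotSMul N p
  have hmem : ∀ y : N, y ⊗ₜ[A] (1 : A ⧸ p) = 0 ↔ y ∈ p • (⊤ : Submodule A N) := fun y => by
    rw [show (1 : A ⧸ p) = Ideal.Quotient.mk p 1 from rfl, ← eq0.map_eq_zero_iff,
      TensorProduct.tensorQuotEquivQuotSMul_tmul_mk, one_smul, Submodule.Quotient.mk_eq_zero]
  -- kernel of the map to the fibre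
  let γ : A ⧸ p →ₗ[A] Kp := (Algebra.linearMap (A ⧸ p) Kp).restrictScalars A
  have hγ : Function.Injective γ := (IsFractionRing.injective (A ⧸ p) Kp : _)
  have hker : ∀ y : N, (1 : Kp) ⊗ₜ[A] y = 0 → y ∈ p • (⊤ : Submodule A N) := fun y hy => by
    refine (hmem y).1 (Module.Flat.lTensor_preserves_injective_linearMap (M := N) γ hγ ?_)
    rw [map_zero, LinearMap.lTensor_tmul]
    refine (TensorProduct.comm A N Kp).injective ?_
    rw [map_zero, TensorProduct.comm_tmul]
    show (algebraMap (A ⧸ p) Kp 1) ⊗ₜ[A] y = 0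
    rw [map_one]
    exact hy
  -- a point of the support over `p`
  let J : Ideal B :=
    { carrier := {b | b • x ∈ p • (⊤ : Submodule A N)}
      add_mem' := fun {a b} ha hb => by
        show (a + b) • x ∈ p • (⊤ : Submodule A N)
        rw [add_smul]
        exact add_mem ha hb
      zero_mem' := by
        show (0 : B) • x ∈ p • (⊤ : Submodule A N)
        rw [zero_smul]
        exact zero_mem _
      smul_mem' := fun c b hb => by
        show (c • b) • x ∈ p • (⊤ : Submodule A N)
        rw [smul_assoc]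
        exact Submodule.smul_top_le_comap_smul_top p ((LinearMap.lsmul B N c).restrictScalars A) hb }
  have hJmem : ∀ b : B, b ∈ J ↔ b • x ∈ p • (⊤ : Submodule A N) := fun _ => Iff.rfl
  have htf : ∀ d ∉ p, ∀ y : N, d • y ∈ p • (⊤ : Submodule A N) → y ∈ p • (⊤ : Submodule A N) := fun d hd y hy => by
    refine hker y ?_
    have h0 : (1 : Kp) ⊗ₜ[A] (d • y) = 0 := by
      have h1 := congrArg (TensorProduct.comm A N Kp ∘ γ.lTensor N) ((hmem _).2 hy)
      simp only [Function.comp_apply, LinearMap.lTensor_tmul, map_zero, TensorProduct.comm_tmul] at h1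
      rwa [show γ 1 = (1 : Kp) from map_one (algebraMap (A ⧸ p) Kp)] at h1
    rw [tmul_smul] at h0
    have hu : IsUnit (algebraMap A Kp d) :=
      isUnit_iff_ne_zero.2 (mt Ideal.algebraMap_residueField_eq_zero.1 hd)
    rwa [← algebraMap_smul Kp, hu.smul_eq_zero] at h0
  have hdisj : Disjoint (J : Set B) ((p.primeCompl.map (algebraMap A B) : Submonoid B) : Set B) := by
    rw [Set.disjoint_left]
    rintro _ hb ⟨d, hd, rfl⟩
    have h1 := (hJmem _).1 hb
    rw [algebraMap_smul] at h1
    exact hx (htf d hd x h1)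
  obtain ⟨η, hη, hJη, hηS⟩ := Ideal.exists_le_prime_disjoint J _ hdisj
  haveI := hη
  have hηp : η.comap (algebraMap A B) = p := by
    refine le_antisymm (fun a ha => ?_) fun a ha => hJη ((hJmem _).2 ?_)
    · by_contra hap
      exact Set.disjoint_left.1 hηS ha ⟨a, hap, rfl⟩
    · rw [algebraMap_smul]
      exact Submodule.smul_mem_smul ha Submodule.mem_top
  -- a dominating valuation
  let Kη := η.ResidueField
  let f : B →+* Kη := algebraMap B Kη
  have hfk : RingHom.ker f = η := Ideal.ker_algebraMap_residueField η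
  have hI : (maximalIdeal B).map f.rangeRestrict ≠ ⊤ := by
    intro h1
    have h2 := congrArg (Ideal.comap f.rangeRestrict) h1
    rw [Ideal.comap_map_of_surjective _ f.rangeRestrict_surjective, Ideal.comap_top, ← RingHom.ker_eq_comap_bot,
      RingHom.ker_rangeRestrict, hfk, sup_eq_left.2 (IsLocalRing.le_maximalIdeal hη.ne_top)] at h2
    exact (maximalIdeal.isMaximal B).ne_top h2
  obtain ⟨W, hW, hWn⟩ := Ideal.image_subset_nonunits_valuationSubring _ hI
  let ι : Kp →ₐ[A] Kη := Ideal.ResidueField.mapₐ p η (Algebra.ofId A B) hηp.symm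
  let Vs := W.comap ι.toRingHom
  let V : Type u := Vs
  letI : Algebra A V := ((algebraMap A Kp).codRestrict Vs fun a => by
    rw [ValuationSubring.mem_comap]
    show ι (algebraMap A Kp a) ∈ W
    rw [ι.commutes, IsScalarTower.algebraMap_apply A B Kη]
    exact hW ⟨_, rfl⟩).toAlgebra
  have hVA : ∀ a : A, ((algebraMap A V a : Vs) : Kp) = algebraMap A Kp a := fun _ => rfl
  let valA : V →ₐ[A] Kp := { Vs.subtype with commutes' := fun _ => rfl }
  let BV := V ⊗[A] B
  let g : BV →ₐ[A] Kη := Algebra.TensorProduct.lift (ι.comp valA) (IsScalarTower.toAlgHom A B Kη) fun _ _ => .all _ _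
  have hg : ∀ (v : V) (b : B), g (v ⊗ₜ b) = ι (valA v) * f b := fun v b => Algebra.TensorProduct.lift_tmul _ _ _ v b
  have hgW : ∀ t, g t ∈ W := fun t => by
    induction t using TensorProduct.induction_on with
    | zero => rw [map_zero]; exact zero_mem _
    | add a b ha hb => rw [map_add]; exact add_mem ha hb
    | tmul v b =>
      rw [hg]
      exact mul_mem v.2 (hW ⟨b, rfl⟩)
  let ψ : BV →+* W := g.toRingHom.codRestrict W hgW
  let q : Ideal BV := (maximalIdeal W).comap ψ
  haveI : q.IsPrime := Ideal.comap_isPrime _ _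
  let Bq := Localization.AtPrime q
  have hVq : ∀ v : V, IsUnit (algebraMap V Bq v) → IsUnit v := by
    intro v hv
    rw [IsScalarTower.algebraMap_apply V BV Bq, IsLocalization.AtPrime.isUnit_to_map_iff Bq q] at hv
    have h1 : IsUnit (ψ (v ⊗ₜ 1)) := IsLocalRing.notMem_maximalIdeal.1 hv
    obtain ⟨w, hw⟩ := isUnit_iff_exists_inv.1 h1
    have hw' : ι (valA v) * (w : Kη) = 1 := by
      have h2 := congrArg (fun z : W => (z : Kη)) hw
      simpa [ψ, hg] using h2
    have hv0 : valA v ≠ 0 := fun h0 => by simp [h0] at hw'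
    have hinv : (valA v)⁻¹ ∈ Vs := by
      rw [ValuationSubring.mem_comap]
      show ι (valA v)⁻¹ ∈ W
      rw [map_inv₀, inv_eq_of_mul_eq_one_right hw']
      exact w.2
    exact isUnit_iff_exists_inv.2 ⟨⟨_, hinv⟩, Subtype.ext (mul_inv_cancel₀ hv0)⟩
  haveI : IsLocalHom (algebraMap V Bq) := ⟨hVq⟩
  let N2 := BV ⊗[B] N
  haveI : Algebra.IsPushout A V B BV := inferInstance
  haveI : Module.Flat V N2 := Module.Flat.of_linearEquiv (Algebra.IsPushout.cancelBaseChange A V B BV N)
  let Y := LocalizedModule q.primeCompl N2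
  let iY : N2 →ₗ[BV] Y := LocalizedModule.mkLinearMap q.primeCompl N2
  haveI : Module.Flat V Y := flat_localized_of_flat (R := V) (S := BV) N2 q
  haveI : Module.Finite Bq Y := Module.Finite.of_isLocalizedModule q.primeCompl iY
  haveI : Algebra.EssFiniteType V BV := inferInstance
  haveI : Algebra.EssFiniteType V Bq := Algebra.EssFiniteType.comp V BV Bq
  let z : Y := iY ((1 : BV) ⊗ₜ[B] x)
  -- clearing denominators
  have hclear : ∀ t : BV, ∃ a ∉ p, ∃ b : B,
      a • (valA.toLinearMap.rTensor B t) = (1 : Kp) ⊗ₜ[A] b := by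
    intro t
    induction t using TensorProduct.induction_on with
    | zero => exact ⟨1, fun h1 => ‹p.IsPrime›.ne_top ((Ideal.eq_top_iff_one p).2 h1), 0, by simp⟩
    | tmul v b =>
      obtain ⟨r, c, hc, hcr⟩ := fracPoint_residueField p (valA v)
      refine ⟨c, fun h1 => hc (Ideal.algebraMap_residueField_eq_zero.2 h1), r • b, ?_⟩
      rw [LinearMap.rTensor_tmul, smul_tmul', tmul_smul, smul_tmul' r]
      simp only [Algebra.smul_def, mul_one]
      exact congrArg (· ⊗ₜ[A] b) hcr
    | add s t hs ht =>
      obtain ⟨a, ha, b, hb⟩ := hs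
      obtain ⟨a', ha', b', hb'⟩ := ht
      refine ⟨a * a', fun h1 => (‹p.IsPrime›.mem_or_mem h1).elim ha ha', a' • b + a • b', ?_⟩
      rw [map_add, smul_add, tmul_add, tmul_smul, tmul_smul, ← hb, ← hb', smul_smul, smul_smul, mul_comm a' a]
  have hz : z ≠ 0 := by
    intro h0
    obtain ⟨⟨s, hs⟩, hsx⟩ := (IsLocalizedModule.eq_zero_iff q.primeCompl iY).1 h0
    rw [Submonoid.smul_def, smul_tmul', smul_eq_mul, mul_one] at hsx
    obtain ⟨a, ha, b, hb⟩ := hclear s
    let Λ : BV →ₗ[A] Kp ⊗[A] N := TensorProduct.map valA.toLinearMap ((LinearMap.toSpanSingleton B N x).restrictScalars A)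
    let Φ : N2 →ₗ[A] Kp ⊗[A] N :=
      (valA.toLinearMap.rTensor N).comp ((Algebra.IsPushout.cancelBaseChange A V B BV N).toLinearMap.restrictScalars A)
    have hΛ : ∀ t, Λ t = Φ (t ⊗ₜ[B] x) := fun t => by
      induction t using TensorProduct.induction_on with
      | zero => simp
      | add s t hs ht => rw [map_add, add_tmul, map_add, hs, ht]
      | tmul v c =>
        have he : Algebra.IsPushout.cancelBaseChange A V B BV N ((v ⊗ₜ[A] c) ⊗ₜ[B] x) = v ⊗ₜ[A] (c • x) := by
          apply (Algebra.IsPushout.cancelBaseChange A V B BV N).symm.injective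
          rw [LinearEquiv.symm_apply_apply, Algebra.IsPushout.cancelBaseChange_symm_tmul, ← smul_tmul]
          congr 1
          simp [Algebra.smul_def, Algebra.TensorProduct.right_algebraMap_apply, BV]
        simp [Λ, Φ, he]
        erw [TensorProduct.map_tmul]
        rfl
    have h1 : Λ s = 0 := by rw [hΛ, hsx, map_zero]
    have h2 : (1 : Kp) ⊗ₜ[A] (b • x) = 0 := by
      have h3 : ((LinearMap.toSpanSingleton B N x).restrictScalars A).lTensor Kp (a • valA.toLinearMap.rTensor B s) = 0 := by
        rw [map_smul, ← LinearMap.comp_apply, LinearMap.lTensor_comp_rTensor, show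
          TensorProduct.map valA.toLinearMap ((LinearMap.toSpanSingleton B N x).restrictScalars A) s = 0 from h1, smul_zero]
      rwa [hb, LinearMap.lTensor_tmul] at h3
    have hbη : b ∈ η := hJη ((hJmem b).2 (hker _ h2))
    let g' : Kp ⊗[A] B →ₐ[A] Kη := Algebra.TensorProduct.lift ι (IsScalarTower.toAlgHom A B Kη) fun _ _ => .all _ _
    have hg' : ∀ t, g' (valA.toLinearMap.rTensor B t) = g t := fun t => by
      induction t using TensorProduct.induction_on with
      | zero => simp
      | add s t hs ht => rw [map_add, map_add, map_add, hs, ht]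
      | tmul v c =>
        simp [g']
        exact (hg v c).symm
    have h4 := congrArg g' hb
    rw [map_smul, hg'] at h4
    have h5 : g' ((1 : Kp) ⊗ₜ[A] b) = 0 := by
      simp [g']
      exact Ideal.algebraMap_residueField_eq_zero.2 hbη
    rw [h5, Algebra.smul_def, mul_eq_zero] at h4
    rcases h4 with h4 | h4
    · rw [IsScalarTower.algebraMap_apply A B Kη, Ideal.algebraMap_residueField_eq_zero] at h4
      exact ha (hηp.le h4)
    · refine hs (?_ : ψ s ∈ maximalIdeal W)
      have h6 : ψ s = 0 := Subtype.ext h4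
      rw [h6]
      exact zero_mem _
  -- content
  obtain ⟨I, hIp, hzI, hImin⟩ := @S1216.result V Bq _ _ _ _ _ _ _ _ Y (Module.addCommMonoidToAddCommGroup BV) _ _ _ _ _ z
  obtain ⟨e, rfl⟩ := hIp
  have he0 : valA e ≠ 0 := fun h0 => hz (by
    have h1 : e = 0 := Subtype.ext h0
    simpa [h1] using hzI)
  let φ : N →ₗ[A] Y := (iY.restrictScalars A).comp (((TensorProduct.mk B BV N) 1).restrictScalars A)
  have hdvd : ∀ d ∉ p, algebraMap A V d ∣ e := fun d hd => by
    refine Ideal.mem_span_singleton.1 ?_
    have hle : z ∈ Ideal.span {algebraMap A V d} • (⊤ : Submodule V Y) := by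
      show φ x ∈ _
      refine Submodule.smul_induction_on (h d hd) (fun r hr y _ => ?_) fun y y' hy hy' => ?_
      · rw [map_smul, ← algebraMap_smul V r]
        refine Submodule.smul_mem_smul ?_ Submodule.mem_top
        obtain ⟨r0, hr0, r1, hr1, rfl⟩ := Submodule.mem_sup.1 hr
        obtain ⟨k, rfl⟩ := Ideal.mem_span_singleton'.1 hr1
        rw [map_add, map_mul, show algebraMap A V r0 = 0 from Subtype.ext (Ideal.algebraMap_residueField_eq_zero.2 hr0),
          zero_add]
        exact Ideal.mul_mem_left _ _ (Ideal.mem_span_singleton_self _)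
      · rw [map_add]; exact add_mem hy hy'
    exact hImin _ hle (Submodule.mem_span_singleton_self e)
  obtain ⟨π, hπm, hπp⟩ := SetLike.exists_of_lt (lt_of_le_of_ne (IsLocalRing.le_maximalIdeal ‹p.IsPrime›.ne_top) hp)
  obtain ⟨r, c, hc, hcr⟩ := fracPoint_residueField p (valA e)
  have hr : r ∉ p := fun h1 => by
    rw [Ideal.algebraMap_residueField_eq_zero.2 h1, mul_eq_zero] at hcr
    exact hcr.elim hc he0
  obtain ⟨v, hv⟩ := hdvd (r * π) fun h1 => (‹p.IsPrime›.mem_or_mem h1).elim hr hπp
  have hunit : IsUnit (algebraMap A V π) := by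
    refine isUnit_iff_exists_inv.2 ⟨algebraMap A V c * v, Subtype.ext ?_⟩
    have hv' : valA e = algebraMap A Kp (r * π) * valA v := congrArg Subtype.val hv
    have hr0 : algebraMap A Kp r ≠ 0 := mt Ideal.algebraMap_residueField_eq_zero.1 hr
    refine mul_left_cancel₀ hr0 ?_
    show algebraMap A Kp r * (algebraMap A Kp π * (algebraMap A Kp c * valA v)) = algebraMap A Kp r * 1
    rw [mul_one]
    nth_rewrite 2 [← hcr]
    rw [hv', map_mul]
    ring
  obtain ⟨w, hw⟩ := isUnit_iff_exists_inv.1 hunit
  have hπB : f (algebraMap A B π) ∈ W.nonunits := by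
    have hπ' : algebraMap A B π ∈ maximalIdeal B := (IsLocalRing.mem_maximalIdeal _).2 fun hu =>
      (IsLocalRing.mem_maximalIdeal _).1 hπm ((isUnit_map_iff (algebraMap A B) π).1 hu)
    exact hWn ⟨f.rangeRestrict (algebraMap A B π), Ideal.mem_map_of_mem _ hπ', rfl⟩
  obtain ⟨hπW, hπ2⟩ := ValuationSubring.mem_nonunits_iff_exists_mem_maximalIdeal.1 hπB
  refine (IsLocalRing.mem_maximalIdeal _).1 hπ2 (isUnit_iff_exists_inv.2 ⟨⟨ι (valA w), w.2⟩, Subtype.ext ?_⟩)
  have hw' : algebraMap A Kp π * valA w = 1 := congrArg Subtype.val hw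
  show f (algebraMap A B π) * ι (valA w) = 1
  rw [← IsScalarTower.algebraMap_apply A B Kη, ← ι.commutes, ← map_mul, hw', map_one]

end Groth.Agent.H4RG
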