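import Groth.Prelude
import Groth.Agent.H4RG.SpreadInd
import Groth.Agent.H4RG.DevissageGood
import Groth.Agent.H4RG.InjSep
import Groth.Agent.H4RG.FlatModIdeal
import Mathlib

/-!
# Flatness over a local domain from flatness modulo every nonzero ideal

A finitely presented module over a smooth algebra over a local domain which is no field, flat modulo every nonzero
ideal at a point of the closed fibre, is flat there: by devissage on the relative dimension, with separation of free
modules at the bottom of each step.
-/

set_option autoImplicit false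
set_option linter.style.haveILetI false
set_option backward.isDefEq.respectTransparency.types false

universe u

open TensorProduct IsLocalRing MvPolynomial

namespace Groth.Agent.H4RG

/-- The statement proved by induction on the relative dimension. -/
def PsiAt (d : ℕ) : Prop :=
  ∀ (R E : Type u) [CommRing R] [IsDomain R] [IsLocalRing R] [CommRing E] [Algebra R E] [Algebra (MvPolynomial (Fin d) R) E]
    [IsScalarTower R (MvPolynomial (Fin d) R) E] [Algebra.Etale (MvPolynomial (Fin d) R) E],
    maximalIdeal R ≠ ⊥ →
    ∀ (P : Ideal E) [P.IsPrime], P.comap (algebraMap R E) = maximalIdeal R →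
    ∀ (M : Type u) [AddCommGroup M] [Module E M] [Module R M] [IsScalarTower R E M] [Module.FinitePresentation E M],
      (∀ J : Ideal R, J ≠ ⊥ → FlatJ J (LocalizedModule P.primeCompl M)) →
      Module.Flat R (LocalizedModule P.primeCompl M)

/-- The induction step at a point quasi-finite over fewer variables. -/
theorem psi_step {d : ℕ} (IH : PsiAt.{u} d) {R T : Type u} [CommRing R] [IsDomain R] [IsLocalRing R] [CommRing T]
    (hm : maximalIdeal R ≠ ⊥) [Algebra R T] [Algebra.FinitePresentation R T] [Algebra (MvPolynomial (Fin d) R) T]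
    [IsScalarTower R (MvPolynomial (Fin d) R) T] (Pb : Ideal T) [Pb.IsPrime]
    (hPb : Pb.comap (algebraMap R T) = maximalIdeal R) [Algebra.QuasiFiniteAt (MvPolynomial (Fin d) R) Pb]
    (Q : Type u) [AddCommGroup Q] [Module T Q] [Module R Q] [IsScalarTower R T Q] [Module.FinitePresentation T Q]
    (hflat : ∀ J : Ideal R, J ≠ ⊥ → FlatJ J (LocalizedModule Pb.primeCompl Q)) :
    Module.Flat R (LocalizedModule Pb.primeCompl Q) := by
  refine of_finite_chart_at (d := d) _ Pb hPb ?_
  intro E C _ _ _ _ _ _ _ _ _ _ _ _ _ _ P' _ hP' P1 _ h1 huniq h2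
  let A := MvPolynomial (Fin d) R
  haveI : Algebra.FinitePresentation R E := Algebra.FinitePresentation.trans R A E
  haveI : Algebra.FinitePresentation R C := Algebra.FinitePresentation.trans R T C
  haveI : Algebra.FinitePresentation E C := Algebra.FinitePresentation.of_restrict_scalars_finitePresentation R E C
  haveI : Module.FinitePresentation E C := Module.FinitePresentation.of_finite_of_finitePresentation E C
  let N1 := C ⊗[T] Q
  haveI : IsScalarTower E C N1 := inferInstance
  haveI : IsScalarTower R E N1 := IsScalarTower.of_algebraMap_smul fun x m => by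
    rw [← algebraMap_smul C (algebraMap R E x) m, ← IsScalarTower.algebraMap_apply, algebraMap_smul]
  haveI : Module.FinitePresentation C N1 := inferInstance
  haveI : Module.FinitePresentation E N1 := Module.FinitePresentation.trans E N1 C
  have hdiv := exists_dvd_of_unique P' P1 huniq
  obtain ⟨alg, hff, htow, ⟨e⟩⟩ := baseChange_aux Pb P1 h2 Q
  letI := alg
  let TP := Localization.AtPrime Pb
  let L := Localization.AtPrime P1
  haveI : IsScalarTower R TP L := IsScalarTower.of_algebraMap_eq fun x => by
    rw [IsScalarTower.algebraMap_apply R T TP, ← IsScalarTower.algebraMap_apply T TP L,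
      IsScalarTower.algebraMap_apply R C L, IsScalarTower.algebraMap_apply R T C,
      ← IsScalarTower.algebraMap_apply T C L]
  haveI := isLocalizedModule_restrict P' P1 h1 hdiv (M := N1) (M' := LocalizedModule P1.primeCompl N1)
    (LocalizedModule.mkLinearMap P1.primeCompl N1)
  let eE := IsLocalizedModule.iso P'.primeCompl ((LocalizedModule.mkLinearMap P1.primeCompl N1).restrictScalars E)
  have hJ : ∀ J : Ideal R, J ≠ ⊥ → FlatJ J (LocalizedModule P'.primeCompl N1) := fun J hJ0 =>
    FlatJ.of_equiv ((e.restrictScalars R).trans (eE.restrictScalars R).symm)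
      (FlatJ.tensor (B := TP) (L := L) (hflat J hJ0))
  haveI := IH R E hm P' hP' N1 hJ
  haveI : Module.Flat R (L ⊗[TP] LocalizedModule Pb.primeCompl Q) :=
    Module.Flat.of_linearEquiv ((e.restrictScalars R).trans (eE.restrictScalars R).symm)
  exact flat_of_univInjective_map ((TensorProduct.mk TP L (LocalizedModule Pb.primeCompl Q) 1).restrictScalars R)
    fun M _ _ => rTensor_mk_injective M

/-- Flatness modulo every nonzero ideal gives flatness, at points of the closed fibre over a domain. -/
theorem psiAt : ∀ d, PsiAt.{u} d := by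
  intro d
  induction d using Nat.strong_induction_on with
  | _ d IH => ?_
  intro R E _ _ _ _ _ _ _ _ hm P _ hP N _ _ _ _ _ hflat
  classical
  let A := MvPolynomial (Fin d) R
  haveI : Algebra.Smooth R A := ⟨inferInstance, inferInstance⟩
  haveI : Algebra.Smooth R E := Algebra.Smooth.comp R A E
  let B := Localization.AtPrime P
  haveI h𝔭 : ((maximalIdeal R).map (algebraMap R B)).IsPrime := isPrime_map_maximalIdeal P hP
  let p : Ideal E := ((maximalIdeal R).map (algebraMap R B)).comap (algebraMap E B)
  haveI : p.IsPrime := Ideal.comap_isPrime _ _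
  have hpP : p ≤ P := fun x hx => by
    by_contra hxP
    have hu : IsUnit (algebraMap E B x) := IsLocalization.map_units B (⟨x, hxP⟩ : P.primeCompl)
    have hx' : algebraMap E B x ∈ (maximalIdeal R).map (algebraMap R B) := hx
    exact h𝔭.ne_top (Ideal.eq_top_of_isUnit_mem _ hx' hu)
  have hmp : (maximalIdeal R).map (algebraMap R E) ≤ p := Ideal.map_le_iff_le_comap.2 fun r hr => by
    show algebraMap E B (algebraMap R E r) ∈ (maximalIdeal R).map (algebraMap R B)
    rw [← IsScalarTower.algebraMap_apply]
    exact Ideal.mem_map_of_mem _ hr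
  have hpR : p.comap (algebraMap R E) = maximalIdeal R :=
    le_antisymm ((Ideal.comap_mono hpP).trans hP.le) (Ideal.map_le_iff_le_comap.1 hmp)
  let Ep := Localization.AtPrime p
  let Np := LocalizedModule p.primeCompl N
  -- the maximal ideal at `p` is generated by the maximal ideal of the base
  have hmax : maximalIdeal Ep = (maximalIdeal R).map (algebraMap R Ep) := by
    refine le_antisymm (fun z hz => ?_) (Ideal.map_le_iff_le_comap.2 fun r hr => ?_)
    · obtain ⟨x, u, rfl⟩ := IsLocalization.exists_mk'_eq p.primeCompl z
      have hx : x ∈ p := (IsLocalization.AtPrime.mk'_mem_maximal_iff Ep p x u).1 hz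
      have hx' : algebraMap E B x ∈ ((maximalIdeal R).map (algebraMap R E)).map (algebraMap E B) := by
        rw [Ideal.map_map, ← IsScalarTower.algebraMap_eq]
        exact hx
      obtain ⟨t, ht, htx⟩ := (IsLocalization.algebraMap_mem_map_algebraMap_iff P.primeCompl B _ _).1 hx'
      rw [IsScalarTower.algebraMap_eq R E Ep, ← Ideal.map_map, IsLocalization.mk'_mem_map_algebraMap_iff p.primeCompl]
      exact ⟨t, fun h => ht (hpP h), htx⟩
    · rw [Ideal.mem_comap, IsScalarTower.algebraMap_apply R E Ep,
        IsLocalization.AtPrime.to_map_mem_maximal_iff Ep p]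
      exact hmp (Ideal.mem_map_of_mem _ hr)
  -- minimal generators at `p`
  haveI : Module.Finite Ep Np := Module.Finite.of_isLocalizedModule p.primeCompl (LocalizedModule.mkLinearMap p.primeCompl N)
  let ip : N →ₗ[E] Np := LocalizedModule.mkLinearMap p.primeCompl N
  have hex : ∃ c, ∃ a : Fin c → N, Submodule.span Ep (Set.range fun i => ip (a i)) = ⊤ := by
    obtain ⟨c, a, ha⟩ := Module.Finite.exists_fin (R := E) (M := N)
    refine ⟨c, a, ?_⟩
    rw [show (Set.range fun i => ip (a i)) = ip '' Set.range a from (Set.range_comp ip a)]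
    exact span_eq_top_of_isLocalizedModule Ep p.primeCompl ip ha
  set c := Nat.find hex with hc
  obtain ⟨a, ha⟩ := Nat.find_spec hex
  let α : (Fin c → Ep) →ₗ[Ep] Np := Fintype.linearCombination Ep fun i => ip (a i)
  have hα : Function.Surjective α := by
    rw [← LinearMap.range_eq_top, Fintype.range_linearCombination]
    exact ha
  have hK : ∀ x, α x = 0 → x ∈ maximalIdeal R • (⊤ : Submodule R (Fin c → Ep)) := by
    intro x hx
    have hxi : ∀ i, x i ∈ maximalIdeal Ep := by
      by_contra hne
      push Not at hne
      obtain ⟨i, hi⟩ := hne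
      have hu : IsUnit (x i) := IsLocalRing.notMem_maximalIdeal.1 hi
      obtain ⟨c', hc'⟩ : ∃ c', c = c' + 1 := ⟨c - 1, by have := i.2; omega⟩
      refine Nat.find_min hex (m := c') (by omega) ⟨fun j => a (Fin.cast hc'.symm ((Fin.cast hc' i).succAbove j)), ?_⟩
      refine eq_top_iff.2 (ha.ge.trans (Submodule.span_le.2 ?_))
      rintro _ ⟨j, rfl⟩
      set S0 := Submodule.span Ep (Set.range fun j => ip (a (Fin.cast hc'.symm ((Fin.cast hc' i).succAbove j))))
      have hother : ∀ k, k ≠ i → ip (a k) ∈ S0 := fun k hk => by
        obtain ⟨l, hl⟩ := Fin.exists_succAbove_eq (x := Fin.cast hc' k) (y := Fin.cast hc' i)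
          (fun h => hk (Fin.cast_injective _ h))
        refine Submodule.subset_span ⟨l, ?_⟩
        show ip (a (Fin.cast hc'.symm ((Fin.cast hc' i).succAbove l))) = _
        rw [hl]
        rfl
      by_cases hj : j = i
      · subst hj
        have hsum : x j • ip (a j) = - ∑ k ∈ Finset.univ.erase j, x k • ip (a k) := by
          rw [eq_neg_iff_add_eq_zero, Finset.add_sum_erase _ (fun k => x k • ip (a k)) (Finset.mem_univ j)]
          exact hx
        have hmem : x j • ip (a j) ∈ S0 := hsum ▸ neg_mem (sum_mem fun k hk =>
          S0.smul_mem _ (hother k (Finset.ne_of_mem_erase hk)))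
        exact (S0.smul_mem_iff_of_isUnit hu).1 hmem
      · exact hother j hj
    rw [← Finset.univ_sum_single x]
    refine sum_mem fun i _ => ?_
    have hi := hxi i
    rw [hmax] at hi
    have hi' : x i ∈ maximalIdeal R • (⊤ : Submodule R Ep) := by
      rw [Ideal.smul_top_eq_map]
      exact hi
    exact Submodule.smul_top_le_comap_smul_top _ (LinearMap.single R (fun _ : Fin c => Ep) i) hi'
  let NP := LocalizedModule P.primeCompl N
  let iP : N →ₗ[E] NP := LocalizedModule.mkLinearMap P.primeCompl N
  -- the map at `P`
  let β : (Fin c → E) →ₗ[E] N := Fintype.linearCombination E a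
  have hβp : ∀ x : Fin c → E, α (fun i => algebraMap E Ep (x i)) = ip (β x) := fun x => by
    simp [α, β, Fintype.linearCombination_apply, map_sum, map_smul]
  let Q := N ⧸ LinearMap.range β
  let iQ := LocalizedModule.mkLinearMap P.primeCompl Q
  let iF := LocalizedModule.mkLinearMap P.primeCompl (Fin c → E)
  let βP := IsLocalizedModule.map P.primeCompl iF iP β
  let πP := IsLocalizedModule.map P.primeCompl iP iQ (LinearMap.range β).mkQ
  have hexP : Function.Exact βP πP :=
    IsLocalizedModule.map_exact P.primeCompl iF iP iQ β _ (LinearMap.exact_map_mkQ_range β)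
  have hπP : Function.Surjective πP :=
    IsLocalizedModule.map_surjective P.primeCompl iP iQ _ (Submodule.mkQ_surjective _)
  -- relations at `p` come from relations at `P`
  haveI : IsLocalHom (algebraMap R Ep) := ⟨fun r hr => by
    by_contra h
    rw [IsScalarTower.algebraMap_apply R E Ep, IsLocalization.AtPrime.isUnit_to_map_iff Ep p] at hr
    exact hr (hmp (Ideal.mem_map_of_mem _ ((IsLocalRing.mem_maximalIdeal r).2 h)))⟩
  haveI : Module.FinitePresentation Ep Np :=
    inferInstanceAs (Module.FinitePresentation (Localization p.primeCompl) (LocalizedModule p.primeCompl N))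
  have hfg : (LinearMap.ker α).FG := Module.FinitePresentation.fg_ker α hα
  have hkey : ∀ J : Ideal R, J ≠ ⊥ → ∀ (x : LocalizedModule P.primeCompl (Fin c → E)),
      βP x ∈ J • (⊤ : Submodule R NP) → x ∈ J • (⊤ : Submodule R (LocalizedModule P.primeCompl (Fin c → E))) := by
    intro J hJ0 x hx
    obtain ⟨⟨x0, u⟩, hxu⟩ := IsLocalizedModule.surj P.primeCompl iF x
    have hu : IsUnit (algebraMap E (Module.End E (LocalizedModule P.primeCompl (Fin c → E))) u) :=
      IsLocalizedModule.map_units iF u
    -- numerator
    have h0 : iP (β x0) ∈ J • (⊤ : Submodule R NP) := by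
      rw [← IsLocalizedModule.map_apply P.primeCompl iF iP β x0, ← hxu, Submonoid.smul_def, map_smul]
      exact Submodule.smul_top_le_comap_smul_top J ((LinearMap.lsmul E NP (u : E)).restrictScalars R) hx
    -- descend to `p`
    let η : NP →ₗ[E] Np := IsLocalizedModule.lift P.primeCompl iP ip fun s =>
      IsLocalizedModule.map_units ip (⟨s, fun h => s.2 (hpP h)⟩ : p.primeCompl)
    have h1 : ip (β x0) ∈ J • (⊤ : Submodule R Np) := by
      have := Submodule.smul_top_le_comap_smul_top J (η.restrictScalars R) h0
      rwa [Submodule.mem_comap, LinearMap.restrictScalars_apply, IsLocalizedModule.lift_apply] at this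
    rw [← hβp] at h1
    have hJp : FlatJ J Np := FlatJ.localization_mono (W := P.primeCompl) (W' := p.primeCompl) (fun z hz hzp => hz (hpP hzp)) (hflat J hJ0)
    have hw : (fun i => algebraMap E Ep (x0 i)) ∈ J • (⊤ : Submodule R (Fin c → Ep)) :=
      mem_smul_of_map_mem J α hα hfg hK hJp _ h1
    have hcoord : ∀ i, algebraMap E B (x0 i) ∈ J.map (algebraMap R B) := by
      intro i
      have hi := Submodule.smul_top_le_comap_smul_top J (LinearMap.proj i : (Fin c → Ep) →ₗ[R] Ep) hw
      rw [Submodule.mem_comap, Ideal.smul_top_eq_map, Submodule.restrictScalars_mem,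
        IsScalarTower.algebraMap_eq R E Ep, ← Ideal.map_map] at hi
      obtain ⟨s, hs, hsx⟩ := (IsLocalization.algebraMap_mem_map_algebraMap_iff p.primeCompl Ep _ _).1 hi
      refine mem_map_of_mul_mem_map P hP (s := s) (fun h => hs h) J ?_
      rw [← map_mul, IsScalarTower.algebraMap_eq R E B, ← Ideal.map_map]
      exact Ideal.mem_map_of_mem (algebraMap E B) hsx
    -- multiples in `E`
    have hmul : ∀ i, ∃ t ∈ P.primeCompl, t * x0 i ∈ J.map (algebraMap R E) := fun i => by
      have hi := hcoord i
      rw [IsScalarTower.algebraMap_eq R E B, ← Ideal.map_map] at hi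
      exact (IsLocalization.algebraMap_mem_map_algebraMap_iff P.primeCompl B _ _).1 hi
    choose t ht htx using hmul
    have hT : (∏ i, t i) • x0 ∈ J • (⊤ : Submodule R (Fin c → E)) := by
      rw [← Finset.univ_sum_single ((∏ i, t i) • x0)]
      refine sum_mem fun i _ => ?_
      have hi' : ((∏ j, t j) • x0) i ∈ J • (⊤ : Submodule R E) := by
        rw [Ideal.smul_top_eq_map, Submodule.restrictScalars_mem, Pi.smul_apply, smul_eq_mul,
          ← Finset.prod_erase_mul _ _ (Finset.mem_univ i), mul_assoc]
        exact Ideal.mul_mem_left _ _ (htx i)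
      exact Submodule.smul_top_le_comap_smul_top _ (LinearMap.single R (fun _ : Fin c => E) i) hi'
    let v : P.primeCompl := ⟨∏ i, t i, prod_mem fun i _ => ht i⟩ * u
    have hv : ((∏ i, t i) * u : E) • x = iF ((∏ i, t i) • x0) := by
      rw [map_smul, mul_smul, ← hxu]
      rfl
    have hvJ : ((v : E)) • x ∈ J • (⊤ : Submodule R (LocalizedModule P.primeCompl (Fin c → E))) := by
      show ((∏ i, t i) * u : E) • x ∈ _
      rw [hv]
      exact Submodule.smul_top_le_comap_smul_top J (iF.restrictScalars R) hT
    obtain ⟨vi, hvi⟩ := (IsLocalizedModule.map_units iF v).exists_left_inv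
    have := Submodule.smul_top_le_comap_smul_top J (vi.restrictScalars R) hvJ
    rwa [Submodule.mem_comap, LinearMap.restrictScalars_apply,
      show vi ((v : E) • x) = (vi * algebraMap E (Module.End E (LocalizedModule P.primeCompl (Fin c → E))) v) x from rfl,
      hvi] at this
  -- the cokernel vanishes at `p`
  obtain ⟨s, hsp, hsQ⟩ : ∃ s ∉ p, ∀ y : Q, s • y = 0 := by
    have hloc : ∀ n : N, ∃ s ∉ p, s • (LinearMap.range β).mkQ n = 0 := by
      intro n
      obtain ⟨x, hx⟩ := hα (ip n)
      obtain ⟨⟨x0, u⟩, hxu⟩ := IsLocalizedModule.surj p.primeCompl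
        (LinearMap.pi fun i => (Algebra.linearMap E Ep).comp (LinearMap.proj i) : (Fin c → E) →ₗ[E] Fin c → Ep) x
      have h1 : ip (u • n - β x0) = 0 := by
        rw [map_sub, LinearMap.map_smul_of_tower, ← hx, ← hβp, Submonoid.smul_def,
          ← LinearMap.map_smul_of_tower, ← Submonoid.smul_def, hxu, sub_eq_zero]
        rfl
      obtain ⟨w, hw⟩ := (IsLocalizedModule.eq_zero_iff p.primeCompl ip).1 h1
      refine ⟨w * u, fun h => (‹p.IsPrime›.mem_or_mem h).elim w.2 u.2, ?_⟩
      rw [← map_smul, Submodule.mkQ_apply, Submodule.Quotient.mk_eq_zero, mul_smul]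
      rw [Submonoid.smul_def, smul_sub, sub_eq_zero] at hw
      rw [← Submonoid.smul_def u n, hw, ← map_smul]
      exact LinearMap.mem_range_self _ _
    obtain ⟨G, hG⟩ := Module.Finite.fg_top (R := E) (M := N)
    choose sf hsf hsf0 using hloc
    refine ⟨∏ n ∈ G, sf n, fun h => ?_, fun y => ?_⟩
    · obtain ⟨n, -, hn⟩ := ‹p.IsPrime›.prod_mem_iff.1 h
      exact hsf n hn
    · obtain ⟨n, rfl⟩ := Submodule.mkQ_surjective _ y
      have hle : (⊤ : Submodule E N) ≤ LinearMap.ker ((LinearMap.lsmul E Q (∏ n ∈ G, sf n)).comp (LinearMap.range β).mkQ) := by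
        rw [← hG, Submodule.span_le]
        intro m hm
        show (∏ n ∈ G, sf n) • (LinearMap.range β).mkQ m = 0
        rw [← Finset.prod_erase_mul _ _ hm, mul_smul, hsf0, smul_zero]
      exact hle Submodule.mem_top
  -- injectivity
  haveI : Algebra.FinitePresentation R E := Algebra.FinitePresentation.trans R (MvPolynomial (Fin d) R) E
  haveI : IsLocalHom (algebraMap R B) := ⟨fun r hr => by
    by_contra h
    rw [IsScalarTower.algebraMap_apply R E B, IsLocalization.AtPrime.isUnit_to_map_iff B P] at hr
    exact hr (show r ∈ P.comap (algebraMap R E) from hP.ge ((IsLocalRing.mem_maximalIdeal r).2 h))⟩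
  haveI : Module.Flat R E := Module.Flat.trans R A E
  haveI : Module.Flat R (LocalizedModule P.primeCompl (Fin c → E)) :=
    flat_localized_of_flat (R := R) (S := E) (Fin c → E) P
  haveI : Algebra.EssFiniteType R B := Algebra.EssFiniteType.comp R E B
  haveI : Module.Finite B (LocalizedModule P.primeCompl (Fin c → E)) :=
    Module.Finite.of_isLocalizedModule P.primeCompl iF
  have hβinj : Function.Injective βP := by
    rw [injective_iff_map_eq_zero]
    intro x hx
    have h0 := mem_smul_of_forall_notMem (B := B) (LocalizedModule P.primeCompl (Fin c → E)) (⊥ : Ideal R)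
      (fun h => hm h.symm) x fun d hd => by
        rw [bot_sup_eq]
        refine hkey _ (fun h0 => hd ?_) x (by rw [hx]; exact zero_mem _)
        rw [Ideal.mem_bot]
        exact (Ideal.span_singleton_eq_bot.1 h0)
    simpa using h0
  -- the cokernel
  have hQfp : Module.FinitePresentation E Q :=
    Module.finitePresentation_of_surjective _ (LinearMap.range β).mkQ_surjective (by
      rw [Submodule.ker_mkQ, LinearMap.range_eq_map]
      exact Module.Finite.fg_top.map β)
  have hQJ : ∀ J : Ideal R, J ≠ ⊥ → FlatJ J (LocalizedModule P.primeCompl Q) := fun J hJ0 =>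
    FlatJ.coker (βP.restrictScalars R) (πP.restrictScalars R) hexP hπP (hflat J hJ0)
      fun K' hK' => hkey K' fun h => hJ0 (le_bot_iff.1 (hK'.trans h.le))
  haveI : Module.Flat R (LocalizedModule P.primeCompl Q) := by
    by_cases hsP : s ∈ P
    · obtain ⟨d', hd', θ, hθ⟩ := exists_cut (d := d) P hP s hsP hsp
      let T := E ⧸ Ideal.span {s}
      letI : Algebra (MvPolynomial (Fin d') R) T := θ.toRingHom.toAlgebra
      haveI : IsScalarTower R (MvPolynomial (Fin d') R) T := IsScalarTower.of_algebraMap_eq fun r => (θ.commutes r).symm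
      haveI : Algebra.FinitePresentation R T :=
        Algebra.FinitePresentation.quotient ⟨{s}, by simp⟩
      have hann : Module.IsTorsionBySet E Q (Ideal.span {s} : Ideal E) := by
        rintro y ⟨z, hz⟩
        obtain ⟨w, rfl⟩ := Ideal.mem_span_singleton'.1 hz
        show (w * s) • y = 0
        rw [mul_smul, hsQ, smul_zero]
      letI : Module T Q := hann.module
      haveI : IsScalarTower E T Q := hann.isScalarTower
      haveI : IsScalarTower R T Q := hann.isScalarTower
      haveI : Module.FinitePresentation T Q := by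
        haveI := hQfp
        let f : T ⊗[E] Q →ₗ[T] Q := LinearMap.liftBaseChange T (LinearMap.id : Q →ₗ[E] Q)
        have hf : ∀ z, (1 : T) ⊗ₜ[E] f z = z := fun z => by
          induction z using TensorProduct.induction_on with
          | zero => simp
          | add a b ha hb => rw [map_add, tmul_add, ha, hb]
          | tmul t q =>
            obtain ⟨e, rfl⟩ := Ideal.Quotient.mk_surjective t
            rw [show f (Ideal.Quotient.mk (Ideal.span {s}) e ⊗ₜ[E] q) = algebraMap E T e • q from
              LinearMap.liftBaseChange_tmul .., algebraMap_smul, tmul_smul, smul_tmul', Algebra.smul_def, mul_one]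
            rfl
        let eT : T ⊗[E] Q ≃ₗ[T] Q := LinearEquiv.ofBijective f
          ⟨Function.LeftInverse.injective hf, fun q => ⟨(1 : T) ⊗ₜ q, by simp [f]⟩⟩
        exact Module.FinitePresentation.of_equiv eT
      let Pb : Ideal T := P.map (Ideal.Quotient.mk (Ideal.span {s}))
      have hle : Ideal.span {s} ≤ P := (Ideal.span_singleton_le_iff_mem _).2 hsP
      haveI : Pb.IsPrime := Ideal.map_isPrime_of_surjective Ideal.Quotient.mk_surjective (by rwa [Ideal.mk_ker])
      have hPbP : Pb.comap (algebraMap E T) = P := by
        show (P.map (Ideal.Quotient.mk (Ideal.span {s}))).comap (Ideal.Quotient.mk _) = P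
        rw [Ideal.comap_map_of_surjective _ Ideal.Quotient.mk_surjective, ← RingHom.ker_eq_comap_bot, Ideal.mk_ker]
        exact sup_eq_left.2 hle
      haveI := hθ Pb hPbP
      have hPbR : Pb.comap (algebraMap R T) = maximalIdeal R := by
        rw [IsScalarTower.algebraMap_eq R E T, ← Ideal.comap_comap, hPbP, hP]
      have hdiv : ∀ z ∉ Pb, ∃ u ∉ P, ∃ z', z * z' = algebraMap E T u := fun z hz => by
        obtain ⟨u, rfl⟩ := Ideal.Quotient.mk_surjective z
        exact ⟨u, fun h => hz (Ideal.mem_map_of_mem _ h), 1, mul_one _⟩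
      haveI := isLocalizedModule_restrict P Pb hPbP hdiv (LocalizedModule.mkLinearMap Pb.primeCompl Q)
      let eQ := (IsLocalizedModule.iso P.primeCompl
        ((LocalizedModule.mkLinearMap Pb.primeCompl Q).restrictScalars E)).restrictScalars R
      haveI := psi_step (IH d' hd') hm Pb hPbR Q fun J hJ0 => FlatJ.of_equiv eQ (hQJ J hJ0)
      exact Module.Flat.of_linearEquiv eQ
    · haveI : Subsingleton (LocalizedModule P.primeCompl Q) :=
        LocalizedModule.subsingleton_iff.2 fun y => ⟨s, hsP, hsQ y⟩
      exact Module.Flat.of_linearEquiv (LinearEquiv.ofSubsingleton (R := R) _ (PUnit.{u+1}))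
  exact flat_of_flat_ends (βP.restrictScalars R) (πP.restrictScalars R) hexP hπP hβinj

end Groth.Agent.H4RG
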