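import Groth.Agent.H4RG.PointFlat
import Groth.Agent.H4RG.PsiFlat
import Groth.Agent.H4RG.MLNear
import Mathlib

/-!
# Flatness descends from jointly faithful local extensions of a henselian base

If enough local extensions make a finite module over an algebra smooth over a henselian local ring flat at the points
over both closed points, the stalk is flat.  The proof is by induction on the relative dimension.
-/

set_option autoImplicit false
set_option linter.style.haveILetI false
set_option backward.isDefEq.respectTransparency.types false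

universe u

open TensorProduct IsLocalRing MvPolynomial

namespace Groth.Agent.H4RG

/-- Enough local extensions of the base make the module flat at the points. -/
def HasFlatExt (R B N : Type u) [CommRing R] [CommRing B] [IsLocalRing B] [Algebra R B] [AddCommGroup N] [Module B N] : Prop :=
  ∀ a : R, a ≠ 0 → ∃ (R' : Type u) (_ : CommRing R') (_ : IsLocalRing R') (_ : Algebra R R'),
    IsLocalHom (algebraMap R R') ∧ algebraMap R R' a ≠ 0 ∧ FlatPts R R' B N

/-- The statement proved by induction on the relative dimension. -/
def DescAt (d : ℕ) : Prop :=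
  ∀ (R E : Type u) [CommRing R] [HenselianLocalRing R] [CommRing E] [Algebra R E] [Algebra (MvPolynomial (Fin d) R) E]
    [IsScalarTower R (MvPolynomial (Fin d) R) E] [Algebra.Etale (MvPolynomial (Fin d) R) E]
    (P : Ideal E) [P.IsPrime], P.comap (algebraMap R E) = maximalIdeal R →
    ∀ (M : Type u) [AddCommGroup M] [Module E M] [Module R M] [IsScalarTower R E M] [Module.Finite E M],
      HasFlatExt R (Localization.AtPrime P) (LocalizedModule P.primeCompl M) →
      Module.Flat R (LocalizedModule P.primeCompl M)

/-- The induction step at a point quasi-finite over fewer variables. -/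
theorem desc_step {d : ℕ} (IH : DescAt.{u} d) {R T : Type u} [CommRing R] [HenselianLocalRing R] [CommRing T]
    [Algebra R T] [Algebra.FiniteType R T] [Algebra (MvPolynomial (Fin d) R) T]
    [IsScalarTower R (MvPolynomial (Fin d) R) T] (Pb : Ideal T) [Pb.IsPrime]
    (hPb : Pb.comap (algebraMap R T) = maximalIdeal R) [Algebra.QuasiFiniteAt (MvPolynomial (Fin d) R) Pb]
    (Q : Type u) [AddCommGroup Q] [Module T Q] [Module R Q] [IsScalarTower R T Q] [Module.Finite T Q]
    (hflat : HasFlatExt R (Localization.AtPrime Pb) (LocalizedModule Pb.primeCompl Q)) :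
    Module.Flat R (LocalizedModule Pb.primeCompl Q) := by
  refine of_finite_chart (d := d) Pb hPb ?_
  intro E C _ _ _ _ _ _ _ _ _ _ _ _ _ P' _ hP' P1 _ h1 huniq h2
  let N1 := C ⊗[T] Q
  haveI : IsScalarTower E C N1 := inferInstance
  haveI : IsScalarTower R E N1 := IsScalarTower.of_algebraMap_smul fun x m => by
    rw [← algebraMap_smul C (algebraMap R E x) m, ← IsScalarTower.algebraMap_apply, algebraMap_smul]
  haveI : Module.Finite E N1 := Module.Finite.trans C N1
  have hdiv := exists_dvd_of_unique P' P1 huniq
  obtain ⟨alg, hff, htow, ⟨e⟩⟩ := baseChange_aux Pb P1 h2 Q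
  letI := alg
  let TP := Localization.AtPrime Pb
  let L := Localization.AtPrime P1
  let EP := Localization.AtPrime P'
  haveI : IsScalarTower R TP L := IsScalarTower.of_algebraMap_eq fun x => by
    rw [IsScalarTower.algebraMap_apply R T TP, ← IsScalarTower.algebraMap_apply T TP L,
      IsScalarTower.algebraMap_apply R C L, IsScalarTower.algebraMap_apply R T C,
      ← IsScalarTower.algebraMap_apply T C L]
  haveI : IsLocalHom (algebraMap TP L) := by
    refine ⟨fun t ht => ?_⟩
    obtain ⟨x, u, rfl⟩ := IsLocalization.exists_mk'_eq Pb.primeCompl t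
    refine (IsLocalization.AtPrime.isUnit_mk'_iff TP Pb x u).2 fun hx => ?_
    have hxu : IsUnit (algebraMap TP L (algebraMap T TP x)) := by
      rw [← IsLocalization.mk'_spec TP x u, map_mul]
      exact ht.mul ((IsLocalization.map_units TP u).map _)
    rw [← IsScalarTower.algebraMap_apply, IsScalarTower.algebraMap_apply T C L,
      IsLocalization.AtPrime.isUnit_to_map_iff L P1] at hxu
    exact hxu (show x ∈ P1.comap (algebraMap T C) from h2.ge hx)
  letI algE : Algebra EP L := (Localization.localRingHom P' P1 (algebraMap E C) h1.symm).toAlgebra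
  haveI : IsLocalHom (algebraMap EP L) := Localization.isLocalHom_localRingHom P' P1 (algebraMap E C) h1.symm
  haveI : IsScalarTower E EP L := IsScalarTower.of_algebraMap_eq fun x => by
    show _ = Localization.localRingHom P' P1 (algebraMap E C) h1.symm (algebraMap E EP x)
    rw [Localization.localRingHom_to_map, ← IsScalarTower.algebraMap_apply]
  haveI : IsScalarTower R EP L := IsScalarTower.of_algebraMap_eq fun x => by
    rw [IsScalarTower.algebraMap_apply R E EP, ← IsScalarTower.algebraMap_apply E EP L,
      ← IsScalarTower.algebraMap_apply R E L]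
  haveI : Module.Finite EP L := by
    haveI := isLocalizedModule_restrict P' P1 h1 hdiv (M := C) (M' := L) (Algebra.linearMap C L)
    exact Module.Finite.of_isLocalizedModule P'.primeCompl ((Algebra.linearMap C L).restrictScalars E)
  let X := LocalizedModule P1.primeCompl N1
  letI : Module EP X := Module.compHom X (algebraMap EP L)
  haveI : IsScalarTower EP L X := IsScalarTower.of_algebraMap_smul fun _ _ => rfl
  haveI : IsScalarTower E EP X := IsScalarTower.of_algebraMap_smul fun x m => by
    show algebraMap EP L (algebraMap E EP x) • m = x • m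
    rw [← IsScalarTower.algebraMap_apply E EP L, algebraMap_smul]
  haveI := isLocalizedModule_restrict P' P1 h1 hdiv (M := N1) (M' := X) (LocalizedModule.mkLinearMap P1.primeCompl N1)
  let eE := IsLocalizedModule.iso P'.primeCompl ((LocalizedModule.mkLinearMap P1.primeCompl N1).restrictScalars E)
  let eEP : LocalizedModule P'.primeCompl N1 ≃ₗ[EP] X := eE.extendScalarsOfIsLocalization P'.primeCompl EP
  have hext : HasFlatExt R EP (LocalizedModule P'.primeCompl N1) := fun a ha => by
    obtain ⟨R', _, _, _, hloc, hne, hpts⟩ := hflat a ha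
    exact ⟨R', _, _, _, hloc, hne, FlatPts.congr (N := X) (N' := LocalizedModule P'.primeCompl N1) eEP.symm (((hpts.baseChange (L := L)).congr e).restrict (B := EP))⟩
  haveI := IH R E P' hP' N1 hext
  haveI : Module.Flat R (L ⊗[TP] LocalizedModule Pb.primeCompl Q) :=
    Module.Flat.of_linearEquiv ((e.restrictScalars R).trans (eE.restrictScalars R).symm)
  exact flat_of_univInjective_map ((TensorProduct.mk TP L (LocalizedModule Pb.primeCompl Q) 1).restrictScalars R)
    fun M _ _ => rTensor_mk_injective M

/-- Flatness descends from enough local extensions, at points of the closed fibre over a henselian base. -/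
theorem descAt : ∀ d, DescAt.{u} d := by
  intro d
  induction d using Nat.strong_induction_on with
  | _ d IH => ?_
  intro R E _ _ _ _ _ _ _ P _ hP N _ _ _ _ _ hflat
  classical
  let A := MvPolynomial (Fin d) R
  haveI : Algebra.Smooth R A := ⟨inferInstance, inferInstance⟩
  haveI : Algebra.Smooth R E := Algebra.Smooth.comp R A E
  let B := Localization.AtPrime P
  haveI h𝔭 : ((maximalIdeal R).map (algebraMap R B)).IsPrime := isPrime_map_maximalIdeal P hP
  let p : Ideal E := ((maximalIdeal R).map (algebraMap R B)).comap (algebraMap E B)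
  haveI : p.IsPrime := Ideal.comap_isPrime _ _
  have hpP : p ≤ P := fun x hx => by
    by_contra hxP
    have hu : IsUnit (algebraMap E B x) := IsLocalization.map_units B (⟨x, hxP⟩ : P.primeCompl)
    have hx' : algebraMap E B x ∈ (maximalIdeal R).map (algebraMap R B) := hx
    exact h𝔭.ne_top (Ideal.eq_top_of_isUnit_mem _ hx' hu)
  have hmp : (maximalIdeal R).map (algebraMap R E) ≤ p := Ideal.map_le_iff_le_comap.2 fun r hr => by
    show algebraMap E B (algebraMap R E r) ∈ (maximalIdeal R).map (algebraMap R B)
    rw [← IsScalarTower.algebraMap_apply]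
    exact Ideal.mem_map_of_mem _ hr
  have hpR : p.comap (algebraMap R E) = maximalIdeal R :=
    le_antisymm ((Ideal.comap_mono hpP).trans hP.le) (Ideal.map_le_iff_le_comap.1 hmp)
  let Ep := Localization.AtPrime p
  let Np := LocalizedModule p.primeCompl N
  -- the maximal ideal at `p` is generated by the maximal ideal of the base
  have hmax : maximalIdeal Ep = (maximalIdeal R).map (algebraMap R Ep) := by
    refine le_antisymm (fun z hz => ?_) (Ideal.map_le_iff_le_comap.2 fun r hr => ?_)
    · obtain ⟨x, u, rfl⟩ := IsLocalization.exists_mk'_eq p.primeCompl z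
      have hx : x ∈ p := (IsLocalization.AtPrime.mk'_mem_maximal_iff Ep p x u).1 hz
      have hx' : algebraMap E B x ∈ ((maximalIdeal R).map (algebraMap R E)).map (algebraMap E B) := by
        rw [Ideal.map_map, ← IsScalarTower.algebraMap_eq]
        exact hx
      obtain ⟨t, ht, htx⟩ := (IsLocalization.algebraMap_mem_map_algebraMap_iff P.primeCompl B _ _).1 hx'
      rw [IsScalarTower.algebraMap_eq R E Ep, ← Ideal.map_map, IsLocalization.mk'_mem_map_algebraMap_iff p.primeCompl]
      exact ⟨t, fun h => ht (hpP h), htx⟩
    · rw [Ideal.mem_comap, IsScalarTower.algebraMap_apply R E Ep,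
        IsLocalization.AtPrime.to_map_mem_maximal_iff Ep p]
      exact hmp (Ideal.mem_map_of_mem _ hr)
  -- minimal generators at `p`
  haveI : Module.Finite Ep Np := Module.Finite.of_isLocalizedModule p.primeCompl (LocalizedModule.mkLinearMap p.primeCompl N)
  let ip : N →ₗ[E] Np := LocalizedModule.mkLinearMap p.primeCompl N
  have hex : ∃ c, ∃ a : Fin c → N, Submodule.span Ep (Set.range fun i => ip (a i)) = ⊤ := by
    obtain ⟨c, a, ha⟩ := Module.Finite.exists_fin (R := E) (M := N)
    refine ⟨c, a, ?_⟩
    rw [show (Set.range fun i => ip (a i)) = ip '' Set.range a from (Set.range_comp ip a)]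
    exact span_eq_top_of_isLocalizedModule Ep p.primeCompl ip ha
  set c := Nat.find hex with hc
  obtain ⟨a, ha⟩ := Nat.find_spec hex
  let α : (Fin c → Ep) →ₗ[Ep] Np := Fintype.linearCombination Ep fun i => ip (a i)
  have hα : Function.Surjective α := by
    rw [← LinearMap.range_eq_top, Fintype.range_linearCombination]
    exact ha
  have hK : ∀ x, α x = 0 → x ∈ maximalIdeal R • (⊤ : Submodule R (Fin c → Ep)) := by
    intro x hx
    have hxi : ∀ i, x i ∈ maximalIdeal Ep := by
      by_contra hne
      push Not at hne
      obtain ⟨i, hi⟩ := hne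
      have hu : IsUnit (x i) := IsLocalRing.notMem_maximalIdeal.1 hi
      obtain ⟨c', hc'⟩ : ∃ c', c = c' + 1 := ⟨c - 1, by have := i.2; omega⟩
      refine Nat.find_min hex (m := c') (by omega) ⟨fun j => a (Fin.cast hc'.symm ((Fin.cast hc' i).succAbove j)), ?_⟩
      refine eq_top_iff.2 (ha.ge.trans (Submodule.span_le.2 ?_))
      rintro _ ⟨j, rfl⟩
      set S0 := Submodule.span Ep (Set.range fun j => ip (a (Fin.cast hc'.symm ((Fin.cast hc' i).succAbove j))))
      have hother : ∀ k, k ≠ i → ip (a k) ∈ S0 := fun k hk => by
        obtain ⟨l, hl⟩ := Fin.exists_succAbove_eq (x := Fin.cast hc' k) (y := Fin.cast hc' i)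
          (fun h => hk (Fin.cast_injective _ h))
        refine Submodule.subset_span ⟨l, ?_⟩
        show ip (a (Fin.cast hc'.symm ((Fin.cast hc' i).succAbove l))) = _
        rw [hl]
        rfl
      by_cases hj : j = i
      · subst hj
        have hsum : x j • ip (a j) = - ∑ k ∈ Finset.univ.erase j, x k • ip (a k) := by
          rw [eq_neg_iff_add_eq_zero, Finset.add_sum_erase _ (fun k => x k • ip (a k)) (Finset.mem_univ j)]
          exact hx
        have hmem : x j • ip (a j) ∈ S0 := hsum ▸ neg_mem (sum_mem fun k hk =>
          S0.smul_mem _ (hother k (Finset.ne_of_mem_erase hk)))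
        exact (S0.smul_mem_iff_of_isUnit hu).1 hmem
      · exact hother j hj
    rw [← Finset.univ_sum_single x]
    refine sum_mem fun i _ => ?_
    have hi := hxi i
    rw [hmax] at hi
    have hi' : x i ∈ maximalIdeal R • (⊤ : Submodule R Ep) := by
      rw [Ideal.smul_top_eq_map]
      exact hi
    exact Submodule.smul_top_le_comap_smul_top _ (LinearMap.single R (fun _ : Fin c => Ep) i) hi'
  let NP := LocalizedModule P.primeCompl N
  let iP : N →ₗ[E] NP := LocalizedModule.mkLinearMap P.primeCompl N
  let β : (Fin c → E) →ₗ[E] N := Fintype.linearCombination E a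
  have hβp : ∀ x : Fin c → E, α (fun i => algebraMap E Ep (x i)) = ip (β x) := fun x => by
    simp [α, β, Fintype.linearCombination_apply, map_sum, map_smul]
  let Q := N ⧸ LinearMap.range β
  let iQ := LocalizedModule.mkLinearMap P.primeCompl Q
  let βB : (Fin c → B) →ₗ[B] NP := Fintype.linearCombination B fun i => iP (a i)
  have hβB : ∀ x : Fin c → E, βB (fun i => algebraMap E B (x i)) = iP (β x) := fun x => by
    simp [βB, β, Fintype.linearCombination_apply, map_sum, map_smul]
  haveI : IsLocalHom (algebraMap R B) := ⟨fun r hr => by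
    by_contra h
    rw [IsScalarTower.algebraMap_apply R E B, IsLocalization.AtPrime.isUnit_to_map_iff B P] at hr
    exact hr (show r ∈ P.comap (algebraMap R E) from hP.ge ((IsLocalRing.mem_maximalIdeal r).2 h))⟩
  haveI : Module.Flat R E := Module.Flat.trans R A E
  haveI : Module.Flat E B := IsLocalization.flat B P.primeCompl
  haveI : Module.Flat R B := Module.Flat.trans R E B
  haveI : Algebra.EssFiniteType R B := Algebra.EssFiniteType.comp R E B
  -- injectivity on the closed fibre
  let ib : (Fin c → E) →ₗ[E] Fin c → B := LinearMap.pi fun i => (Algebra.linearMap E B).comp (LinearMap.proj i)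
  have hfib : ∀ x : Fin c → B, βB x ∈ maximalIdeal R • (⊤ : Submodule R NP) →
      x ∈ maximalIdeal R • (⊤ : Submodule R (Fin c → B)) := by
    intro x hx
    obtain ⟨⟨x0, u⟩, hxu⟩ := IsLocalizedModule.surj P.primeCompl ib x
    have h0 : iP (β x0) ∈ maximalIdeal R • (⊤ : Submodule R NP) := by
      rw [← hβB]
      show βB (ib x0) ∈ _
      rw [← hxu, Submonoid.smul_def, ← algebraMap_smul B (u : E) x, map_smul, algebraMap_smul]
      exact Submodule.smul_top_le_comap_smul_top _ ((LinearMap.lsmul E NP (u : E)).restrictScalars R) hx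
    let η : NP →ₗ[E] Np := IsLocalizedModule.lift P.primeCompl iP ip fun s =>
      IsLocalizedModule.map_units ip (⟨s, fun h => s.2 (hpP h)⟩ : p.primeCompl)
    have h1 : ip (β x0) ∈ maximalIdeal R • (⊤ : Submodule R Np) := by
      have := Submodule.smul_top_le_comap_smul_top (maximalIdeal R) (η.restrictScalars R) h0
      rwa [Submodule.mem_comap, LinearMap.restrictScalars_apply, IsLocalizedModule.lift_apply] at this
    rw [← hβp] at h1
    have hle : maximalIdeal R • (⊤ : Submodule R Np) ≤
        (maximalIdeal R • (⊤ : Submodule R (Fin c → Ep))).map (α.restrictScalars R) := by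
      rw [Submodule.map_smul'', Submodule.map_top,
        LinearMap.range_eq_top.2 (show Function.Surjective (α.restrictScalars R) from hα)]
    obtain ⟨w, hw, hwx⟩ := Submodule.mem_map.1 (hle h1)
    have hw' : (fun i => algebraMap E Ep (x0 i)) ∈ maximalIdeal R • (⊤ : Submodule R (Fin c → Ep)) := by
      have h := add_mem (hK ((fun i => algebraMap E Ep (x0 i)) - w)
        (by rw [map_sub]; exact sub_eq_zero.2 hwx.symm)) hw
      rwa [sub_add_cancel] at h
    have hcoord : ∀ i, algebraMap E B (x0 i) ∈ (maximalIdeal R).map (algebraMap R B) := by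
      intro i
      have hi := Submodule.smul_top_le_comap_smul_top _ (LinearMap.proj i : (Fin c → Ep) →ₗ[R] Ep) hw'
      rw [Submodule.mem_comap, Ideal.smul_top_eq_map, Submodule.restrictScalars_mem,
        IsScalarTower.algebraMap_eq R E Ep, ← Ideal.map_map] at hi
      obtain ⟨s, hs, hsx⟩ := (IsLocalization.algebraMap_mem_map_algebraMap_iff p.primeCompl Ep _ _).1 hi
      refine mem_map_of_mul_mem_map P hP (s := s) (fun h => hs h) _ ?_
      rw [← map_mul, IsScalarTower.algebraMap_eq R E B, ← Ideal.map_map]
      exact Ideal.mem_map_of_mem (algebraMap E B) hsx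
    rw [← Finset.univ_sum_single x]
    refine sum_mem fun i _ => ?_
    have hxi : x i ∈ maximalIdeal R • (⊤ : Submodule R B) := by
      rw [Ideal.smul_top_eq_map, Submodule.restrictScalars_mem]
      have hxu' : algebraMap E B (u : E) * x i = algebraMap E B (x0 i) := by
        have := congrFun hxu i
        simpa [ib, Submonoid.smul_def, Algebra.smul_def] using this
      have := hcoord i
      rw [← hxu'] at this
      exact (Submodule.smul_mem_iff_of_isUnit _ (IsLocalization.map_units B u)).1 (by rw [smul_eq_mul]; exact this)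
    exact Submodule.smul_top_le_comap_smul_top _ (LinearMap.single R (fun _ : Fin c => B) i) hxi
  have hβk : Function.Injective ((βB.restrictScalars R).lTensor (ResidueField R)) := by
    rw [injective_iff_map_eq_zero]
    intro w hw
    obtain ⟨z, hz⟩ := exists_tmul_one (maximalIdeal R) (TensorProduct.comm R _ _ w)
    obtain rfl : (1 : ResidueField R) ⊗ₜ[R] z = w :=
      (TensorProduct.comm R _ _).injective (by rw [TensorProduct.comm_tmul]; exact hz)
    rw [LinearMap.lTensor_tmul] at hw
    apply (TensorProduct.comm R _ _).injective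
    rw [map_zero, TensorProduct.comm_tmul]
    exact (tmul_one_eq_zero_iff (maximalIdeal R) z).2 (hfib z ((tmul_one_eq_zero_iff (maximalIdeal R) _).1
      ((TensorProduct.comm R (ResidueField R) NP).injective.eq_iff.2 hw)))
  -- injectivity
  have hβinj : Function.Injective βB := by
    rw [injective_iff_map_eq_zero]
    intro x hx
    funext i
    have hml : CAlg.IsMittagLeffler R B :=
      ml_of_equiv ((IsLocalizedModule.iso P.primeCompl (Algebra.linearMap E B)).restrictScalars R).symm
        (ml_etale (d := d) P hP)
    obtain ⟨J, hJ, hxJ, hmin⟩ := exists_content hml (x i)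
    suffices hJ0 : J = ⊥ by simpa [hJ0] using hxJ
    by_contra hne
    obtain ⟨r, hr, hr0⟩ := Submodule.exists_mem_ne_zero_of_ne_bot hne
    obtain ⟨R', _, _, _, _, hr', hpts⟩ := hflat r hr0
    have h0 := map_content_eq_bot (R' := R') J hJ (x i) hxJ hmin fun q _ hq => (hpts.coker βB hβk).2 x hx q hq i
    exact hr' ((Submodule.mem_bot R').1 (h0 ▸ Ideal.mem_map_of_mem _ hr))
  have hQJ : HasFlatExt R B (NP ⧸ LinearMap.range βB) := fun r hr => by
    obtain ⟨R', _, _, _, hloc, hne, hpts⟩ := hflat r hr
    exact ⟨R', _, _, _, hloc, hne, (hpts.coker βB hβk).1⟩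
  -- the cokernel vanishes at `p`
  obtain ⟨s, hsp, hsQ⟩ : ∃ s ∉ p, ∀ y : Q, s • y = 0 := by
    have hloc : ∀ n : N, ∃ s ∉ p, s • (LinearMap.range β).mkQ n = 0 := by
      intro n
      obtain ⟨x, hx⟩ := hα (ip n)
      obtain ⟨⟨x0, u⟩, hxu⟩ := IsLocalizedModule.surj p.primeCompl
        (LinearMap.pi fun i => (Algebra.linearMap E Ep).comp (LinearMap.proj i) : (Fin c → E) →ₗ[E] Fin c → Ep) x
      have h1 : ip (u • n - β x0) = 0 := by
        rw [map_sub, LinearMap.map_smul_of_tower, ← hx, ← hβp, Submonoid.smul_def,
          ← LinearMap.map_smul_of_tower, ← Submonoid.smul_def, hxu, sub_eq_zero]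
        rfl
      obtain ⟨w, hw⟩ := (IsLocalizedModule.eq_zero_iff p.primeCompl ip).1 h1
      refine ⟨w * u, fun h => (‹p.IsPrime›.mem_or_mem h).elim w.2 u.2, ?_⟩
      rw [← map_smul, Submodule.mkQ_apply, Submodule.Quotient.mk_eq_zero, mul_smul]
      rw [Submonoid.smul_def, smul_sub, sub_eq_zero] at hw
      rw [← Submonoid.smul_def u n, hw, ← map_smul]
      exact LinearMap.mem_range_self _ _
    obtain ⟨G, hG⟩ := Module.Finite.fg_top (R := E) (M := N)
    choose sf hsf hsf0 using hloc
    refine ⟨∏ n ∈ G, sf n, fun h => ?_, fun y => ?_⟩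
    · obtain ⟨n, -, hn⟩ := ‹p.IsPrime›.prod_mem_iff.1 h
      exact hsf n hn
    · obtain ⟨n, rfl⟩ := Submodule.mkQ_surjective _ y
      have hle : (⊤ : Submodule E N) ≤ LinearMap.ker ((LinearMap.lsmul E Q (∏ n ∈ G, sf n)).comp (LinearMap.range β).mkQ) := by
        rw [← hG, Submodule.span_le]
        intro m hm
        show (∏ n ∈ G, sf n) • (LinearMap.range β).mkQ m = 0
        rw [← Finset.prod_erase_mul _ _ hm, mul_smul, hsf0, smul_zero]
      exact hle Submodule.mem_top
  let πP : NP →ₗ[B] LocalizedModule P.primeCompl Q :=
    (IsLocalizedModule.map P.primeCompl iP iQ (LinearMap.range β).mkQ).extendScalarsOfIsLocalization P.primeCompl B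
  have hπs : Function.Surjective πP :=
    IsLocalizedModule.map_surjective P.primeCompl iP iQ _ (Submodule.mkQ_surjective _)
  have hker : LinearMap.ker πP = LinearMap.range βB := by
    apply le_antisymm
    · intro z hz
      obtain ⟨⟨n, u⟩, hnu⟩ := IsLocalizedModule.surj P.primeCompl iP z
      have h1 : iQ ((LinearMap.range β).mkQ n) = 0 := by
        rw [← IsLocalizedModule.map_apply P.primeCompl iP iQ, ← hnu, Submonoid.smul_def, map_smul]
        rw [show IsLocalizedModule.map P.primeCompl iP iQ (LinearMap.range β).mkQ z = 0 from hz, smul_zero]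
      obtain ⟨t, ht⟩ := (IsLocalizedModule.eq_zero_iff P.primeCompl iQ).1 h1
      rw [Submonoid.smul_def, ← map_smul, Submodule.mkQ_apply, Submodule.Quotient.mk_eq_zero] at ht
      obtain ⟨x, hx⟩ := ht
      have hu : IsUnit (algebraMap E B ((t : E) * u)) := IsLocalization.map_units B (t * u)
      refine (Submodule.smul_mem_iff_of_isUnit _ hu).1 ⟨fun i => algebraMap E B (x i), ?_⟩
      rw [hβB, hx, map_smul, ← hnu, algebraMap_smul, mul_smul, Submonoid.smul_def]
    · rintro _ ⟨x, rfl⟩
      rw [LinearMap.mem_ker, show βB x = ∑ i, x i • iP (a i) from Fintype.linearCombination_apply B _ x, map_sum]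
      refine Finset.sum_eq_zero fun i _ => ?_
      rw [map_smul, show πP (iP (a i)) = iQ ((LinearMap.range β).mkQ (a i)) from IsLocalizedModule.map_apply _ _ _ _ _,
        Submodule.mkQ_apply, (Submodule.Quotient.mk_eq_zero (LinearMap.range β)).2 (LinearMap.mem_range.2 ⟨Pi.single i 1, by
          simp [β, Fintype.linearCombination_apply_single]⟩), map_zero, smul_zero]
  let eNQ : (NP ⧸ LinearMap.range βB) ≃ₗ[B] LocalizedModule P.primeCompl Q :=
    (Submodule.quotEquivOfEq _ _ hker.symm).trans (πP.quotKerEquivOfSurjective hπs)
  haveI : Module.Flat R (LocalizedModule P.primeCompl Q) := by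
    by_cases hsP : s ∈ P
    · obtain ⟨d', hd', θ, hθ⟩ := exists_cut (d := d) P hP s hsP hsp
      let T := E ⧸ Ideal.span {s}
      letI : Algebra (MvPolynomial (Fin d') R) T := θ.toRingHom.toAlgebra
      haveI : IsScalarTower R (MvPolynomial (Fin d') R) T := IsScalarTower.of_algebraMap_eq fun r => (θ.commutes r).symm
      haveI : Algebra.FiniteType R T :=
        haveI : Algebra.FiniteType R E := Algebra.FiniteType.trans (inferInstance : Algebra.FiniteType R A) inferInstance
        inferInstance
      have hann : Module.IsTorsionBySet E Q (Ideal.span {s} : Ideal E) := by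
        rintro y ⟨z, hz⟩
        obtain ⟨w, rfl⟩ := Ideal.mem_span_singleton'.1 hz
        show (w * s) • y = 0
        rw [mul_smul, hsQ, smul_zero]
      letI : Module T Q := hann.module
      haveI : IsScalarTower E T Q := hann.isScalarTower
      haveI : IsScalarTower R T Q := hann.isScalarTower
      let Pb : Ideal T := P.map (Ideal.Quotient.mk (Ideal.span {s}))
      have hle : Ideal.span {s} ≤ P := (Ideal.span_singleton_le_iff_mem _).2 hsP
      haveI : Pb.IsPrime := Ideal.map_isPrime_of_surjective Ideal.Quotient.mk_surjective (by rwa [Ideal.mk_ker])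
      have hPbP : Pb.comap (algebraMap E T) = P := by
        show (P.map (Ideal.Quotient.mk (Ideal.span {s}))).comap (Ideal.Quotient.mk _) = P
        rw [Ideal.comap_map_of_surjective _ Ideal.Quotient.mk_surjective, ← RingHom.ker_eq_comap_bot, Ideal.mk_ker]
        exact sup_eq_left.2 hle
      haveI := hθ Pb hPbP
      have hPbR : Pb.comap (algebraMap R T) = maximalIdeal R := by
        rw [IsScalarTower.algebraMap_eq R E T, ← Ideal.comap_comap, hPbP, hP]
      have hdiv : ∀ z ∉ Pb, ∃ u ∉ P, ∃ z', z * z' = algebraMap E T u := fun z hz => by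
        obtain ⟨u, rfl⟩ := Ideal.Quotient.mk_surjective z
        exact ⟨u, fun h => hz (Ideal.mem_map_of_mem _ h), 1, mul_one _⟩
      haveI := isLocalizedModule_restrict P Pb hPbP hdiv (LocalizedModule.mkLinearMap Pb.primeCompl Q)
      let eQ := (IsLocalizedModule.iso P.primeCompl
        ((LocalizedModule.mkLinearMap Pb.primeCompl Q).restrictScalars E)).restrictScalars R
      haveI := isLocalizedModule_restrict P Pb hPbP hdiv (LocalizedModule.mkLinearMap Pb.primeCompl Q)
      let eQ := IsLocalizedModule.iso P.primeCompl ((LocalizedModule.mkLinearMap Pb.primeCompl Q).restrictScalars E)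
      let TP := Localization.AtPrime Pb
      letI : Algebra B TP := (Localization.localRingHom P Pb (algebraMap E T) hPbP.symm).toAlgebra
      haveI : IsLocalHom (algebraMap B TP) := Localization.isLocalHom_localRingHom P Pb (algebraMap E T) hPbP.symm
      haveI : IsScalarTower E B TP := IsScalarTower.of_algebraMap_eq fun x => by
        show _ = Localization.localRingHom P Pb (algebraMap E T) hPbP.symm (algebraMap E B x)
        rw [Localization.localRingHom_to_map, ← IsScalarTower.algebraMap_apply]
      haveI : IsScalarTower R B TP := IsScalarTower.of_algebraMap_eq fun x => by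
        rw [IsScalarTower.algebraMap_apply R E B, ← IsScalarTower.algebraMap_apply E B TP,
          ← IsScalarTower.algebraMap_apply R E TP]
      have hsurj : Function.Surjective (algebraMap B TP) := fun z => by
        obtain ⟨x, v, rfl⟩ := IsLocalization.exists_mk'_eq Pb.primeCompl z
        obtain ⟨x, rfl⟩ := Ideal.Quotient.mk_surjective x
        obtain ⟨v', hv'⟩ := Ideal.Quotient.mk_surjective (v : T)
        have hv'P : v' ∈ P.primeCompl := fun h => v.2 (hv' ▸ Ideal.mem_map_of_mem _ h)
        refine ⟨IsLocalization.mk' B x ⟨v', hv'P⟩, ?_⟩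
        rw [eq_comm, IsLocalization.mk'_eq_iff_eq_mul, ← hv']
        show algebraMap T TP (algebraMap E T x) = _ * algebraMap T TP (algebraMap E T v')
        rw [← IsScalarTower.algebraMap_apply E T TP, ← IsScalarTower.algebraMap_apply E T TP,
          IsScalarTower.algebraMap_apply E B TP x, IsScalarTower.algebraMap_apply E B TP v', ← map_mul,
          IsLocalization.mk'_spec B x ⟨v', hv'P⟩]
      let X := LocalizedModule Pb.primeCompl Q
      letI : Module B X := Module.compHom X (algebraMap B TP)
      haveI : IsScalarTower B TP X := IsScalarTower.of_algebraMap_smul fun _ _ => rfl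
      haveI : IsScalarTower E B X := IsScalarTower.of_algebraMap_smul fun x m => by
        show algebraMap B TP (algebraMap E B x) • m = x • m
        rw [← IsScalarTower.algebraMap_apply E B TP, algebraMap_smul]
      let eBQ : LocalizedModule P.primeCompl Q ≃ₗ[B] X := eQ.extendScalarsOfIsLocalization P.primeCompl B
      haveI : Module.Finite T Q := Module.Finite.of_restrictScalars_finite E T Q
      haveI : Module.Finite B TP := Module.Finite.of_surjective (Algebra.linearMap B TP) hsurj
      have hext : HasFlatExt R TP X := fun r hr => by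
        obtain ⟨R', _, _, _, hloc, hne, hpts⟩ := hQJ r hr
        exact ⟨R', _, _, _, hloc, hne, ((hpts.congr (eNQ.trans eBQ)).baseChange_surjective hsurj)⟩
      haveI := desc_step (IH d' hd') Pb hPbR Q hext
      exact Module.Flat.of_linearEquiv (eQ.restrictScalars R)
    · haveI : Subsingleton (LocalizedModule P.primeCompl Q) :=
        LocalizedModule.subsingleton_iff.2 fun y => ⟨s, hsP, hsQ y⟩
      exact Module.Flat.of_linearEquiv (LinearEquiv.ofSubsingleton (R := R) _ (PUnit.{u+1}))
  haveI : Module.Flat R (NP ⧸ LinearMap.range βB) := Module.Flat.of_linearEquiv (eNQ.restrictScalars R)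
  haveI : Module.Flat R (Fin c → B) := Module.Flat.trans R B (Fin c → B)
  exact flat_of_flat_ends (βB.restrictScalars R) ((LinearMap.range βB).mkQ.restrictScalars R)
    (LinearMap.exact_map_mkQ_range βB) (Submodule.mkQ_surjective _) hβinj

end Groth.Agent.H4RG
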