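import Groth.Agent.H4RG.DescentTools
import Mathlib

/-! Finitely presented algebras and modules over a directed colimit come from a stage. -/

set_option autoImplicit false
set_option linter.style.haveILetI false
set_option backward.isDefEq.respectTransparency.types false

universe u

open TensorProduct

namespace Groth.Agent.H4RG

attribute [local instance] Algebra.TensorProduct.rightAlgebra

/-- Moving a model of an algebra and a module to a later stage. -/
theorem exists_rebase {A₀ Gl A B₀ B N₀ N : Type u} [CommRing A₀] [CommRing Gl] [Algebra A₀ Gl] [CommRing A]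
    [Algebra A₀ A] [Algebra Gl A] [IsScalarTower A₀ Gl A] [CommRing B₀] [Algebra A₀ B₀] [CommRing B] [Algebra A B]
    [Algebra B₀ B] [Algebra A₀ B] [IsScalarTower A₀ B₀ B] [IsScalarTower A₀ A B] [hp : Algebra.IsPushout A₀ B₀ A B]
    [Algebra Gl B] [IsScalarTower Gl A B]
    [AddCommGroup N₀] [Module B₀ N₀] [AddCommGroup N] [Module B N] [Module B₀ N] [IsScalarTower B₀ B N]
    (f₀ : N₀ →ₗ[B₀] N) (hf₀ : IsBaseChange B f₀) :
    ∃ (_ : Algebra (Gl ⊗[A₀] B₀) B) (_ : IsScalarTower Gl (Gl ⊗[A₀] B₀) B)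
      (_ : IsScalarTower B₀ (Gl ⊗[A₀] B₀) B) (_ : Module (Gl ⊗[A₀] B₀) N)
      (_ : IsScalarTower (Gl ⊗[A₀] B₀) B N)
      (f : (Gl ⊗[A₀] B₀) ⊗[B₀] N₀ →ₗ[Gl ⊗[A₀] B₀] N),
      Algebra.IsPushout Gl (Gl ⊗[A₀] B₀) A B ∧ IsBaseChange B f := by
  haveI : IsScalarTower A₀ Gl B := IsScalarTower.of_algebraMap_eq fun x => by
    rw [IsScalarTower.algebraMap_apply Gl A B, ← IsScalarTower.algebraMap_apply A₀ Gl A, ← IsScalarTower.algebraMap_apply A₀ A B]
  let Bl := Gl ⊗[A₀] B₀
  let θ : Bl →ₐ[A₀] B := Algebra.TensorProduct.lift (IsScalarTower.toAlgHom A₀ Gl B) (IsScalarTower.toAlgHom A₀ B₀ B)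
    fun _ _ => .all _ _
  letI : Algebra Bl B := θ.toRingHom.toAlgebra
  haveI : IsScalarTower A₀ Bl B := IsScalarTower.of_algebraMap_eq fun r => (θ.commutes r).symm
  haveI : IsScalarTower Gl Bl B := IsScalarTower.of_algebraMap_eq fun a => by
    show _ = θ (a ⊗ₜ[A₀] (1 : B₀))
    rw [Algebra.TensorProduct.lift_tmul, map_one, mul_one]
    rfl
  haveI : IsScalarTower B₀ Bl B := IsScalarTower.of_algebraMap_eq fun b => by
    show _ = θ ((1 : Gl) ⊗ₜ[A₀] b)
    rw [Algebra.TensorProduct.lift_tmul, map_one, one_mul]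
    rfl
  haveI : Algebra.IsPushout A₀ A B₀ B := Algebra.IsPushout.symm hp
  haveI : Algebra.IsPushout A₀ Gl B₀ Bl := inferInstance
  haveI : Algebra.IsPushout Gl A Bl B :=
    (Algebra.IsPushout.comp_iff (R := A₀) (S := Gl) (T := A) (R' := B₀) (S' := Bl) (T' := B)).1 inferInstance
  letI : Module Bl N := Module.compHom N (algebraMap Bl B)
  haveI : IsScalarTower Bl B N := IsScalarTower.of_algebraMap_smul fun _ _ => rfl
  haveI : IsScalarTower B₀ Bl N := IsScalarTower.of_algebraMap_smul fun b y => by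
    show algebraMap Bl B (algebraMap B₀ Bl b) • y = b • y
    rw [← IsScalarTower.algebraMap_apply, algebraMap_smul]
  let f := (TensorProduct.isBaseChange B₀ N₀ Bl).lift f₀
  refine ⟨inferInstance, inferInstance, inferInstance, inferInstance, inferInstance, f,
    Algebra.IsPushout.symm inferInstance, ((TensorProduct.isBaseChange B₀ N₀ Bl).comp_iff (T := B) (h := f)).1 ?_⟩
  rw [show (f.restrictScalars B₀) ∘ₗ (TensorProduct.mk B₀ Bl N₀ 1) = f₀ from
    LinearMap.ext fun n => (TensorProduct.isBaseChange B₀ N₀ Bl).lift_eq f₀ n]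
  exact hf₀

/-- The module of a later stage has the same tensor products. -/
theorem flat_rebase {A₀ Gl B₀ N₀ R : Type u} [CommRing A₀] [CommRing Gl] [Algebra A₀ Gl] [CommRing B₀] [Algebra A₀ B₀]
    [AddCommGroup N₀] [Module B₀ N₀] [Module A₀ N₀] [IsScalarTower A₀ B₀ N₀] [CommRing R] [Algebra A₀ R] [Algebra Gl R]
    [IsScalarTower A₀ Gl R] [Module.Flat R (R ⊗[A₀] N₀)] :
    Module.Flat R (R ⊗[Gl] ((Gl ⊗[A₀] B₀) ⊗[B₀] N₀)) := by
  let Bl := Gl ⊗[A₀] B₀
  let Nl := Bl ⊗[B₀] N₀
  haveI : Algebra.IsPushout A₀ Gl B₀ Bl := inferInstance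
  have h := isBaseChange_restrict_pushout (A₀ := A₀) (A₁ := Gl) (B₁ := Bl) (TensorProduct.mk B₀ Bl N₀ 1)
    (TensorProduct.isBaseChange B₀ N₀ Bl)
  exact Module.Flat.of_linearEquiv (h.comp (TensorProduct.isBaseChange Gl Nl R)).equiv.symm

/-- A module presented by vectors with entries from a smaller ring is a base change. -/
theorem exists_module_model {T B N : Type u} [CommRing T] [CommRing B] [Algebra T B] [AddCommGroup N] [Module B N]
    [Module T N] [IsScalarTower T B N] {a : ℕ} (π : (Fin a → B) →ₗ[B] N) (hπ : Function.Surjective π)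
    (S : Finset (Fin a → B)) (hS : Submodule.span B ↑S = LinearMap.ker π)
    (hlift : ∀ v ∈ S, ∀ k, ∃ x : T, algebraMap T B x = v k) :
    ∃ (N₁ : Type u) (_ : AddCommGroup N₁) (_ : Module T N₁) (f₁ : N₁ →ₗ[T] N),
      Module.FinitePresentation T N₁ ∧ IsBaseChange B f₁ := by
  classical
  choose! lv hlv using hlift
  let K : Submodule T (Fin a → T) := Submodule.span T (lv '' ↑S)
  let N₁ := (Fin a → T) ⧸ K
  have hK : K.FG := Submodule.fg_span (S.finite_toSet.image _)
  haveI : Module.FinitePresentation T N₁ := Module.finitePresentation_of_surjective K.mkQ K.mkQ_surjective (by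
    rw [Submodule.ker_mkQ]; exact hK)
  let L : (Fin a → T) →ₗ[T] (Fin a → B) := (Algebra.linearMap T B).compLeft (Fin a)
  have hLv : ∀ v ∈ S, L (lv v) = v := fun v hv => funext fun k => hlv v hv k
  have hKle : K ≤ LinearMap.ker ((π.restrictScalars T) ∘ₗ L) := Submodule.span_le.2 fun x hx => by
    obtain ⟨v, hv, rfl⟩ := hx
    show π (L (lv v)) = 0
    rw [hLv v hv]
    exact LinearMap.mem_ker.1 (hS.le (Submodule.subset_span hv))
  let f₁ : N₁ →ₗ[T] N := K.liftQ _ hKle
  let E : (Fin a → B) →ₗ[B] B ⊗[T] N₁ := Fintype.linearCombination B fun k => (1 : B) ⊗ₜ[T] K.mkQ (Pi.single k 1)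
  have hE : ∀ x : Fin a → T, E (L x) = (1 : B) ⊗ₜ[T] K.mkQ x := fun x => by
    conv_rhs => rw [pi_eq_sum_univ' x, map_sum, tmul_sum]
    rw [Fintype.linearCombination_apply]
    refine Finset.sum_congr rfl fun k _ => ?_
    show algebraMap T B (x k) • _ = _
    rw [algebraMap_smul, ← tmul_smul, ← map_smul]
  have hEker : LinearMap.ker π ≤ LinearMap.ker E := by
    rw [← hS, Submodule.span_le]
    intro v hv
    show E v = 0
    rw [← hLv v hv, hE, show K.mkQ (lv v) = 0 from
      (Submodule.Quotient.mk_eq_zero K).2 (Submodule.subset_span ⟨v, hv, rfl⟩), tmul_zero]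
  let inv : N →ₗ[B] B ⊗[T] N₁ := ((LinearMap.ker π).liftQ E hEker).comp (π.quotKerEquivOfSurjective hπ).symm.toLinearMap
  have hinv : ∀ x, inv (π x) = E x := fun x => by
    show (LinearMap.ker π).liftQ E hEker ((π.quotKerEquivOfSurjective hπ).symm (π x)) = E x
    rw [show (π.quotKerEquivOfSurjective hπ).symm (π x) = Submodule.Quotient.mk x from by
      rw [LinearEquiv.symm_apply_eq]; rfl, Submodule.liftQ_apply]
  have hf₁ : IsBaseChange B f₁ := by
    let F := f₁.liftBaseChange B
    have h1 : ∀ n : N₁, inv (f₁ n) = (1 : B) ⊗ₜ[T] n := fun n => by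
      obtain ⟨x, rfl⟩ := K.mkQ_surjective n
      rw [show f₁ (K.mkQ x) = π (L x) from rfl, hinv, hE]
    have h2 : F.comp inv = LinearMap.id := by
      refine LinearMap.ext fun y => ?_
      obtain ⟨x, rfl⟩ := hπ y
      have hFE : F.comp E = π := by
        refine LinearMap.pi_ext' fun k => LinearMap.ext_ring ?_
        show F (E (Pi.single k 1)) = π (Pi.single k 1)
        rw [Fintype.linearCombination_apply_single, one_smul]
        show f₁.liftBaseChange B ((1 : B) ⊗ₜ[T] K.mkQ (Pi.single k 1)) = π (Pi.single k 1)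
        rw [LinearMap.liftBaseChange_tmul, one_smul]
        show π (L (Pi.single k 1)) = π (Pi.single k 1)
        congr 1
        funext l
        simp [L, Pi.single_apply, apply_ite (algebraMap T B)]
      rw [LinearMap.comp_apply, hinv]
      exact LinearMap.congr_fun hFE x
    refine IsBaseChange.of_equiv (LinearEquiv.ofLinear F inv h2 ?_) fun n => by
      show F ((1 : B) ⊗ₜ[T] n) = f₁ n
      rw [LinearMap.liftBaseChange_tmul, one_smul]
    refine LinearMap.ext fun z => ?_
    rw [LinearMap.comp_apply, LinearMap.id_apply]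
    induction z using TensorProduct.induction_on with
    | zero => simp
    | add p q hp hq => rw [map_add, map_add, hp, hq]
    | tmul c n => rw [LinearMap.liftBaseChange_tmul, map_smul, h1, smul_tmul', smul_eq_mul, mul_one]
  exact ⟨N₁, inferInstance, inferInstance, f₁, inferInstance, hf₁⟩

/-- A finitely presented module over a base change from a stage comes from a later stage. -/
theorem exists_colim_model_of_algebra {ι : Type u} [Preorder ι] {G : ι → Type u} [∀ i, CommRing (G i)]
    {g : ∀ i j, i ≤ j → G i →+* G j} {A : Type u} [CommRing A] [∀ i, Algebra (G i) A]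
    (hcolim : FlatCA.IsDirectedColimitRing G g A) {B : Type u} [CommRing B] [Algebra A B]
    [∀ i, Algebra (G i) B] [∀ i, IsScalarTower (G i) A B]
    (N : Type u) [AddCommGroup N] [Module B N] [Module.FinitePresentation B N] (i : ι)
    (M : Type u) [CommRing M] [Algebra (G i) M] [Algebra.FinitePresentation (G i) M] [Algebra M B]
    [IsScalarTower (G i) M B] [hpM : Algebra.IsPushout (G i) A M B] :
    ∃ (l : ι) (B₀ N₀ : Type u) (_ : CommRing B₀) (_ : Algebra (G l) B₀) (_ : Algebra B₀ B)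
      (_ : IsScalarTower (G l) B₀ B) (_ : AddCommGroup N₀) (_ : Module B₀ N₀) (_ : Module (G l) N₀)
      (_ : IsScalarTower (G l) B₀ N₀) (_ : Module B₀ N) (_ : IsScalarTower B₀ B N) (f₀ : N₀ →ₗ[B₀] N),
      i ≤ l ∧ Algebra.FinitePresentation (G l) B₀ ∧ Algebra.IsPushout (G l) B₀ A B ∧
      Module.FinitePresentation B₀ N₀ ∧ IsBaseChange B f₀ := by
  classical
  let e : A ⊗[G i] M ≃ₐ[A] B := Algebra.IsPushout.equiv (G i) A M B
  let ψ : M →ₐ[G i] B := IsScalarTower.toAlgHom (G i) M B
  have heψ : ∀ m, e ((1 : A) ⊗ₜ[G i] m) = ψ m := fun m => by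
    simp [e, ψ, Algebra.IsPushout.equiv_tmul]
  obtain ⟨a, π, hπ⟩ := Module.Finite.exists_fin' B N
  obtain ⟨S, hS⟩ := Module.FinitePresentation.fg_ker π hπ
  obtain ⟨alg', tow', g', -, -, hcolim'⟩ := exists_tail hcolim i
  obtain ⟨algX, -, -, halgX, hcolimX⟩ := exists_baseChange_system g' A hcolim' M
  obtain ⟨j, -, hj⟩ := exists_stage_finset hcolimX (S.biUnion fun v => Finset.univ.image fun k => e.symm (v k))
    ⟨i, le_rfl⟩
  haveI : IsScalarTower (G i) (G j.1) B := IsScalarTower.of_algebraMap_eq fun x => by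
    rw [IsScalarTower.algebraMap_apply (G j.1) A B, ← IsScalarTower.algebraMap_apply (G i) (G j.1) A,
      ← IsScalarTower.algebraMap_apply (G i) A B]
  let Bj := G j.1 ⊗[G i] M
  let θ : Bj →ₐ[G i] B := Algebra.TensorProduct.lift (IsScalarTower.toAlgHom (G i) (G j.1) B)
    (IsScalarTower.toAlgHom (G i) M B) fun _ _ => .all _ _
  letI : Algebra Bj B := θ.toRingHom.toAlgebra
  haveI : IsScalarTower (G j.1) Bj B := IsScalarTower.of_algebraMap_eq (R := G j.1) (S := Bj) (A := B) fun a => by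
    show _ = θ (a ⊗ₜ[G i] (1 : M))
    rw [Algebra.TensorProduct.lift_tmul, map_one, mul_one]
    rfl
  haveI : IsScalarTower M Bj B := IsScalarTower.of_algebraMap_eq (R := M) (S := Bj) (A := B) fun b => by
    show _ = θ ((1 : G j.1) ⊗ₜ[G i] b)
    rw [Algebra.TensorProduct.lift_tmul, map_one, one_mul]
    rfl
  haveI : IsScalarTower (G i) Bj B := IsScalarTower.of_algebraMap_eq (R := G i) (S := Bj) (A := B) fun r => (θ.commutes r).symm
  haveI : Algebra.IsPushout (G j.1) A Bj B :=
    (Algebra.IsPushout.comp_iff (R := G i) (S := G j.1) (T := A) (R' := M) (S' := Bj) (T' := B)).1 inferInstance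
  have hθ : ∀ x : Bj, θ x = e (toColim (G i) (fun j : Set.Ici i => G j.1) A M j x) := fun x => by
    induction x using TensorProduct.induction_on with
    | zero => simp
    | add p q hp hq => simp only [map_add, hp, hq]
    | tmul c m =>
      show Algebra.TensorProduct.lift _ _ _ (c ⊗ₜ[G i] m) = e (algebraMap (G j.1) A c ⊗ₜ[G i] m)
      rw [Algebra.TensorProduct.lift_tmul]
      show algebraMap (G j.1) B c * ψ m = _
      rw [show algebraMap (G j.1) A c ⊗ₜ[G i] m = algebraMap A (A ⊗[G i] M) (algebraMap (G j.1) A c) * ((1 : A) ⊗ₜ[G i] m) by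
        simp [Algebra.TensorProduct.algebraMap_apply, Algebra.TensorProduct.tmul_mul_tmul], map_mul, AlgEquiv.commutes,
        ← IsScalarTower.algebraMap_apply, heψ]
  have hlift : ∀ v ∈ S, ∀ k, ∃ x : Bj, algebraMap Bj B x = v k := fun v hv k => by
    obtain ⟨x, hx⟩ := hj (Finset.mem_coe.2 (Finset.mem_biUnion.2 ⟨v, hv, Finset.mem_image_of_mem _ (Finset.mem_univ k)⟩))
    refine ⟨x, (hθ x).trans ?_⟩
    rw [← halgX, hx, AlgEquiv.apply_symm_apply]
  letI : Module Bj N := Module.compHom N (algebraMap Bj B)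
  haveI : IsScalarTower Bj B N := IsScalarTower.of_algebraMap_smul fun _ _ => rfl
  obtain ⟨Nj, _, _, fj, hfp, hfj⟩ := exists_module_model (T := Bj) π hπ S hS hlift
  letI : Module (G j.1) Nj := Module.compHom Nj (algebraMap (G j.1) Bj)
  haveI : IsScalarTower (G j.1) Bj Nj := IsScalarTower.of_algebraMap_smul fun _ _ => rfl
  exact ⟨j.1, Bj, Nj, inferInstance, inferInstance, inferInstance, inferInstance, inferInstance, inferInstance,
    inferInstance, inferInstance, inferInstance, inferInstance, fj, j.2, inferInstance,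
    Algebra.IsPushout.symm inferInstance, hfp, hfj⟩


/-- A finitely presented algebra and module over a colimit come from a stage. -/
theorem exists_colim_model {ι : Type u} [Preorder ι] {G : ι → Type u} [∀ i, CommRing (G i)]
    {g : ∀ i j, i ≤ j → G i →+* G j} {A : Type u} [CommRing A] [∀ i, Algebra (G i) A]
    (hcolim : FlatCA.IsDirectedColimitRing G g A) {B : Type u} [CommRing B] [Algebra A B]
    [Algebra.FinitePresentation A B] [∀ i, Algebra (G i) B] [∀ i, IsScalarTower (G i) A B]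
    (N : Type u) [AddCommGroup N] [Module B N] [Module.FinitePresentation B N] (i₀ : ι) :
    ∃ (i : ι) (B₀ N₀ : Type u) (_ : CommRing B₀) (_ : Algebra (G i) B₀) (_ : Algebra B₀ B)
      (_ : IsScalarTower (G i) B₀ B) (_ : AddCommGroup N₀) (_ : Module B₀ N₀) (_ : Module (G i) N₀)
      (_ : IsScalarTower (G i) B₀ N₀) (_ : Module B₀ N) (_ : IsScalarTower B₀ B N) (f₀ : N₀ →ₗ[B₀] N),
      i₀ ≤ i ∧ Algebra.FinitePresentation (G i) B₀ ∧ Algebra.IsPushout (G i) B₀ A B ∧
      Module.FinitePresentation B₀ N₀ ∧ IsBaseChange B f₀ := by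
  classical
  -- the algebra
  let P := Algebra.Presentation.ofFinitePresentation A B
  obtain ⟨i, hi₀, hi⟩ := exists_stage_finset hcolim (P.finite_coeffs.toFinset) i₀
  haveI : P.HasCoeffs (G i) := ⟨by rw [← P.finite_coeffs.coe_toFinset]; exact hi⟩
  let M := P.ModelOfHasCoeffs (G i)
  let e := P.tensorModelOfHasCoeffsEquiv (G i)
  let ψ : M →ₐ[G i] B := (e.toAlgHom.restrictScalars (G i)).comp Algebra.TensorProduct.includeRight
  letI : Algebra M B := ψ.toRingHom.toAlgebra
  haveI : IsScalarTower (G i) M B := IsScalarTower.of_algebraMap_eq fun r => (ψ.commutes r).symm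
  haveI hpM : Algebra.IsPushout (G i) A M B := ⟨IsBaseChange.of_equiv e.toLinearEquiv fun _ => rfl⟩
  obtain ⟨l, B₀, N₀, i1, i2, i3, i4, i5, i6, i7, i8, i9, i10, f₀, hl, h1, h2, h3, h4⟩ :=
    exists_colim_model_of_algebra (B := B) (hpM := hpM) hcolim N i M
  exact ⟨l, B₀, N₀, i1, i2, i3, i4, i5, i6, i7, i8, i9, i10, f₀, hi₀.trans hl, h1, h2, h3, h4⟩

end Groth.Agent.H4RG
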