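import Groth.Agent.H4RG.ColimTensor
import Groth.Agent.FlatModel.Local
import Groth.Agent.W4Lib.Flat
import Mathlib

/-! Base change tools for descending pure modules along directed colimits. -/

set_option autoImplicit false
set_option linter.style.haveILetI false
set_option backward.isDefEq.respectTransparency.types false

universe u

open TensorProduct

namespace Groth.Agent.H4RG

attribute [local instance] Algebra.TensorProduct.rightAlgebra

/-- The base change of a directed system is a directed system. -/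
theorem exists_baseChange_system {A₀ : Type u} [CommRing A₀] {ι : Type u} [Preorder ι] {G : ι → Type u}
    [∀ i, CommRing (G i)] [∀ i, Algebra A₀ (G i)] (g : ∀ i j, i ≤ j → G i →ₐ[A₀] G j) (A : Type u) [CommRing A]
    [Algebra A₀ A] [∀ i, Algebra (G i) A] [∀ i, IsScalarTower A₀ (G i) A]
    (hcolim : FlatCA.IsDirectedColimitRing G (fun i j h => (g i j h).toRingHom) A)
    (X : Type u) [CommRing X] [Algebra A₀ X] :
    ∃ (_ : ∀ i, Algebra (G i ⊗[A₀] X) (A ⊗[A₀] X)) (_ : ∀ i, IsScalarTower A₀ (G i ⊗[A₀] X) (A ⊗[A₀] X))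
      (_ : ∀ i, IsScalarTower X (G i ⊗[A₀] X) (A ⊗[A₀] X)),
      (∀ i x, algebraMap (G i ⊗[A₀] X) (A ⊗[A₀] X) x = toColim A₀ G A X i x) ∧
      FlatCA.IsDirectedColimitRing (fun i => G i ⊗[A₀] X)
        (fun i j h => (Algebra.TensorProduct.map (g i j h) (AlgHom.id A₀ X)).toRingHom) (A ⊗[A₀] X) := by
  let φ : ∀ i, G i ⊗[A₀] X →ₐ[A₀] A ⊗[A₀] X := fun i =>
    Algebra.TensorProduct.map (IsScalarTower.toAlgHom A₀ (G i) A) (AlgHom.id A₀ X)
  let alg : ∀ i, Algebra (G i ⊗[A₀] X) (A ⊗[A₀] X) := fun i => (φ i).toRingHom.toAlgebra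
  letI := alg
  haveI t0 : ∀ i, IsScalarTower A₀ (G i ⊗[A₀] X) (A ⊗[A₀] X) := fun i =>
    IsScalarTower.of_algebraMap_eq fun r => ((φ i).commutes r).symm
  haveI tX : ∀ i, IsScalarTower X (G i ⊗[A₀] X) (A ⊗[A₀] X) := fun i => IsScalarTower.of_algebraMap_eq fun x => by
    show (1 : A) ⊗ₜ[A₀] x = φ i ((1 : G i) ⊗ₜ[A₀] x)
    rw [Algebra.TensorProduct.map_tmul, map_one, AlgHom.id_apply]
  have hφ : ∀ i x, algebraMap (G i ⊗[A₀] X) (A ⊗[A₀] X) x = toColim A₀ G A X i x := fun i x => by
    show φ i x = _
    induction x using TensorProduct.induction_on with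
    | zero => rw [map_zero, map_zero]
    | add a b ha hb => rw [map_add, map_add, ha, hb]
    | tmul a b => rfl
  have hg : ∀ i j (h : i ≤ j) (x : G i ⊗[A₀] X),
      Algebra.TensorProduct.map (g i j h) (AlgHom.id A₀ X) x = (g i j h).toLinearMap.rTensor X x := fun i j h x => by
    induction x using TensorProduct.induction_on with
    | zero => rw [map_zero, map_zero]
    | add a b ha hb => rw [map_add, map_add, ha, hb]
    | tmul a b => rfl
  refine ⟨alg, t0, tX, hφ, hcolim.1, hcolim.2.1, fun i => ?_, fun i j k hij hjk => ?_, fun i j h => ?_, fun a => ?_,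
    fun i x hx => ?_⟩
  · refine RingHom.ext fun x => ?_
    show Algebra.TensorProduct.map (g i i le_rfl) (AlgHom.id A₀ X) x = x
    rw [show g i i le_rfl = AlgHom.id A₀ (G i) from AlgHom.ext fun y => RingHom.congr_fun (hcolim.2.2.1 i) y,
      Algebra.TensorProduct.map_id, AlgHom.id_apply]
  · refine RingHom.ext fun x => ?_
    show Algebra.TensorProduct.map (g j k hjk) _ (Algebra.TensorProduct.map (g i j hij) _ x) = Algebra.TensorProduct.map (g i k _) _ x
    rw [hg, hg, hg, g_g hcolim]
  · refine RingHom.ext fun x => ?_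
    show algebraMap (G j ⊗[A₀] X) (A ⊗[A₀] X) (Algebra.TensorProduct.map (g i j h) _ x) = algebraMap (G i ⊗[A₀] X) (A ⊗[A₀] X) x
    rw [hg, hφ, hφ, toColim_g hcolim]
  · obtain ⟨i₀⟩ := hcolim.2.1
    obtain ⟨i, -, y, rfl⟩ := exists_tensor_lift hcolim X a i₀
    exact ⟨i, y, hφ i y⟩
  · obtain ⟨j, h, hj⟩ := exists_tensor_zero hcolim X x (by rw [← hφ]; exact hx)
    exact ⟨j, h, (hg i j h x).trans hj⟩

/-- Base change along a pushout of rings restricts to base change of modules over the base. -/
theorem isBaseChange_restrict_pushout {A₀ B₀ A₁ B₁ N₀ N₁ : Type u} [CommRing A₀] [CommRing B₀] [CommRing A₁]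
    [CommRing B₁] [Algebra A₀ B₀] [Algebra A₀ A₁] [Algebra B₀ B₁] [Algebra A₁ B₁] [Algebra A₀ B₁]
    [IsScalarTower A₀ B₀ B₁] [IsScalarTower A₀ A₁ B₁] [hp : Algebra.IsPushout A₀ A₁ B₀ B₁]
    [AddCommGroup N₀] [Module A₀ N₀] [Module B₀ N₀] [IsScalarTower A₀ B₀ N₀]
    [AddCommGroup N₁] [Module A₀ N₁] [Module A₁ N₁] [Module B₀ N₁] [Module B₁ N₁] [IsScalarTower B₀ B₁ N₁]
    [IsScalarTower A₁ B₁ N₁] [IsScalarTower A₀ A₁ N₁] [IsScalarTower A₀ B₀ N₁]
    (f : N₀ →ₗ[B₀] N₁) (hf : IsBaseChange B₁ f) : IsBaseChange A₁ (f.restrictScalars A₀) := by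
  have hB : IsBaseChange B₀ (IsScalarTower.toAlgHom A₀ A₁ B₁).toLinearMap := (Algebra.IsPushout.symm hp).out
  let e : A₁ ⊗[A₀] N₀ ≃+ N₁ := (TensorProduct.comm A₀ A₁ N₀).toAddEquiv.trans
    ((hB.tensorEquiv N₀).symm.toAddEquiv.trans ((TensorProduct.comm B₀ N₀ B₁).toAddEquiv.trans hf.equiv.toAddEquiv))
  have he : ∀ (a : A₁) (m : N₀), e (a ⊗ₜ m) = a • f m := fun a m => by
    have h2 : (hB.tensorEquiv N₀).symm (m ⊗ₜ[A₀] a) = m ⊗ₜ[B₀] (algebraMap A₁ B₁ a) := by
      rw [LinearEquiv.symm_apply_eq]
      have h3 : hB.equiv.symm (algebraMap A₁ B₁ a) = (1 : B₀) ⊗ₜ[A₀] a := by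
        rw [LinearEquiv.symm_apply_eq, IsBaseChange.equiv_tmul, one_smul]
        rfl
      simp [IsBaseChange.tensorEquiv, h3]
    show hf.equiv ((TensorProduct.comm B₀ N₀ B₁) ((hB.tensorEquiv N₀).symm ((TensorProduct.comm A₀ A₁ N₀) (a ⊗ₜ m)))) = _
    rw [TensorProduct.comm_tmul, h2, TensorProduct.comm_tmul, IsBaseChange.equiv_tmul, algebraMap_smul]
  refine IsBaseChange.of_equiv { e with map_smul' := fun c z => ?_ } fun m => ?_
  · show e (c • z) = c • e z
    induction z using TensorProduct.induction_on with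
    | zero => rw [smul_zero, map_zero, smul_zero]
    | tmul b m => rw [TensorProduct.smul_tmul', he, he, smul_assoc]
    | add a b ha hb => rw [smul_add, map_add, map_add, ha, hb, smul_add]
  · show e (1 ⊗ₜ m) = f.restrictScalars A₀ m
    rw [he, one_smul]; rfl

section transfer

variable {R E M M'' : Type u} [CommRing R] [CommRing E] [Algebra R E] [AddCommGroup M] [Module R M]
  [AddCommGroup M''] [Module E M''] [Module R M''] [IsScalarTower R E M''] {φ : M →ₗ[R] M''}
  (hφ : IsBaseChange E φ) (τ : M →ₗ[R] M) (τ'' : M'' →ₗ[E] M'') (hτ : ∀ m, τ'' (φ m) = φ (τ m))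

include hτ in
/-- Tensoring a module over the new base with a base change is tensoring over the old base. -/
theorem tensorEquiv_semiconj (X : Type u) [AddCommGroup X] [Module R X] [Module E X] [IsScalarTower R E X]
    (v : X ⊗[E] M'') : hφ.tensorEquiv X (τ''.lTensor X v) = τ.lTensor X (hφ.tensorEquiv X v) := by
  induction v using TensorProduct.induction_on with
  | zero => simp
  | add a b ha hb => simp only [map_add, ha, hb]
  | tmul x y =>
    induction y using hφ.inductionOn with
    | zero => simp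
    | add a b ha hb => simp only [tmul_add, map_add] at ha hb ⊢; rw [ha, hb]
    | tmul m =>
      have h : ∀ m, hφ.tensorEquiv X (x ⊗ₜ[E] φ m) = x ⊗ₜ[R] m := fun m => by
        simp [IsBaseChange.tensorEquiv, IsBaseChange.equiv_symm_apply]
      rw [LinearMap.lTensor_tmul, hτ, h, h, LinearMap.lTensor_tmul]
    | smul c n hn =>
      have h : ∀ (c : E) (n : M''), x ⊗ₜ[E] (c • n) = c • (x ⊗ₜ[E] n) := fun c n => tmul_smul c x n
      rw [h, map_smul, map_smul, map_smul, hn]
      generalize hφ.tensorEquiv X (x ⊗ₜ[E] n) = w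
      exact ((AlgebraTensorModule.lTensor E X τ).map_smul c w).symm

include hφ hτ in
theorem injective_lTensor_iff (X : Type u) [AddCommGroup X] [Module R X] [Module E X] [IsScalarTower R E X] :
    Function.Injective (τ''.lTensor X) ↔ Function.Injective (τ.lTensor X) := by
  let e := hφ.tensorEquiv X
  constructor
  · intro h a b hab
    refine e.symm.injective (h (e.injective ?_))
    rw [tensorEquiv_semiconj hφ τ τ'' hτ, tensorEquiv_semiconj hφ τ τ'' hτ, e.apply_symm_apply, e.apply_symm_apply]
    exact hab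
  · intro h a b hab
    refine e.injective (h ?_)
    rw [← tensorEquiv_semiconj hφ τ τ'' hτ, ← tensorEquiv_semiconj hφ τ τ'' hτ, hab]

include hφ hτ in
theorem flat_coker_baseChange [Module.Flat E (E ⊗[R] (M ⧸ LinearMap.range τ))] :
    Module.Flat E (M'' ⧸ LinearMap.range τ'') := by
  let π := ((LinearMap.range τ).mkQ).baseChange E
  let ψ := π.comp hφ.equiv.symm.toLinearMap
  have hπ : Function.Surjective π := LinearMap.lTensor_surjective E (LinearMap.range τ).mkQ_surjective
  have hψ : Function.Exact τ'' ψ := by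
    intro y
    have hex := lTensor_exact E (LinearMap.exact_map_mkQ_range τ) (LinearMap.range τ).mkQ_surjective
    have hc : ∀ v, τ'' (hφ.equiv v) = hφ.equiv (τ.lTensor E v) := fun v => by
      induction v using TensorProduct.induction_on with
      | zero => simp
      | add a b ha hb => simp only [map_add, ha, hb]
      | tmul c m => rw [IsBaseChange.equiv_tmul, map_smul, hτ, LinearMap.lTensor_tmul, IsBaseChange.equiv_tmul]
    refine ⟨fun hy => ?_, ?_⟩
    · obtain ⟨v, hv⟩ := (hex (hφ.equiv.symm y)).1 hy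
      exact ⟨hφ.equiv v, by rw [hc, hv, LinearEquiv.apply_symm_apply]⟩
    · rintro ⟨v, rfl⟩
      refine (hex _).2 ⟨hφ.equiv.symm v, ?_⟩
      apply hφ.equiv.injective
      rw [← hc, LinearEquiv.apply_symm_apply]
      exact (LinearEquiv.apply_symm_apply _ _).symm
  exact Module.Flat.of_linearEquiv (hψ.linearEquivOfSurjective (hπ.comp hφ.equiv.symm.surjective))

end transfer

/-- A module flat after inverting an element becomes flat over any algebra where the element is a unit. -/
theorem flat_tensor_of_unit {A N : Type u} [CommRing A] [AddCommGroup N] [Module A N] {Nf : Type u}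
    [AddCommGroup Nf] [Module A Nf] (l : N →ₗ[A] Nf) (f : A) [IsLocalizedModule (Submonoid.powers f) l]
    [Module.Flat A Nf] (R : Type u) [CommRing R] [Algebra A R] (hf : IsUnit (algebraMap A R f)) :
    Module.Flat R (R ⊗[A] N) := by
  have hb : Function.Bijective (l.baseChange R) := by
    haveI : IsLocalizedModule (Submonoid.powers f) (AlgebraTensorModule.rTensor A R l) :=
      IsLocalizedModule.rTensor (A := A) (R := A) (Submonoid.powers f) (N := R) l
    have hu : ∀ x : Submonoid.powers f, IsUnit (algebraMap A R x.1) := by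
      rintro ⟨_, n, rfl⟩
      rw [map_pow]
      exact hf.pow n
    have hr : Function.Bijective (AlgebraTensorModule.rTensor A R l) := by
      refine ⟨(injective_iff_map_eq_zero _).2 fun v hv => ?_, fun y => ?_⟩
      · obtain ⟨⟨x, hx⟩, hxv⟩ := (IsLocalizedModule.eq_zero_iff (Submonoid.powers f) _).1 hv
        change x • v = 0 at hxv
        obtain ⟨w, hw⟩ := hu ⟨x, hx⟩
        have h1 := congrArg (((LinearMap.mulLeft A (↑w⁻¹ : R))).lTensor N) hxv
        rw [map_zero, map_smul] at h1
        rw [← h1]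
        clear h1 hxv hv
        induction v using TensorProduct.induction_on with
        | zero => simp
        | add a b ha hb => rw [map_add, smul_add, ← ha, ← hb]
        | tmul n c =>
          rw [LinearMap.lTensor_tmul, ← tmul_smul, LinearMap.mulLeft_apply, Algebra.smul_def, ← mul_assoc, ← hw,
            Units.mul_inv, one_mul]
      · obtain ⟨⟨v, ⟨x, hx⟩⟩, hv⟩ := IsLocalizedModule.surj (Submonoid.powers f) (AlgebraTensorModule.rTensor A R l) y
        change x • y = _ at hv
        obtain ⟨w, hw⟩ := hu ⟨x, hx⟩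
        refine ⟨(LinearMap.mulLeft A (↑w⁻¹ : R)).lTensor N v, ?_⟩
        have h1 := congrArg (((LinearMap.mulLeft A (↑w⁻¹ : R))).lTensor Nf) hv
        rw [map_smul, show AlgebraTensorModule.rTensor A R l v = l.rTensor R v from rfl, ← LinearMap.comp_apply,
          LinearMap.lTensor_comp_rTensor, ← LinearMap.rTensor_comp_lTensor, LinearMap.comp_apply] at h1
        refine Eq.trans h1.symm ?_
        clear h1 hv
        induction y using TensorProduct.induction_on with
        | zero => simp
        | add a b ha hb => rw [map_add, smul_add, ha, hb]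
        | tmul n c =>
          rw [LinearMap.lTensor_tmul, ← tmul_smul, LinearMap.mulLeft_apply, Algebra.smul_def, ← mul_assoc, ← hw,
            Units.mul_inv, one_mul]
    rw [show ⇑(l.baseChange R) = ⇑(TensorProduct.comm A Nf R) ∘ ⇑(AlgebraTensorModule.rTensor A R l) ∘
      ⇑(TensorProduct.comm A R N) from funext fun v => by
        induction v using TensorProduct.induction_on with
        | zero => simp
        | add a b ha hb => simp only [map_add, Function.comp_apply] at ha hb ⊢; rw [ha, hb]
        | tmul a b => simp]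
    exact (LinearEquiv.bijective _).comp (hr.comp (LinearEquiv.bijective _))
  exact Module.Flat.of_linearEquiv (LinearEquiv.ofBijective (l.baseChange R) hb)

/-- A module flat over every algebra inverting an element is flat at the primes avoiding it. -/
theorem flatAt_of_unit {A B N : Type u} [CommRing A] [CommRing B] [Algebra A B] [AddCommGroup N] [Module B N]
    [Module A N] [IsScalarTower A B N] (f : A)
    (h : Module.Flat (Localization.Away f) (Localization.Away f ⊗[A] N))
    (q : Ideal B) [q.IsPrime] (hq : algebraMap A B f ∉ q) : FlatCA.FlatAt A q N := by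
  let W := Submonoid.powers f
  haveI : IsLocalizedModule W (TensorProduct.mk A (Localization.Away f) N 1) :=
    (isLocalizedModule_iff_isBaseChange W (Localization.Away f) _).2 (TensorProduct.isBaseChange A N _)
  haveI : Module.Flat A (Localization.Away f) := IsLocalization.flat _ W
  haveI : Module.Flat A (Localization.Away f ⊗[A] N) := Module.Flat.trans A (Localization.Away f) _
  refine (FlatModel.flat_localized_iff q.primeCompl (LocalizedModule.mkLinearMap q.primeCompl N)).2 fun J y hy => ?_
  let iN := TensorProduct.mk A (Localization.Away f) N 1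
  haveI : IsLocalizedModule W (AlgebraTensorModule.rTensor A J iN) :=
    IsLocalizedModule.rTensor (A := A) (R := A) W (N := J) iN
  have h0 : iN.rTensor J y = 0 := Module.Flat.lTensor_preserves_injective_linearMap
    (M := Localization.Away f ⊗[A] N) J.subtype Subtype.val_injective (by
      rw [map_zero, ← LinearMap.comp_apply, LinearMap.lTensor_comp_rTensor, ← LinearMap.rTensor_comp_lTensor,
        LinearMap.comp_apply, hy, map_zero])
  obtain ⟨⟨_, n, rfl⟩, hn⟩ := (IsLocalizedModule.eq_zero_iff W (AlgebraTensorModule.rTensor A J iN)).1 h0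
  refine ⟨algebraMap A B (f ^ n), fun hmem => hq ?_, by rw [algebraMap_smul]; exact hn⟩
  rw [map_pow] at hmem
  exact ‹q.IsPrime›.mem_of_pow_mem _ hmem

/-- An element lifting stage of a tensor with a colimit. -/
theorem exists_stage_finset {ι : Type u} [Preorder ι] {G : ι → Type u} [∀ i, CommRing (G i)]
    {g : ∀ i j, i ≤ j → G i →+* G j} {A : Type u} [CommRing A] [∀ i, Algebra (G i) A]
    (hcolim : FlatCA.IsDirectedColimitRing G g A) (s : Finset A) (i₀ : ι) :
    ∃ i, i₀ ≤ i ∧ ↑s ⊆ Set.range (algebraMap (G i) A) := by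
  classical
  induction s using Finset.induction_on with
  | empty => exact ⟨i₀, le_rfl, by simp⟩
  | insert a t _ ih =>
    obtain ⟨i, hi, hi'⟩ := ih
    obtain ⟨j, x, rfl⟩ := hcolim.2.2.2.2.2.1 a
    obtain ⟨k, hik, hjk⟩ := hcolim.1.directed i j
    refine ⟨k, hi.trans hik, ?_⟩
    intro b hb
    rcases Finset.mem_insert.1 (Finset.mem_coe.1 hb) with rfl | hb
    · exact ⟨g j k hjk x, RingHom.congr_fun (hcolim.2.2.2.2.1 j k hjk) x⟩
    · obtain ⟨y, rfl⟩ := hi' hb
      exact ⟨g i k hik y, RingHom.congr_fun (hcolim.2.2.2.2.1 i k hik) y⟩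

end Groth.Agent.H4RG
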