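import Groth.Prelude
import Groth.Agent.H4RG.StageOps
import Groth.Agent.H4RG.ImpurityBC
import Groth.Agent.MorLib.UnramLocus
import Mathlib

/-! A pure module with finite fibre supports has finite support. -/

set_option autoImplicit false
set_option linter.style.haveILetI false
set_option backward.isDefEq.respectTransparency.types false

universe u

open TensorProduct

namespace Groth.Agent.H4RG

attribute [local instance] Algebra.TensorProduct.rightAlgebra

variable {A B : Type u} [CommRing A] [CommRing B] [Algebra A B] (N : Type u) [AddCommGroup N] [Module B N]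
  [Module.Finite B N]

theorem mem_support_fiberMod [Module A N] [IsScalarTower A B N] (p : Ideal A) [p.IsPrime]
    (Q : PrimeSpectrum (p.Fiber B)) :
    Q ∈ Module.support (p.Fiber B) (FlatCA.fiberMod p B N) ↔
      Module.annihilator B N ≤ Q.asIdeal.comap (algebraMap B (p.Fiber B)) := by
  refine (MorLib.UnrLocus.support_baseChange_iff N Q).trans ?_
  rw [Module.support_eq_zeroLocus]
  exact Iff.rfl

/-- Finite supports of the fibres make the support quasi-finite. -/
theorem quasiFinite_quot_annihilator [Algebra.FiniteType A B] [Module A N] [IsScalarTower A B N]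
    (hfin : ∀ (p : Ideal A) [p.IsPrime], (Module.support (p.Fiber B) (FlatCA.fiberMod p B N)).Finite) :
    Algebra.QuasiFinite A (B ⧸ Module.annihilator B N) := by
  classical
  let Bb := B ⧸ Module.annihilator B N
  rw [Algebra.QuasiFinite.iff_finite_comap_preimage_singleton]
  intro x
  let π : B →+* Bb := Ideal.Quotient.mk _
  let f : PrimeSpectrum (x.asIdeal.Fiber B) → PrimeSpectrum B := PrimeSpectrum.comap (algebraMap B (x.asIdeal.Fiber B))
  refine ((hfin x.asIdeal).image f).preimage
    ((PrimeSpectrum.comap_injective_of_surjective π Ideal.Quotient.mk_surjective).injOn) |>.subset ?_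
  intro q hq
  obtain ⟨Q, hQ⟩ := (PrimeSpectrum.preimageEquivFiber A B x).symm.surjective
    ⟨PrimeSpectrum.comap π q, (PrimeSpectrum.ext rfl).trans hq⟩
  have h2 : f Q = PrimeSpectrum.comap π q := congrArg Subtype.val hQ
  refine ⟨Q, (mem_support_fiberMod N x.asIdeal Q).2 ?_, h2⟩
  rw [show Q.asIdeal.comap (algebraMap B (x.asIdeal.Fiber B)) = q.asIdeal.comap π from congrArg PrimeSpectrum.asIdeal h2]
  exact fun a ha => by
    rw [Ideal.mem_comap, show π a = 0 from Ideal.Quotient.eq_zero_iff_mem.2 ha]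
    exact zero_mem _

/-- A quasi-finite algebra is, locally on it, a finite one. -/
theorem exists_finite_subalgebra {R S : Type u} [CommRing R] [CommRing S] [Algebra R S] [Algebra.FiniteType R S]
    [Algebra.QuasiFinite R S] :
    ∃ (C : Subalgebra R S) (T : Finset C), Module.Finite R C ∧
      Ideal.span ((fun r : C => (r : S)) '' (T : Set C)) = ⊤ ∧ ∀ r ∈ T, ∀ b : S, ∃ k : ℕ, (r : S) ^ k * b ∈ C := by
  classical
  choose r hr hri hrm using fun q : PrimeSpectrum S =>
    Algebra.zariskisMainProperty_iff.1 (Algebra.ZariskisMainProperty.of_finiteType (R := R) q.asIdeal)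
  have htop : Ideal.span (Set.range r) = ⊤ := by
    by_contra hne
    obtain ⟨M, hM, hle⟩ := Ideal.exists_le_maximal _ hne
    exact hr ⟨M, hM.isPrime⟩ (hle (Ideal.subset_span ⟨_, rfl⟩))
  obtain ⟨T₀, hT₀, hT₀'⟩ := Submodule.mem_span_finite_of_mem_span (htop ▸ Submodule.mem_top : (1 : S) ∈ _)
  choose idx hidx using fun x : T₀ => hT₀ x.2
  obtain ⟨gens, hgens⟩ := Algebra.FiniteType.out (R := R) (A := S)
  choose m hm using fun x : T₀ => hrm (idx x)
  let t : Set S := ↑T₀ ∪ Set.range fun i : T₀ × gens => r (idx i.1) ^ m i.1 i.2.1 * i.2.1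
  let C := Algebra.adjoin R t
  have ht : t.Finite := T₀.finite_toSet.union (Set.finite_range _)
  have hint : ∀ y ∈ t, IsIntegral R y := by
    rintro y (hy | ⟨i, rfl⟩)
    · have h1 := hri (idx ⟨y, hy⟩)
      rwa [hidx] at h1
    · exact hm _ _
  let T : Finset C := T₀.attach.image fun x => ⟨x.1, Algebra.subset_adjoin (Or.inl x.2)⟩
  refine ⟨C, T, ⟨(Submodule.fg_top _).2 (fg_adjoin_of_finite ht hint)⟩, ?_, ?_⟩
  · rw [Ideal.eq_top_iff_one]
    refine Ideal.span_mono ?_ hT₀'
    intro y hy
    exact ⟨⟨y, Algebra.subset_adjoin (Or.inl hy)⟩, Finset.mem_image.2 ⟨⟨y, hy⟩, Finset.mem_attach _ _, rfl⟩, rfl⟩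
  · intro rr hrr b
    obtain ⟨x, -, rfl⟩ := Finset.mem_image.1 hrr
    show ∃ k, (x : S) ^ k * b ∈ C
    have hxC : (x : S) ∈ C := Algebra.subset_adjoin (Or.inl x.2)
    have hb : b ∈ Algebra.adjoin R (gens : Set S) := by rw [hgens]; exact Algebra.mem_top
    induction hb using Algebra.adjoin_induction with
    | mem y hy => exact ⟨m x y, Algebra.subset_adjoin (Or.inr ⟨(x, ⟨y, hy⟩), by simp only [hidx]⟩)⟩
    | algebraMap a => exact ⟨0, by rw [pow_zero, one_mul]; exact C.algebraMap_mem a⟩
    | add y z _ _ hy hz =>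
      obtain ⟨k, hk⟩ := hy
      obtain ⟨l, hl⟩ := hz
      refine ⟨k + l, ?_⟩
      rw [mul_add, pow_add]
      exact add_mem (by rw [mul_comm ((x : S) ^ k), mul_assoc]; exact mul_mem (pow_mem hxC l) hk)
        (by rw [mul_assoc]; exact mul_mem (pow_mem hxC k) hl)
    | mul y z _ _ hy hz =>
      obtain ⟨k, hk⟩ := hy
      obtain ⟨l, hl⟩ := hz
      refine ⟨k + l, ?_⟩
      rw [pow_add, show (x : S) ^ k * (x : S) ^ l * (y * z) = ((x : S) ^ k * y) * ((x : S) ^ l * z) by ring]
      exact mul_mem hk hl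

theorem ker_tensor_mk (R : Type u) [CommRing R] [Algebra A R] (I : Ideal B) (y : R ⊗[A] B)
    (hy : Algebra.TensorProduct.map (AlgHom.id R R) (Ideal.Quotient.mkₐ A I) y = 0) :
    y ∈ I.map (algebraMap B (R ⊗[A] B)) := by
  have h1 := Algebra.TensorProduct.lTensor_ker (R := A) (A := R) (Ideal.Quotient.mkₐ A I) Ideal.Quotient.mk_surjective
  rw [show RingHom.ker (Ideal.Quotient.mkₐ A I) = I from Ideal.mk_ker] at h1
  have h2 : ∀ x, Algebra.TensorProduct.map (AlgHom.id A R) (Ideal.Quotient.mkₐ A I) x =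
      Algebra.TensorProduct.map (AlgHom.id R R) (Ideal.Quotient.mkₐ A I) x := fun x => by
    induction x using TensorProduct.induction_on with
    | zero => rw [map_zero, map_zero]
    | tmul a b => rw [Algebra.TensorProduct.map_tmul, Algebra.TensorProduct.map_tmul]; rfl
    | add a b ha hb => rw [map_add, map_add, ha, hb]
  have h3 : y ∈ RingHom.ker (Algebra.TensorProduct.map (AlgHom.id A R) (Ideal.Quotient.mkₐ A I)) :=
    RingHom.mem_ker.2 ((h2 y).trans hy)
  rw [h1] at h3
  exact h3

/-- With a quasi-finite support, every point of the support over a generalisation specialises into the fibre. -/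
theorem exists_specialization_of_quasiFinite [Algebra.FiniteType A B] [Module A N] [IsScalarTower A B N]
    [Algebra.QuasiFinite A (B ⧸ Module.annihilator B N)]
    (p : Ideal A) [p.IsPrime] (hpure : FlatCA.IsPureAlong A B N p)
    (R : Type u) [CommRing R] [Algebra A R] [Algebra.Etale A R] (z : Ideal R) [z.IsPrime]
    (het : FlatCA.IsEtaleNhd A R p z) (Q : Ideal (R ⊗[A] (B ⧸ Module.annihilator B N))) [Q.IsPrime]
    (hQ : Q.comap (algebraMap R (R ⊗[A] (B ⧸ Module.annihilator B N))) ≤ z) :
    ∃ Q' : Ideal (R ⊗[A] (B ⧸ Module.annihilator B N)), Q'.IsPrime ∧ Q ≤ Q' ∧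
      Q'.comap (algebraMap R (R ⊗[A] (B ⧸ Module.annihilator B N))) = z := by
  classical
  let Bb := B ⧸ Module.annihilator B N
  let B' := R ⊗[A] B
  let B'' := R ⊗[A] Bb
  let ψ : B' →ₐ[R] B'' := Algebra.TensorProduct.map (AlgHom.id R R) (Ideal.Quotient.mkₐ A (Module.annihilator B N))
  have hψ : Function.Surjective ψ := fun y => by
    induction y using TensorProduct.induction_on with
    | zero => exact ⟨0, map_zero _⟩
    | tmul a b =>
      obtain ⟨b, rfl⟩ := Ideal.Quotient.mk_surjective b
      exact ⟨a ⊗ₜ[A] b, Algebra.TensorProduct.map_tmul _ _ _ _⟩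
    | add a b ha hb =>
      obtain ⟨a', ha⟩ := ha
      obtain ⟨b', hb⟩ := hb
      exact ⟨a' + b', by rw [map_add, ha, hb]⟩
  have hψ' : Function.Surjective ψ.toRingHom := hψ
  have hψR : ∀ r, ψ (algebraMap R B' r) = algebraMap R B'' r := fun r => ψ.commutes r
  have hψker : ∀ y, ψ y = 0 → y ∈ (Module.annihilator B N).map (algebraMap B B') := fun y hy =>
    ker_tensor_mk (A := A) (B := B) R (Module.annihilator B N) y hy
  let N' := B' ⊗[B] N
  let t' := Q.comap (algebraMap R B'')
  haveI : t'.IsPrime := Ideal.comap_isPrime _ _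
  let P0 := Q.comap ψ.toRingHom
  haveI : P0.IsPrime := Ideal.comap_isPrime _ _
  have hP0 : P0.comap (algebraMap R B') = t' := by
    ext r
    show ψ (algebraMap R B' r) ∈ Q ↔ algebraMap R B'' r ∈ Q
    rw [hψR]
  haveI : P0.LiesOver t' := ⟨hP0.symm⟩
  have hann : ∀ P : Ideal B', (∀ y, ψ y = 0 → y ∈ P) ↔ Module.annihilator B N ≤ P.comap (algebraMap B B') :=
    fun P => ⟨fun h a ha => h _ (by
        show ψ ((1 : R) ⊗ₜ[A] a) = 0
        rw [Algebra.TensorProduct.map_tmul, Ideal.Quotient.mkₐ_eq_mk, Ideal.Quotient.eq_zero_iff_mem.2 ha, tmul_zero]),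
      fun h y hy => Ideal.map_le_iff_le_comap.2 h (hψker y hy)⟩
  let F := t'.Fiber B'
  let M := FlatCA.fiberMod t' B' N'
  haveI : IsNoetherianRing F := Algebra.FiniteType.isNoetherianRing t'.ResidueField F
  haveI : Module.Finite F M := inferInstanceAs (Module.Finite F (F ⊗[B'] N'))
  have hsupp : ∀ Z : PrimeSpectrum F, Z ∈ Module.support F M ↔
      Module.annihilator B N ≤ (Z.asIdeal.comap (algebraMap B' F)).comap (algebraMap B B') := fun Z => by
    refine ((MorLib.UnrLocus.support_baseChange_iff N' Z).trans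
      (MorLib.UnrLocus.support_baseChange_iff N _)).trans ?_
    rw [Module.support_eq_zeroLocus]
    exact Iff.rfl
  obtain ⟨zP, hzP⟩ := (PrimeSpectrum.preimageEquivFiber R B' ⟨t', inferInstance⟩).symm.surjective
    ⟨⟨P0, inferInstance⟩, PrimeSpectrum.ext hP0⟩
  have hPf : zP.asIdeal.comap (algebraMap B' F) = P0 := congrArg (fun w => w.1.asIdeal) hzP
  have hzmem : zP ∈ Module.support F M :=
    (hsupp zP).2 (hPf ▸ (hann P0).1 fun y hy => by
      show ψ y ∈ Q
      rw [hy]
      exact zero_mem _)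
  have hmin : zP.asIdeal ∈ (Module.annihilator F M).minimalPrimes := by
    rw [Module.support_eq_zeroLocus] at hzmem
    refine ⟨⟨zP.2, hzmem⟩, fun Z hZ hle => ?_⟩
    haveI := hZ.1
    let P1 := Z.comap (algebraMap B' F)
    haveI : P1.IsPrime := Ideal.comap_isPrime _ _
    have hP1 : ∀ y, ψ y = 0 → y ∈ P1 := (hann P1).2 ((hsupp ⟨Z, hZ.1⟩).1 (by
      rw [Module.support_eq_zeroLocus]; exact hZ.2))
    have hle1 : P1 ≤ P0 := hPf ▸ Ideal.comap_mono hle
    haveI : (P1.map ψ.toRingHom).IsPrime := Ideal.map_isPrime_of_surjective hψ fun y hy => hP1 y hy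
    have hc1 : (P1.map ψ.toRingHom).comap ψ.toRingHom = P1 := by
      rw [Ideal.comap_map_of_surjective _ hψ', sup_eq_left]
      exact fun y hy => hP1 y hy
    have hle2 : P1.map ψ.toRingHom ≤ Q := Ideal.map_le_iff_le_comap.2 hle1
    have hZt : P1.comap (algebraMap R B') = t' := comap_fiber_eq t' Z
    have heq := Algebra.QuasiFinite.eq_of_le_of_under_eq (R := R) _ Q hle2 (by
      ext r
      show algebraMap R B'' r ∈ P1.map ψ.toRingHom ↔ algebraMap R B'' r ∈ Q
      rw [← hψR, show ψ (algebraMap R B' r) ∈ P1.map ψ.toRingHom ↔ algebraMap R B' r ∈ P1 from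
        ⟨fun h => hc1.le h, fun h => Ideal.mem_map_of_mem _ h⟩, hψR]
      rw [← Ideal.mem_comap (f := algebraMap R B'), hZt]
      rfl)
    have hP10 : P1 = P0 := by rw [← hc1, heq]
    rw [← fiberIdeal_comap t' zP.asIdeal, ← fiberIdeal_comap t' Z, hPf]
    exact (congrArg (FlatCA.fiberIdeal t') hP10).ge
  have hass : FlatCA.fiberIdeal t' P0 ∈ associatedPrimes F M := by
    rw [← hPf, fiberIdeal_comap]
    exact Module.associatedPrimes.minimalPrimes_annihilator_subset_associatedPrimes F M hmin
  haveI : Algebra.IsPushout A B R B' := Algebra.IsPushout.symm inferInstance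
  by_contra hne
  push Not at hne
  refine hpure R B' N' (TensorProduct.mk B B' N 1) t' z P0 het
    ⟨inferInstance, TensorProduct.isBaseChange B N B', hQ, het.2.choose, inferInstance, hass, fun P' hP' hle hov => ?_⟩
  have hker : ∀ y, ψ y = 0 → y ∈ P' := fun y hy => hle (show ψ y ∈ Q by rw [hy]; exact zero_mem _)
  haveI : (P'.map ψ.toRingHom).IsPrime := Ideal.map_isPrime_of_surjective hψ fun y hy => hker y hy
  refine hne (P'.map ψ.toRingHom) inferInstance ?_ ?_
  · intro y hy
    obtain ⟨x, rfl⟩ := hψ y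
    exact Ideal.mem_map_of_mem _ (hle hy)
  · ext r
    rw [Ideal.mem_comap, ← hψR]
    constructor
    · intro h
      have h1 : algebraMap R B' r ∈ (P'.map ψ.toRingHom).comap ψ.toRingHom := h
      rw [Ideal.comap_map_of_surjective _ hψ', sup_eq_left.2 (fun y hy => hker y hy)] at h1
      rwa [hov.over]
    · intro h
      rw [hov.over] at h
      exact Ideal.mem_map_of_mem _ h

/-- A pure module with finite fibre supports has a support finite over the base. -/
theorem finite_of_pure [Algebra.FiniteType A B] [Module A N] [IsScalarTower A B N] (hpure : FlatCA.IsPure A B N)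
    (hfin : ∀ (p : Ideal A) [p.IsPrime], (Module.support (p.Fiber B) (FlatCA.fiberMod p B N)).Finite) :
    Module.Finite A (B ⧸ Module.annihilator B N) := by
  classical
  let Bb := B ⧸ Module.annihilator B N
  haveI : Algebra.QuasiFinite A Bb := quasiFinite_quot_annihilator N hfin
  obtain ⟨C, T, hC, hspan, hT⟩ := exists_finite_subalgebra (R := A) (S := Bb)
  haveI := hC
  suffices htop : Ideal.span (T : Set C) = ⊤ by
    have hall : ∀ b : Bb, b ∈ C := fun b => by
      let J : Ideal C :=
        { carrier := {c | (c : Bb) * b ∈ C}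
          zero_mem' := by simp
          add_mem' := fun {x y} hx hy => by
            show ((x : Bb) + y) * b ∈ C
            rw [add_mul]
            exact add_mem hx hy
          smul_mem' := fun s x hx => by
            show ((s : Bb) * x) * b ∈ C
            rw [mul_assoc]
            exact mul_mem s.2 hx }
      have hJ : J.radical = ⊤ := by
        rw [← top_le_iff, ← htop, Ideal.span_le]
        intro r hr
        obtain ⟨k, hk⟩ := hT r hr b
        exact ⟨k, show ((r ^ k : C) : Bb) * b ∈ C by rw [SubmonoidClass.coe_pow]; exact hk⟩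
      have h1 : (1 : C) ∈ J := by
        rw [Ideal.radical_eq_top] at hJ
        rw [hJ]; trivial
      have h2 : ((1 : C) : Bb) * b ∈ C := h1
      rwa [OneMemClass.coe_one, one_mul] at h2
    exact Module.Finite.of_surjective C.val.toLinearMap fun b => ⟨⟨b, hall b⟩, rfl⟩
  by_contra hne
  obtain ⟨c, hc, hTc⟩ := Ideal.exists_le_maximal _ hne
  let p := c.comap (algebraMap A C)
  haveI : p.IsPrime := Ideal.comap_isPrime _ _
  haveI : c.LiesOver p := ⟨rfl⟩
  obtain ⟨R, _, _, _, z, _, _, n, e, he, P', _, _, hz, hP', huniq⟩ :=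
    Algebra.exists_etale_completeOrthogonalIdempotents_forall_liesOver_eq (R := A) (S := C) p
  have het : FlatCA.IsEtaleNhd A R p z := ⟨inferInstance, inferInstance, hz⟩
  let C' := R ⊗[A] C
  let c' := ((Ideal.fiberIsoOfBijectiveResidueField (S := C) hz).symm ⟨c, hc.isPrime, inferInstance⟩)
  haveI : c'.1.IsPrime := c'.2.1
  haveI : c'.1.LiesOver z := c'.2.2
  have hc'c : c'.1.comap (algebraMap C C') = c :=
    Ideal.comap_fiberIsoOfBijectiveResidueField_symm hz ⟨c, hc.isPrime, inferInstance⟩
  haveI : c'.1.LiesOver c := ⟨hc'c.symm⟩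
  obtain ⟨d0, hd0min, hd0le⟩ := Ideal.exists_minimalPrimes_le (bot_le (a := c'.1))
  have hd0 : d0.IsPrime := hd0min.1.1
  obtain ⟨i, hi⟩ : ∃ i : Fin n, e i.castSucc ∉ c'.1 := by
    by_contra hno
    push Not at hno
    refine c'.2.1.ne_top ((Ideal.eq_top_iff_one _).2 ?_)
    rw [← he.complete]
    refine sum_mem fun i _ => ?_
    refine Fin.lastCases (huniq c'.1 inferInstance inferInstance).1 (fun i => hno i) i
  let B'' := R ⊗[A] Bb
  let ξ : C' →ₐ[R] B'' := Algebra.TensorProduct.map (AlgHom.id R R) C.val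
  haveI : Module.Flat A R := inferInstance
  have hξ : Function.Injective ξ.toRingHom := by
    intro x y hxy
    refine Module.Flat.lTensor_preserves_injective_linearMap (M := R) C.val.toLinearMap Subtype.val_injective ?_
    have hh : ∀ w, LinearMap.lTensor R C.val.toLinearMap w = ξ w := fun w => by
      induction w using TensorProduct.induction_on with
      | zero => rw [map_zero, map_zero]
      | tmul a b => rw [LinearMap.lTensor_tmul, Algebra.TensorProduct.map_tmul]; rfl
      | add a b ha hb => rw [map_add, map_add, ha, hb]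
    rw [hh, hh]
    exact hxy
  obtain ⟨Q, hQ, hQd'⟩ := Ideal.exists_comap_eq_of_mem_minimalPrimes ξ.toRingHom d0 (by
    rw [show (⊥ : Ideal B'').comap ξ.toRingHom = ⊥ from (RingHom.injective_iff_ker_eq_bot _).1 hξ]
    exact hd0min)
  haveI := hQ
  have hQd := hQd'.2
  have hcomapR : ∀ Z : Ideal B'', Z.comap (algebraMap R B'') = (Z.comap ξ.toRingHom).comap (algebraMap R C') :=
    fun Z => Ideal.ext fun r => iff_of_eq (congrArg (· ∈ Z) (ξ.commutes r).symm)
  obtain ⟨Q', hQ', hle, hQ'z⟩ := exists_specialization_of_quasiFinite N p (hpure p) R z het Q (by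
    show Q.comap (algebraMap R B'') ≤ z
    rw [hcomapR, hQd, Ideal.over_def c'.1 z]
    exact Ideal.comap_mono hd0le)
  haveI := hQ'
  let d := Q'.comap ξ.toRingHom
  haveI : d.IsPrime := Ideal.comap_isPrime _ _
  haveI : d.LiesOver z := ⟨(hQ'z.symm.trans (hcomapR Q') : z = d.comap (algebraMap R C'))⟩
  have hd0d : d0 ≤ d := hQd ▸ Ideal.comap_mono hle
  have hid : e i.castSucc ∉ d := fun hmem => by
    have hone : ∀ j, j ≠ i.castSucc → e j ∈ d := fun j hj => hd0d (by
      refine (hd0.mem_or_mem (x := e j) (y := e i.castSucc) (by rw [he.ortho hj]; exact zero_mem _)).resolve_right ?_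
      exact fun h => hi (hd0le h))
    refine ‹d.IsPrime›.ne_top ((Ideal.eq_top_iff_one _).2 ?_)
    rw [← he.complete]
    refine sum_mem fun j _ => ?_
    by_cases hj : j = i.castSucc
    · exact hj ▸ hmem
    · exact hone j hj
  have hdc : d = c'.1 := ((huniq d inferInstance inferInstance).2 i hid).trans
    ((huniq c'.1 inferInstance inferInstance).2 i hi).symm
  refine (Ideal.comap_isPrime (algebraMap Bb B'') Q').ne_top (top_le_iff.1 ?_)
  rw [← hspan, Ideal.span_le]
  rintro _ ⟨r, hr, rfl⟩
  have h1 : r ∈ c'.1.comap (algebraMap C C') := hc'c ▸ hTc (Ideal.subset_span hr)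
  show (1 : R) ⊗ₜ[A] (r : Bb) ∈ Q'
  have h2 : ξ ((1 : R) ⊗ₜ[A] r) = (1 : R) ⊗ₜ[A] (r : Bb) := by
    rw [Algebra.TensorProduct.map_tmul]; rfl
  rw [← h2]
  show algebraMap C C' r ∈ d
  rw [hdc]
  exact h1

end Groth.Agent.H4RG
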