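import Groth.Prelude
import Groth.Agent.H4RG.PureFinite
import Groth.Agent.AlgSpDec.SmoothLocDim
import Groth.Agent.FibDim.Semicont
import Groth.Agent.FibDim.Alg
import Mathlib

/-! The generic basis of a one-step devissage and the drop of the dimension of the cokernel. -/

set_option autoImplicit false
set_option linter.style.haveILetI false
set_option backward.isDefEq.respectTransparency.types false

universe u

open TensorProduct AlgebraicGeometry CategoryTheory

namespace Groth.Agent.H4RG

attribute [local instance] Algebra.TensorProduct.rightAlgebra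

/-- The points of the support of `G` over `p`. -/
def suppOver {R : Type u} (X : Type u) [CommRing R] [CommRing X] [Algebra R X] (p : Ideal R) (G : Type u)
    [AddCommGroup G] [Module X G] : Set (PrimeSpectrum X) :=
  {q | q.asIdeal.comap (algebraMap R X) = p ∧ Module.annihilator X G ≤ q.asIdeal}

/-- The dimension of the support of a fibre module is that of the support over the point. -/
theorem supportDim_fiberMod {R X : Type u} [CommRing R] [CommRing X] [Algebra R X] (p : Ideal R) [p.IsPrime]
    (G : Type u) [AddCommGroup G] [Module X G] [Module R G] [IsScalarTower R X G] [Module.Finite X G] :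
    Module.supportDim (p.Fiber X) (FlatCA.fiberMod p X G) = Order.krullDim (suppOver X p G) := by
  let e := PrimeSpectrum.preimageOrderIsoFiber R X (⟨p, inferInstance⟩ : PrimeSpectrum R)
  have he : ∀ Q, (e.symm Q).1.asIdeal = Q.asIdeal.comap (algebraMap X (p.Fiber X)) := fun Q => rfl
  refine Order.krullDim_eq_of_orderIso
    { toFun := fun Q => ⟨(e.symm Q.1).1, congrArg PrimeSpectrum.asIdeal (e.symm Q.1).2,
        (he Q.1) ▸ (mem_support_fiberMod G p Q.1).1 Q.2⟩
      invFun := fun q => ⟨e ⟨q.1, PrimeSpectrum.ext q.2.1⟩, (mem_support_fiberMod G p _).2 (by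
        rw [← he, OrderIso.symm_apply_apply]; exact q.2.2)⟩
      left_inv := fun Q => Subtype.ext (e.apply_symm_apply Q.1)
      right_inv := fun q => Subtype.ext (congrArg (fun w => w.1) (e.symm_apply_apply ⟨q.1, PrimeSpectrum.ext q.2.1⟩))
      map_rel_iff' := fun {a b} => e.symm.le_iff_le }

/-- Along a finite map the support over a point keeps its dimension. -/
theorem krullDim_suppOver_of_finite {R X Y : Type u} [CommRing R] [CommRing X] [CommRing Y] [Algebra R X] [Algebra R Y]
    [Algebra X Y] [IsScalarTower R X Y] [Module.Finite X Y] (p : Ideal R) (G : Type u) [AddCommGroup G]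
    [Module X G] [Module Y G] [IsScalarTower X Y G] :
    Order.krullDim (suppOver X p G) = Order.krullDim (suppOver Y p G) := by
  have hann : ∀ x : X, algebraMap X Y x ∈ Module.annihilator Y G ↔ x ∈ Module.annihilator X G := fun x => by
    simp only [Module.mem_annihilator, algebraMap_smul]
  let f : suppOver Y p G → suppOver X p G := fun z => ⟨PrimeSpectrum.comap (algebraMap X Y) z.1,
    by
      show (z.1.asIdeal.comap (algebraMap X Y)).comap (algebraMap R X) = p
      rw [Ideal.comap_comap, ← IsScalarTower.algebraMap_eq]
      exact z.2.1,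
    fun x hx => z.2.2 ((hann x).2 hx)⟩
  have hf : StrictMono f := fun a b hab => by
    show PrimeSpectrum.comap (algebraMap X Y) a.1 < PrimeSpectrum.comap (algebraMap X Y) b.1
    exact Ideal.IntegralClosure.comap_lt_comap (I := a.1.asIdeal) (J := b.1.asIdeal) hab
  refine le_antisymm (iSup_le fun l => ?_) (Order.krullDim_le_of_strictMono f hf)
  obtain ⟨Q, hQ, hQp, hQc⟩ := Ideal.exists_ideal_over_prime_of_isIntegral (R := X) (S := Y) l.head.1.asIdeal
    (Module.annihilator Y G) (fun x hx => l.head.2.2 ((hann x).1 hx))
  suffices ∀ (l : LTSeries (suppOver X p G)) (z : suppOver Y p G), f z = l.head →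
      ∃ L : LTSeries (suppOver Y p G), L.length = l.length ∧ L.head = z by
    obtain ⟨L, hL, -⟩ := this l ⟨⟨Q, hQp⟩, by
        show Q.comap (algebraMap R Y) = p
        rw [IsScalarTower.algebraMap_eq R X Y, ← Ideal.comap_comap, hQc]
        exact l.head.2.1, hQ⟩ (Subtype.ext (PrimeSpectrum.ext hQc))
    exact hL ▸ Order.LTSeries.length_le_krullDim L
  intro l
  induction l using RelSeries.inductionOn with
  | singleton q => exact fun z _ => ⟨RelSeries.singleton _ z, rfl, rfl⟩
  | cons l q lt ih =>
    intro z hz
    rw [RelSeries.head_cons] at hz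
    subst hz
    haveI : z.1.asIdeal.LiesOver (f z).1.asIdeal := ⟨rfl⟩
    have lt' : (f z).1.asIdeal < l.head.1.asIdeal := lt
    obtain ⟨Q', hlt, hQ', hQo⟩ := Ideal.exists_ideal_gt_liesOver_of_lt (p := (f z).1.asIdeal) (q := l.head.1.asIdeal)
      z.1.asIdeal lt'
    obtain ⟨L, hL, hLh⟩ := ih ⟨⟨Q', hQ'⟩, by
        show Q'.comap (algebraMap R Y) = p
        rw [IsScalarTower.algebraMap_eq R X Y, ← Ideal.comap_comap,
          show Q'.comap (algebraMap X Y) = l.head.1.asIdeal from hQo.over.symm]
        exact l.head.2.1, z.2.2.trans hlt.le⟩ (Subtype.ext (PrimeSpectrum.ext hQo.over.symm))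
    exact ⟨L.cons z (by rw [hLh]; exact hlt), by simp [hL], RelSeries.head_cons _ _ _⟩

/-- A smooth algebra of relative dimension `n` has fibres of dimension at most `n`. -/
theorem krullDim_fib_le {R D : Type u} [CommRing R] [CommRing D] [Algebra R D] (n : ℕ) (h : FlatCA.SmoothRelDim n R D)
    (y : PrimeSpectrum R) : Order.krullDim ↥(FibDim.fib (B := D) y) ≤ (n : WithBot ℕ∞) := by
  haveI : SmoothOfRelativeDimension n (Spec.map (CommRingCat.ofHom (algebraMap R D))) := h
  haveI : Smooth (Spec.map (CommRingCat.ofHom (algebraMap R D))) := SmoothOfRelativeDimension.smooth n _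
  have h1 := FibDim.topologicalKrullDim_fiber (Spec.map (CommRingCat.ofHom (algebraMap R D))) y
  rw [FibDim.krullDim_fib, ← FibDim.topologicalKrullDim_fib]
  refine le_of_eq_of_le ((((Spec.map (CommRingCat.ofHom (algebraMap R D))).fiberHomeo y).isHomeomorph.topologicalKrullDim_eq).symm.trans h1) ?_
  refine iSup_le fun z => le_trans (FibDim.fibreDimAt_ge_rd _ (specializes_refl z.1)) ?_
  exact (Groth.Agent.S2768.result n (Spec.map (CommRingCat.ofHom (algebraMap R D))) z.1).le

/-- A set of points over `p` strictly above one point has smaller dimension than the fibre. -/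
theorem krullDim_lt_of_forall_gt {α : Type u} [Preorder α] (F S : Set α) (a : α) (ha : a ∈ F) (hS : S ⊆ F)
    (hgt : ∀ x ∈ S, a < x) {n : ℕ} (hn : Order.krullDim F ≤ (n : WithBot ℕ∞)) :
    Order.krullDim S < (n : WithBot ℕ∞) := by
  by_cases hne : Nonempty S
  swap
  · haveI := not_nonempty_iff.1 hne
    rw [Order.krullDim_eq_bot]
    exact WithBot.bot_lt_coe _
  have hkey : ∀ l : LTSeries S, l.length + 1 ≤ n := fun l => by
    let l' : LTSeries F := l.map (Set.inclusion hS) fun x y hxy => hxy
    let L : LTSeries F := l'.cons ⟨a, ha⟩ (show a < _ from hgt _ l.head.2)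
    have h1 := (Order.LTSeries.length_le_krullDim L).trans hn
    have h2 : L.length = l.length + 1 := by simp [L, l']
    rw [h2] at h1
    exact_mod_cast h1
  obtain ⟨x⟩ := hne
  have hn0 := hkey (RelSeries.singleton _ x)
  refine lt_of_le_of_lt (iSup_le (fun l => ?_) : Order.krullDim S ≤ ((n - 1 : ℕ) : WithBot ℕ∞)) ?_
  · have := hkey l
    exact_mod_cast (show l.length ≤ n - 1 by omega)
  · exact_mod_cast (show n - 1 < n by omega)

/-- A finite module has, over any field over the base, a basis coming from a map of a free module. -/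
theorem exists_baseChange_bijective {D : Type u} [CommRing D] (G : Type u) [AddCommGroup G] [Module D G] [Module.Finite D G]
    (K : Type u) [Field K] [Algebra D K] :
    ∃ (r : ℕ) (α : (Fin r → D) →ₗ[D] G), r = Module.finrank K (K ⊗[D] G) ∧ Function.Bijective (α.baseChange K) := by
  classical
  have hspan : Submodule.span K (Set.range fun g : G => (1 : K) ⊗ₜ[D] g) = ⊤ := by
    rw [eq_top_iff]
    intro x _
    induction x using TensorProduct.induction_on with
    | zero => exact zero_mem _
    | tmul k g =>
      rw [show k ⊗ₜ[D] g = k • ((1 : K) ⊗ₜ[D] g) by rw [TensorProduct.smul_tmul', smul_eq_mul, mul_one]]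
      exact Submodule.smul_mem _ _ (Submodule.subset_span ⟨g, rfl⟩)
    | add a b ha hb => exact add_mem (ha trivial) (hb trivial)
  obtain ⟨s, hs, hsspan, hli⟩ := exists_linearIndependent K (Set.range fun g : G => (1 : K) ⊗ₜ[D] g)
  let b : Module.Basis s K (K ⊗[D] G) := Module.Basis.mk hli (by rw [Subtype.range_coe, hsspan, hspan])
  haveI : Fintype s := FiniteDimensional.fintypeBasisIndex b
  let b' := b.reindex (Fintype.equivFin s)
  choose g hg using fun i => hs ((Fintype.equivFin s).symm i).2
  refine ⟨_, Fintype.linearCombination D g, (Module.finrank_eq_card_basis b).symm, ?_⟩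
  let e := ((Pi.basisFun D (Fin (Fintype.card s))).baseChange K).equiv b' (Equiv.refl _)
  have he : (Fintype.linearCombination D g).baseChange K = e.toLinearMap := by
    refine ((Pi.basisFun D (Fin (Fintype.card s))).baseChange K).ext fun i => ?_
    show (Fintype.linearCombination D g).baseChange K _ = e _
    rw [Module.Basis.equiv_apply, Module.Basis.baseChange_apply, LinearMap.baseChange_tmul, Equiv.refl_apply,
      Module.Basis.reindex_apply, Module.Basis.mk_apply, Pi.basisFun_apply, Fintype.linearCombination_apply_single,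
      one_smul]
    exact hg i
  rw [he]
  exact e.bijective

end Groth.Agent.H4RG
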