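import Groth.Prelude
import Groth.Agent.H4RG.DevissageBasis
import Groth.Agent.Synt29.Descent
import Mathlib

/-! Supports of fibre modules seen in the spectrum, and how base changes and localisations move them. -/

set_option autoImplicit false
set_option linter.style.haveILetI false
set_option backward.isDefEq.respectTransparency.types false

universe u v

open TensorProduct Topology

namespace Groth.Agent.H4RG

attribute [local instance] Algebra.TensorProduct.rightAlgebra

/-- The local dimension does not change along an open embedding. -/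
theorem localDim_isOpenEmbedding {α β : Type v} [TopologicalSpace α] [TopologicalSpace β] {f : α → β}
    (hf : IsOpenEmbedding f) (a : α) : FlatMor.localDim β (f a) = FlatMor.localDim α a := by
  refine le_antisymm (le_iInf fun U => ?_) (le_iInf fun V => ?_)
  · refine iInf_le_of_le ⟨⟨f '' U.1, hf.isOpenMap _ U.1.2⟩, ⟨a, U.2, rfl⟩⟩ (le_of_eq ?_)
    exact ((hf.isEmbedding.homeomorphImage _).isHomeomorph.topologicalKrullDim_eq).symm
  · refine iInf_le_of_le ⟨⟨f ⁻¹' V.1, V.1.2.preimage hf.continuous⟩, V.2⟩ ?_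
    exact ((hf.isEmbedding.isInducing.restrictPreimage (s := (V.1 : Set β)))).topologicalKrullDim_le

/-- A map which embeds openly a set embeds openly the part over a subset. -/
theorem isOpenEmbedding_restrict {α β : Type v} [TopologicalSpace α] [TopologicalSpace β] (f : α → β) {A S : Set β}
    {A' S' : Set α} (hA : Set.MapsTo f A' A) (he : IsOpenEmbedding hA.restrict) (hS : S ⊆ A) (hS' : S' = A' ∩ f ⁻¹' S)
    (hm : Set.MapsTo f S' S) : IsOpenEmbedding hm.restrict := by
  subst hS'
  let e1 : ↥(A' ∩ f ⁻¹' S) ≃ₜ ↥(hA.restrict ⁻¹' {x : A | x.1 ∈ S}) :=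
    { toFun := fun x => ⟨⟨x.1, x.2.1⟩, x.2.2⟩
      invFun := fun x => ⟨x.1.1, x.1.2, x.2⟩
      continuous_toFun := by fun_prop
      continuous_invFun := by fun_prop }
  let e2 : ↥({x : A | x.1 ∈ S}) ≃ₜ ↥S :=
    { toFun := fun x => ⟨x.1.1, x.2⟩
      invFun := fun x => ⟨⟨x.1, hS x.2⟩, x.2⟩
      continuous_toFun := by fun_prop
      continuous_invFun := by fun_prop }
  exact e2.isOpenEmbedding.comp ((he.restrictPreimage {x : A | x.1 ∈ S}).comp e1.isOpenEmbedding)

variable {R X : Type u} [CommRing R] [CommRing X] [Algebra R X]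

/-- The point `Q` of the support over `p` has local dimension `n` in it. -/
def LocAt (p : Ideal R) (M : Type u) [AddCommGroup M] [Module X M] (Q : PrimeSpectrum X) (n : WithBot ℕ∞) : Prop :=
  ∃ hQ : Q ∈ suppOver X p M, FlatMor.localDim ↥(suppOver X p M) ⟨Q, hQ⟩ = n

variable (p : Ideal R) [p.IsPrime]

/-- The ideal of a prime in the fibre is the prime of the fibre over it. -/
theorem eq_fiberIdeal_iff (Q : PrimeSpectrum (p.Fiber X)) (q : Ideal X) [q.IsPrime] (hq : q.comap (algebraMap R X) = p) :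
    Q.asIdeal = FlatCA.fiberIdeal p q ↔
      Q.asIdeal.comap (Algebra.TensorProduct.includeRight (R := R) (A := p.ResidueField) (B := X)).toRingHom = q := by
  let ep := PrimeSpectrum.preimageHomeomorphFiber R X ⟨p, inferInstance⟩
  let Q0 := ep ⟨⟨q, inferInstance⟩, PrimeSpectrum.ext hq⟩
  have hQ0 : Q0.asIdeal.comap (Algebra.TensorProduct.includeRight (R := R) (A := p.ResidueField) (B := X)).toRingHom = q :=
    congrArg (fun z => z.1.asIdeal) (ep.symm_apply_apply _)
  have key : ∀ P : PrimeSpectrum (p.Fiber X),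
      P.asIdeal.comap (Algebra.TensorProduct.includeRight (R := R) (A := p.ResidueField) (B := X)).toRingHom = q →
        P.asIdeal = FlatCA.fiberIdeal p q := by
    intro P hP
    refine le_antisymm (fun a ha => ?_) (Ideal.map_le_iff_le_comap.2 hP.ge)
    obtain ⟨r, hr, s, hs⟩ := Ideal.Fiber.exists_smul_eq_one_tmul p a
    have hu : IsUnit (algebraMap R (p.Fiber X) r) := by
      rw [IsScalarTower.algebraMap_apply R p.ResidueField (p.Fiber X)]
      exact (Ne.isUnit (by simpa using hr)).map _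
    have h1 : (1 : p.ResidueField) ⊗ₜ[R] s ∈ P.asIdeal := by
      rw [← hs, Algebra.smul_def]
      exact Ideal.mul_mem_left _ _ ha
    have h2 : (1 : p.ResidueField) ⊗ₜ[R] s ∈ FlatCA.fiberIdeal p q := Ideal.mem_map_of_mem _ (hP.le h1)
    rw [← hs, Algebra.smul_def, Ideal.unit_mul_mem_iff_mem _ hu] at h2
    exact h2
  refine ⟨fun h => ?_, key Q⟩
  rw [h, ← key Q0 hQ0, hQ0]

variable (M : Type u) [AddCommGroup M] [Module X M] [Module.Finite X M]

/-- The support of a fibre module is the part of the support over the point. -/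
theorem exists_support_homeomorph :
    ∃ e : ↥(Module.support (p.Fiber X) (FlatCA.fiberMod p X M)) ≃ₜ ↥(suppOver X p M),
      ∀ ξ, (e ξ).1.asIdeal =
        ξ.1.asIdeal.comap (Algebra.TensorProduct.includeRight (R := R) (A := p.ResidueField) (B := X)).toRingHom := by
  letI : Module R M := Module.compHom M (algebraMap R X)
  haveI : IsScalarTower R X M := IsScalarTower.of_algebraMap_smul fun a (x : M) => rfl
  let ep := PrimeSpectrum.preimageHomeomorphFiber R X ⟨p, inferInstance⟩
  let g : ↥(Module.support (p.Fiber X) (FlatCA.fiberMod p X M)) → PrimeSpectrum X := fun ξ => (ep.symm ξ.1).1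
  have hg : IsEmbedding g := IsEmbedding.subtypeVal.comp (ep.symm.isEmbedding.comp IsEmbedding.subtypeVal)
  have hr : Set.range g = suppOver X p M := by
    ext q
    constructor
    · rintro ⟨ξ, rfl⟩
      exact ⟨congrArg PrimeSpectrum.asIdeal (ep.symm ξ.1).2, (mem_support_fiberMod M p ξ.1).1 ξ.2⟩
    · intro hq
      refine ⟨⟨ep ⟨q, PrimeSpectrum.ext hq.1⟩, (mem_support_fiberMod M p _).2 ?_⟩, ?_⟩
      · refine hq.2.trans (le_of_eq ?_)
        exact (congrArg (fun z => z.1.asIdeal) (ep.symm_apply_apply ⟨q, PrimeSpectrum.ext hq.1⟩)).symm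
      · exact congrArg (fun z => z.1) (ep.symm_apply_apply ⟨q, PrimeSpectrum.ext hq.1⟩)
  exact ⟨hg.toHomeomorph.trans (Homeomorph.setCongr hr), fun ξ => rfl⟩

/-- The two ways of saying that a point of the support of a fibre has local dimension `n`. -/
theorem locAt_iff (q : Ideal X) [q.IsPrime] (hq : q.comap (algebraMap R X) = p) (n : WithBot ℕ∞) :
    (∃ (ξ : PrimeSpectrum (p.Fiber X)) (hξ : ξ ∈ Module.support (p.Fiber X) (FlatCA.fiberMod p X M)),
      ξ.asIdeal = FlatCA.fiberIdeal p q ∧
        FlatMor.localDim (Module.support (p.Fiber X) (FlatCA.fiberMod p X M)) ⟨ξ, hξ⟩ = n) ↔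
      LocAt p M (⟨q, inferInstance⟩ : PrimeSpectrum X) n := by
  obtain ⟨e, he⟩ := exists_support_homeomorph (R := R) (X := X) p M
  constructor
  · rintro ⟨ξ, hξ, hid, hdim⟩
    have hval : (e ⟨ξ, hξ⟩).1 = ⟨q, inferInstance⟩ :=
      PrimeSpectrum.ext ((he _).trans ((eq_fiberIdeal_iff p ξ q hq).1 hid))
    refine ⟨hval ▸ (e ⟨ξ, hξ⟩).2, ?_⟩
    rw [show (⟨_, hval ▸ (e ⟨ξ, hξ⟩).2⟩ : ↥(suppOver X p M)) = e ⟨ξ, hξ⟩ from Subtype.ext hval.symm,
      FibDim.localDim_homeomorph, hdim]
  · rintro ⟨hQ, hdim⟩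
    refine ⟨(e.symm ⟨_, hQ⟩).1, (e.symm ⟨_, hQ⟩).2, (eq_fiberIdeal_iff p _ q hq).2 ?_, ?_⟩
    · rw [← he, Homeomorph.apply_symm_apply]
    · show FlatMor.localDim _ (e.symm ⟨_, hQ⟩) = n
      rw [FibDim.localDim_homeomorph e.symm, hdim]

omit [p.IsPrime] in
/-- The support over a point after a base change is the inverse image. -/
theorem annihilator_le_iff_of_isBaseChange {X' : Type u} [CommRing X'] [Algebra X X'] {M' : Type u} [AddCommGroup M']
    [Module X' M'] [Module X M'] [IsScalarTower X X' M'] (g : M →ₗ[X] M') (hg : IsBaseChange X' g)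
    (Q' : PrimeSpectrum X') :
    Module.annihilator X' M' ≤ Q'.asIdeal ↔ Module.annihilator X M ≤ Q'.asIdeal.comap (algebraMap X X') := by
  haveI : Module.Finite X' M' := Module.Finite.equiv hg.equiv
  rw [← Module.mem_support_iff_of_finite, ← hg.equiv.support_eq]
  exact (MorLib.UnrLocus.support_baseChange_iff M Q').trans Module.mem_support_iff_of_finite

/-- Base change along a map with trivial residue extension identifies the fibres. -/
theorem exists_fiberEquiv {R' X' : Type u} [CommRing R'] [CommRing X'] [Algebra R R'] [Algebra R' X'] [Algebra R X']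
    [Algebra X X'] [IsScalarTower R R' X'] [IsScalarTower R X X'] [Algebra.IsPushout R R' X X'] (p' : Ideal R')
    [p'.IsPrime] (hp : p'.LiesOver p)
    (hκ : Function.Bijective (Ideal.ResidueField.mapₐ p p' (Algebra.ofId R R') hp.over)) :
    ∃ e : p'.Fiber X' ≃+* p.Fiber X, ∀ x : X, e ((1 : p'.ResidueField) ⊗ₜ[R'] algebraMap X X' x) = (1 : p.ResidueField) ⊗ₜ[R] x := by
  let m : p.ResidueField ≃ₐ[R] p'.ResidueField := AlgEquiv.ofBijective (Ideal.ResidueField.mapₐ p p' (Algebra.ofId R R') hp.over) hκ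
  let e1 : p'.ResidueField ⊗[R'] (R' ⊗[R] X) ≃+* p'.ResidueField ⊗[R] X :=
    (Algebra.TensorProduct.cancelBaseChange R R' R' p'.ResidueField X).toRingEquiv
  let e0 : p'.Fiber X' ≃+* p'.ResidueField ⊗[R'] (R' ⊗[R] X) :=
    (Algebra.TensorProduct.congr (AlgEquiv.refl (R := R') (A₁ := p'.ResidueField)) (Algebra.IsPushout.equiv R R' X X').symm).toRingEquiv
  let e2 : p'.ResidueField ⊗[R] X ≃+* p.Fiber X :=
    (Algebra.TensorProduct.congr m.symm (AlgEquiv.refl (R := R) (A₁ := X))).toRingEquiv
  refine ⟨e0.trans (e1.trans e2), fun x => ?_⟩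
  have h0 : (Algebra.IsPushout.equiv R R' X X').symm (algebraMap X X' x) = (1 : R') ⊗ₜ[R] x := by
    rw [AlgEquiv.symm_apply_eq]
    simp [Algebra.IsPushout.equiv_tmul]
  simp [e0, e1, e2, h0]

/-- The fibre points map bijectively and openly for such a base change. -/
theorem isOpenEmbedding_fib_of_pushout {R' X' : Type u} [CommRing R'] [CommRing X'] [Algebra R R'] [Algebra R' X']
    [Algebra R X'] [Algebra X X'] [IsScalarTower R R' X'] [IsScalarTower R X X'] [Algebra.IsPushout R R' X X']
    (p' : Ideal R') [p'.IsPrime] (hp : p'.LiesOver p)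
    (hκ : Function.Bijective (Ideal.ResidueField.mapₐ p p' (Algebra.ofId R R') hp.over))
    (hm : Set.MapsTo (PrimeSpectrum.comap (algebraMap X X')) {Q | Q.asIdeal.comap (algebraMap R' X') = p'}
      {Q | Q.asIdeal.comap (algebraMap R X) = p}) : IsOpenEmbedding hm.restrict ∧ Function.Surjective hm.restrict := by
  obtain ⟨e, he⟩ := exists_fiberEquiv (X := X) p (X' := X') p' hp hκ
  let ep := PrimeSpectrum.preimageHomeomorphFiber R X ⟨p, inferInstance⟩
  let ep' := PrimeSpectrum.preimageHomeomorphFiber R' X' ⟨p', inferInstance⟩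
  let c1 : ↥{Q : PrimeSpectrum X' | Q.asIdeal.comap (algebraMap R' X') = p'} ≃ₜ
      ↥(PrimeSpectrum.comap (algebraMap R' X') ⁻¹' {(⟨p', inferInstance⟩ : PrimeSpectrum R')}) :=
    Homeomorph.setCongr (Set.ext fun Q => ⟨fun h => PrimeSpectrum.ext h, fun h => congrArg PrimeSpectrum.asIdeal h⟩)
  let c2 : ↥(PrimeSpectrum.comap (algebraMap R X) ⁻¹' {(⟨p, inferInstance⟩ : PrimeSpectrum R)}) ≃ₜ
      ↥{Q : PrimeSpectrum X | Q.asIdeal.comap (algebraMap R X) = p} :=
    Homeomorph.setCongr (Set.ext fun Q => ⟨fun h => congrArg PrimeSpectrum.asIdeal h, fun h => PrimeSpectrum.ext h⟩)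
  let H := c1.trans (ep'.trans ((PrimeSpectrum.homeomorphOfRingEquiv e).trans (ep.symm.trans c2)))
  have hH : ⇑H = hm.restrict := by
    funext Q
    refine Subtype.ext (PrimeSpectrum.ext (Ideal.ext fun x => ?_))
    show e.symm ((1 : p.ResidueField) ⊗ₜ[R] x) ∈ (ep' (c1 Q)).asIdeal ↔ algebraMap X X' x ∈ Q.1.asIdeal
    rw [← he, e.symm_apply_apply]
    exact iff_of_eq (congrArg (algebraMap X X' x ∈ ·) (congrArg (fun z => z.1.asIdeal) (ep'.symm_apply_apply (c1 Q))))
  exact ⟨hH ▸ H.isOpenEmbedding, hH ▸ H.surjective⟩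

omit [p.IsPrime] in
/-- An open embedding of spectra over an injective map of bases embeds the fibres openly. -/
theorem isOpenEmbedding_fib_of_openEmbedding {R' X' : Type u} [CommRing R'] [CommRing X'] [Algebra R R'] [Algebra R' X']
    [Algebra R X'] [Algebra X X'] [IsScalarTower R R' X'] [IsScalarTower R X X'] (p' : Ideal R')
    (hp : p'.comap (algebraMap R R') = p) (hinj : Function.Injective (PrimeSpectrum.comap (algebraMap R R'))) [p'.IsPrime]
    (hopen : IsOpenEmbedding (PrimeSpectrum.comap (algebraMap X X')))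
    (hm : Set.MapsTo (PrimeSpectrum.comap (algebraMap X X')) {Q | Q.asIdeal.comap (algebraMap R' X') = p'}
      {Q | Q.asIdeal.comap (algebraMap R X) = p}) : IsOpenEmbedding hm.restrict := by
  let T : Set (PrimeSpectrum X) := {Q | Q.asIdeal.comap (algebraMap R X) = p}
  have heq : {Q : PrimeSpectrum X' | Q.asIdeal.comap (algebraMap R' X') = p'} = PrimeSpectrum.comap (algebraMap X X') ⁻¹' T := by
    refine Set.Subset.antisymm hm fun Q (hQ : (Q.asIdeal.comap (algebraMap X X')).comap (algebraMap R X) = p) => ?_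
    refine congrArg PrimeSpectrum.asIdeal (hinj (a₁ := PrimeSpectrum.comap (algebraMap R' X') Q) (a₂ := ⟨p', inferInstance⟩) ?_)
    refine PrimeSpectrum.ext ?_
    show (Q.asIdeal.comap (algebraMap R' X')).comap (algebraMap R R') = p'.comap (algebraMap R R')
    rw [hp, Ideal.comap_comap, ← IsScalarTower.algebraMap_eq, ← hQ, Ideal.comap_comap, ← IsScalarTower.algebraMap_eq]
  exact (hopen.restrictPreimage T).comp (Homeomorph.setCongr heq).isOpenEmbedding

/-- Local dimensions of fibre supports are kept when the fibres embed openly. -/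
theorem LocAt.transport {R' X' : Type u} [CommRing R'] [CommRing X'] [Algebra R' X'] [Algebra X X'] {p' : Ideal R'}
    {M' : Type u} [AddCommGroup M'] [Module X' M'] [Module X M'] [IsScalarTower X X' M'] {g : M →ₗ[X] M'}
    (hg : IsBaseChange X' g)
    (hm : Set.MapsTo (PrimeSpectrum.comap (algebraMap X X')) {Q | Q.asIdeal.comap (algebraMap R' X') = p'}
      {Q | Q.asIdeal.comap (algebraMap R X) = p}) (he : IsOpenEmbedding hm.restrict)
    {Q : PrimeSpectrum X} {n : WithBot ℕ∞} (h : LocAt p M Q n) (Q' : PrimeSpectrum X')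
    (hQ' : Q'.asIdeal.comap (algebraMap R' X') = p') (hQQ : PrimeSpectrum.comap (algebraMap X X') Q' = Q) :
    LocAt p' M' Q' n := by
  subst hQQ
  obtain ⟨hQ, hdim⟩ := h
  have hS : suppOver X' p' M' = {Q | Q.asIdeal.comap (algebraMap R' X') = p'} ∩
      PrimeSpectrum.comap (algebraMap X X') ⁻¹' suppOver X p M :=
    Set.ext fun P => ⟨fun hP => ⟨hP.1, hm hP.1, (annihilator_le_iff_of_isBaseChange M g hg P).1 hP.2⟩,
      fun hP => ⟨hP.1, (annihilator_le_iff_of_isBaseChange M g hg P).2 hP.2.2⟩⟩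
  have hm' : Set.MapsTo (PrimeSpectrum.comap (algebraMap X X')) (suppOver X' p' M') (suppOver X p M) :=
    fun P hP => (hS.le hP).2
  have hemb := isOpenEmbedding_restrict _ hm he (fun P hP => hP.1) hS hm'
  refine ⟨hS.ge ⟨hQ', hQ⟩, ?_⟩
  rw [← localDim_isOpenEmbedding hemb, ← hdim]
  rfl

/-- The dimension of the support of a fibre module as the dimension of a ring. -/
theorem supportDim_fiberMod_eq_ringKrullDim [Module R M] [IsScalarTower R X M] :
    Module.supportDim (p.Fiber X) (FlatCA.fiberMod p X M) =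
      ringKrullDim (p.Fiber X ⧸ (Module.annihilator X M).map (algebraMap X (p.Fiber X))) := by
  rw [ringKrullDim_quotient]
  refine Order.krullDim_eq_of_orderIso (OrderIso.setCongr _ _ ?_)
  ext Q
  rw [mem_support_fiberMod M p Q, PrimeSpectrum.mem_zeroLocus, SetLike.coe_subset_coe, Ideal.map_le_iff_le_comap]

/-- The local dimension is at most the dimension of the support. -/
theorem le_supportDim_of_locAt {Q : PrimeSpectrum X} {n : WithBot ℕ∞} (h : LocAt p M Q n) :
    n ≤ Module.supportDim (p.Fiber X) (FlatCA.fiberMod p X M) := by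
  letI : Module R M := Module.compHom M (algebraMap R X)
  haveI : IsScalarTower R X M := IsScalarTower.of_algebraMap_smul fun a (x : M) => rfl
  obtain ⟨e, -⟩ := exists_support_homeomorph (R := R) (X := X) p M
  obtain ⟨hQ, rfl⟩ := h
  refine (iInf_le _ ⟨⊤, TopologicalSpace.Opens.mem_top _⟩).trans (le_of_eq ?_)
  show topologicalKrullDim ↥(Set.univ : Set ↥(suppOver X p M)) = _
  rw [(Homeomorph.Set.univ _).isHomeomorph.topologicalKrullDim_eq, ← e.isHomeomorph.topologicalKrullDim_eq,
    supportDim_fiberMod_eq_ringKrullDim, ← PrimeSpectrum.topologicalKrullDim_eq_ringKrullDim]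
  let I := (Module.annihilator X M).map (algebraMap X (p.Fiber X))
  have hemb := (PrimeSpectrum.isClosedEmbedding_comap_of_surjective (p.Fiber X ⧸ I) (Ideal.Quotient.mk I) Ideal.Quotient.mk_surjective).isEmbedding
  refine ((hemb.toHomeomorph.trans (Homeomorph.setCongr ?_)).isHomeomorph.topologicalKrullDim_eq).symm
  rw [range_comap_of_surjective _ _ Ideal.Quotient.mk_surjective, Ideal.mk_ker]
  ext P
  rw [mem_support_fiberMod M p P, PrimeSpectrum.mem_zeroLocus, SetLike.coe_subset_coe, Ideal.map_le_iff_le_comap]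

end Groth.Agent.H4RG
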