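import Groth.Agent.H4RG.SMulClosed
import Mathlib

/-! A multiplication injective on the closed fibre is universally injective at every point of it. -/

set_option autoImplicit false
set_option linter.style.haveILetI false
set_option backward.isDefEq.respectTransparency.types false

universe u

open TensorProduct IsLocalRing

namespace Groth.Agent.H4RG

attribute [local instance] Algebra.TensorProduct.rightAlgebra

/-- An element of a tensor product killed by a multiplication injective on the localisation is killed by a
denominator. -/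
theorem exists_kill_tensor_of_injective {A S : Type u} [CommRing A] [CommRing S] [Algebra A S] (W : Submonoid S)
    {M L : Type u} [AddCommGroup M] [Module S M] [Module A M] [IsScalarTower A S M] [AddCommGroup L] [Module S L]
    [Module A L] [IsScalarTower A S L] (i : M →ₗ[S] L) [IsLocalizedModule W i] (t : S) [IsLocalRing A] [Module.Flat A L]
    (hml : CAlg.IsMittagLeffler A L)
    (hf : Function.Injective (((LinearMap.lsmul S L t).restrictScalars A).rTensor (ResidueField A)))
    (Y : Type u) [AddCommGroup Y] [Module A Y] (m : M ⊗[A] Y) (hm : t • m = 0) : ∃ v : W, (v : S) • m = 0 := by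
  have h := ui_of_ml hml ((LinearMap.lsmul S L t).restrictScalars A) hf Y
  have h0 : t • AlgebraTensorModule.rTensor A Y i m = 0 := by rw [← map_smul, hm, map_zero]
  have h1 : AlgebraTensorModule.rTensor A Y i m = 0 := h (by rw [map_zero, rTensor_lsmul]; exact h0)
  exact (IsLocalizedModule.eq_zero_iff W (AlgebraTensorModule.rTensor A Y i)).1 h1

/-- The tensor product of a base change. -/
noncomputable def baseChangeTensorEquiv (A A' B B' N X : Type u) [CommRing A] [CommRing A'] [Algebra A A'] [CommRing B]
    [Algebra A B] [CommRing B'] [Algebra A' B'] [Algebra B B'] [Algebra A B'] [IsScalarTower A A' B']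
    [IsScalarTower A B B'] [AddCommGroup N] [Module B N] [Module A N] [IsScalarTower A B N]
    [AddCommGroup X] [Module A X] : B' ⊗[B] (N ⊗[A] X) ≃ₗ[B'] (B' ⊗[B] N) ⊗[A'] (A' ⊗[A] X) :=
  (AlgebraTensorModule.assoc A B B' B' N X).symm.trans
    (AlgebraTensorModule.cancelBaseChange A A' B' (B' ⊗[B] N) X).symm

/-- Over a local base, a multiplication injective on the closed fibre kills nothing near it after tensoring. -/
theorem exists_kill_tensor_of_fibre {A B : Type u} [CommRing A] [IsLocalRing A] [CommRing B] [Algebra A B]
    [Algebra.EssFiniteType A B] (N : Type u) [AddCommGroup N] [Module B N] [Module A N] [IsScalarTower A B N]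
    [Module.Finite B N] [Module.Flat A N] (P : Ideal B) [P.IsPrime] (hP : P.comap (algebraMap A B) = maximalIdeal A)
    (t : B) (ht : ∀ v : N ⊗[A] ResidueField A, t • v = 0 → ∃ u ∉ P, u • v = 0)
    (X : Type u) [AddCommGroup X] [Module A X] (w : N ⊗[A] X) (hw : t • w = 0) :
    ∃ u ∉ P, u • w = 0 := by
  classical
  let k0 := ResidueField A
  let A' := Hensel.Henz A k0
  haveI : HenselianLocalRing A' := Hensel.henselianLocalRing_henz
  haveI : Module.FaithfullyFlat A A' := Hensel.faithfullyFlat_henz
  let B' := A' ⊗[A] B
  haveI : Module.Flat B B' := flat_tensor_right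
  haveI : Algebra.IsPushout A A' B B' := inferInstance
  haveI : Algebra.IsPushout A B A' B' := Algebra.IsPushout.symm inferInstance
  let N2 := B' ⊗[B] N
  haveI : Algebra.EssFiniteType A' B' := inferInstance
  let E : N2 ≃ₗ[A'] A' ⊗[A] N := Algebra.IsPushout.cancelBaseChange A A' B B' N
  haveI : Module.Flat A' N2 := Module.Flat.of_linearEquiv E
  obtain ⟨q, hq, hqP, hqA⟩ := exists_prime_pushout (D := B') P (maximalIdeal A') (hP.trans (by
    refine (IsLocalRing.maximalIdeal_comap (algebraMap A A')).symm))
  let Bq := Localization.AtPrime q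
  let W := q.primeCompl
  let Lq := LocalizedModule W N2
  let i := LocalizedModule.mkLinearMap W N2
  haveI : IsLocalHom (algebraMap A' Bq) := ⟨fun a ha => by
    by_contra h0
    have h1 : algebraMap A' B' a ∈ q := by
      rw [← Ideal.mem_comap, hqA]
      exact (IsLocalRing.mem_maximalIdeal a).2 h0
    rw [IsScalarTower.algebraMap_apply A' B' Bq, IsLocalization.AtPrime.isUnit_to_map_iff Bq q] at ha
    exact ha h1⟩
  haveI : Module.Flat A' Lq := flat_localized_of_flat (R := A') (S := B') N2 q
  haveI : Algebra.EssFiniteType A' Bq := Algebra.EssFiniteType.comp A' B' Bq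
  haveI : Module.Finite Bq Lq := Module.Finite.of_isLocalizedModule W i
  have hml : CAlg.IsMittagLeffler A' Lq := S1215.result (A := A') (B := Bq) Lq
  let t' := algebraMap B B' t
  let tL : Lq →ₗ[A'] Lq := (LinearMap.lsmul B' Lq t').restrictScalars A'
  let k := ResidueField A'
  have hfib : Function.Injective (tL.rTensor k) := by
    obtain ⟨ψ, hψ, -, hψs⟩ := exists_tensor_equiv (R := A) (A := A') k (TensorProduct.mk B B' N 1)
      (TensorProduct.isBaseChange B N B')
    letI : Algebra k0 k := (IsLocalRing.ResidueField.map (algebraMap A A')).toAlgebra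
    haveI : IsScalarTower A k0 k := IsScalarTower.of_algebraMap_eq fun a => rfl
    refine injective_loc_rTensor (A := A') (S := B') (M := N2) (L := Lq) W i k t' fun z0 hz0 => ?_
    obtain ⟨v0, rfl⟩ := hψ.2 z0
    obtain ⟨u, hu, huv⟩ := exists_kill_extension P k0 k t ht v0 (hψ.1 (by rw [hψs, map_zero]; exact hz0))
    exact ⟨algebraMap B B' u, fun hm => hu (hqP.le hm), by rw [← hψs, huv, map_zero]⟩
  let Y := A' ⊗[A] X
  let E1 := baseChangeTensorEquiv A A' B B' N X
  have hy : t' • E1 ((1 : B') ⊗ₜ[B] w) = 0 := by
    rw [← map_smul, algebraMap_smul, ← tmul_smul, hw, tmul_zero, map_zero]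
  obtain ⟨v, hv⟩ := exists_kill_tensor_of_injective (A := A') (S := B') (M := N2) (L := Lq) W i t' hml hfib Y _ hy
  have hv' : (v : B') ⊗ₜ[B] w = 0 := by
    apply E1.injective
    rw [map_zero, ← mul_one (v : B'), ← smul_eq_mul, ← smul_tmul', map_smul]
    exact hv
  by_contra hne
  push Not at hne
  refine v.2 (mem_of_flat_kill (B := B) (C := B') w (v : B') hv' q fun u hu => ?_)
  rw [hqP]
  by_contra huP
  exact hne u huP ((Submodule.mem_annihilator_span_singleton _ _).1 hu)

end Groth.Agent.H4RG
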