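import Groth.Prelude
import Groth.Agent.CAlgUI.ML
import Mathlib

/-!
# Maps injective on the closed fibre, by a minimal quotient

A kernel element of a base changed map may be assumed to survive in no proper quotient of the coefficient module. Then
either a Mittag-Leffler test shows that it vanishes, or the coefficient module has a simple socle where injectivity on
the closed fibre applies.
-/

set_option autoImplicit false
set_option linter.style.haveILetI false
set_option backward.isDefEq.respectTransparency.types false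

universe u

open TensorProduct IsLocalRing

namespace Groth.Agent.H4RG

variable {A N M : Type u} [CommRing A] [IsLocalRing A] [AddCommGroup N] [Module A N] [AddCommGroup M] [Module A M]
  [Module.Flat A M]

/-- An element of the kernel vanishes once it can be detected on products. -/
theorem eq_zero_of_injective_fibre (u : N →ₗ[A] M) (h : Function.Injective (u.rTensor (ResidueField A)))
    (P : ∀ (Q : Type u) [AddCommGroup Q] [Module A Q], N ⊗[A] Q → Prop)
    (hP : ∀ (Q Q' : Type u) [AddCommGroup Q] [Module A Q] [AddCommGroup Q'] [Module A Q'] (f : Q →ₗ[A] Q')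
      (w : N ⊗[A] Q), P Q w → P Q' (f.lTensor N w))
    (hdet : ∀ (Q : Type u) [AddCommGroup Q] [Module A Q] (w : N ⊗[A] Q), P Q w →
      (∀ Y : Submodule A Q, Y ≠ ⊥ → Y.mkQ.lTensor N w = 0) →
      (⨅ Y : {Y : Submodule A Q // Y ≠ ⊥}, Y.1) = ⊥ → w = 0)
    (Q : Type u) [AddCommGroup Q] [Module A Q] (w : N ⊗[A] Q) (hw : P Q w) (hu : u.rTensor Q w = 0) : w = 0 := by
  classical
  by_contra hne
  let Sw : Set (Submodule A Q) := {Z | Z.mkQ.lTensor N w ≠ 0}
  have hrange : ∀ (Q' : Type u) [AddCommGroup Q'] [Module A Q'] (Z : Submodule A Q') (v : N ⊗[A] Q'),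
      Z.mkQ.lTensor N v = 0 ↔ v ∈ LinearMap.range (Z.subtype.lTensor N) := fun Q' _ _ Z v =>
    (lTensor_exact N (LinearMap.exact_subtype_mkQ Z) Z.mkQ_surjective v)
  have h0 : (⊥ : Submodule A Q) ∈ Sw := fun h0 => hne (by
    obtain ⟨z, hz⟩ := (hrange Q ⊥ w).1 h0
    rw [← hz, show (⊥ : Submodule A Q).subtype = 0 from LinearMap.ext fun x => (Submodule.mem_bot A).1 x.2,
      LinearMap.lTensor_zero, LinearMap.zero_apply])
  obtain ⟨Z, -, hZ⟩ := zorn_le_nonempty₀ Sw (fun c hc hchain y hy => by
    refine ⟨sSup c, fun h0 => ?_, fun z hz => le_sSup hz⟩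
    obtain ⟨z, hz⟩ := (hrange Q _ w).1 h0
    have key : ∀ z : N ⊗[A] ↥(sSup c), ∃ Z ∈ c,
        (sSup c).subtype.lTensor N z ∈ LinearMap.range ((Z : Submodule A Q).subtype.lTensor N) := by
      intro z
      induction z using TensorProduct.induction_on with
      | zero => exact ⟨y, hy, by rw [map_zero]; exact zero_mem _⟩
      | tmul n x =>
        obtain ⟨Z, hZ, hxZ⟩ := (Submodule.mem_sSup_of_directed ⟨y, hy⟩ hchain.directedOn).1 x.2
        exact ⟨Z, hZ, n ⊗ₜ ⟨x, hxZ⟩, rfl⟩
      | add a b ha hb =>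
        obtain ⟨Z1, hZ1, v1, hv1⟩ := ha
        obtain ⟨Z2, hZ2, v2, hv2⟩ := hb
        obtain ⟨Z, hZ, h1, h2⟩ := hchain.directedOn Z1 hZ1 Z2 hZ2
        refine ⟨Z, hZ, (Submodule.inclusion h1).lTensor N v1 + (Submodule.inclusion h2).lTensor N v2, ?_⟩
        rw [map_add, map_add, ← LinearMap.lTensor_comp_apply, ← LinearMap.lTensor_comp_apply,
          Submodule.subtype_comp_inclusion, Submodule.subtype_comp_inclusion, hv1, hv2]
    obtain ⟨Z, hZc, hmem⟩ := key z
    exact hc hZc ((hrange Q Z w).2 (hz ▸ hmem))) ⊥ h0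
  have hZw : Z.mkQ.lTensor N w ≠ 0 := hZ.prop
  let Q1 := Q ⧸ Z
  set w1 := Z.mkQ.lTensor N w with hw1
  have hP1 : P Q1 w1 := hP Q Q1 Z.mkQ w hw
  have hmin : ∀ Y : Submodule A Q1, Y ≠ ⊥ → Y.mkQ.lTensor N w1 = 0 := by
    intro Y hY
    by_contra hYw
    let Z' := Y.comap Z.mkQ
    have hle : Z ≤ Z' := fun x hx => by
      show Z.mkQ x ∈ Y
      rw [Submodule.mkQ_apply, (Submodule.Quotient.mk_eq_zero Z).2 hx]
      exact zero_mem _
    have hmem : Z' ∈ Sw := fun h0 => hYw (by
      obtain ⟨v, hv⟩ := (hrange Q Z' w).1 h0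
      have hz : (Y.mkQ ∘ₗ Z.mkQ) ∘ₗ Z'.subtype = 0 := LinearMap.ext fun x => (Submodule.Quotient.mk_eq_zero Y).2 x.2
      rw [hw1, ← LinearMap.lTensor_comp_apply, ← hv, ← LinearMap.lTensor_comp_apply, hz, LinearMap.lTensor_zero,
        LinearMap.zero_apply])
    refine hY (eq_bot_iff.2 fun y hy => ?_)
    obtain ⟨x, rfl⟩ := Z.mkQ_surjective y
    exact (Submodule.mem_bot A).2 ((Submodule.Quotient.mk_eq_zero Z).2 (hZ.le_of_ge hmem hle hy))
  -- the socle
  let C : Submodule A Q1 := ⨅ Y : {Y : Submodule A Q1 // Y ≠ ⊥}, Y.1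
  by_cases hC : C = ⊥
  · exact hZw (hdet Q1 w1 hP1 hmin hC)
  obtain ⟨c, hcC, hc0⟩ := Submodule.exists_mem_ne_zero_of_ne_bot hC
  have hsimple : ∀ x : Q1, x ≠ 0 → c ∈ Submodule.span A {x} := fun x hx =>
    (iInf_le (fun Y : {Y : Submodule A Q1 // Y ≠ ⊥} => Y.1) ⟨_, mt Submodule.span_singleton_eq_bot.1 hx⟩ :
      C ≤ Submodule.span A {x}) hcC
  have hmc : ∀ a ∈ maximalIdeal A, a • c = 0 := by
    intro a ha
    by_contra hac
    obtain ⟨b, hb⟩ := Submodule.mem_span_singleton.1 (hsimple _ hac)
    have h1 : (1 - b * a) • c = 0 := by rw [sub_smul, one_smul, mul_smul, hb, sub_self]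
    exact hc0 ((isUnit_one_sub_self_of_mem_nonunits _ ((IsLocalRing.mem_maximalIdeal _).1
      (Ideal.mul_mem_left _ b ha))).smul_eq_zero.1 h1)
  let γ : ResidueField A →ₗ[A] Q1 :=
    Submodule.liftQ (maximalIdeal A) (LinearMap.toSpanSingleton A Q1 c) fun a ha => LinearMap.mem_ker.2 (hmc a ha)
  have hγ : Function.Injective γ := by
    rw [← LinearMap.ker_eq_bot, Submodule.eq_bot_iff]
    intro x hx
    obtain ⟨a, rfl⟩ := Submodule.Quotient.mk_surjective (maximalIdeal A) x
    by_contra hxa
    exact hc0 ((IsLocalRing.notMem_maximalIdeal.1 fun ha => hxa ((Submodule.Quotient.mk_eq_zero _).2 ha)).smul_eq_zero.1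
      (LinearMap.mem_ker.1 hx))
  have hY : LinearMap.range γ ≠ ⊥ := fun h0 => hc0 (by
    have : c ∈ LinearMap.range γ := ⟨Submodule.Quotient.mk 1, one_smul A c⟩
    rwa [h0, Submodule.mem_bot] at this)
  obtain ⟨v, hv⟩ := (hrange Q1 _ w1).1 (hmin _ hY)
  obtain ⟨v0, hv0⟩ := LinearMap.lTensor_surjective N γ.surjective_rangeRestrict v
  have hw0 : γ.lTensor N v0 = w1 := by
    rw [← hv, ← hv0, ← LinearMap.lTensor_comp_apply]
    rfl
  have hu1 : u.rTensor Q1 w1 = 0 := by
    rw [hw1, ← LinearMap.comp_apply, LinearMap.rTensor_comp_lTensor, ← LinearMap.lTensor_comp_rTensor,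
      LinearMap.comp_apply, hu, map_zero]
  have h1 : u.rTensor (ResidueField A) v0 = 0 := by
    refine Module.Flat.lTensor_preserves_injective_linearMap (M := M) γ hγ ?_
    rw [map_zero, ← LinearMap.comp_apply, LinearMap.lTensor_comp_rTensor, ← LinearMap.rTensor_comp_lTensor,
      LinearMap.comp_apply, hw0, hu1]
  exact hZw (by rw [← hw0, h (h1.trans (map_zero _).symm), map_zero])

omit [IsLocalRing A] [Module.Flat A M] in
/-- A Mittag-Leffler flat module detects elements on products. -/
theorem eq_zero_of_ml [Module.Flat A N] (hml : CAlg.IsMittagLeffler A N) (Q : Type u) [AddCommGroup Q] [Module A Q]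
    (w : N ⊗[A] Q) (hmin : ∀ Y : Submodule A Q, Y ≠ ⊥ → Y.mkQ.lTensor N w = 0)
    (hC : (⨅ Y : {Y : Submodule A Q // Y ≠ ⊥}, Y.1) = ⊥) : w = 0 := by
  let e : Q →ₗ[A] ∀ Y : {Y : Submodule A Q // Y ≠ ⊥}, Q ⧸ Y.1 := LinearMap.pi fun Y => Y.1.mkQ
  have he : Function.Injective e := by
    rw [← LinearMap.ker_eq_bot, LinearMap.ker_pi]
    simpa only [Submodule.ker_mkQ] using hC
  refine Module.Flat.lTensor_preserves_injective_linearMap (M := N) e he ?_
  rw [map_zero]
  refine CAlgUI.ml_iff.1 hml _ _ _ fun Y => ?_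
  refine Eq.trans ?_ (hmin Y.1 Y.2)
  clear hmin
  induction w using TensorProduct.induction_on with
  | zero => simp
  | add a b ha hb => simp only [map_add, Pi.add_apply, ha, hb]
  | tmul n x => simp [e]

/-- A flat Mittag-Leffler module maps universally injectively when it does so on the closed fibre. -/
theorem ui_of_ml [Module.Flat A N] (hml : CAlg.IsMittagLeffler A N) (u : N →ₗ[A] M)
    (h : Function.Injective (u.rTensor (ResidueField A))) (Q : Type u) [AddCommGroup Q] [Module A Q] :
    Function.Injective (u.rTensor Q) := by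
  rw [injective_iff_map_eq_zero]
  intro w hw
  exact eq_zero_of_injective_fibre u h (fun _ _ _ _ => True) (fun _ _ _ _ _ _ _ _ _ => trivial)
    (fun Q _ _ w _ hm hC => eq_zero_of_ml hml Q w hm hC) Q w trivial hw

/-- The closed fibre controls kernel elements killed up to powers by the maximal ideal. -/
theorem eq_zero_of_supported {B : Type u} [CommRing B] [Algebra A B] [Module B N] [IsScalarTower A B N]
    [Module.Flat A N]
    (hml : ∀ (q : Ideal B) [q.IsPrime], q.comap (algebraMap A B) = maximalIdeal A →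
      CAlg.IsMittagLeffler A (LocalizedModule q.primeCompl N))
    (u : N →ₗ[A] M) (h : Function.Injective (u.rTensor (ResidueField A))) (Q : Type u) [AddCommGroup Q] [Module A Q]
    (w : N ⊗[A] Q) (hsupp : ∀ a ∈ maximalIdeal A, ∃ k : ℕ, a ^ k • w = 0) (hu : u.rTensor Q w = 0) : w = 0 := by
  refine eq_zero_of_injective_fibre u h (fun Q _ _ w => ∀ a ∈ maximalIdeal A, ∃ k : ℕ, a ^ k • w = 0)
    (fun Q Q' _ _ _ _ f w hw a ha => ?_) (fun Q _ _ w hw hmin hC => ?_) Q w hsupp hu
  · obtain ⟨k, hk⟩ := hw a ha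
    exact ⟨k, by rw [← map_smul, hk, map_zero]⟩
  by_contra hne
  let J := (Submodule.span B {w}).annihilator
  have hJ : J ≠ ⊤ := fun hJ => hne (by
    have h1 : (1 : B) ∈ J := by rw [hJ]; exact Submodule.mem_top
    simpa using (Submodule.mem_annihilator_span_singleton _ _).1 h1)
  obtain ⟨q, hq, hJq⟩ := Ideal.exists_le_maximal J hJ
  haveI := hq.isPrime
  have hqA : q.comap (algebraMap A B) = maximalIdeal A := by
    haveI : (q.comap (algebraMap A B)).IsPrime := Ideal.comap_isPrime _ _
    refine le_antisymm (IsLocalRing.le_maximalIdeal (Ideal.IsPrime.ne_top ‹_›)) fun a ha => ?_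
    obtain ⟨k, hk⟩ := hw a ha
    refine Ideal.mem_comap.2 (hq.isPrime.mem_of_pow_mem k (hJq ((Submodule.mem_annihilator_span_singleton _ _).2 ?_)))
    rw [← map_pow, algebraMap_smul, hk]
  let W := q.primeCompl
  let i := LocalizedModule.mkLinearMap W N
  let iA := i.restrictScalars A
  haveI : Module.Flat A (LocalizedModule W N) := by
    refine (Module.Flat.iff_lTensor_injective'.2 fun I => ?_)
    rw [injective_iff_map_eq_zero]
    intro z hz
    obtain ⟨⟨z0, s⟩, hs⟩ := IsLocalizedModule.surj W (AlgebraTensorModule.rTensor A I i) z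
    have h1 : AlgebraTensorModule.rTensor A A i (I.subtype.lTensor N z0) = 0 := by
      have hc : ∀ v, AlgebraTensorModule.rTensor A A i (I.subtype.lTensor N v) =
          I.subtype.lTensor (LocalizedModule W N) (AlgebraTensorModule.rTensor A I i v) := fun v => by
        induction v using TensorProduct.induction_on with
        | zero => simp
        | add a b ha hb => simp only [map_add, ha, hb]
        | tmul n x => rfl
      rw [hc, ← hs]
      have hsm : ∀ v : LocalizedModule W N ⊗[A] I, I.subtype.lTensor (LocalizedModule W N) ((s : B) • v) =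
          (s : B) • I.subtype.lTensor (LocalizedModule W N) v := fun v => by
        induction v using TensorProduct.induction_on with
        | zero => simp
        | add a b ha hb => simp only [smul_add, map_add, ha, hb]
        | tmul n x => rfl
      rw [Submonoid.smul_def, hsm, hz, smul_zero]
    obtain ⟨t, ht⟩ := (IsLocalizedModule.eq_zero_iff W (AlgebraTensorModule.rTensor A A i)).1 h1
    have h2 : (t : B) • z0 = 0 := Module.Flat.iff_lTensor_injective'.1 ‹Module.Flat A N› I (by
      have hsm : ∀ v : N ⊗[A] I, I.subtype.lTensor N ((t : B) • v) = (t : B) • I.subtype.lTensor N v := fun v => by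
        induction v using TensorProduct.induction_on with
        | zero => simp
        | add a b ha hb => simp only [smul_add, map_add, ha, hb]
        | tmul n x => rfl
      rw [map_zero, hsm]
      exact ht)
    refine ((Module.End.isUnit_iff _).1 (IsLocalizedModule.map_units (AlgebraTensorModule.rTensor A I i) (t * s))).1 ?_
    show ((t * s : W) : B) • z = ((t * s : W) : B) • (0 : LocalizedModule W N ⊗[A] I)
    rw [smul_zero, Submonoid.coe_mul, mul_smul, show (s : B) • z = AlgebraTensorModule.rTensor A I i z0 from hs,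
      ← map_smul, h2, map_zero]
  let wq := AlgebraTensorModule.rTensor A Q i w
  have hwq : wq = 0 := by
    refine eq_zero_of_ml (hml q hqA) Q wq (fun Y hY => ?_) hC
    have hc : ∀ v, Y.mkQ.lTensor (LocalizedModule W N) (AlgebraTensorModule.rTensor A Q i v) =
        AlgebraTensorModule.rTensor A (Q ⧸ Y) i (Y.mkQ.lTensor N v) := fun v => by
      induction v using TensorProduct.induction_on with
      | zero => simp
      | add a b ha hb => simp only [map_add, ha, hb]
      | tmul n x => rfl
    show Y.mkQ.lTensor (LocalizedModule W N) (AlgebraTensorModule.rTensor A Q i w) = 0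
    rw [hc, hmin Y hY, map_zero]
  obtain ⟨t, ht⟩ := (IsLocalizedModule.eq_zero_iff W (AlgebraTensorModule.rTensor A Q i)).1 hwq
  exact t.2 (hJq ((Submodule.mem_annihilator_span_singleton _ _).2 ht))

end Groth.Agent.H4RG
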