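import Groth.Prelude
import Groth.Agent.H4RG.FibreInj
import Groth.Agent.S1215
import Groth.Agent.H4RG.PureProj
import Groth.Agent.Hensel.Henselization
import Mathlib

/-!
# Flat finite modules over algebras essentially of finite type: injectivity on fibres is universal
-/

set_option autoImplicit false
set_option linter.style.haveILetI false
set_option backward.isDefEq.respectTransparency.types false

universe u

open TensorProduct IsLocalRing

namespace Groth.Agent.H4RG

attribute [local instance] Algebra.TensorProduct.rightAlgebra

/-- Injectivity over a field is injectivity over an extension. -/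
theorem injective_field_extension {A N M : Type u} [CommRing A] [AddCommGroup N] [Module A N] [AddCommGroup M]
    [Module A M] (u : N →ₗ[A] M) (K L : Type u) [Field K] [Field L] [Algebra A K] [Algebra A L] [Algebra K L]
    [IsScalarTower A K L] (h : Function.Injective (u.lTensor K)) : Function.Injective (u.lTensor L) := by
  let eN := AlgebraTensorModule.cancelBaseChange A K L L N
  let eM := AlgebraTensorModule.cancelBaseChange A K L L M
  have hK : Function.Injective ((u.baseChange K).lTensor L) :=
    Module.Flat.lTensor_preserves_injective_linearMap (u.baseChange K) h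
  have hc : ∀ z, u.lTensor L (eN z) = eM ((u.baseChange K).lTensor L z) := fun z => by
    induction z using TensorProduct.induction_on with
    | zero => simp
    | add a b ha hb => simp only [map_add, ha, hb]
    | tmul l v =>
      induction v using TensorProduct.induction_on with
      | zero => simp
      | add a b ha hb => simp only [tmul_add, map_add, ha, hb]
      | tmul k n => simp [eN, eM]
  intro x y hxy
  obtain ⟨x, rfl⟩ := eN.surjective x
  obtain ⟨y, rfl⟩ := eN.surjective y
  rw [hc, hc] at hxy
  rw [hK (eM.injective hxy)]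

/-- A flat finite module over an algebra essentially of finite type sends to zero, in a flat
module, only zero when it is injective on the fibres over the annihilator. -/
theorem eq_zero_of_fibres {A B : Type u} [CommRing A] [CommRing B] [Algebra A B] [Algebra.EssFiniteType A B]
    (N : Type u) [AddCommGroup N] [Module B N] [Module A N] [IsScalarTower A B N] [Module.Finite B N] [Module.Flat A N]
    (M : Type u) [AddCommGroup M] [Module A M] [Module.Flat A M] (u : N →ₗ[A] M)
    (Q : Type u) [AddCommGroup Q] [Module A Q] (w : N ⊗[A] Q)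
    (h : ∀ (p : Ideal A) [p.IsPrime], (Submodule.span A {w}).annihilator ≤ p →
      Function.Injective (u.lTensor p.ResidueField))
    (hw : u.rTensor Q w = 0) : w = 0 := by
  classical
  by_contra hne
  let ann := (Submodule.span A {w}).annihilator
  have hann : ann ≠ ⊤ := fun h1 => hne (by
    have h2 : (1 : A) ∈ ann := by rw [h1]; exact Submodule.mem_top
    simpa using (Submodule.mem_annihilator_span_singleton _ _).1 h2)
  obtain ⟨p, hp⟩ := Ideal.nonempty_minimalPrimes hann
  haveI : p.IsPrime := hp.1.1
  let Ap := Localization.AtPrime p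
  let K := p.ResidueField
  let A' := Hensel.Henz Ap (ResidueField Ap)
  letI : Algebra A A' := ((algebraMap Ap A').comp (algebraMap A Ap)).toAlgebra
  haveI : IsScalarTower A Ap A' := IsScalarTower.of_algebraMap_eq fun _ => rfl
  haveI : HenselianLocalRing A' := Hensel.henselianLocalRing_henz
  haveI : Module.FaithfullyFlat Ap A' := Hensel.faithfullyFlat_henz
  haveI : Module.Flat A A' := Module.Flat.trans A Ap A'
  let B' := A' ⊗[A] B
  haveI : Algebra.IsPushout A A' B B' := inferInstance
  let N2 := B' ⊗[B] N
  haveI : Algebra.EssFiniteType A' B' := inferInstance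
  let E : N2 ≃ₗ[A'] A' ⊗[A] N := Algebra.IsPushout.cancelBaseChange A A' B B' N
  have hE : ∀ n, E.symm ((1 : A') ⊗ₜ[A] n) = (1 : B') ⊗ₜ[B] n := fun n => by
    rw [Algebra.IsPushout.cancelBaseChange_symm_tmul, map_one]
  haveI : Module.Flat A' N2 := Module.Flat.of_linearEquiv E
  let u2 : N2 →ₗ[A'] A' ⊗[A] M := (u.baseChange A').comp E.toLinearMap
  have hu2 : ∀ n, u2 ((1 : B') ⊗ₜ[B] n) = (1 : A') ⊗ₜ[A] u n := fun n => by
    show u.baseChange A' (E ((1 : B') ⊗ₜ[B] n)) = _
    rw [← hE, LinearEquiv.apply_symm_apply, LinearMap.baseChange_tmul]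
  let Q' := A' ⊗[A] Q
  let Ψ : N2 ⊗[A'] Q' ≃ₗ[A'] A' ⊗[A] (N ⊗[A] Q) :=
    ((AlgebraTensorModule.congr E (LinearEquiv.refl A' Q')).trans
      (AlgebraTensorModule.cancelBaseChange A A' A' (A' ⊗[A] N) Q)).trans
      (AlgebraTensorModule.assoc A A A' A' N Q)
  let ΨM : (A' ⊗[A] M) ⊗[A'] Q' ≃ₗ[A'] A' ⊗[A] (M ⊗[A] Q) :=
    (AlgebraTensorModule.cancelBaseChange A A' A' (A' ⊗[A] M) Q).trans (AlgebraTensorModule.assoc A A A' A' M Q)
  have hΨ : ∀ z, ΨM (u2.rTensor Q' z) = (u.rTensor Q).baseChange A' (Ψ z) := fun z => by
    induction z using TensorProduct.induction_on with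
    | zero => simp
    | add a b ha hb => simp only [map_add, ha, hb]
    | tmul m y =>
      obtain ⟨m, rfl⟩ := E.symm.surjective m
      induction m using TensorProduct.induction_on with
      | zero => simp
      | add a b ha hb => simp only [map_add, add_tmul, ha, hb]
      | tmul a n =>
        induction y using TensorProduct.induction_on with
        | zero => simp
        | add c d hc hd => simp only [map_add, tmul_add, hc, hd]
        | tmul b x =>
          simp [Ψ, ΨM, u2]
          erw [AlgebraTensorModule.cancelBaseChange_tmul, AlgebraTensorModule.cancelBaseChange_tmul]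
          rw [smul_tmul', smul_tmul', AlgebraTensorModule.assoc_tmul, AlgebraTensorModule.assoc_tmul,
            LinearMap.baseChange_tmul, LinearMap.rTensor_tmul]
  let w2 := Ψ.symm ((1 : A') ⊗ₜ[A] w)
  -- the kernel element survives
  have hmax : (p.map (algebraMap A A')) = maximalIdeal A' := by
    rw [IsScalarTower.algebraMap_eq A Ap A', ← Ideal.map_map, Localization.AtPrime.map_eq_maximalIdeal,
      Hensel.map_maximalIdeal_henz]
  have hne2 : w2 ≠ 0 := fun h0 => by
    have h1 : (1 : A') ⊗ₜ[A] w = 0 := Ψ.symm.injective (h0.trans (map_zero _).symm)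
    let μ : A ⧸ ann →ₗ[A] N ⊗[A] Q := Submodule.liftQ ann (LinearMap.toSpanSingleton A _ w)
      fun a ha => LinearMap.mem_ker.2 ((Submodule.mem_annihilator_span_singleton _ _).1 ha)
    have hμ : Function.Injective μ := by
      rw [← LinearMap.ker_eq_bot, Submodule.eq_bot_iff]
      intro x hx
      obtain ⟨a, rfl⟩ := Submodule.Quotient.mk_surjective ann x
      exact (Submodule.Quotient.mk_eq_zero _).2 ((Submodule.mem_annihilator_span_singleton _ _).2 hx)
    have h2 : (1 : A') ⊗ₜ[A] (Submodule.Quotient.mk 1 : A ⧸ ann) = 0 := by
      refine Module.Flat.lTensor_preserves_injective_linearMap (M := A') μ hμ ?_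
      rw [map_zero, LinearMap.lTensor_tmul, show μ (Submodule.Quotient.mk 1) = w from one_smul A w, h1]
    have h3 := congrArg (TensorProduct.tensorQuotEquivQuotSMul A' ann) h2
    rw [map_zero, show (Submodule.Quotient.mk (1 : A) : A ⧸ ann) = Ideal.Quotient.mk ann 1 from rfl,
      TensorProduct.tensorQuotEquivQuotSMul_tmul_mk, one_smul, Submodule.Quotient.mk_eq_zero,
      Ideal.smul_top_eq_map, Submodule.restrictScalars_mem] at h3
    exact (maximalIdeal.isMaximal A').ne_top ((Ideal.eq_top_iff_one _).2 (hmax ▸ Ideal.map_mono hp.1.2 h3))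
  -- it is supported at the closed point
  have hsupp : ∀ a ∈ maximalIdeal A', ∃ k : ℕ, a ^ k • w2 = 0 := by
    have hrad : maximalIdeal Ap ≤ (ann.map (algebraMap A Ap)).radical := by
      rw [Ideal.radical_eq_sInf, le_sInf_iff]
      rintro P ⟨hP, hPp⟩
      haveI := hPp
      have hcomap : P.comap (algebraMap A Ap) = p := by
        refine le_antisymm ?_ ?_
        · have hle := IsLocalRing.le_maximalIdeal hPp.ne_top
          intro a ha
          exact (IsLocalization.AtPrime.to_map_mem_maximal_iff Ap p a).1 (hle ha)
        · exact hp.2 ⟨Ideal.comap_isPrime _ _, Ideal.map_le_iff_le_comap.1 hP⟩ (fun a ha =>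
            (IsLocalization.AtPrime.to_map_mem_maximal_iff Ap p a).1 (IsLocalRing.le_maximalIdeal hPp.ne_top ha))
      rw [← IsLocalization.map_under p.primeCompl Ap P, Ideal.under_def, hcomap,
        Localization.AtPrime.map_eq_maximalIdeal]
    have hle : maximalIdeal A' ≤ (ann.map (algebraMap A A')).radical := by
      rw [← Hensel.map_maximalIdeal_henz (R := Ap) (L := ResidueField Ap), IsScalarTower.algebraMap_eq A Ap A',
        ← Ideal.map_map]
      exact (Ideal.map_mono hrad).trans (Ideal.map_radical_le _)
    intro a ha
    obtain ⟨k, hk⟩ := hle ha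
    refine ⟨k, ?_⟩
    have hle2 : ann.map (algebraMap A A') ≤ (Submodule.span A' {w2}).annihilator := Ideal.map_le_iff_le_comap.2 fun b hb => by
      rw [Ideal.mem_comap, Submodule.mem_annihilator_span_singleton, ← map_smul, algebraMap_smul, ← tmul_smul,
        (Submodule.mem_annihilator_span_singleton _ _).1 hb, tmul_zero, map_zero]
    exact (Submodule.mem_annihilator_span_singleton _ _).1 (hle2 hk)
  -- the closed fibre
  let k := ResidueField A'
  let ι : K →+* k := Ideal.Quotient.lift (maximalIdeal Ap) ((algebraMap A' k).comp (algebraMap Ap A')) fun a ha => by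
    rw [RingHom.comp_apply, IsLocalRing.ResidueField.algebraMap_eq, IsLocalRing.residue_eq_zero_iff,
      ← Hensel.map_maximalIdeal_henz (R := Ap) (L := ResidueField Ap)]
    exact Ideal.mem_map_of_mem _ ha
  letI : Algebra K k := ι.toAlgebra
  haveI : IsScalarTower A K k := IsScalarTower.of_algebraMap_eq fun a => rfl
  have hfib : Function.Injective (u2.rTensor k) := by
    have hk := injective_field_extension u K k (h p hp.1.2)
    let e1 : N2 ⊗[A'] k ≃ₗ[A'] k ⊗[A] N :=
      ((TensorProduct.comm A' N2 k).trans (AlgebraTensorModule.congr (LinearEquiv.refl A' k) E)).trans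
        (AlgebraTensorModule.cancelBaseChange A A' A' k N)
    let e2 : (A' ⊗[A] M) ⊗[A'] k ≃ₗ[A'] k ⊗[A] M :=
      (TensorProduct.comm A' (A' ⊗[A] M) k).trans (AlgebraTensorModule.cancelBaseChange A A' A' k M)
    have hc : ∀ z, e2 (u2.rTensor k z) = u.lTensor k (e1 z) := fun z => by
      induction z using TensorProduct.induction_on with
      | zero => simp
      | add a b ha hb => simp only [map_add, ha, hb]
      | tmul m c =>
        obtain ⟨m, rfl⟩ := E.symm.surjective m
        induction m using TensorProduct.induction_on with
        | zero => simp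
        | add a b ha hb => simp only [map_add, add_tmul, ha, hb]
        | tmul a n => simp [e1, e2, u2]
    intro x y hxy
    exact e1.injective (hk (by rw [← hc, ← hc, hxy]))
  refine hne2 (eq_zero_of_supported (B := B') (fun q _ hq => ?_) u2 hfib Q' w2 hsupp ?_)
  · let Bq := Localization.AtPrime q
    let Lq := LocalizedModule q.primeCompl N2
    haveI : IsLocalHom (algebraMap A' Bq) := ⟨fun a ha => by
      by_contra h0
      have h1 : algebraMap A' B' a ∈ q := by
        rw [← Ideal.mem_comap, hq]
        exact (IsLocalRing.mem_maximalIdeal a).2 h0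
      rw [IsScalarTower.algebraMap_apply A' B' Bq, IsLocalization.AtPrime.isUnit_to_map_iff Bq q] at ha
      exact ha h1⟩
    haveI : Module.Flat A' Lq := flat_localized_of_flat (R := A') (S := B') N2 q
    haveI : Algebra.EssFiniteType A' Bq := Algebra.EssFiniteType.comp A' B' Bq
    haveI : Module.Finite Bq Lq := Module.Finite.of_isLocalizedModule q.primeCompl (LocalizedModule.mkLinearMap q.primeCompl N2)
    exact S1215.result (A := A') (B := Bq) Lq
  · refine ΨM.injective ?_
    rw [hΨ, LinearEquiv.apply_symm_apply, LinearMap.baseChange_tmul, hw, tmul_zero, map_zero]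

/-- A flat finite module over an algebra essentially of finite type maps universally injectively to a flat module when it
does so on every fibre. -/
theorem ui_of_fibre_inj {A B : Type u} [CommRing A] [CommRing B] [Algebra A B] [Algebra.EssFiniteType A B]
    (N : Type u) [AddCommGroup N] [Module B N] [Module A N] [IsScalarTower A B N] [Module.Finite B N] [Module.Flat A N]
    (M : Type u) [AddCommGroup M] [Module A M] [Module.Flat A M] (u : N →ₗ[A] M)
    (h : ∀ (p : Ideal A) [p.IsPrime], Function.Injective (u.lTensor p.ResidueField))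
    (Q : Type u) [AddCommGroup Q] [Module A Q] : Function.Injective (u.rTensor Q) :=
  (injective_iff_map_eq_zero _).2 fun w hw => eq_zero_of_fibres (B := B) N M u Q w (fun p _ _ => h p) hw

end Groth.Agent.H4RG
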