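import Groth.Prelude
import Groth.Agent.H4RG.FibreInjFlat
import Groth.Agent.H4RG.StageOps
import Groth.Agent.S1236
import Mathlib

/-!
# Multiplications injective on the closed fibre, and weakly associated points of flat modules
-/

set_option autoImplicit false
set_option linter.style.haveILetI false
set_option backward.isDefEq.respectTransparency.types false

universe u

open TensorProduct IsLocalRing

namespace Groth.Agent.H4RG

attribute [local instance] Algebra.TensorProduct.rightAlgebra

/-- A function killing a flatly extended element vanishes at the points over its annihilator. -/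
theorem mem_of_flat_kill {B C W : Type u} [CommRing B] [CommRing C] [Algebra B C] [Module.Flat B C] [AddCommGroup W]
    [Module B W] (w : W) (v : C) (hv : v ⊗ₜ[B] w = 0) (q : Ideal C) [q.IsPrime]
    (h : (Submodule.span B {w}).annihilator ≤ q.comap (algebraMap B C)) : v ∈ q := by
  let J := (Submodule.span B {w}).annihilator
  let μ : B ⧸ J →ₗ[B] W := Submodule.liftQ J (LinearMap.toSpanSingleton B _ w)
    fun a ha => LinearMap.mem_ker.2 ((Submodule.mem_annihilator_span_singleton _ _).1 ha)
  have hμ : Function.Injective μ := by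
    rw [← LinearMap.ker_eq_bot, Submodule.eq_bot_iff]
    intro x hx
    obtain ⟨a, rfl⟩ := Submodule.Quotient.mk_surjective J x
    exact (Submodule.Quotient.mk_eq_zero _).2 ((Submodule.mem_annihilator_span_singleton _ _).2 hx)
  have h2 : v ⊗ₜ[B] (Submodule.Quotient.mk 1 : B ⧸ J) = 0 := by
    refine Module.Flat.lTensor_preserves_injective_linearMap (M := C) μ hμ ?_
    rw [map_zero, LinearMap.lTensor_tmul, show μ (Submodule.Quotient.mk 1) = w from one_smul B w, hv]
  have h3 := congrArg (TensorProduct.tensorQuotEquivQuotSMul C J) h2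
  rw [map_zero, show (Submodule.Quotient.mk (1 : B) : B ⧸ J) = Ideal.Quotient.mk J 1 from rfl,
    TensorProduct.tensorQuotEquivQuotSMul_tmul_mk, one_smul, Submodule.Quotient.mk_eq_zero,
    Ideal.smul_top_eq_map, Submodule.restrictScalars_mem] at h3
  exact Ideal.map_le_iff_le_comap.2 h h3

/-- A minimal prime of the annihilator of an element of a flat module's tensor product is an associated point of a
fibre. -/
theorem exists_assoc_of_ne_zero {A B : Type u} [CommRing A] [CommRing B] [Algebra A B] [Algebra.FiniteType A B]
    (N : Type u) [AddCommGroup N] [Module B N] [Module A N] [IsScalarTower A B N] [Module.Finite B N] [Module.Flat A N]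
    (X : Type u) [AddCommGroup X] [Module A X] (w : N ⊗[A] X) (hw : w ≠ 0) :
    ∃ (Q : Ideal B) (p : Ideal A) (_ : Q.IsPrime) (_ : p.IsPrime) (_ : Q.LiesOver p),
      (Submodule.span B {w}).annihilator ≤ Q ∧
      FlatCA.fiberIdeal p Q ∈ associatedPrimes (p.Fiber B) (FlatCA.fiberMod p B N) := by
  have hJ : (Submodule.span B {w}).annihilator ≠ ⊤ := fun h0 => hw (by
    have h1 : (1 : B) ∈ (Submodule.span B {w}).annihilator := by rw [h0]; exact Submodule.mem_top
    simpa using (Submodule.mem_annihilator_span_singleton _ _).1 h1)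
  obtain ⟨Q, hQ⟩ := Ideal.nonempty_minimalPrimes hJ
  haveI := hQ.1.1
  let p := Q.comap (algebraMap A B)
  haveI : p.IsPrime := Ideal.comap_isPrime _ _
  haveI : Q.LiesOver p := ⟨rfl⟩
  exact ⟨Q, p, inferInstance, inferInstance, inferInstance, hQ.1.2,
    ((S1236.result N X p Q (flat_localized_of_flat N Q)).1 ⟨w, hQ⟩).2⟩

/-- Being killed near a prime on a fibre persists over a field extension. -/
theorem exists_kill_extension {A B : Type u} [CommRing A] [CommRing B] [Algebra A B] {N : Type u} [AddCommGroup N]
    [Module B N] [Module A N] [IsScalarTower A B N] (P : Ideal B) [P.IsPrime] (K L : Type u) [Field K] [Field L]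
    [Algebra A K] [Algebra A L] [Algebra K L] [IsScalarTower A K L] (t : B)
    (ht : ∀ v : N ⊗[A] K, t • v = 0 → ∃ u ∉ P, u • v = 0) (v : N ⊗[A] L) (hv : t • v = 0) :
    ∃ u ∉ P, u • v = 0 := by
  let sA : B → (N →ₗ[A] N) := fun b => (LinearMap.lsmul B N b).restrictScalars A
  have hK : ∀ (b : B) (X : Type u) [AddCommGroup X] [Module A X] (w : N ⊗[A] X),
      TensorProduct.comm A N X (b • w) = (sA b).lTensor X (TensorProduct.comm A N X w) := fun b X _ _ w => by
    induction w using TensorProduct.induction_on with
    | zero => simp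
    | add a c ha hc => simp only [smul_add, map_add, ha, hc]
    | tmul n x => rfl
  let eN := AlgebraTensorModule.cancelBaseChange A K L L N
  have hc : ∀ (b : B) (z), (sA b).lTensor L (eN z) = eN (((sA b).baseChange K).lTensor L z) := fun b z => by
    induction z using TensorProduct.induction_on with
    | zero => simp
    | add a c ha hc => simp only [map_add, ha, hc]
    | tmul l w =>
      induction w using TensorProduct.induction_on with
      | zero => simp
      | add a c ha hc => simp only [tmul_add, map_add, ha, hc]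
      | tmul k n => simp [eN, smul_tmul']
  obtain ⟨z, hz⟩ := eN.surjective (TensorProduct.comm A N L v)
  have hz0 : ((sA t).baseChange K).lTensor L z = 0 := eN.injective (by rw [← hc, hz, ← hK, hv, map_zero, map_zero])
  obtain ⟨w, hw⟩ := (Module.Flat.lTensor_exact (R := K) L (N := ↥(LinearMap.ker ((sA t).baseChange K)))
    (N' := K ⊗[A] N) (N'' := K ⊗[A] N) (LinearMap.exact_subtype_ker_map ((sA t).baseChange K)) z).1 hz0
  obtain ⟨u, hu, hu0⟩ : ∃ u ∉ P,
      ((sA u).baseChange K).lTensor L ((LinearMap.ker ((sA t).baseChange K)).subtype.lTensor L w) = 0 := by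
    clear hw
    induction w using TensorProduct.induction_on with
    | zero => exact ⟨1, fun h => ‹P.IsPrime›.ne_top ((Ideal.eq_top_iff_one _).2 h), by simp⟩
    | tmul l k =>
      obtain ⟨k0, hk0⟩ := (TensorProduct.comm A N K).surjective (k : K ⊗[A] N)
      obtain ⟨u, hu, huk⟩ := ht k0 ((TensorProduct.comm A N K).injective (by
        rw [hK, hk0, map_zero]
        exact LinearMap.mem_ker.1 k.2))
      refine ⟨u, hu, ?_⟩
      rw [LinearMap.lTensor_tmul, LinearMap.lTensor_tmul, Submodule.subtype_apply, ← hk0,
        show (sA u).baseChange K (TensorProduct.comm A N K k0) = 0 from (hK u K k0).symm.trans (by rw [huk, map_zero]),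
        tmul_zero]
    | add a c ha hc =>
      obtain ⟨u, hu, hua⟩ := ha
      obtain ⟨u', hu', hub⟩ := hc
      refine ⟨u * u', fun h => (‹P.IsPrime›.mem_or_mem h).elim hu hu', ?_⟩
      have h1 : sA (u * u') = (sA u').comp (sA u) := LinearMap.ext fun n => by
        show (u * u') • n = u' • u • n
        rw [mul_comm, mul_smul]
      have h2 : sA (u * u') = (sA u).comp (sA u') := LinearMap.ext fun n => mul_smul u u' n
      rw [map_add, map_add]
      conv_lhs => arg 1; rw [h1, LinearMap.baseChange_comp, LinearMap.lTensor_comp_apply, hua, map_zero]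
      rw [h2, LinearMap.baseChange_comp, LinearMap.lTensor_comp_apply, hub, map_zero, zero_add]
  refine ⟨u, hu, (TensorProduct.comm A N L).injective ?_⟩
  rw [hK, map_zero, ← hz, hc, ← hw, hu0, map_zero]

/-- A multiplication injective up to denominators stays injective on tensors of a localisation. -/
theorem injective_loc_rTensor {A S : Type u} [CommRing A] [CommRing S] [Algebra A S] (W : Submonoid S) {M L : Type u}
    [AddCommGroup M] [Module S M] [Module A M] [IsScalarTower A S M] [AddCommGroup L] [Module S L] [Module A L]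
    [IsScalarTower A S L] (i : M →ₗ[S] L) [IsLocalizedModule W i] (X : Type u) [AddCommGroup X] [Module A X] (t : S)
    (h : ∀ z : M ⊗[A] X, t • z = 0 → ∃ s ∈ W, s • z = 0) :
    Function.Injective (((LinearMap.lsmul S L t).restrictScalars A).rTensor X) := by
  rw [injective_iff_map_eq_zero]
  intro z hz
  rw [rTensor_lsmul] at hz
  obtain ⟨⟨z0, s⟩, hs⟩ := IsLocalizedModule.surj W (AlgebraTensorModule.rTensor A X i) z
  have h1 : AlgebraTensorModule.rTensor A X i (t • z0) = 0 := by
    rw [map_smul, ← hs, smul_comm, hz, smul_zero]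
  obtain ⟨s', hs'⟩ := (IsLocalizedModule.eq_zero_iff W _).1 h1
  obtain ⟨v, hv, hv0⟩ := h ((s' : S) • z0) (by rw [smul_comm]; exact hs')
  have h4 : AlgebraTensorModule.rTensor A X i z0 = 0 :=
    (IsLocalizedModule.eq_zero_iff W _).2 ⟨⟨v * s', W.mul_mem hv s'.2⟩, by
      show (v * (s' : S)) • z0 = 0
      rw [mul_smul, hv0]⟩
  refine ((Module.End.isUnit_iff _).1 (IsLocalizedModule.map_units (AlgebraTensorModule.rTensor A X i) s)).1 ?_
  show s • z = (s : S) • (0 : L ⊗[A] X)
  rw [smul_zero, hs, h4]

/-- An element killed by a multiplication injective on the localisation is killed by a denominator. -/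
theorem exists_kill_of_injective {A S : Type u} [CommRing A] [CommRing S] [Algebra A S] (W : Submonoid S) {M L : Type u}
    [AddCommGroup M] [Module S M] [AddCommGroup L] [Module S L] [Module A L] [IsScalarTower A S L] (i : M →ₗ[S] L)
    [IsLocalizedModule W i] (t : S) [IsLocalRing A] [Module.Flat A L] (hml : CAlg.IsMittagLeffler A L)
    (hf : Function.Injective (((LinearMap.lsmul S L t).restrictScalars A).rTensor (ResidueField A)))
    (m : M) (hm : t • m = 0) : ∃ v : W, (v : S) • m = 0 := by
  have h := ui_of_ml hml ((LinearMap.lsmul S L t).restrictScalars A) hf A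
  have h0 : t • i m = 0 := by rw [← map_smul, hm, map_zero]
  have h1 : i m ⊗ₜ[A] (1 : A) = 0 := h (by
    rw [map_zero, LinearMap.rTensor_tmul]
    show (t • i m) ⊗ₜ[A] (1 : A) = 0
    rw [h0, zero_tmul])
  have h2 := congrArg (TensorProduct.rid A L) h1
  rw [TensorProduct.rid_tmul, one_smul, map_zero] at h2
  exact (IsLocalizedModule.eq_zero_iff W i).1 h2

/-- Over a local base a multiplication injective on the closed fibre is injective at every point of it. -/
theorem exists_smul_eq_zero_of_fibre {A B : Type u} [CommRing A] [IsLocalRing A] [CommRing B] [Algebra A B]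
    [Algebra.EssFiniteType A B] (N : Type u) [AddCommGroup N] [Module B N] [Module A N] [IsScalarTower A B N]
    [Module.Finite B N] [Module.Flat A N] (P : Ideal B) [P.IsPrime] (hP : P.comap (algebraMap A B) = maximalIdeal A)
    (t : B) (ht : ∀ v : N ⊗[A] ResidueField A, t • v = 0 → ∃ u ∉ P, u • v = 0) (y : N) (hy : t • y = 0) :
    ∃ u ∉ P, u • y = 0 := by
  classical
  let k0 := ResidueField A
  let A' := Hensel.Henz A k0
  haveI : HenselianLocalRing A' := Hensel.henselianLocalRing_henz
  haveI : Module.FaithfullyFlat A A' := Hensel.faithfullyFlat_henz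
  let B' := A' ⊗[A] B
  haveI : Module.Flat B B' := flat_tensor_right
  haveI : Algebra.IsPushout A A' B B' := inferInstance
  haveI : Algebra.IsPushout A B A' B' := Algebra.IsPushout.symm inferInstance
  let N2 := B' ⊗[B] N
  haveI : Algebra.EssFiniteType A' B' := inferInstance
  let E : N2 ≃ₗ[A'] A' ⊗[A] N := Algebra.IsPushout.cancelBaseChange A A' B B' N
  haveI : Module.Flat A' N2 := Module.Flat.of_linearEquiv E
  obtain ⟨q, hq, hqP, hqA⟩ := exists_prime_pushout (D := B') P (maximalIdeal A') (hP.trans (by
    refine (IsLocalRing.maximalIdeal_comap (algebraMap A A')).symm))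
  let Bq := Localization.AtPrime q
  let W := q.primeCompl
  let Lq := LocalizedModule W N2
  let i := LocalizedModule.mkLinearMap W N2
  haveI : IsLocalHom (algebraMap A' Bq) := ⟨fun a ha => by
    by_contra h0
    have h1 : algebraMap A' B' a ∈ q := by
      rw [← Ideal.mem_comap, hqA]
      exact (IsLocalRing.mem_maximalIdeal a).2 h0
    rw [IsScalarTower.algebraMap_apply A' B' Bq, IsLocalization.AtPrime.isUnit_to_map_iff Bq q] at ha
    exact ha h1⟩
  haveI : Module.Flat A' Lq := flat_localized_of_flat (R := A') (S := B') N2 q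
  haveI : Algebra.EssFiniteType A' Bq := Algebra.EssFiniteType.comp A' B' Bq
  haveI : Module.Finite Bq Lq := Module.Finite.of_isLocalizedModule W i
  have hml : CAlg.IsMittagLeffler A' Lq := S1215.result (A := A') (B := Bq) Lq
  let t' := algebraMap B B' t
  let tL : Lq →ₗ[A'] Lq := (LinearMap.lsmul B' Lq t').restrictScalars A'
  let k := ResidueField A'
  -- injectivity on the closed fibre at the point
  have hfib : Function.Injective (tL.rTensor k) := by
    obtain ⟨ψ, hψ, -, hψs⟩ := exists_tensor_equiv (R := A) (A := A') k (TensorProduct.mk B B' N 1)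
      (TensorProduct.isBaseChange B N B')
    letI : Algebra k0 k := (IsLocalRing.ResidueField.map (algebraMap A A')).toAlgebra
    haveI : IsScalarTower A k0 k := IsScalarTower.of_algebraMap_eq fun a => rfl
    refine injective_loc_rTensor (A := A') (S := B') (M := N2) (L := Lq) W i k t' fun z0 hz0 => ?_
    obtain ⟨v0, rfl⟩ := hψ.2 z0
    obtain ⟨u, hu, huv⟩ := exists_kill_extension P k0 k t ht v0 (hψ.1 (by rw [hψs, map_zero]; exact hz0))
    exact ⟨algebraMap B B' u, fun hm => hu (hqP.le hm), by rw [← hψs, huv, map_zero]⟩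
  have hy1 : t' • ((1 : B') ⊗ₜ[B] y) = 0 := by rw [algebraMap_smul, ← tmul_smul, hy, tmul_zero]
  obtain ⟨v, hv⟩ := exists_kill_of_injective (A := A') (S := B') (M := N2) (L := Lq) W i t' hml hfib
    ((1 : B') ⊗ₜ[B] y) hy1
  by_contra hne
  push Not at hne
  refine v.2 (mem_of_flat_kill (B := B) (C := B') y (v : B') ?_ q ?_)
  · have : (v : B') • ((1 : B') ⊗ₜ[B] y) = 0 := hv
    rwa [smul_tmul', smul_eq_mul, mul_one] at this
  · intro u hu
    rw [hqP]
    by_contra huP
    exact hne u huP ((Submodule.mem_annihilator_span_singleton _ _).1 hu)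

end Groth.Agent.H4RG
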