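import Groth.Prelude
import Groth.Agent.S1223
import Groth.Agent.S1208
import Groth.Agent.H4RG.FibreKill
import Groth.Agent.H4RG.SMulClosed
import Groth.Agent.H4RG.AssFlatGen
import Groth.Agent.FlatModel.Open
import Mathlib

/-! Flatness and universal injectivity of a basis at the generic point of a fibre. -/

set_option autoImplicit false
set_option linter.style.haveILetI false
set_option backward.isDefEq.respectTransparency.types false

universe u

open TensorProduct

namespace Groth.Agent.H4RG

attribute [local instance] Algebra.TensorProduct.rightAlgebra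

/-- Over a local base a function nonzero on the closed fibre kills nothing after tensoring. -/
theorem eq_zero_of_smul_eq_zero_local {R S : Type u} [CommRing R] [IsLocalRing R] [CommRing S] [Algebra R S]
    [Algebra.FiniteType R S] [Module.Flat R S] (hgi : FlatCA.GeomIntegralFibres R S) (s : S)
    (hs : s ⊗ₜ[R] (1 : IsLocalRing.ResidueField R) ≠ 0) (Q : Type u) [AddCommGroup Q] [Module R Q] (w : S ⊗[R] Q)
    (hw : s • w = 0) : w = 0 := by
  classical
  let m := IsLocalRing.maximalIdeal R
  by_contra hne
  obtain ⟨P, p', _, _, hPp, hJ, hass⟩ := exists_assoc_of_ne_zero (B := S) S Q w hne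
  obtain ⟨P', hP', hPP', hP'm⟩ : ∃ P' : Ideal S, P'.IsPrime ∧ P ≤ P' ∧ P'.comap (algebraMap R S) = m := by
    by_contra hno
    push Not at hno
    exact Groth.Agent.S1223.result hgi m R S S LinearMap.id p' m P
      ⟨inferInstance, IsBaseChange.ofEquiv (LinearEquiv.refl S S),
        IsLocalRing.le_maximalIdeal (Ideal.IsPrime.ne_top ‹_›), ⟨(Ideal.comap_id m).symm⟩, hPp, hass,
        fun P' hP' hQ hov => hno P' hP' hQ hov.over.symm⟩
  haveI := Groth.Agent.S1223.isDomain_tensor hgi (IsLocalRing.ResidueField R)
  obtain ⟨u, hu, huw⟩ := exists_kill_tensor_of_fibre S P' hP'm s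
    (fun v hv => ⟨1, hP'.one_notMem, by
      have h1 : ∀ v : S ⊗[R] IsLocalRing.ResidueField R, s • v = (s ⊗ₜ[R] (1 : IsLocalRing.ResidueField R)) * v := fun v => by
        induction v using TensorProduct.induction_on with
        | zero => rw [smul_zero, mul_zero]
        | tmul a b => rw [TensorProduct.smul_tmul', Algebra.TensorProduct.tmul_mul_tmul, one_mul, smul_eq_mul]
        | add a b ha hb => rw [smul_add, mul_add, ha, hb]
      rw [h1] at hv
      rw [one_smul]
      exact (mul_eq_zero.1 hv).resolve_left hs⟩) Q w hw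
  exact hu (hPP' (hJ ((Submodule.mem_annihilator_span_singleton _ _).2 huw)))

/-- Geometrically integral fibres survive a base change. -/
theorem geomIntegralFibres_baseChange {R S : Type u} [CommRing R] [CommRing S] [Algebra R S]
    (hgi : FlatCA.GeomIntegralFibres R S) (R' : Type u) [CommRing R'] [Algebra R R'] :
    FlatCA.GeomIntegralFibres R' (R' ⊗[R] S) :=
  CategoryTheory.MorphismProperty.of_isPullback (P := @AlgebraicGeometry.GeometricallyIntegral)
    (AlgebraicGeometry.isPullback_SpecMap_of_isPushout _ _ _ _ (CommRingCat.isPushout_tensorProduct R R' S)).flip hgi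

/-- A function nonzero on a fibre kills only what is killed off that point of the base. -/
theorem exists_kill_of_fibre_ne_zero {R S : Type u} [CommRing R] [CommRing S] [Algebra R S]
    [Algebra.FiniteType R S] [Module.Flat R S] (hgi : FlatCA.GeomIntegralFibres R S) (r' : Ideal R) [r'.IsPrime]
    (s : S) (hs : algebraMap S (r'.Fiber S) s ≠ 0) (Q : Type u) [AddCommGroup Q] [Module R Q] (w : S ⊗[R] Q)
    (hw : s • w = 0) : ∃ r : R, r ∉ r' ∧ (algebraMap R S r) • w = 0 := by
  classical
  let R' := Localization.AtPrime r'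
  let S' := R' ⊗[R] S
  haveI : Algebra.IsPushout R R' S S' := inferInstance
  let c1 : S' ⊗[R'] r'.ResidueField ≃ₗ[R'] r'.ResidueField ⊗[R'] S' := TensorProduct.comm R' _ _
  let c2 := AlgebraTensorModule.cancelBaseChange R R' r'.ResidueField r'.ResidueField S
  have hs' : ((1 : R') ⊗ₜ[R] s : S') ⊗ₜ[R'] (1 : IsLocalRing.ResidueField R') ≠ 0 := fun h0 => hs (by
    have h2 := congrArg (fun z => c2 (c1 z)) h0
    simp only [map_zero] at h2
    rw [show c1 (((1 : R') ⊗ₜ[R] s : S') ⊗ₜ[R'] (1 : IsLocalRing.ResidueField R')) =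
      (1 : r'.ResidueField) ⊗ₜ[R'] ((1 : R') ⊗ₜ[R] s) from rfl, AlgebraTensorModule.cancelBaseChange_tmul, one_smul] at h2
    exact h2)
  let E := (baseChangeTensorEquiv R R' S S' S Q).trans
    (AlgebraTensorModule.congr (AlgebraTensorModule.rid S S' S') (LinearEquiv.refl R' (R' ⊗[R] Q)))
  have h0 := eq_zero_of_smul_eq_zero_local (geomIntegralFibres_baseChange hgi R') ((1 : R') ⊗ₜ[R] s) hs'
    (R' ⊗[R] Q) (E ((1 : S') ⊗ₜ[S] w)) (by
      show algebraMap S S' s • _ = 0
      rw [← map_smul, algebraMap_smul, ← tmul_smul, hw, tmul_zero, map_zero])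
  have h1 : TensorProduct.mk S S' (S ⊗[R] Q) 1 w = 0 := E.injective (h0.trans (map_zero E).symm)
  haveI : IsLocalizedModule (Algebra.algebraMapSubmonoid S r'.primeCompl) (TensorProduct.mk S S' (S ⊗[R] Q) 1) :=
    (isLocalizedModule_iff_isBaseChange _ S' _).2 (TensorProduct.isBaseChange S (S ⊗[R] Q) S')
  obtain ⟨⟨_, r, hr, rfl⟩, hu⟩ := (IsLocalizedModule.eq_zero_iff (Algebra.algebraMapSubmonoid S r'.primeCompl)
    (TensorProduct.mk S S' (S ⊗[R] Q) 1)).1 h1
  exact ⟨r, hr, hu⟩

/-- The same on a finite free module. -/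
theorem exists_kill_pi {R S : Type u} [CommRing R] [CommRing S] [Algebra R S] (W : Submonoid S) (s : S)
    (h : ∀ (Q : Type u) [AddCommGroup Q] [Module R Q] (w : S ⊗[R] Q), s • w = 0 → ∃ u ∈ W, u • w = 0)
    {r : ℕ} (Q : Type u) [AddCommGroup Q] [Module R Q] (w : (Fin r → S) ⊗[R] Q) (hw : s • w = 0) :
    ∃ u ∈ W, u • w = 0 := by
  classical
  let π : Fin r → ((Fin r → S) ⊗[R] Q →ₗ[S] S ⊗[R] Q) := fun i =>
    AlgebraTensorModule.rTensor R Q (LinearMap.proj (R := S) (φ := fun _ : Fin r => S) i)
  let ι : Fin r → (S ⊗[R] Q →ₗ[S] (Fin r → S) ⊗[R] Q) := fun i =>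
    AlgebraTensorModule.rTensor R Q (LinearMap.single S (fun _ : Fin r => S) i)
  have hsum : ∀ z, z = ∑ i, ι i (π i z) := fun z => by
    induction z using TensorProduct.induction_on with
    | zero => simp
    | tmul v q =>
      show v ⊗ₜ[R] q = ∑ i, (LinearMap.single S (fun _ : Fin r => S) i (v i)) ⊗ₜ[R] q
      rw [← sum_tmul]
      exact congrArg (fun t => t ⊗ₜ[R] q) (Finset.univ_sum_single v).symm
    | add a b ha hb =>
      conv_lhs => rw [ha, hb]
      simp only [map_add, Finset.sum_add_distrib]
  choose u hu hk using fun i => h Q (π i w) (by rw [← map_smul, hw, map_zero])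
  refine ⟨∏ i, u i, Submonoid.prod_mem _ fun i _ => hu i, ?_⟩
  rw [hsum w, Finset.smul_sum]
  refine Finset.sum_eq_zero fun i _ => ?_
  obtain ⟨c, hc⟩ := Finset.dvd_prod_of_mem u (Finset.mem_univ i)
  rw [← map_smul, hc, mul_comm, mul_smul, hk, smul_zero, map_zero]

variable {R S : Type u} [CommRing R] [CommRing S] [Algebra R S] {M N : Type u} [AddCommGroup M] [Module S M]
  [Module R M] [IsScalarTower R S M] [AddCommGroup N] [Module S N] [Module R N] [IsScalarTower R S N]

/-- What becomes zero under `α` after tensoring is killed by an element of `W`. -/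
def Kills (R : Type u) [CommRing R] [Algebra R S] [Module R M] [IsScalarTower R S M] [Module R N]
    [IsScalarTower R S N] (W : Submonoid S) (α : M →ₗ[S] N) : Prop :=
  ∀ (Q : Type u) [AddCommGroup Q] [Module R Q] (w : M ⊗[R] Q),
    AlgebraTensorModule.rTensor R Q α w = 0 → ∃ u ∈ W, u • w = 0

theorem Kills.mono {W W' : Submonoid S} {α : M →ₗ[S] N} (h : Kills R W α) (hle : W ≤ W') : Kills R W' α :=
  fun Q _ _ w hw => (h Q w hw).imp fun _ hu => ⟨hle hu.1, hu.2⟩

/-- A map bijective after a localisation kills only what the localisation kills. -/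
theorem kills_of_bijective (V W : Submonoid S) (α : M →ₗ[S] N)
    (hbij : Function.Bijective (LocalizedModule.map V α))
    (hk : ∀ s ∈ V, ∀ (Q : Type u) [AddCommGroup Q] [Module R Q] (w : M ⊗[R] Q), s • w = 0 → ∃ u ∈ W, u • w = 0) :
    Kills R W α := fun Q _ _ w hw => by
  let iM := LocalizedModule.mkLinearMap V M
  let iN := LocalizedModule.mkLinearMap V N
  let e : LocalizedModule V M ≃ₗ[S] LocalizedModule V N :=
    LinearEquiv.ofBijective ((LocalizedModule.map V α).restrictScalars S) hbij
  let eQ := AlgebraTensorModule.congr (A := S) e (LinearEquiv.refl R Q)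
  have hsq : ∀ z, eQ (AlgebraTensorModule.rTensor R Q iM z) =
      AlgebraTensorModule.rTensor R Q iN (AlgebraTensorModule.rTensor R Q α z) := fun z => by
    induction z using TensorProduct.induction_on with
    | zero => simp only [map_zero]
    | tmul m q =>
      show e (iM m) ⊗ₜ[R] q = iN (α m) ⊗ₜ[R] q
      congr 1
      show LocalizedModule.map V α (LocalizedModule.mk m 1) = LocalizedModule.mk (α m) 1
      rw [LocalizedModule.map_mk]
    | add a b ha hb => simp only [map_add, ha, hb]
  have h1 : AlgebraTensorModule.rTensor R Q iM w = 0 :=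
    eQ.injective (by rw [hsq, hw, map_zero, map_zero])
  obtain ⟨⟨s, hs⟩, hsw⟩ := (IsLocalizedModule.eq_zero_iff V (AlgebraTensorModule.rTensor R Q iM)).1 h1
  exact hk s hs Q w hsw

/-- Killing by `W` is universal injectivity of the localisation at `W`. -/
theorem kills_iff_univInj_localized (W : Submonoid S) (α : M →ₗ[S] N) :
    Kills R W α ↔ FlatCA.UnivInj R ((LocalizedModule.map W α).restrictScalars R) := by
  let iM := LocalizedModule.mkLinearMap W M
  let iN := LocalizedModule.mkLinearMap W N
  let αW : LocalizedModule W M →ₗ[S] LocalizedModule W N := (LocalizedModule.map W α).restrictScalars S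
  have hsq : ∀ (Q : Type u) [AddCommGroup Q] [Module R Q] (z : M ⊗[R] Q),
      AlgebraTensorModule.rTensor R Q αW (AlgebraTensorModule.rTensor R Q iM z) =
        AlgebraTensorModule.rTensor R Q iN (AlgebraTensorModule.rTensor R Q α z) := fun Q _ _ z => by
    induction z using TensorProduct.induction_on with
    | zero => simp only [map_zero]
    | tmul m q =>
      show LocalizedModule.map W α (LocalizedModule.mk m 1) ⊗ₜ[R] q = LocalizedModule.mk (α m) 1 ⊗ₜ[R] q
      rw [LocalizedModule.map_mk]
    | add a b ha hb => simp only [map_add, ha, hb]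
  have hiff : ∀ (Q : Type u) [AddCommGroup Q] [Module R Q],
      Function.Injective (((LocalizedModule.map W α).restrictScalars R).lTensor Q) ↔
        Function.Injective (AlgebraTensorModule.rTensor R Q αW) := fun Q _ _ => by
    rw [LinearMap.lTensor_inj_iff_rTensor_inj]
    exact Iff.rfl
  constructor
  · intro h Q _ _
    rw [hiff, injective_iff_map_eq_zero]
    intro z hz
    obtain ⟨⟨w, u⟩, hwu⟩ := IsLocalizedModule.surj W (AlgebraTensorModule.rTensor R Q iM) z
    have h1 : AlgebraTensorModule.rTensor R Q iN (AlgebraTensorModule.rTensor R Q α w) = 0 := by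
      rw [← hsq, ← hwu, Submonoid.smul_def, map_smul, hz, smul_zero]
    obtain ⟨u', hu'⟩ := (IsLocalizedModule.eq_zero_iff W (AlgebraTensorModule.rTensor R Q iN)).1 h1
    obtain ⟨u'', hu'', hk⟩ := h Q ((u' : S) • w) (by rw [map_smul]; exact hu')
    have h2 : AlgebraTensorModule.rTensor R Q iM w = 0 :=
      (IsLocalizedModule.eq_zero_iff W (AlgebraTensorModule.rTensor R Q iM)).2 ⟨⟨u'', hu''⟩ * u', by
        rw [Submonoid.smul_def, Submonoid.coe_mul, mul_smul, hk]⟩
    exact IsLocalizedModule.smul_injective (AlgebraTensorModule.rTensor R Q iM) u ((hwu.trans h2).trans (smul_zero u).symm)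
  · intro h Q _ _ w hw
    have h1 : AlgebraTensorModule.rTensor R Q iM w = 0 := (hiff Q).1 (h Q) (by rw [hsq, hw, map_zero, map_zero])
    obtain ⟨⟨u, hu⟩, huw⟩ := (IsLocalizedModule.eq_zero_iff W (AlgebraTensorModule.rTensor R Q iM)).1 h1
    exact ⟨u, hu, huw⟩

theorem univInj_of_kills_bot (α : M →ₗ[S] N) (h : Kills R (⊥ : Submonoid S) α) :
    FlatCA.UnivInj R (α.restrictScalars R) := fun Q _ _ => by
  rw [LinearMap.lTensor_inj_iff_rTensor_inj, injective_iff_map_eq_zero]
  intro w hw
  obtain ⟨u, hu, huw⟩ := h Q w hw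
  rwa [Submonoid.mem_bot.1 hu, one_smul] at huw

/-- Injectivity and killing at the trivial module. -/
theorem injective_map_iff (W : Submonoid S) (α : M →ₗ[S] N) :
    Function.Injective (LocalizedModule.map W α) ↔ ∀ m, α m = 0 → ∃ u ∈ W, u • m = 0 := by
  constructor
  · intro h m hm
    have h1 : LocalizedModule.mk m (1 : W) = 0 := h (by rw [LocalizedModule.map_mk, hm, LocalizedModule.zero_mk, map_zero])
    obtain ⟨u, hu⟩ := (IsLocalizedModule.eq_zero_iff W (LocalizedModule.mkLinearMap W M)).1 h1
    exact ⟨u, u.2, hu⟩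
  · intro h
    rw [injective_iff_map_eq_zero]
    intro x hx
    induction x using LocalizedModule.induction_on with
    | _ m s =>
      rw [LocalizedModule.map_mk, ← LocalizedModule.zero_mk s, LocalizedModule.mk_eq] at hx
      obtain ⟨t, ht⟩ := hx
      simp only [smul_zero] at ht
      obtain ⟨u, hu, huv⟩ := h (((t : S) * (s : S)) • m) (by rw [map_smul, mul_smul]; exact ht)
      rw [← LocalizedModule.zero_mk s, LocalizedModule.mk_eq]
      refine ⟨⟨u, hu⟩ * t, ?_⟩
      simp only [smul_zero, Submonoid.smul_def, Submonoid.coe_mul]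
      rw [← mul_smul] at huv ⊢
      rw [mul_assoc]
      exact huv

theorem Kills.injective_map {W : Submonoid S} {α : M →ₗ[S] N} (h : Kills R W α) :
    Function.Injective (LocalizedModule.map W α) :=
  (injective_map_iff W α).2 fun m hm => by
    obtain ⟨u, hu, huv⟩ := h R (m ⊗ₜ[R] (1 : R)) (by
      rw [AlgebraTensorModule.rTensor_tmul, hm, zero_tmul])
    refine ⟨u, hu, ?_⟩
    have h1 := congrArg (AlgebraTensorModule.rid R S M) huv
    rwa [map_smul, map_zero, AlgebraTensorModule.rid_tmul, one_smul] at h1

theorem injective_map_mono {W W' : Submonoid S} {α : M →ₗ[S] N} (h : Function.Injective (LocalizedModule.map W α))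
    (hle : W ≤ W') : Function.Injective (LocalizedModule.map W' α) :=
  (injective_map_iff W' α).2 fun m hm => ((injective_map_iff W α).1 h m hm).imp fun _ hu => ⟨hle hu.1, hu.2⟩

/-- The cokernel of a map killing only what `W` kills is flat where the target is. -/
theorem flatAt_coker (W : Submonoid S) (q : Ideal S) [q.IsPrime] (hW : W ≤ q.primeCompl) (α : M →ₗ[S] N)
    (h : Kills R W α) (hN : FlatCA.FlatAt R q N) : FlatCA.FlatAt R q (N ⧸ LinearMap.range α) := by
  classical
  refine (FlatModel.flat_localized_iff q.primeCompl (LocalizedModule.mkLinearMap q.primeCompl _)).2 fun J y hy => ?_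
  let π : N →ₗ[S] N ⧸ LinearMap.range α := (LinearMap.range α).mkQ
  obtain ⟨n, rfl⟩ : ∃ n, AlgebraTensorModule.rTensor R J π n = y :=
    LinearMap.rTensor_surjective J (g := π.restrictScalars R) (Submodule.mkQ_surjective _) y
  have hn : (π.restrictScalars R).rTensor R (J.subtype.lTensor N n) = 0 := by
    rw [← LinearMap.comp_apply, LinearMap.rTensor_comp_lTensor, ← LinearMap.lTensor_comp_rTensor, LinearMap.comp_apply]
    exact hy
  have hex : Function.Exact (α.restrictScalars R) (π.restrictScalars R) := fun x => (Submodule.Quotient.mk_eq_zero _)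
  obtain ⟨a, ha⟩ := (rTensor_exact R hex (Submodule.mkQ_surjective _) _).1 hn
  let g : R →ₗ[R] R ⧸ J := Submodule.mkQ J
  have ha0 : AlgebraTensorModule.rTensor R (R ⧸ J) α (g.lTensor M a) = 0 := by
    show (α.restrictScalars R).rTensor (R ⧸ J) (g.lTensor M a) = 0
    rw [← LinearMap.comp_apply, LinearMap.rTensor_comp_lTensor, ← LinearMap.lTensor_comp_rTensor, LinearMap.comp_apply,
      ha, ← LinearMap.comp_apply, ← LinearMap.lTensor_comp,
      show g ∘ₗ J.subtype = 0 from LinearMap.ext fun x => (Submodule.Quotient.mk_eq_zero J).2 x.2,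
      LinearMap.lTensor_zero, LinearMap.zero_apply]
  obtain ⟨u, hu, hua⟩ := h _ _ ha0
  have hsm : ∀ (X Y : Type u) [AddCommGroup X] [Module R X] [AddCommGroup Y] [Module R Y] (f : X →ₗ[R] Y) (c : S)
      (z : M ⊗[R] X), f.lTensor M (c • z) = c • f.lTensor M z := fun X Y _ _ _ _ f c z =>
    map_smul (AlgebraTensorModule.lTensor S M f) c z
  have hua' : g.lTensor M (u • a) = 0 := by rw [hsm]; exact hua
  obtain ⟨a', ha'⟩ := (lTensor_exact M (f := J.subtype) (g := g) (fun x => by
    show Submodule.mkQ J x = 0 ↔ _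
    rw [Submodule.mkQ_apply, Submodule.Quotient.mk_eq_zero]
    exact ⟨fun hx => ⟨⟨x, hx⟩, rfl⟩, fun ⟨z, hz⟩ => hz ▸ z.2⟩) (Submodule.mkQ_surjective J) _).1 hua'
  let n' := u • n - AlgebraTensorModule.rTensor R J α a'
  have hn' : J.subtype.lTensor N n' = 0 := by
    rw [map_sub, sub_eq_zero]
    show AlgebraTensorModule.lTensor S N J.subtype (u • n) = J.subtype.lTensor N ((α.restrictScalars R).rTensor J a')
    rw [map_smul, ← LinearMap.comp_apply (f := J.subtype.lTensor N), LinearMap.lTensor_comp_rTensor,
      ← LinearMap.rTensor_comp_lTensor, LinearMap.comp_apply, ha']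
    show u • _ = AlgebraTensorModule.rTensor R R α (u • a)
    rw [map_smul]
    exact congrArg (u • ·) ha.symm
  obtain ⟨s, hs, hsn⟩ := (FlatModel.flat_localized_iff q.primeCompl (LocalizedModule.mkLinearMap q.primeCompl N)).1 hN J n' hn'
  refine ⟨s * u, q.primeCompl.mul_mem hs (hW hu), ?_⟩
  have h2 := congrArg (AlgebraTensorModule.rTensor R J π) hsn
  have hπα : AlgebraTensorModule.rTensor R J π (AlgebraTensorModule.rTensor R J α a') = 0 := by
    rw [← LinearMap.comp_apply, ← AlgebraTensorModule.rTensor_comp, show π ∘ₗ α = 0 from LinearMap.range_mkQ_comp α]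
    clear ha' n' hn' hsn h2
    induction a' using TensorProduct.induction_on with
    | zero => exact map_zero _
    | tmul x y => rw [AlgebraTensorModule.rTensor_tmul, LinearMap.zero_apply, zero_tmul]
    | add x y hx hy => rw [map_add, hx, hy, add_zero]
  rw [map_smul, map_sub, hπα, sub_zero, map_smul, map_zero, ← mul_smul] at h2
  exact h2

/-- Flatness of the middle term. -/
theorem flatAt_of_coker [Module.Flat R M] (q : Ideal S) [q.IsPrime] (α : M →ₗ[S] N)
    (hinj : Function.Injective (LocalizedModule.map q.primeCompl α))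
    (hC : FlatCA.FlatAt R q (N ⧸ LinearMap.range α)) : FlatCA.FlatAt R q N := by
  classical
  refine (FlatModel.flat_localized_iff q.primeCompl (LocalizedModule.mkLinearMap q.primeCompl N)).2 fun J y hy => ?_
  let π : N →ₗ[S] N ⧸ LinearMap.range α := (LinearMap.range α).mkQ
  obtain ⟨s, hs, hsy⟩ := (FlatModel.flat_localized_iff q.primeCompl (LocalizedModule.mkLinearMap q.primeCompl _)).1 hC J
    (AlgebraTensorModule.rTensor R J π y) (by
      show J.subtype.lTensor _ ((π.restrictScalars R).rTensor J y) = 0
      rw [← LinearMap.comp_apply, LinearMap.lTensor_comp_rTensor, ← LinearMap.rTensor_comp_lTensor, LinearMap.comp_apply,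
        hy, map_zero])
  have hex : Function.Exact (α.restrictScalars R) (π.restrictScalars R) := fun x => (Submodule.Quotient.mk_eq_zero _)
  obtain ⟨a, ha⟩ := (rTensor_exact J hex (Submodule.mkQ_surjective _) (s • y)).1 (by
    show AlgebraTensorModule.rTensor R J π (s • y) = 0
    rw [map_smul, hsy])
  let m := AlgebraTensorModule.rid R S M (AlgebraTensorModule.lTensor S M J.subtype a)
  have hm : α m = 0 := by
    have hnat : ∀ z : M ⊗[R] R, α (AlgebraTensorModule.rid R S M z) =
        AlgebraTensorModule.rid R S N (AlgebraTensorModule.rTensor R R α z) := fun z => by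
      induction z using TensorProduct.induction_on with
      | zero => simp only [map_zero]
      | tmul x t => rw [AlgebraTensorModule.rid_tmul, LinearMap.map_smul_of_tower, AlgebraTensorModule.rTensor_tmul,
          AlgebraTensorModule.rid_tmul]
      | add x t hx ht => simp only [map_add, hx, ht]
    rw [hnat]
    show AlgebraTensorModule.rid R S N ((α.restrictScalars R).rTensor R (J.subtype.lTensor M a)) = 0
    rw [← LinearMap.comp_apply (f := (α.restrictScalars R).rTensor R), LinearMap.rTensor_comp_lTensor,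
      ← LinearMap.lTensor_comp_rTensor, LinearMap.comp_apply, ha]
    show AlgebraTensorModule.rid R S N (AlgebraTensorModule.lTensor S N J.subtype (s • y)) = 0
    rw [map_smul, show AlgebraTensorModule.lTensor S N J.subtype y = 0 from hy, smul_zero, map_zero]
  obtain ⟨u, hu, hum⟩ := (injective_map_iff q.primeCompl α).1 hinj m hm
  have h1 : u • a = 0 := by
    apply Module.Flat.lTensor_preserves_injective_linearMap (M := M) J.subtype J.injective_subtype
    show AlgebraTensorModule.lTensor S M J.subtype (u • a) = J.subtype.lTensor M 0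
    refine (AlgebraTensorModule.rid R S M).injective ?_
    rw [map_zero, map_zero, map_smul, map_smul]
    exact hum
  refine ⟨u * s, q.primeCompl.mul_mem hu hs, ?_⟩
  rw [mul_smul, ← ha]
  show u • AlgebraTensorModule.rTensor R J α a = 0
  rw [← map_smul, h1, map_zero]

/-- A map surjective at the residue field is surjective at the prime. -/
theorem surjective_map_of_baseChange [Module.Finite S N] (P : Ideal S) [P.IsPrime] (α : M →ₗ[S] N)
    (h : Function.Surjective (α.baseChange P.ResidueField)) :
    Function.Surjective (LocalizedModule.map P.primeCompl α) := by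
  let P' : PrimeSpectrum S := ⟨P, inferInstance⟩
  have hns : P' ∉ Module.support S (N ⧸ LinearMap.range α) := fun hmem => by
    haveI := (Module.mem_support_iff_nontrivial_residueField_tensorProduct (M := N ⧸ LinearMap.range α) P').1 hmem
    refine not_subsingleton (P.ResidueField ⊗[S] (N ⧸ LinearMap.range α)) ⟨fun a b => ?_⟩
    have hz : ∀ z : P.ResidueField ⊗[S] (N ⧸ LinearMap.range α), z = 0 := fun z => by
      obtain ⟨w, rfl⟩ := LinearMap.lTensor_surjective P.ResidueField (Submodule.mkQ_surjective (LinearMap.range α)) z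
      obtain ⟨v, rfl⟩ := h w
      show ((LinearMap.range α).mkQ.lTensor _) (α.lTensor _ v) = 0
      rw [← LinearMap.comp_apply, ← LinearMap.lTensor_comp, LinearMap.range_mkQ_comp, LinearMap.lTensor_zero,
        LinearMap.zero_apply]
    rw [hz a, hz b]
  haveI := Module.notMem_support_iff.1 hns
  intro x
  induction x using LocalizedModule.induction_on with
  | _ n t =>
    obtain ⟨u, hu, hun⟩ := LocalizedModule.subsingleton_iff.1 this (Submodule.Quotient.mk n)
    obtain ⟨m, hm⟩ : u • n ∈ LinearMap.range α := by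
      rw [← Submodule.Quotient.mk_eq_zero, Submodule.Quotient.mk_smul, hun]
    refine ⟨LocalizedModule.mk m (⟨u, hu⟩ * t), ?_⟩
    rw [LocalizedModule.map_mk, hm]
    exact LocalizedModule.mk_cancel_common_left ⟨u, hu⟩ t n

/-- In a flat quotient, relations in `I • F` are in `I • K`. -/
theorem ker_le_smul_ker {R F P : Type u} [CommRing R] [AddCommGroup F] [Module R F] [AddCommGroup P] [Module R P]
    [Module.Flat R P] (I : Ideal R) (f : F →ₗ[R] P) (hf : Function.Surjective f)
    (h : LinearMap.ker f ≤ I • (⊤ : Submodule R F)) : LinearMap.ker f ≤ I • LinearMap.ker f := by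
  intro x hx
  let K := LinearMap.ker f
  have h8 : (K.subtype.lTensor (R ⧸ I)) ((1 : R ⧸ I) ⊗ₜ[R] (⟨x, hx⟩ : K)) = 0 := by
    rw [LinearMap.lTensor_tmul]
    refine (TensorProduct.quotTensorEquivQuotSMul F I).injective ?_
    rw [map_zero, ← map_one (Ideal.Quotient.mk I), TensorProduct.quotTensorEquivQuotSMul_mk_tmul, one_smul]
    exact (Submodule.Quotient.mk_eq_zero _).2 (h hx)
  have hinj : Function.Injective (K.subtype.lTensor (R ⧸ I)) :=
    LinearMap.lTensor_injective_of_exact_of_flat (R := R) (M := K) (N := F) (P := P) f hf K.subtype K.injective_subtype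
      (LinearMap.exact_subtype_ker_map f) (R ⧸ I)
  have h9 : (1 : R ⧸ I) ⊗ₜ[R] (⟨x, hx⟩ : K) = 0 := hinj (h8.trans (map_zero _).symm)
  have h10 : (⟨x, hx⟩ : K) ∈ I • (⊤ : Submodule R K) := by
    rw [← Submodule.Quotient.mk_eq_zero]
    have := congrArg (TensorProduct.quotTensorEquivQuotSMul K I) h9
    rwa [← map_one (Ideal.Quotient.mk I), TensorProduct.quotTensorEquivQuotSMul_mk_tmul, one_smul, map_zero] at this
  have h11 := Submodule.mem_map_of_mem (f := K.subtype) h10
  rwa [Submodule.map_smul'', Submodule.map_top, Submodule.range_subtype] at h11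

theorem mem_smul_of_map_eq_zero (rr : Ideal R) (P : Ideal S) [P.IsPrime] (hP : P = rr.map (algebraMap R S))
    {r : ℕ} (α : (Fin r → S) →ₗ[S] N) (h : Function.Injective (α.baseChange P.ResidueField))
    (x : LocalizedModule P.primeCompl (Fin r → S)) (hx : LocalizedModule.map P.primeCompl α x = 0) :
    x ∈ rr • (⊤ : Submodule R (LocalizedModule P.primeCompl (Fin r → S))) := by
  classical
  let W := P.primeCompl
  let Sp := Localization.AtPrime P
  let F := LocalizedModule W (Fin r → S)
  induction x using LocalizedModule.induction_on with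
  | _ v t =>
    rw [LocalizedModule.map_mk, ← LocalizedModule.zero_mk t, LocalizedModule.mk_eq] at hx
    obtain ⟨u, hu⟩ := hx
    simp only [smul_zero] at hu
    have hv : ∀ i, v i ∈ P := fun i => by
      have h0 : (α.baseChange P.ResidueField) ((1 : P.ResidueField) ⊗ₜ[S] (((u : S) * (t : S)) • v)) = 0 := by
        rw [LinearMap.baseChange_tmul, map_smul, mul_smul]
        rw [show (u : S) • (t : S) • α v = 0 from hu, tmul_zero]
      have h1 := h (h0.trans (map_zero _).symm)
      have h2 := congrArg (LinearMap.baseChange P.ResidueField (LinearMap.proj (R := S) (φ := fun _ : Fin r => S) i)) h1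
      rw [LinearMap.baseChange_tmul, map_zero] at h2
      have h3 := congrArg (AlgebraTensorModule.rid S P.ResidueField P.ResidueField) h2
      rw [map_zero, AlgebraTensorModule.rid_tmul, Algebra.smul_def, mul_one] at h3
      have h4 : ((u : S) * (t : S)) * v i ∈ P := by
        rw [← Ideal.algebraMap_residueField_eq_zero]; simpa using h3
      exact (Ideal.IsPrime.mem_or_mem ‹P.IsPrime› h4).resolve_left ((u * t).2)
    have hv2 : v ∈ rr • (⊤ : Submodule R (Fin r → S)) := by
      rw [← Finset.univ_sum_single v]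
      refine Submodule.sum_mem _ fun i _ => ?_
      have h5 : v i ∈ rr • (⊤ : Submodule R S) := by
        rw [Ideal.smul_top_eq_map]; exact hP ▸ hv i
      have h6 := Submodule.mem_map_of_mem (f := (LinearMap.single R (fun _ : Fin r => S) i)) h5
      rw [Submodule.map_smul''] at h6
      exact Submodule.smul_mono le_rfl le_top h6
    let ψ : (Fin r → S) →ₗ[R] F :=
      ((LinearMap.lsmul Sp F (Localization.mk 1 t)).restrictScalars R).comp
        ((LocalizedModule.mkLinearMap W (Fin r → S)).restrictScalars R)
    have hψv : ψ v = LocalizedModule.mk v t := by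
      show (Localization.mk 1 t : Sp) • (LocalizedModule.mk v (1 : W) : LocalizedModule W (Fin r → S)) = _
      rw [LocalizedModule.mk_smul_mk, one_smul, mul_one]
    have h7 : ψ v ∈ (rr • (⊤ : Submodule R (Fin r → S))).map ψ := Submodule.mem_map_of_mem hv2
    rw [Submodule.map_smul'', hψv] at h7
    exact Submodule.smul_mono le_rfl le_top h7

/-- A basis at the residue field of a flat module is a basis at the prime. -/
theorem bijective_map_of_flatAt [Algebra.FinitePresentation R S] [Module.Finite S N] (rr : Ideal R) (P : Ideal S) [P.IsPrime]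
    (hP : P = rr.map (algebraMap R S)) (hN : FlatCA.FlatAt R P N) {r : ℕ} (α : (Fin r → S) →ₗ[S] N)
    (h : Function.Bijective (α.baseChange P.ResidueField)) :
    Function.Bijective (LocalizedModule.map P.primeCompl α) := by
  classical
  let W := P.primeCompl
  let Sp := Localization.AtPrime P
  let f := LocalizedModule.map W α
  have hsurj : Function.Surjective f := surjective_map_of_baseChange P α h.2
  refine ⟨?_, hsurj⟩
  haveI : Module.FinitePresentation Sp (LocalizedModule W N) := Groth.Agent.S1208.result N P hN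
  haveI : Module.Finite Sp (LocalizedModule W (Fin r → S)) := Module.Finite.of_isLocalizedModule W (LocalizedModule.mkLinearMap W _)
  have hKfg : (LinearMap.ker f).FG := Module.FinitePresentation.fg_ker f hsurj
  suffices hK : LinearMap.ker f = ⊥ from LinearMap.ker_eq_bot.1 hK
  refine Submodule.eq_bot_of_le_smul_of_le_jacobson_bot (IsLocalRing.maximalIdeal Sp) _ hKfg ?_ (IsLocalRing.maximalIdeal_le_jacobson _)
  haveI : Module.Flat R (LocalizedModule W N) := hN
  intro x hx
  have h11 := ker_le_smul_ker rr (f.restrictScalars R) hsurj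
    (fun y hy => mem_smul_of_map_eq_zero rr P hP α h.1 y hy) (show x ∈ LinearMap.ker (f.restrictScalars R) from hx)
  refine Submodule.smul_induction_on h11 (fun a ha y hy => ?_) fun y z hy hz => add_mem hy hz
  rw [← algebraMap_smul Sp a y]
  refine Submodule.smul_mem_smul ?_ hy
  rw [IsScalarTower.algebraMap_apply R S Sp, ← Localization.AtPrime.map_eq_maximalIdeal]
  exact Ideal.mem_map_of_mem _ (hP ▸ Ideal.mem_map_of_mem _ ha)

/-- A function off a prime is nonzero in the fibre of that prime. -/
theorem algebraMap_fiber_ne_zero {R S : Type u} [CommRing R] [CommRing S] [Algebra R S] (r' : Ideal R) [r'.IsPrime]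
    (Z : Ideal S) [Z.IsPrime] (hZ : Z.comap (algebraMap R S) = r') (s : S) (hs : s ∉ Z) :
    algebraMap S (r'.Fiber S) s ≠ 0 := fun h0 => hs (by
  obtain ⟨z, hz⟩ := (PrimeSpectrum.preimageEquivFiber R S ⟨r', inferInstance⟩).symm.surjective
    ⟨⟨Z, inferInstance⟩, PrimeSpectrum.ext hZ⟩
  have h2 : z.asIdeal.comap (algebraMap S (r'.Fiber S)) = Z := congrArg (fun w => w.1.asIdeal) hz
  rw [← h2, Ideal.mem_comap, h0]
  exact zero_mem _)

end Groth.Agent.H4RG
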