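import Mathlib

/-!
# Products of finitely many rings and their modules
-/

set_option autoImplicit false

universe u

open TensorProduct

namespace Groth.Agent.H4RG

variable {ι : Type u} [Fintype ι] [DecidableEq ι] (R : ι → Type u) [∀ i, CommRing (R i)]
  (M : ι → Type u) [∀ i, AddCommGroup (M i)] [∀ i, Module (R i) (M i)]

/-- A finite product of projective modules is projective over the product ring. -/
theorem projective_pi_ring [∀ i, Module.Projective (R i) (M i)] :
    Module.Projective (∀ i, R i) (∀ i, M i) := by
  classical
  choose s hs using fun i => Module.projective_def.1 (inferInstance : Module.Projective (R i) (M i))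
  let emb : ∀ i, (M i →₀ R i) → ((Σ i, M i) →₀ ∀ j, R j) := fun i c =>
    (c.mapRange (Pi.single i) (Pi.single_zero i)).mapDomain (Sigma.mk i)
  have hadd : ∀ i (a b : M i →₀ R i), emb i (a + b) = emb i a + emb i b := fun i a b => by
    show Finsupp.mapDomain _ _ = _
    rw [Finsupp.mapRange_add (fun _ _ => Pi.single_add i _ _), Finsupp.mapDomain_add]
  have hsmul : ∀ i (r : ∀ j, R j) (a : M i →₀ R i), emb i (r i • a) = r • emb i a := fun i r a => by
    show Finsupp.mapDomain _ _ = _
    rw [← Finsupp.mapDomain_smul]
    congr 1
    ext x j
    by_cases h : j = i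
    · subst h; simp
    · simp [Pi.single_eq_of_ne h]
  let π := Finsupp.linearCombination (∀ j, R j) (fun x : Σ i, M i => (Pi.single x.1 x.2 : ∀ j, M j))
  have hπ : ∀ i (a : M i →₀ R i), π (emb i a) = Pi.single i (Finsupp.linearCombination (R i) id a) := fun i a => by
    induction a using Finsupp.induction_linear with
    | zero => simp [emb]
    | add a b ha hb => rw [hadd, map_add, ha, hb, map_add, Pi.single_add]
    | single x r =>
      simp only [emb, π, Finsupp.mapRange_single, Finsupp.mapDomain_single, Finsupp.linearCombination_single, id]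
      funext j
      by_cases h : j = i
      · subst h; simp
      · simp [Pi.single_eq_of_ne h]
  let σ : (∀ i, M i) →ₗ[∀ i, R i] ((Σ i, M i) →₀ ∀ j, R j) :=
    { toFun := fun m => ∑ i, emb i (s i (m i))
      map_add' := fun a b => by simp only [Pi.add_apply, map_add, hadd, Finset.sum_add_distrib]
      map_smul' := fun r a => by
        simp only [RingHom.id_apply, Finset.smul_sum]
        exact Finset.sum_congr rfl fun i _ => by rw [Pi.smul_apply', map_smul, hsmul] }
  refine Module.Projective.of_split σ π (LinearMap.ext fun m => ?_)
  show π (∑ i, emb i (s i (m i))) = m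
  rw [map_sum]
  simp only [hπ, hs _ _]
  exact Finset.univ_sum_single m

variable {A : Type u} [CommRing A] [∀ i, Algebra A (R i)] (N : Type u) [AddCommGroup N] [Module A N]

omit [DecidableEq ι] in
/-- A finite product of flat algebras is flat. -/
theorem flat_pi_ring [∀ i, Module.Flat A (R i)] : Module.Flat A (∀ i, R i) :=
  Module.Flat.of_linearEquiv (DFinsupp.linearEquivFunOnFintype (R := A) (M := R)).symm

/-- A module becoming projective over each factor becomes projective over the product. -/
theorem projective_pi_tensor [∀ i, Module.Projective (R i) (R i ⊗[A] N)] :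
    Module.Projective (∀ i, R i) ((∀ i, R i) ⊗[A] N) := by
  haveI := projective_pi_ring R (fun i => R i ⊗[A] N)
  let e : ((∀ i, R i) ⊗[A] N) ≃ₗ[A] ∀ i, R i ⊗[A] N :=
    ((TensorProduct.comm A _ N).trans (TensorProduct.piRight A A N R)).trans
      (LinearEquiv.piCongrRight fun i => TensorProduct.comm A N (R i))
  have hsm : ∀ (r : ∀ i, R i) x, e (r • x) = r • e x := fun r x => by
    induction x using TensorProduct.induction_on with
    | zero => simp
    | add a b ha hb => rw [smul_add, map_add, map_add, ha, hb, smul_add]
    | tmul a n =>
      funext i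
      rw [smul_tmul']
      simp [e, smul_tmul', smul_eq_mul]
  exact Module.Projective.of_equiv
    ({ e with map_smul' := hsm } : ((∀ i, R i) ⊗[A] N) ≃ₗ[∀ i, R i] ∀ i, R i ⊗[A] N).symm

end Groth.Agent.H4RG
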