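import Groth.Prelude
import Groth.Agent.H4RG.FibreBasis
import Groth.Agent.S1219
import Groth.Agent.GrpSchLib.IsogenyFibre
import Groth.Agent.H4RG.LocalStage
import Groth.Agent.H4RG.FreeNhd
import Groth.Agent.H4RG.LocalTransfer
import Groth.Agent.H4RG.AboveClosed
import Mathlib

/-! The steps of a complete devissage. -/

set_option autoImplicit false
set_option linter.style.haveILetI false
set_option backward.isDefEq.respectTransparency.types false

universe u

open TensorProduct AlgebraicGeometry CategoryTheory

namespace Groth.Agent.H4RG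

attribute [local instance] Algebra.TensorProduct.rightAlgebra

/-- A smooth algebra with geometrically irreducible fibres has geometrically integral fibres. -/
theorem geomIntegralFibres_of_smooth {R B : Type u} [CommRing R] [CommRing B] [Algebra R B] [Algebra.Smooth R B]
    (h : FlatCA.GeomIrredFibres R B) : FlatCA.GeomIntegralFibres R B := by
  haveI : Smooth (Spec.map (CommRingCat.ofHom (algebraMap R B))) :=
    (HasRingHomProperty.Spec_iff (P := @Smooth)).2 (RingHom.smooth_algebraMap.2 ‹Algebra.Smooth R B›)
  haveI := GrpSchLib.IsogenyFibre.geometricallyReduced_of_smooth' (Spec.map (CommRingCat.ofHom (algebraMap R B)))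
  haveI := h
  exact GeometricallyIntegral.of_geometricallyReduced_of_geometricallyIrreducible _

/-- A smooth algebra with geometrically irreducible fibres is projective over the base. -/
theorem projective_of_smooth {R B : Type u} [CommRing R] [CommRing B] [Algebra R B] [Algebra.Smooth R B]
    (h : FlatCA.GeomIrredFibres R B) : Module.Projective R B := by
  haveI : Module.Flat R B := Algebra.Smooth.flat R B
  refine (Groth.Agent.S1219.result (A := R) (B := B) B).2 fun p _ A' B' N' _ _ _ _ _ _ _ _ _ _ _ _ _ _ f t' t _ _ P _ _ =>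
    Groth.Agent.S1223.result (geomIntegralFibres_of_smooth h) p A' B' N' f t' t P

/-- Over a local base a basis at the generic point of the closed fibre kills nothing. -/
theorem kills_bot_of_bijective {R S : Type u} [CommRing R] [IsLocalRing R] [CommRing S] [Algebra R S]
    [Algebra.FinitePresentation R S] [Module.Flat R S] (hgi : FlatCA.GeomIntegralFibres R S) (P : Ideal S) [P.IsPrime]
    (hP : P.comap (algebraMap R S) = IsLocalRing.maximalIdeal R) {N : Type u} [AddCommGroup N] [Module S N] [Module R N]
    [IsScalarTower R S N] {r : ℕ} (α : (Fin r → S) →ₗ[S] N)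
    (hb : Function.Bijective (LocalizedModule.map P.primeCompl α)) : Kills R (⊥ : Submonoid S) α :=
  kills_of_bijective P.primeCompl ⊥ α hb fun s hs Q _ _ w hw =>
    exists_kill_pi ⊥ s (fun Q _ _ w hw => by
      obtain ⟨a, ha, haw⟩ := exists_kill_of_fibre_ne_zero hgi _ s (algebraMap_fiber_ne_zero _ P hP s hs) Q w hw
      refine ⟨1, one_mem _, ?_⟩
      rw [one_smul]
      exact ((IsLocalRing.notMem_maximalIdeal.1 ha).map (algebraMap R S)).smul_eq_zero.1 haw) Q w hw

/-- A basis at the generic point of a fibre kills nothing after inverting a function of the base off it. -/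
theorem exists_kills_away {R S : Type u} [CommRing R] [CommRing S] [Algebra R S] [Algebra.FinitePresentation R S]
    [Module.Flat R S] (hgi : FlatCA.GeomIntegralFibres R S) (rr : Ideal R) [rr.IsPrime] (P : Ideal S) [P.IsPrime]
    (hP : P.comap (algebraMap R S) = rr) {N : Type u} [AddCommGroup N] [Module S N] [Module R N] [IsScalarTower R S N]
    [Module.FinitePresentation S N] {r : ℕ} (α : (Fin r → S) →ₗ[S] N)
    (hb : Function.Bijective (LocalizedModule.map P.primeCompl α)) :
    ∃ f : R, f ∉ rr ∧ Kills R (Submonoid.powers (algebraMap R S f)) α := by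
  classical
  obtain ⟨h, hh, hbh⟩ := Module.FinitePresentation.exists_notMem_bijective α P
    (LocalizedModule.mkLinearMap P.primeCompl (Fin r → S)) (LocalizedModule.mkLinearMap P.primeCompl N) hb
  have hopen := PrimeSpectrum.isOpenMap_comap_of_hasGoingDown_of_finitePresentation (R := R) (S := S) _
    (PrimeSpectrum.isOpen_basicOpen (a := h))
  obtain ⟨_, ⟨f, rfl⟩, hf, hsub⟩ := PrimeSpectrum.isTopologicalBasis_basic_opens.exists_subset_of_mem_open
    (show (⟨rr, inferInstance⟩ : PrimeSpectrum R) ∈ PrimeSpectrum.comap (algebraMap R S) '' (PrimeSpectrum.basicOpen h : Set _) from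
      ⟨⟨P, inferInstance⟩, hh, PrimeSpectrum.ext hP⟩) hopen
  refine ⟨f, hf, kills_of_bijective (Submonoid.powers h) _ α hbh ?_⟩
  rintro _ ⟨n, rfl⟩ Q _ _ w hw
  refine exists_kill_pi _ _ (fun Q _ _ w hw => ?_) Q w hw
  have hrad : f ∈ (Submodule.span R {w}).annihilator.radical := by
    rw [Ideal.radical_eq_sInf]
    refine Submodule.mem_sInf.2 ?_
    rintro r' ⟨hle, hr'⟩
    by_contra hfr'
    obtain ⟨⟨Z, hZ⟩, hhZ, hZr⟩ := hsub (show (⟨r', hr'⟩ : PrimeSpectrum R) ∈ _ from hfr')
    haveI : Ideal.IsPrime r' := hr'
    obtain ⟨a, ha, haw⟩ := exists_kill_of_fibre_ne_zero hgi r' (h ^ n)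
      (algebraMap_fiber_ne_zero r' Z (congrArg PrimeSpectrum.asIdeal hZr) _
        (fun hm => hhZ (hZ.mem_of_pow_mem _ hm))) Q w hw
    exact ha (hle ((Submodule.mem_annihilator_span_singleton _ _).2 (by rwa [algebraMap_smul] at haw)))
  obtain ⟨k, hk⟩ := hrad
  refine ⟨algebraMap R S f ^ k, ⟨k, rfl⟩, ?_⟩
  rw [← map_pow, algebraMap_smul]
  exact (Submodule.mem_annihilator_span_singleton _ _).1 hk

/-- A finite filtration with projective steps splits. -/
theorem projective_chain {R : Type u} [CommRing R] : ∀ (n : ℕ) (X Y : ℕ → Type u) [∀ i, AddCommGroup (X i)]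
    [∀ i, Module R (X i)] [∀ i, AddCommGroup (Y i)] [∀ i, Module R (Y i)] (a : ∀ i, X i →ₗ[R] Y i)
    (b : ∀ i, Y i →ₗ[R] Y (i + 1)) (_ : ∀ i, i ≤ n → Module.Projective R (X i))
    (_ : ∀ i, i ≤ n → Function.Injective (a i)) (_ : ∀ i, i < n → Function.Exact (a i) (b i))
    (_ : ∀ i, i < n → Function.Surjective (b i)) (_ : Function.Surjective (a n)),
    Module.Projective R (Y 0) ∧ Nonempty (Y 0 ≃ₗ[R] (∀ i : Fin (n + 1), X i)) := by
  intro n
  induction n with
  | zero =>
    intro X Y _ _ _ _ a b hX ha _ _ hlast
    haveI := hX 0 le_rfl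
    let e := LinearEquiv.ofBijective (a 0) ⟨ha 0 le_rfl, hlast⟩
    exact ⟨Module.Projective.of_equiv e,
      ⟨e.symm.trans (LinearEquiv.piUnique R (fun i : Fin 1 => X i)).symm⟩⟩
  | succ n ih =>
    intro X Y _ _ _ _ a b hX ha hex hb hlast
    obtain ⟨hP, ⟨e⟩⟩ := ih (fun i => X (i + 1)) (fun i => Y (i + 1)) (fun i => a (i + 1)) (fun i => b (i + 1))
      (fun i hi => hX (i + 1) (by omega)) (fun i hi => ha (i + 1) (by omega)) (fun i hi => hex (i + 1) (by omega))
      (fun i hi => hb (i + 1) (by omega)) hlast
    haveI := hX 0 (by omega)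
    haveI : Module.Projective R (Y (0 + 1)) := hP
    obtain ⟨l, hl⟩ := Module.projective_lifting_property (b 0) LinearMap.id (hb 0 (by omega))
    obtain ⟨e0, -, -⟩ := ((Function.Exact.split_tfae' (hex 0 (by omega))).out 0 2 rfl rfl).mp
      ⟨ha 0 (by omega), l, hl⟩
    exact ⟨Module.Projective.of_equiv e0.symm,
      ⟨e0.trans ((LinearEquiv.prodCongr (LinearEquiv.refl R (X 0)) e).trans (Fin.consLinearEquiv R (fun i : Fin (n + 2) => X i)))⟩⟩

/-- A finite power of a projective module is projective. -/
theorem projective_fin (R : Type u) [CommRing R] (P : Type u) [AddCommGroup P] [Module R P] [Module.Projective R P] (r : ℕ) :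
    Module.Projective R (Fin r → P) := by
  obtain ⟨s, hs⟩ := Module.projective_lifting_property (Finsupp.linearCombination R (id : P → P)) LinearMap.id
    (Finsupp.linearCombination_id_surjective R P)
  exact Module.Projective.of_split (M := Fin r → (P →₀ R)) (s.compLeft (Fin r))
    ((Finsupp.linearCombination R (id : P → P)).compLeft (Fin r))
    (LinearMap.ext fun x => funext fun i => LinearMap.congr_fun hs (x i))

/-- The middle of an exact sequence of finitely presented modules is finitely presented. -/
theorem fp_of_exact {R M N P : Type u} [CommRing R] [AddCommGroup M] [Module R M] [AddCommGroup N] [Module R N]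
    [AddCommGroup P] [Module R P] [Module.FinitePresentation R M] [Module.FinitePresentation R P]
    (f : M →ₗ[R] N) (g : N →ₗ[R] P) (hf : Function.Injective f) (hg : Function.Surjective g) (hex : Function.Exact f g) :
    Module.FinitePresentation R N := by
  haveI : Module.FinitePresentation R (LinearMap.ker g) := by
    rw [LinearMap.exact_iff.1 hex]
    exact Module.FinitePresentation.of_equiv (LinearEquiv.ofInjective f hf)
  exact Module.finitePresentation_of_ker g hg

/-- Killing by powers persists to multiples. -/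
theorem Kills.mul {R S M N : Type u} [CommRing R] [CommRing S] [Algebra R S] [AddCommGroup M] [Module S M] [Module R M]
    [IsScalarTower R S M] [AddCommGroup N] [Module S N] [Module R N] [IsScalarTower R S N] {f : R} {α : M →ₗ[S] N}
    (h : Kills R (Submonoid.powers (algebraMap R S f)) α) (g : R) :
    Kills R (Submonoid.powers (algebraMap R S (f * g))) α := fun Q _ _ w hw => by
  obtain ⟨_, ⟨k, rfl⟩, hk⟩ := h Q w hw
  refine ⟨_, ⟨k, rfl⟩, ?_⟩
  show algebraMap R S (f * g) ^ k • w = 0
  rw [map_mul, mul_pow, mul_comm, mul_smul, hk, smul_zero]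

/-- Geometrically irreducible fibres survive a base change. -/
theorem geomIrredFibres_baseChange {R S : Type u} [CommRing R] [CommRing S] [Algebra R S]
    (h : FlatCA.GeomIrredFibres R S) (R' : Type u) [CommRing R'] [Algebra R R'] :
    FlatCA.GeomIrredFibres R' (R' ⊗[R] S) :=
  MorphismProperty.of_isPullback (P := @GeometricallyIrreducible)
    (AlgebraicGeometry.isPullback_SpecMap_of_isPushout _ _ _ _ (CommRingCat.isPushout_tensorProduct R R' S)).flip h

/-- The fibres of a smooth algebra with geometrically irreducible fibres are nonempty. -/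
theorem exists_prime_over {R S : Type u} [CommRing R] [CommRing S] [Algebra R S] [Algebra.Smooth R S]
    (h : FlatCA.GeomIrredFibres R S) (p : Ideal R) [p.IsPrime] :
    ∃ Q : Ideal S, Q.IsPrime ∧ Q.comap (algebraMap R S) = p := by
  haveI := geomIntegralFibres_of_smooth h
  obtain ⟨Q, hQ⟩ := (inferInstance : Surjective (Spec.map (CommRingCat.ofHom (algebraMap R S)))).surj ⟨p, inferInstance⟩
  exact ⟨Q.asIdeal, Q.2, congrArg PrimeSpectrum.asIdeal hQ⟩

variable {R S N : Type u} [CommRing R] [CommRing S] [Algebra R S] [AddCommGroup N] [Module S N] [Module R N]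
  [IsScalarTower R S N] {rr : Ideal R} [rr.IsPrime] (D : FlatCA.CompleteDevissage R S N rr)

theorem tower_A (i : ℕ) : IsScalarTower R (D.A i) (D.M i) := IsScalarTower.of_algebraMap_smul fun a x => by
  rw [IsScalarTower.algebraMap_apply R (D.B i) (D.A i), algebraMap_smul, algebraMap_smul]

theorem tower_step (i : ℕ) : IsScalarTower R (D.B i) (D.M (i + 1)) := IsScalarTower.of_algebraMap_smul fun a x => by
  haveI := tower_A D (i + 1)
  rw [← algebraMap_smul (D.A (i + 1)) (algebraMap R (D.B i) a) x, ← IsScalarTower.algebraMap_apply, algebraMap_smul]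

theorem tower_zero : IsScalarTower R S (D.M 0) := IsScalarTower.of_algebraMap_smul fun a x => by
  haveI := tower_A D 0
  rw [← algebraMap_smul (D.A 0) (algebraMap R S a) x, ← IsScalarTower.algebraMap_apply, algebraMap_smul]

/-- The identification of `N` with the first module is linear over the base. -/
noncomputable def isoR : N ≃ₗ[R] D.M 0 :=
  haveI := tower_zero D
  D.isoN.restrictScalars R

/-- The map from a module of the chain to the next. -/
noncomputable def next (i : ℕ) (hi : i + 1 < D.n) : D.M i →ₗ[D.B i] D.M (i + 1) :=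
  (D.isoCoker i hi).toLinearMap.comp (LinearMap.range (D.α i)).mkQ

theorem next_surjective (i : ℕ) (hi : i + 1 < D.n) : Function.Surjective (next D i hi) :=
  (D.isoCoker i hi).surjective.comp (Submodule.mkQ_surjective _)

theorem next_exact (i : ℕ) (hi : i + 1 < D.n) : Function.Exact (D.α i) (next D i hi) := fun x => by
  show D.isoCoker i hi (Submodule.Quotient.mk x) = 0 ↔ _
  rw [map_eq_zero_iff _ (D.isoCoker i hi).injective, Submodule.Quotient.mk_eq_zero]
  exact Iff.rfl

theorem finite_step (i : ℕ) (hi : i < D.n) : Module.Finite (D.B i) (D.M i) :=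
  haveI := D.finiteBA i hi
  haveI := D.finiteM i hi
  Module.Finite.trans (D.A i) (D.M i)

theorem comap_generic (i : ℕ) (Q : Ideal (D.B i)) (hQ : Q.comap (algebraMap R (D.B i)) = rr) :
    rr.map (algebraMap R (D.B i)) ≤ Q ∧ (rr.map (algebraMap R (D.B i))).comap (algebraMap R (D.B i)) = rr := by
  have h : rr.map (algebraMap R (D.B i)) ≤ Q := Ideal.map_le_iff_le_comap.2 hQ.ge
  exact ⟨h, le_antisymm ((Ideal.comap_mono h).trans hQ.le) Ideal.le_comap_map⟩

end Groth.Agent.H4RG
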