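import Groth.Prelude
import Groth.Agent.MorLib.ElemEtaleFinite
import Mathlib

/-! Neighbourhoods with trivial residue field extension and purely transcendental residue fields. -/

set_option autoImplicit false
set_option linter.style.haveILetI false
set_option backward.isDefEq.respectTransparency.types false

universe u

open TensorProduct

namespace Groth.Agent.H4RG

section point

variable {A D C : Type u} [CommRing A] [CommRing D] [CommRing C] [Algebra A D] [Algebra A C]

/-- Over a point with trivial residue extension there is exactly one point above each point of the other factor, again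
with trivial residue extension. -/
theorem exists_unique_prime_over_trivial (y0 : Ideal A) [y0.IsPrime] (y : Ideal D) [y.IsPrime] (hyo : y.LiesOver y0)
    (hy : Function.Surjective (Ideal.ResidueField.mapₐ y0 y (Algebra.ofId A D) hyo.over)) (q : Ideal C) [q.IsPrime]
    (hq : q.LiesOver y0) :
    ∃ (P : Ideal (D ⊗[A] C)) (_ : P.IsPrime), P.comap (Algebra.TensorProduct.includeLeftRingHom) = y ∧
      (∃ h : q = P.comap (Algebra.TensorProduct.includeRight (R := A) (A := D) (B := C)).toRingHom,
        Function.Bijective (Ideal.ResidueField.map q P (Algebra.TensorProduct.includeRight (R := A) (A := D) (B := C)).toRingHom h)) ∧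
      ∀ P' : Ideal (D ⊗[A] C), P'.IsPrime → P'.comap (Algebra.TensorProduct.includeLeftRingHom) = y →
        P'.comap (Algebra.TensorProduct.includeRight (R := A) (A := D) (B := C)).toRingHom = q → P' = P := by
  let m := Ideal.ResidueField.mapₐ y0 y (Algebra.ofId A D) hyo.over
  let e : y0.ResidueField ≃ₐ[A] y.ResidueField := AlgEquiv.ofBijective m ⟨RingHom.injective _, hy⟩
  let mq := Ideal.ResidueField.mapₐ y0 q (Algebra.ofId A C) hq.over
  let ψ : D →ₐ[A] q.ResidueField :=
    (mq.comp e.symm.toAlgHom).comp (IsScalarTower.toAlgHom A D y.ResidueField)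
  let θ : D ⊗[A] C →ₐ[A] q.ResidueField :=
    Algebra.TensorProduct.productMap ψ (IsScalarTower.toAlgHom A C q.ResidueField)
  have hθd : ∀ d : D, θ (d ⊗ₜ 1) = ψ d := fun d => by simp [θ]
  have hθc : ∀ c : C, θ ((1 : D) ⊗ₜ c) = algebraMap C q.ResidueField c := fun c => by simp [θ]
  let P : Ideal (D ⊗[A] C) := RingHom.ker θ.toRingHom
  haveI : P.IsPrime := RingHom.ker_isPrime _
  have hPl : P.comap (Algebra.TensorProduct.includeLeftRingHom) = y := by
    ext d
    show θ (d ⊗ₜ 1) = 0 ↔ d ∈ y
    rw [hθd]
    show mq (e.symm (algebraMap D y.ResidueField d)) = 0 ↔ _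
    rw [map_eq_zero, map_eq_zero_iff _ e.symm.injective, Ideal.algebraMap_residueField_eq_zero]
  have hPr : q = P.comap (Algebra.TensorProduct.includeRight (R := A) (A := D) (B := C)).toRingHom := by
    ext c
    show c ∈ q ↔ θ ((1 : D) ⊗ₜ c) = 0
    rw [hθc, Ideal.algebraMap_residueField_eq_zero]
  have key : ∀ (P' : Ideal (D ⊗[A] C)) [P'.IsPrime], P'.comap (Algebra.TensorProduct.includeLeftRingHom) = y →
      ∀ h : q = P'.comap (Algebra.TensorProduct.includeRight (R := A) (A := D) (B := C)).toRingHom, ∀ w,
        algebraMap (D ⊗[A] C) P'.ResidueField w =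
          Ideal.ResidueField.map q P' (Algebra.TensorProduct.includeRight (R := A) (A := D) (B := C)).toRingHom h (θ w) := by
    intro P' _ hl h w
    let j := Ideal.ResidueField.map q P' (Algebra.TensorProduct.includeRight (R := A) (A := D) (B := C)).toRingHom h
    let jl := Ideal.ResidueField.map y P' (Algebra.TensorProduct.includeLeftRingHom (R := A) (A := D) (B := C)) hl.symm
    have hsame : jl.comp m.toRingHom = j.comp mq.toRingHom := by
      refine Ideal.ResidueField.ringHom_ext (RingHom.ext fun a => ?_)
      show jl (m (algebraMap A y0.ResidueField a)) = j (mq (algebraMap A y0.ResidueField a))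
      rw [m.commutes, mq.commutes, IsScalarTower.algebraMap_apply A D y.ResidueField,
        IsScalarTower.algebraMap_apply A C q.ResidueField]
      refine (Ideal.ResidueField.map_algebraMap y P' _ hl.symm _).trans
        (Eq.trans ?_ (Ideal.ResidueField.map_algebraMap q P' _ h _).symm)
      exact congrArg _ (Algebra.TensorProduct.includeRight.commutes a).symm
    induction w using TensorProduct.induction_on with
    | zero => rw [map_zero, map_zero, map_zero]
    | add a b ha hb => rw [map_add, map_add, map_add, ha, hb]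
    | tmul d c =>
      rw [show d ⊗ₜ[A] c = (d ⊗ₜ 1) * ((1 : D) ⊗ₜ c) by simp, map_mul, map_mul, map_mul, hθd, hθc]
      congr 1
      · refine (Ideal.ResidueField.map_algebraMap y P' _ hl.symm d).symm.trans ?_
        show _ = j (mq (e.symm (algebraMap D y.ResidueField d)))
        rw [show j (mq (e.symm (algebraMap D y.ResidueField d))) = jl (m (e.symm (algebraMap D y.ResidueField d))) from
          (RingHom.congr_fun hsame _).symm]
        exact congrArg jl (e.apply_symm_apply _).symm
      · exact (Ideal.ResidueField.map_algebraMap q P' _ h c).symm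
  refine ⟨P, inferInstance, hPl, ⟨hPr, RingHom.injective _, ?_⟩, fun P' hP' hl hr => ?_⟩
  · exact MorLib.EEF.surjective_residueField_map_of_generated _ P q hPr fun t => ⟨θ t, (key P hPl hPr t).symm⟩
  · haveI := hP'
    ext w
    show w ∈ P' ↔ θ w = 0
    rw [← Ideal.algebraMap_residueField_eq_zero, key P' hl hr.symm w, map_eq_zero]

end point

/-- Elementary etale neighbourhoods compose. -/
theorem isEtaleNhd_trans {A B C : Type u} [CommRing A] [CommRing B] [CommRing C] [Algebra A B] [Algebra B C] [Algebra A C]
    [IsScalarTower A B C] (a : Ideal A) (b : Ideal B) (c : Ideal C) [a.IsPrime] [b.IsPrime] [c.IsPrime]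
    (h1 : FlatCA.IsEtaleNhd A B a b) (h2 : FlatCA.IsEtaleNhd B C b c) : FlatCA.IsEtaleNhd A C a c := by
  obtain ⟨e1, o1, b1⟩ := h1
  obtain ⟨e2, o2, b2⟩ := h2
  haveI := o1
  haveI := o2
  refine ⟨Algebra.Etale.comp A B C, Ideal.LiesOver.trans c b a, RingHom.injective _, fun z => ?_⟩
  obtain ⟨w, rfl⟩ := b2.2 z
  obtain ⟨v, rfl⟩ := b1.2 w
  refine ⟨v, ?_⟩
  refine RingHom.congr_fun (f := (Ideal.ResidueField.mapₐ a c (Algebra.ofId A C) (Ideal.LiesOver.trans c b a).over).toRingHom)
    (g := (Ideal.ResidueField.mapₐ b c (Algebra.ofId B C) o2.over).toRingHom.comp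
      (Ideal.ResidueField.mapₐ a b (Algebra.ofId A B) o1.over).toRingHom) (Ideal.ResidueField.ringHom_ext (RingHom.ext fun r => ?_)) v
  show Ideal.ResidueField.mapₐ a c _ _ (algebraMap A a.ResidueField r) =
    Ideal.ResidueField.mapₐ b c _ _ (Ideal.ResidueField.mapₐ a b _ _ (algebraMap A a.ResidueField r))
  rw [AlgHom.commutes, AlgHom.commutes, IsScalarTower.algebraMap_apply A B b.ResidueField, AlgHom.commutes,
    IsScalarTower.algebraMap_apply A C c.ResidueField, IsScalarTower.algebraMap_apply A B C,
    ← IsScalarTower.algebraMap_apply B C c.ResidueField]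

/-- Pure transcendence passes along trivial residue field extensions. -/
theorem purelyTranscendental_transport {R R' A D : Type u} [CommRing R] [CommRing R'] [CommRing A] [CommRing D]
    [Algebra R A] [Algebra R' D] [Algebra R R'] [Algebra A D] [Algebra R D] [IsScalarTower R A D] [IsScalarTower R R' D]
    (p : Ideal R) [p.IsPrime] (p' : Ideal R') [p'.IsPrime] (y : Ideal A) [y.IsPrime] (y' : Ideal D) [y'.IsPrime]
    [hyp : y.LiesOver p] [hyp' : y'.LiesOver p'] (hp : p'.LiesOver p) (hy : y'.LiesOver y)
    (hbp : Function.Bijective (Ideal.ResidueField.mapₐ p p' (Algebra.ofId R R') hp.over))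
    (hby : Function.Bijective (Ideal.ResidueField.mapₐ y y' (Algebra.ofId A D) hy.over))
    (h : FlatCA.PurelyTranscendental p y) : FlatCA.PurelyTranscendental p' y' := by
  unfold FlatCA.PurelyTranscendental at h ⊢
  letI a1 : Algebra p.ResidueField y.ResidueField :=
    (Ideal.ResidueField.mapₐ p y (Algebra.ofId R A) hyp.over).toRingHom.toAlgebra
  letI a2 : Algebra p'.ResidueField y'.ResidueField :=
    (Ideal.ResidueField.mapₐ p' y' (Algebra.ofId R' D) hyp'.over).toRingHom.toAlgebra
  obtain ⟨ι, x, hx, htop⟩ := h
  let f := (Ideal.ResidueField.mapₐ p p' (Algebra.ofId R R') hp.over).toRingHom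
  let g := (Ideal.ResidueField.mapₐ y y' (Algebra.ofId A D) hy.over).toRingHom
  have hc : (algebraMap p'.ResidueField y'.ResidueField).comp f = g.comp (algebraMap p.ResidueField y.ResidueField) := by
    refine Ideal.ResidueField.ringHom_ext (RingHom.ext fun r => ?_)
    show Ideal.ResidueField.mapₐ p' y' _ _ (Ideal.ResidueField.mapₐ p p' _ _ (algebraMap R p.ResidueField r)) =
      Ideal.ResidueField.mapₐ y y' _ _ (Ideal.ResidueField.mapₐ p y _ _ (algebraMap R p.ResidueField r))
    rw [AlgHom.commutes, AlgHom.commutes, IsScalarTower.algebraMap_apply R R' p'.ResidueField, AlgHom.commutes,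
      IsScalarTower.algebraMap_apply R A y.ResidueField, AlgHom.commutes,
      IsScalarTower.algebraMap_apply R' D y'.ResidueField, IsScalarTower.algebraMap_apply A D y'.ResidueField,
      ← IsScalarTower.algebraMap_apply R R' D, ← IsScalarTower.algebraMap_apply R A D]
  refine ⟨ι, g ∘ x, ?_, ?_⟩
  · have hind : AlgebraicIndependent p'.ResidueField (g ∘ x) :=
      hx.1.ringHom_of_comp_eq f g hbp.2 hby.1 hc
    rw [hind.isTranscendenceBasis_iff_isAlgebraic]
    have hxa := hx.isAlgebraic
    refine ⟨fun b => ?_⟩
    obtain ⟨a, rfl⟩ := hby.2 b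
    let S := Algebra.adjoin p.ResidueField (Set.range x)
    let S' := Algebra.adjoin p'.ResidueField (Set.range (g ∘ x))
    have hle : ∀ s ∈ S, g s ∈ S' := fun s hs => by
      induction hs using Algebra.adjoin_induction with
      | mem t ht => obtain ⟨i, rfl⟩ := ht; exact Algebra.subset_adjoin ⟨i, rfl⟩
      | algebraMap r =>
        rw [show g (algebraMap p.ResidueField y.ResidueField r) = algebraMap p'.ResidueField y'.ResidueField (f r) from
          (RingHom.congr_fun hc r).symm]
        exact Subalgebra.algebraMap_mem _ _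
      | add _ _ _ _ h1 h2 => rw [map_add]; exact add_mem h1 h2
      | mul _ _ _ _ h1 h2 => rw [map_mul]; exact mul_mem h1 h2
    let φ : S →+* S' := (g.comp S.val.toRingHom).codRestrict S'.toSubring fun s => hle _ s.2
    exact (hxa.isAlgebraic a).ringHom_of_comp_eq φ g
      (fun u v huv => Subtype.ext (g.injective (congrArg Subtype.val huv))) (RingHom.ext fun _ => rfl)
  · refine eq_top_iff.2 fun b hb => ?_
    clear hb
    obtain ⟨a, rfl⟩ := hby.2 b
    have ha : a ∈ IntermediateField.adjoin p.ResidueField (Set.range x) := htop ▸ IntermediateField.mem_top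
    induction ha using IntermediateField.adjoin_induction with
    | mem t ht => obtain ⟨i, rfl⟩ := ht; exact IntermediateField.subset_adjoin _ _ ⟨i, rfl⟩
    | algebraMap r =>
      show g (algebraMap p.ResidueField y.ResidueField r) ∈ _
      rw [show g (algebraMap p.ResidueField y.ResidueField r) = algebraMap p'.ResidueField y'.ResidueField (f r) from
        (RingHom.congr_fun hc r).symm]
      exact IntermediateField.algebraMap_mem _ _
    | add _ _ _ _ h1 h2 => rw [map_add]; exact add_mem h1 h2
    | inv _ _ h1 => rw [map_inv₀]; exact inv_mem h1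
    | mul _ _ _ _ h1 h2 => rw [map_mul]; exact mul_mem h1 h2

/-- The base is algebraically closed in a field of rational functions. -/
theorem mem_range_of_isAlgebraic_fractionRing {k ι : Type u} [Field k] (a : FractionRing (MvPolynomial ι k))
    (ha : IsAlgebraic k a) : a ∈ Set.range (algebraMap k (FractionRing (MvPolynomial ι k))) := by
  obtain ⟨P, hP⟩ := IsIntegrallyClosed.isIntegral_iff.1
    (ha.isIntegral.tower_top (A := MvPolynomial ι k) : IsIntegral (MvPolynomial ι k) a)
  subst hP
  rcases eq_or_ne P 0 with rfl | hP0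
  · exact ⟨0, by simp⟩
  have hPa : IsAlgebraic k P :=
    (isAlgebraic_algebraMap_iff (IsFractionRing.injective (MvPolynomial ι k) (FractionRing (MvPolynomial ι k)))).1 ha
  obtain ⟨g, hg0, hg⟩ := hPa.exists_nonzero_coeff_and_aeval_eq_zero (mem_nonZeroDivisors_of_ne_zero hP0)
  have hu : IsUnit P := by
    have h2 : Polynomial.X * g.divX + Polynomial.C (g.coeff 0) = g := Polynomial.X_mul_divX_add g
    rw [← h2, map_add, map_mul, Polynomial.aeval_X, Polynomial.aeval_C, add_eq_zero_iff_eq_neg] at hg
    refine isUnit_of_mul_isUnit_left (y := Polynomial.aeval P g.divX) ?_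
    rw [hg]
    exact ((isUnit_iff_ne_zero.2 hg0).map _).neg
  obtain ⟨c, -, rfl⟩ := MvPolynomial.isUnit_iff_eq_C_of_isReduced.1 hu
  exact ⟨c, (IsScalarTower.algebraMap_apply k (MvPolynomial ι k) _ c)⟩

/-- The base is algebraically closed in a field generated by a transcendence basis. -/
theorem mem_range_of_isAlgebraic_pureTrans {k K ι : Type u} [Field k] [Field K] [Algebra k K] (x : ι → K)
    (hx : AlgebraicIndependent k x) (htop : IntermediateField.adjoin k (Set.range x) = ⊤) (a : K)
    (ha : IsAlgebraic k a) : a ∈ Set.range (algebraMap k K) := by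
  let e : FractionRing (MvPolynomial ι k) ≃ₐ[k] K :=
    hx.aevalEquivField.trans ((IntermediateField.equivOfEq htop).trans IntermediateField.topEquiv)
  obtain ⟨c, hc⟩ := mem_range_of_isAlgebraic_fractionRing (e.symm a) ((isAlgebraic_algHom_iff e.symm.toAlgHom e.symm.injective).2 ha)
  exact ⟨c, by rw [← e.apply_symm_apply a, ← hc, e.commutes]⟩

end Groth.Agent.H4RG
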