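import Groth.Prelude
import Groth.Agent.H4RG.DevFibre
import Groth.Agent.H4RG.DevissageChain
import Groth.Agent.H4RG.ResTriv
import Mathlib

/-! A one-step devissage after a change of the base. -/

set_option autoImplicit false
set_option linter.style.haveILetI false
set_option backward.isDefEq.respectTransparency.types false

universe u

open TensorProduct Topology AlgebraicGeometry CategoryTheory

namespace Groth.Agent.H4RG

attribute [local instance] Algebra.TensorProduct.rightAlgebra

section pushout

variable {R R' X X' : Type u} [CommRing R] [CommRing R'] [CommRing X] [CommRing X'] [Algebra R R'] [Algebra R X]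
  [Algebra R' X'] [Algebra R X'] [Algebra X X'] [IsScalarTower R R' X'] [IsScalarTower R X X']
  [Algebra.IsPushout R R' X X']

omit [Algebra R X] in
/-- Smoothness of a given relative dimension survives a base change. -/
theorem smoothRelDim_baseChange [Algebra R X] [IsScalarTower R X X'] [Algebra.IsPushout R R' X X'] {n : ℕ}
    (h : FlatCA.SmoothRelDim n R X) : FlatCA.SmoothRelDim n R' X' :=
  haveI := AlgebraicGeometry.smoothOfRelativeDimension_isStableUnderBaseChange (n := n)
  MorphismProperty.of_isPullback (P := @SmoothOfRelativeDimension n)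
    (AlgebraicGeometry.isPullback_SpecMap_of_isPushout _ _ _ _ (CommRingCat.isPushout_of_isPushout R R' X X')).flip h

/-- Geometrically irreducible fibres survive a base change, stated for a pushout. -/
theorem geomIrredFibres_of_pushout (h : FlatCA.GeomIrredFibres R X) : FlatCA.GeomIrredFibres R' X' :=
  MorphismProperty.of_isPullback (P := @GeometricallyIrreducible)
    (AlgebraicGeometry.isPullback_SpecMap_of_isPushout _ _ _ _ (CommRingCat.isPushout_of_isPushout R R' X X')).flip h

variable (p : Ideal R) [p.IsPrime] (p' : Ideal R') [p'.IsPrime]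

/-- The spectrum of the fibre after a base change maps to the spectrum of the fibre. -/
theorem mapsTo_fib [hp : p'.LiesOver p] :
    Set.MapsTo (PrimeSpectrum.comap (algebraMap X X')) {Q | Q.asIdeal.comap (algebraMap R' X') = p'}
      {Q | Q.asIdeal.comap (algebraMap R X) = p} := by
  intro Q (hQ : Q.asIdeal.comap (algebraMap R' X') = p')
  show (Q.asIdeal.comap (algebraMap X X')).comap (algebraMap R X) = p
  rw [Ideal.comap_comap, ← IsScalarTower.algebraMap_eq, IsScalarTower.algebraMap_eq R R' X', ← Ideal.comap_comap, hQ]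
  exact hp.over.symm

variable [hp : p'.LiesOver p]
  (hκ : Function.Bijective (Ideal.ResidueField.mapₐ p p' (Algebra.ofId R R') hp.over))

include hκ

/-- Over a point with trivial residue extension a prime is known from its contraction. -/
theorem prime_unique_of_pushout (P₁ P₂ : Ideal X') [P₁.IsPrime] [P₂.IsPrime]
    (h₁ : P₁.comap (algebraMap R' X') = p') (h₂ : P₂.comap (algebraMap R' X') = p')
    (h : P₁.comap (algebraMap X X') = P₂.comap (algebraMap X X')) : P₁ = P₂ := by
  have := (isOpenEmbedding_fib_of_pushout p p' hp hκ (mapsTo_fib (X := X) (X' := X') p p')).1.injective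
    (a₁ := ⟨⟨P₁, inferInstance⟩, h₁⟩) (a₂ := ⟨⟨P₂, inferInstance⟩, h₂⟩) (Subtype.ext (PrimeSpectrum.ext h))
  exact congrArg (fun z => z.1.asIdeal) this

/-- Each point over `p` has a point above it over `p'`. -/
theorem exists_prime_of_pushout (P : Ideal X) [P.IsPrime] (h : P.comap (algebraMap R X) = p) :
    ∃ P' : Ideal X', P'.IsPrime ∧ P'.comap (algebraMap R' X') = p' ∧ P'.comap (algebraMap X X') = P := by
  obtain ⟨⟨Q, hQ⟩, hQ'⟩ := (isOpenEmbedding_fib_of_pushout p p' hp hκ (mapsTo_fib (X := X) (X' := X') p p')).2 ⟨⟨P, inferInstance⟩, h⟩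
  exact ⟨Q.asIdeal, Q.2, hQ, congrArg (fun z => z.1.asIdeal) hQ'⟩

/-- The residue field does not grow in such a base change. -/
theorem bijective_mapₐ_of_pushout (P : Ideal X) [P.IsPrime] (P' : Ideal X') [P'.IsPrime] (hPp : P.LiesOver p)
    (hP'p : P'.LiesOver p') (hPP : P'.LiesOver P) :
    Function.Bijective (Ideal.ResidueField.mapₐ P P' (Algebra.ofId X X') hPP.over) := by
  refine ⟨RingHom.injective _, ?_⟩
  let K := (Ideal.ResidueField.mapₐ P P' (Algebra.ofId X X') hPP.over).toRingHom.fieldRange
  suffices ∀ x : X', algebraMap X' P'.ResidueField x ∈ K by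
    intro w
    obtain ⟨a, b, -, hw⟩ := IsFractionRing.div_surjective (A := X' ⧸ P') w
    obtain ⟨a, rfl⟩ := Ideal.Quotient.mk_surjective a
    obtain ⟨b, rfl⟩ := Ideal.Quotient.mk_surjective b
    rw [Ideal.algebraMap_quotient_residueField_mk, Ideal.algebraMap_quotient_residueField_mk] at hw
    obtain ⟨v, hv⟩ := K.div_mem (this a) (this b)
    exact ⟨v, hv.trans hw⟩
  intro x
  have hbase : ∀ r : R', algebraMap X' P'.ResidueField (algebraMap R' X' r) ∈ K := by
    intro r
    obtain ⟨a, ha⟩ := hκ.2 (algebraMap R' p'.ResidueField r)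
    refine ⟨Ideal.ResidueField.mapₐ p P (Algebra.ofId R X) hPp.over a, ?_⟩
    have hcomp : ((Ideal.ResidueField.mapₐ P P' (Algebra.ofId X X') hPP.over).toRingHom).comp
        (Ideal.ResidueField.mapₐ p P (Algebra.ofId R X) hPp.over).toRingHom =
        ((Ideal.ResidueField.mapₐ p' P' (Algebra.ofId R' X') hP'p.over).toRingHom).comp
        (Ideal.ResidueField.mapₐ p p' (Algebra.ofId R R') hp.over).toRingHom := by
      refine Ideal.ResidueField.ringHom_ext (RingHom.ext fun c => ?_)
      simp [← IsScalarTower.algebraMap_apply, Algebra.ofId_apply]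
    refine (DFunLike.congr_fun hcomp a).trans ?_
    show (Ideal.ResidueField.mapₐ p' P' (Algebra.ofId R' X') hP'p.over)
      (Ideal.ResidueField.mapₐ p p' (Algebra.ofId R R') hp.over a) = _
    rw [ha, AlgHom.commutes]
    exact (IsScalarTower.algebraMap_apply R' X' P'.ResidueField r)
  obtain ⟨t, rfl⟩ := (Algebra.IsPushout.equiv R R' X X').surjective x
  induction t using TensorProduct.induction_on with
  | zero => rw [map_zero, map_zero]; exact K.zero_mem
  | tmul r s =>
    rw [Algebra.IsPushout.equiv_tmul, map_mul]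
    refine K.mul_mem (hbase r) ⟨algebraMap X P.ResidueField s, ?_⟩
    show Ideal.ResidueField.mapₐ P P' (Algebra.ofId X X') hPP.over (algebraMap X P.ResidueField s) = _
    rw [AlgHom.commutes]
    exact (IsScalarTower.algebraMap_apply X X' P'.ResidueField s)
  | add a b ha hb => rw [map_add, map_add]; exact K.add_mem ha hb

end pushout

/-- Extending the field keeps the dimension of a quotient of an algebra of finite type. -/
theorem ringKrullDim_quotient_tensor_field (k K F : Type u) [Field k] [Field K] [Algebra k K] [CommRing F] [Algebra k F]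
    [Algebra.FiniteType k F] {E : Type u} [CommRing E] (e : E ≃+* K ⊗[k] F) (J : Ideal F) [Nontrivial (F ⧸ J)]
    (J1 : Ideal E) (h : J1.map (e : E →+* K ⊗[k] F) =
      J.map (Algebra.TensorProduct.includeRight (R := k) (A := K) (B := F)).toRingHom) :
    ringKrullDim (E ⧸ J1) = ringKrullDim (F ⧸ J) := by
  rw [ringKrullDim_eq_of_ringEquiv (Ideal.quotientEquiv J1 _ e h.symm),
    ← Synt29.ringKrullDim_tensor_field k K (F ⧸ J)]
  exact (ringKrullDim_eq_of_ringEquiv (Algebra.TensorProduct.tensorQuotientEquiv (R := k) K F K J).toRingEquiv).symm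

/-- The dimension of the support of a fibre does not change with the field of definition. -/
theorem supportDim_fiberMod_baseChange {R R' X X' : Type u} [CommRing R] [CommRing R'] [CommRing X] [CommRing X']
    [Algebra R R'] [Algebra R X] [Algebra.FiniteType R X] [Algebra R' X'] [Algebra R X'] [Algebra X X']
    [IsScalarTower R R' X'] [IsScalarTower R X X'] [Algebra.IsPushout R R' X X'] (p : Ideal R) [p.IsPrime]
    (p' : Ideal R') [p'.IsPrime] [hp : p'.LiesOver p]
    (M : Type u) [AddCommGroup M] [Module X M] [Module R M] [IsScalarTower R X M] [Module.Finite X M]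
    {M' : Type u} [AddCommGroup M'] [Module X' M'] [Module R' M'] [IsScalarTower R' X' M'] [Module X M']
    [IsScalarTower X X' M'] (g : M →ₗ[X] M') (hg : IsBaseChange X' g) {n : ℕ}
    (hn : Module.supportDim (p.Fiber X) (FlatCA.fiberMod p X M) = n) :
    Module.supportDim (p'.Fiber X') (FlatCA.fiberMod p' X' M') = n := by
  haveI : Module.Finite X' M' := Module.Finite.equiv hg.equiv
  rw [supportDim_fiberMod_eq_ringKrullDim] at hn ⊢
  letI : Algebra p.ResidueField p'.ResidueField :=
    (Ideal.ResidueField.mapₐ p p' (Algebra.ofId R R') hp.over).toRingHom.toAlgebra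
  haveI : IsScalarTower R p.ResidueField p'.ResidueField :=
    IsScalarTower.of_algebraMap_eq fun x => ((Ideal.ResidueField.mapₐ p p' (Algebra.ofId R R') hp.over).commutes x).symm
  set J := (Module.annihilator X M).map (algebraMap X (p.Fiber X)) with hJ
  haveI : Nontrivial (p.Fiber X ⧸ J) := by
    by_contra hs
    rw [not_nontrivial_iff_subsingleton] at hs
    rw [ringKrullDim_eq_bot_of_subsingleton] at hn
    exact WithBot.bot_ne_coe hn
  set J1 := (Module.annihilator X M).map ((algebraMap X' (p'.Fiber X')).comp (algebraMap X X')) with hJ1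
  have h1 : ringKrullDim (p'.Fiber X' ⧸ (Module.annihilator X' M').map (algebraMap X' (p'.Fiber X'))) =
      ringKrullDim (p'.Fiber X' ⧸ J1) := by
    rw [ringKrullDim_quotient, ringKrullDim_quotient]
    refine Order.krullDim_eq_of_orderIso (OrderIso.setCongr _ _ ?_)
    ext Q
    rw [PrimeSpectrum.mem_zeroLocus, PrimeSpectrum.mem_zeroLocus, SetLike.coe_subset_coe, SetLike.coe_subset_coe,
      hJ1, Ideal.map_le_iff_le_comap, Ideal.map_le_iff_le_comap]
    exact annihilator_le_iff_of_isBaseChange M g hg (PrimeSpectrum.comap (algebraMap X' (p'.Fiber X')) Q)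
  let e0 : p'.Fiber X' ≃+* p'.ResidueField ⊗[R'] (R' ⊗[R] X) :=
    (Algebra.TensorProduct.congr (AlgEquiv.refl (R := R') (A₁ := p'.ResidueField)) (Algebra.IsPushout.equiv R R' X X').symm).toRingEquiv
  let e1 : p'.ResidueField ⊗[R'] (R' ⊗[R] X) ≃+* p'.ResidueField ⊗[R] X :=
    (Algebra.TensorProduct.cancelBaseChange R R' R' p'.ResidueField X).toRingEquiv
  let e2 : p'.ResidueField ⊗[R] X ≃+* p'.ResidueField ⊗[p.ResidueField] (p.ResidueField ⊗[R] X) :=
    (Algebra.TensorProduct.cancelBaseChange R p.ResidueField p.ResidueField p'.ResidueField X).symm.toRingEquiv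
  let e : p'.Fiber X' ≃+* p'.ResidueField ⊗[p.ResidueField] (p.Fiber X) := e0.trans (e1.trans e2)
  have he : ∀ x : X, e (algebraMap X' (p'.Fiber X') (algebraMap X X' x)) =
      (1 : p'.ResidueField) ⊗ₜ[p.ResidueField] algebraMap X (p.Fiber X) x := by
    intro x
    have h0 : (Algebra.IsPushout.equiv R R' X X').symm (algebraMap X X' x) = (1 : R') ⊗ₜ[R] x := by
      rw [AlgEquiv.symm_apply_eq]
      simp [Algebra.IsPushout.equiv_tmul]
    simp [e, e0, e1, e2, h0, RingHom.algebraMap_toAlgebra]
  rw [h1, ringKrullDim_quotient_tensor_field _ _ _ e J J1 ?_, hn]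
  rw [hJ, hJ1, Ideal.map_map, Ideal.map_map]
  congr 1
  exact RingHom.ext fun x => he x

section oneStep

variable {R S C D R' S' C' D' : Type u} [CommRing R] [CommRing S] [CommRing C] [CommRing D] [CommRing R'] [CommRing S']
  [CommRing C'] [CommRing D'] [Algebra R S] [Algebra.FiniteType R S] [Algebra S C] [Algebra R C] [IsScalarTower R S C]
  [Algebra R D] [Algebra D C] [IsScalarTower R D C] [Algebra R R']
  [Algebra R' S'] [Algebra R S'] [Algebra S S'] [IsScalarTower R R' S'] [IsScalarTower R S S']
  [Algebra.IsPushout R R' S S']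
  [Algebra R' C'] [Algebra R C'] [Algebra C C'] [IsScalarTower R R' C'] [IsScalarTower R C C']
  [Algebra.IsPushout R R' C C']
  [Algebra R' D'] [Algebra R D'] [Algebra D D'] [IsScalarTower R R' D'] [IsScalarTower R D D']
  [Algebra.IsPushout R R' D D']
  [Algebra S' C'] [IsScalarTower R' S' C'] [Algebra S C'] [IsScalarTower S S' C'] [IsScalarTower S C C']
  [Algebra D' C'] [IsScalarTower R' D' C'] [Algebra D C'] [IsScalarTower D D' C'] [IsScalarTower D C C']

omit [Algebra.FiniteType R S] in
/-- The squares over the closed subscheme are again pushouts. -/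
theorem isPushout_step {X X' : Type u} [CommRing X] [CommRing X'] [Algebra R X] [Algebra X C] [IsScalarTower R X C]
    [Algebra R' X'] [Algebra R X'] [Algebra X X'] [IsScalarTower R R' X'] [IsScalarTower R X X']
    [Algebra.IsPushout R R' X X'] [Algebra X' C'] [IsScalarTower R' X' C'] [Algebra X C'] [IsScalarTower X X' C']
    [IsScalarTower X C C'] : Algebra.IsPushout X X' C C' := by
  haveI : IsScalarTower R X' C' := IsScalarTower.of_algebraMap_eq fun x => by
    rw [IsScalarTower.algebraMap_apply R R' X', ← IsScalarTower.algebraMap_apply R' X' C', ← IsScalarTower.algebraMap_apply]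
  haveI : Algebra.IsPushout R X R' X' := Algebra.IsPushout.symm inferInstance
  haveI : Algebra.IsPushout R C R' C' := Algebra.IsPushout.symm inferInstance
  exact ((Algebra.IsPushout.comp_iff R X R' X').1 inferInstance).symm

/-- A one-step devissage pulls back. -/
theorem isOneStepDevissage_baseChange {N : Type u} [AddCommGroup N] [Module S N] [Module R N] [IsScalarTower R S N]
    [Module.Finite S N] (p : Ideal R) [p.IsPrime] {G : Type u} [AddCommGroup G] [Module C G] [Module S G]
    [IsScalarTower S C G] {n : ℕ} (h : FlatCA.IsOneStepDevissage R S N p C D G n)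
    (p' : Ideal R') [p'.IsPrime] [p'.LiesOver p]
    {N' : Type u} [AddCommGroup N'] [Module S' N'] [Module R' N'] [IsScalarTower R' S' N']
    [Module S N'] [IsScalarTower S S' N'] (f : N →ₗ[S] N') (hf : IsBaseChange S' f)
    {G' : Type u} [AddCommGroup G'] [Module C' G'] [Module S' G'] [IsScalarTower S' C' G']
    [Module C G'] [IsScalarTower C C' G'] (g : G →ₗ[C] G') (hg : IsBaseChange C' g) :
    FlatCA.IsOneStepDevissage R' S' N' p' C' D' G' n := by
  obtain ⟨⟨e⟩, hsurj, hfp, hfin, hfinG, hsm, hgi, hdim⟩ := h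
  haveI hS : Algebra.IsPushout S S' C C' := isPushout_step (R := R) (R' := R')
  haveI hD : Algebra.IsPushout D D' C C' := isPushout_step (R := R) (R' := R')
  let eS : S' ⊗[S] C ≃ₐ[S'] C' := Algebra.IsPushout.equiv S S' C C'
  let eD : D' ⊗[D] C ≃ₐ[D'] C' := Algebra.IsPushout.equiv D D' C C'
  letI : Module S G' := Module.compHom G' (algebraMap S C')
  haveI : IsScalarTower S C' G' := IsScalarTower.of_algebraMap_smul fun a x => rfl
  haveI : IsScalarTower S C G' := IsScalarTower.of_algebraMap_smul fun a (x : G') => by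
    show algebraMap S C a • x = algebraMap S C' a • x
    rw [IsScalarTower.algebraMap_apply S C C']
    exact (algebraMap_smul C' (algebraMap S C a) x).symm
  haveI : IsScalarTower S S' G' := IsScalarTower.of_algebraMap_smul fun a (x : G') => by
    show algebraMap S S' a • x = algebraMap S C' a • x
    rw [IsScalarTower.algebraMap_apply S S' C']
    exact (algebraMap_smul C' (algebraMap S S' a) x).symm
  have hg' : IsBaseChange S' (g.restrictScalars S) := by
    refine IsBaseChange.of_equiv
      ((Algebra.IsPushout.cancelBaseChange S S' C C' G).symm ≪≫ₗ hg.equiv.restrictScalars S') fun x => ?_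
    simp [Algebra.IsPushout.cancelBaseChange_symm_tmul, hg.equiv_tmul]
  refine ⟨⟨hf.equiv.symm ≪≫ₗ LinearEquiv.baseChange S S' N G e ≪≫ₗ hg'.equiv⟩, ?_, ?_, ?_,
    Module.Finite.equiv hg.equiv, smoothRelDim_baseChange (X := D) hsm, geomIrredFibres_of_pushout (X := D) hgi,
    supportDim_fiberMod_baseChange p p' N f hf hdim⟩
  · intro c
    obtain ⟨t, rfl⟩ := eS.surjective c
    induction t using TensorProduct.induction_on with
    | zero => exact ⟨0, by simp⟩
    | tmul a b =>
      obtain ⟨b, rfl⟩ := hsurj b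
      refine ⟨a * algebraMap S S' b, ?_⟩
      simp [eS, Algebra.IsPushout.equiv_tmul, ← IsScalarTower.algebraMap_apply]
    | add a b ha hb =>
      obtain ⟨a', ha'⟩ := ha
      obtain ⟨b', hb'⟩ := hb
      exact ⟨a' + b', by rw [map_add, map_add, ha', hb']⟩
  · exact Algebra.FinitePresentation.equiv eS
  · exact Module.Finite.equiv eD.toLinearEquiv

/-- A one-step devissage at a point pulls back along a map with trivial residue extension. -/
theorem oneStepAt_baseChange {N : Type u} [AddCommGroup N] [Module S N] [Module R N] [IsScalarTower R S N]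
    [Module.Finite S N] (p : Ideal R) [p.IsPrime] (q : Ideal S) [q.IsPrime] [hqp : q.LiesOver p] {n : ℕ}
    (z : Ideal C) [z.IsPrime] (y : Ideal D) [y.IsPrime] [hzq : z.LiesOver q] [hzy : z.LiesOver y] [hyp : y.LiesOver p]
    (h1 : ∃ (ξ : PrimeSpectrum (p.Fiber S)) (hξ : ξ ∈ Module.support (p.Fiber S) (FlatCA.fiberMod p S N)),
      ξ.asIdeal = FlatCA.fiberIdeal p q ∧
      FlatMor.localDim (Module.support (p.Fiber S) (FlatCA.fiberMod p S N)) ⟨ξ, hξ⟩ = n)
    (h3 : ∀ (z₁ : Ideal C) [z₁.IsPrime], z₁.LiesOver y → z₁ = z)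
    (h4 : FlatCA.PurelyTranscendental p y)
    (p' : Ideal R') [p'.IsPrime] [hp' : p'.LiesOver p]
    (hκ : Function.Bijective (Ideal.ResidueField.mapₐ p p' (Algebra.ofId R R') hp'.over))
    {N' : Type u} [AddCommGroup N'] [Module S' N'] [Module R' N'] [IsScalarTower R' S' N']
    [Module S N'] [IsScalarTower S S' N'] (f : N →ₗ[S] N') (hf : IsBaseChange S' f)
    (q' : Ideal S') [q'.IsPrime] [hq'q : q'.LiesOver q] [hq'p : q'.LiesOver p']
    (z' : Ideal C') [z'.IsPrime] [hz'z : z'.LiesOver z] [hz'p : z'.LiesOver p']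
    (y' : Ideal D') [y'.IsPrime] [hy'y : y'.LiesOver y] [hy'p : y'.LiesOver p'] :
    (∀ (q₁ : Ideal S') [q₁.IsPrime], q₁.LiesOver q → q₁.LiesOver p' → q₁ = q') ∧
    (∃ (ξ' : PrimeSpectrum (p'.Fiber S')) (hξ' : ξ' ∈ Module.support (p'.Fiber S') (FlatCA.fiberMod p' S' N')),
      ξ'.asIdeal = FlatCA.fiberIdeal p' q' ∧
      FlatMor.localDim (Module.support (p'.Fiber S') (FlatCA.fiberMod p' S' N')) ⟨ξ', hξ'⟩ = n) ∧
    z'.LiesOver q' ∧ z'.LiesOver y' ∧
    (∀ (z₁ : Ideal C') [z₁.IsPrime], z₁.LiesOver y' → z₁ = z') ∧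
    FlatCA.PurelyTranscendental p' y' := by
  haveI : Module.Finite S' N' := Module.Finite.equiv hf.equiv
  have hzS : z'.comap (algebraMap S C') = q := by
    rw [IsScalarTower.algebraMap_eq S C C', ← Ideal.comap_comap]
    exact (congrArg (Ideal.comap (algebraMap S C)) hz'z.over.symm).trans hzq.over.symm
  have hzD : z'.comap (algebraMap D C') = y := by
    rw [IsScalarTower.algebraMap_eq D C C', ← Ideal.comap_comap]
    exact (congrArg (Ideal.comap (algebraMap D C)) hz'z.over.symm).trans hzy.over.symm
  have hzq' : q' = z'.comap (algebraMap S' C') := prime_unique_of_pushout (X := S) p p' hκ q' _ hq'p.over.symm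
    (by rw [Ideal.comap_comap, ← IsScalarTower.algebraMap_eq]; exact hz'p.over.symm)
    (by rw [Ideal.comap_comap, ← IsScalarTower.algebraMap_eq, hzS]; exact hq'q.over.symm)
  have hzy' : y' = z'.comap (algebraMap D' C') := prime_unique_of_pushout (X := D) p p' hκ y' _ hy'p.over.symm
    (by rw [Ideal.comap_comap, ← IsScalarTower.algebraMap_eq]; exact hz'p.over.symm)
    (by rw [Ideal.comap_comap, ← IsScalarTower.algebraMap_eq, hzD]; exact hy'y.over.symm)
  refine ⟨fun q₁ _ h₁ h₂ => prime_unique_of_pushout (X := S) p p' hκ q₁ q' h₂.over.symm hq'p.over.symm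
    (h₁.over.symm.trans hq'q.over), ?_, ⟨hzq'⟩, ⟨hzy'⟩, fun z₁ _ hz₁ => ?_, ?_⟩
  · refine (locAt_iff p' N' q' hq'p.over.symm _).2 ?_
    exact LocAt.transport p N hf (mapsTo_fib (X := S) (X' := S') p p')
      (isOpenEmbedding_fib_of_pushout p p' hp' hκ (mapsTo_fib (X := S) (X' := S') p p')).1
      ((locAt_iff p N q hqp.over.symm _).1 h1) ⟨q', inferInstance⟩ hq'p.over.symm (PrimeSpectrum.ext hq'q.over.symm)
  · have hy₁ : z₁.comap (algebraMap R' C') = p' := by
      rw [IsScalarTower.algebraMap_eq R' D' C', ← Ideal.comap_comap]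
      exact (congrArg (Ideal.comap (algebraMap R' D')) hz₁.over.symm).trans hy'p.over.symm
    refine prime_unique_of_pushout (X := C) p p' hκ z₁ z' hy₁ hz'p.over.symm ?_
    refine (h3 (z₁.comap (algebraMap C C')) ⟨?_⟩).trans hz'z.over
    show y = (z₁.comap (algebraMap C C')).comap (algebraMap D C)
    rw [Ideal.comap_comap, ← IsScalarTower.algebraMap_eq, IsScalarTower.algebraMap_eq D D' C', ← Ideal.comap_comap]
    exact hy'y.over.trans (congrArg (Ideal.comap (algebraMap D D')) hz₁.over)
  · exact purelyTranscendental_transport p p' y y' hp' hy'y hκ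
      (bijective_mapₐ_of_pushout (X := D) p p' hκ y y' hyp hy'p hy'y) h4

end oneStep

end Groth.Agent.H4RG
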