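import Groth.Agent.H4RG.GeomConnSpread
import Mathlib

/-! Restricting a morphism to opens around a geometrically connected piece of a fibre. -/

set_option autoImplicit false
set_option linter.style.haveILetI false
set_option backward.isDefEq.respectTransparency false
set_option backward.isDefEq.respectTransparency.types false

universe u

open CategoryTheory CategoryTheory.Limits AlgebraicGeometry Topology TopologicalSpace

namespace Groth.Agent.H4RG

/-- A compact set in an open set of a scheme lies in a quasi-compact open inside it. -/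
theorem exists_compact_open_between {X : Scheme.{u}} {K W : Set X} (hK : IsCompact K) (hW : IsOpen W) (hKW : K ⊆ W) :
    ∃ O : X.Opens, IsCompact (O : Set X) ∧ K ⊆ O ∧ (O : Set X) ⊆ W := by
  choose U hU hxU hUW using fun x : K => exists_isAffineOpen_mem_and_subset (x := x.1) (U := (⟨W, hW⟩ : X.Opens)) (hKW x.2)
  obtain ⟨t, ht⟩ := hK.elim_finite_subcover (fun x : K => (U x : Set X)) (fun x => (U x).isOpen)
    (fun x hx => Set.mem_iUnion.2 ⟨⟨x, hx⟩, hxU _⟩)
  refine ⟨⟨⋃ x ∈ t, (U x : Set X), isOpen_biUnion fun x _ => (U x).isOpen⟩,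
    t.finite_toSet.isCompact_biUnion fun x _ => (hU x).isCompact, ht, Set.iUnion₂_subset fun x _ => hUW x⟩

/-- The fibre of a restriction to opens is the trace of the open on the fibre. -/
theorem geometricallyConnected_fiber_resLE {X S : Scheme.{u}} (h : X ⟶ S) (S₀ : S.Opens) (O : X.Opens)
    (hle : O ≤ h ⁻¹ᵁ S₀) (s₀ : (S₀ : Scheme.{u})) (T : (h.fiber (S₀.ι s₀)).Opens)
    (hT : GeometricallyConnected (T.ι ≫ h.fiberToSpecResidueField (S₀.ι s₀)))
    (hpre : (h.fiberι (S₀.ι s₀)) ⁻¹' (O : Set X) = (T : Set ↑(h.fiber (S₀.ι s₀)))) :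
    GeometricallyConnected ((h.resLE S₀ O hle).fiberToSpecResidueField s₀) := by
  let f := h.resLE S₀ O hle
  let F := h.fiber (S₀.ι s₀)
  let r := Spec.map (S₀.ι.residueFieldMap s₀)
  have hrι : r ≫ S.fromSpecResidueField (S₀.ι s₀) = (S₀ : Scheme.{u}).fromSpecResidueField s₀ ≫ S₀.ι :=
    Scheme.Hom.SpecMap_residueFieldMap_fromSpecResidueField _ _
  let k : f.fiber s₀ ⟶ F := pullback.lift (f.fiberι s₀ ≫ O.ι) (f.fiberToSpecResidueField s₀ ≫ r) (by
    have hc : f.fiberι s₀ ≫ f = f.fiberToSpecResidueField s₀ ≫ (S₀ : Scheme.{u}).fromSpecResidueField s₀ :=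
      pullback.condition
    rw [Category.assoc, Category.assoc, hrι, ← reassoc_of% hc, Scheme.Hom.resLE_comp_ι])
  have hk : IsPullback k (f.fiberι s₀) (h.fiberι (S₀.ι s₀)) O.ι := by
    refine IsPullback.of_right (h₁₂ := h.fiberToSpecResidueField (S₀.ι s₀)) (h₂₂ := h)
      (v₁₃ := S.fromSpecResidueField (S₀.ι s₀)) ?_ (pullback.lift_fst _ _ _) ?_
    · rw [show k ≫ h.fiberToSpecResidueField (S₀.ι s₀) = f.fiberToSpecResidueField s₀ ≫ r from pullback.lift_snd _ _ _,
        ← Scheme.Hom.resLE_comp_ι h hle]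
      have h1 : IsPullback (f.fiberι s₀) (f.fiberToSpecResidueField s₀) (f ≫ S₀.ι)
          ((S₀ : Scheme.{u}).fromSpecResidueField s₀ ≫ S₀.ι) :=
        isPullback_comp_mono S₀.ι (IsPullback.of_hasPullback f ((S₀ : Scheme.{u}).fromSpecResidueField s₀))
      rw [← hrι] at h1
      exact (h1.of_iso (Iso.refl _) (Iso.refl _) (asIso r) (Iso.refl _) (by simp) (by simp) (by simp [f]) (by simp)).flip
    · exact (IsPullback.of_hasPullback h (S.fromSpecResidueField (S₀.ι s₀))).flip
  haveI : IsOpenImmersion k := MorphismProperty.of_isPullback hk.flip inferInstance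
  have hrange : Set.range k = (T : Set ↑F) := by
    rw [← hk.isoPullback_hom_fst, Scheme.Hom.comp_base, TopCat.coe_comp,
      Function.Surjective.range_comp hk.isoPullback.hom.surjective, Scheme.Pullback.range_fst, Scheme.Opens.range_ι]
    exact hpre
  let e : f.fiber s₀ ≅ (T : Scheme.{u}) := IsOpenImmersion.isoOfRangeEq k T.ι (by rw [hrange, Scheme.Opens.range_ι])
  have he : e.hom ≫ T.ι = k := IsOpenImmersion.isoOfRangeEq_hom_fac _ _ _
  have h2 : GeometricallyConnected (f.fiberToSpecResidueField s₀ ≫ r) := by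
    rw [show f.fiberToSpecResidueField s₀ ≫ r = e.hom ≫ T.ι ≫ h.fiberToSpecResidueField (S₀.ι s₀) by
      rw [← Category.assoc, he]; exact (pullback.lift_snd _ _ _).symm]
    exact (MorphismProperty.cancel_left_of_respectsIso @GeometricallyConnected e.hom _).2 hT
  exact (MorphismProperty.cancel_right_of_respectsIso @GeometricallyConnected _ r).1 h2

end Groth.Agent.H4RG
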