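import Groth.Prelude
import Groth.Agent.H4RG.ResTriv
import Groth.Agent.S1356
import Groth.Agent.S4619
import Groth.Agent.GrpSchLib.IsogenyFibre
import Groth.Agent.CurveCohLib.SmoothCurve
import Groth.Agent.RadPtLib.Basic
import Groth.Agent.H23.LocNoethTop
import Mathlib

/-! A point with purely transcendental residue field of a smooth algebra has, after etale localisation of the base, a
neighbourhood with geometrically integral fibres. -/

set_option autoImplicit false
set_option linter.style.haveILetI false
set_option backward.isDefEq.respectTransparency false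
set_option backward.isDefEq.respectTransparency.types false

universe u

open CategoryTheory CategoryTheory.Limits AlgebraicGeometry TensorProduct

namespace Groth.Agent.H4RG

/-- A nonempty open in a smooth family with geometrically connected fibres, surjective over the base, has geometrically
integral fibres. -/
theorem geometricallyIntegral_of_open_geomConnected {Y W S S₀ : Scheme.{u}} (h : Y ⟶ S) [Smooth h] [QuasiCompact h]
    [GeometricallyConnected h] (i : W ⟶ Y) [IsOpenImmersion i] (h' : W ⟶ S₀) (m : S₀ ⟶ S) [Mono m]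
    (e : h' ≫ m = i ≫ h) [Surjective h'] : GeometricallyIntegral h' := by
  refine ⟨fun K _ x P fst snd sq => ?_⟩
  haveI : Smooth (pullback.snd h (x ≫ m)) := MorphismProperty.pullback_snd h (x ≫ m) inferInstance
  haveI : QuasiCompact (pullback.snd h (x ≫ m)) := MorphismProperty.pullback_snd h (x ≫ m) inferInstance
  haveI : CompactSpace ↥(pullback h (x ≫ m)) := QuasiCompact.compactSpace_of_compactSpace (pullback.snd h (x ≫ m))
  haveI : ConnectedSpace ↥(pullback h (x ≫ m)) :=
    (‹GeometricallyConnected h›).geometrically_connectedSpace _ _ _ (IsPullback.of_hasPullback h (x ≫ m))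
  haveI := CurveCohLib.isIntegral_of_smooth_connected (pullback.snd h (x ≫ m))
  let k : P ⟶ pullback h (x ≫ m) := pullback.lift (fst ≫ i) snd (by rw [Category.assoc, ← e, reassoc_of% sq.w])
  have hk : IsPullback k fst (pullback.fst h (x ≫ m)) i := by
    refine (IsPullback.of_bot (v₂₁ := pullback.snd h (x ≫ m)) (v₂₂ := h) (h₃₁ := x ≫ m) ?_
      (pullback.lift_fst _ _ _).symm (IsPullback.of_hasPullback h (x ≫ m))).flip
    rw [show k ≫ pullback.snd h (x ≫ m) = snd from pullback.lift_snd _ _ _, ← e]
    exact isPullback_comp_mono m sq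
  haveI : IsOpenImmersion k := MorphismProperty.of_isPullback hk.flip inferInstance
  haveI : Surjective snd := MorphismProperty.of_isPullback sq inferInstance
  haveI : Nonempty P := ⟨(snd.surjective (Classical.arbitrary _)).choose⟩
  exact isIntegral_of_isOpenImmersion k

/-- Bijectivity of the residue field map, read in the rings. -/
theorem bijective_mapₐ_of_rfm {R S : Type u} [CommRing R] [CommRing S] [Algebra R S] (p : Ideal R) [p.IsPrime]
    (q : PrimeSpectrum S) (h : p = q.asIdeal.comap (algebraMap R S))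
    (hb : Function.Bijective ((Spec.map (CommRingCat.ofHom (algebraMap R S))).residueFieldMap q)) :
    Function.Bijective (Ideal.ResidueField.mapₐ p q.asIdeal (Algebra.ofId R S) h) := by
  subst h
  have e := MorLib.WT.residueFieldMap_SpecMap (CommRingCat.ofHom (algebraMap R S)) q
  have hr := ConcreteCategory.bijective_of_isIso
    (Scheme.Spec.residueFieldIso (CommRingCat.of R) (PrimeSpectrum.comap (algebraMap R S) q)).hom
  have hs := ConcreteCategory.bijective_of_isIso (Scheme.Spec.residueFieldIso (CommRingCat.of S) q).hom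
  refine (Function.Bijective.of_comp_iff _ hr).1 ?_
  have e' := congrArg (fun f => ⇑(CommRingCat.Hom.hom f)) e
  simp only [CommRingCat.hom_comp, RingHom.coe_comp] at e'
  exact e' ▸ hs.comp hb

/-- A localisation away from an element is an elementary etale neighbourhood of the points it keeps. -/
theorem isEtaleNhd_away {R S : Type u} [CommRing R] [CommRing S] [Algebra R S] (f : R) [IsLocalization.Away f S]
    (q : PrimeSpectrum S) (p : Ideal R) [p.IsPrime] (h : q.asIdeal.comap (algebraMap R S) = p) :
    FlatCA.IsEtaleNhd R S p q.asIdeal := by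
  haveI : IsOpenImmersion (Spec.map (CommRingCat.ofHom (algebraMap R S))) := .of_isLocalization f
  refine ⟨Algebra.Etale.of_isLocalizationAway f, ⟨h.symm⟩, bijective_mapₐ_of_rfm p q h.symm ?_⟩
  exact MorLib.EEF.bijective_rfm_isOpenImmersion _ _

/-- A connected open piece around a point with purely transcendental residue field is geometrically connected. -/
theorem geometricallyConnected_piece {R A : Type u} [CommRing R] [CommRing A] [Algebra R A] (y : PrimeSpectrum A)
    (hpt : FlatCA.PurelyTranscendental (y.asIdeal.under R) y.asIdeal)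
    (T : ((Spec.map (CommRingCat.ofHom (algebraMap R A))).fiber ((Spec.map (CommRingCat.ofHom (algebraMap R A))) y)).Opens)
    [ConnectedSpace (T : Scheme.{u})] (hyT : (Spec.map (CommRingCat.ofHom (algebraMap R A))).asFiber y ∈ T) :
    GeometricallyConnected (T.ι ≫ (Spec.map (CommRingCat.ofHom (algebraMap R A))).fiberToSpecResidueField
      ((Spec.map (CommRingCat.ofHom (algebraMap R A))) y)) := by
  let h := Spec.map (CommRingCat.ofHom (algebraMap R A))
  let s : PrimeSpectrum R := h y
  let p : Ideal R := y.asIdeal.under R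
  let k := (Spec (CommRingCat.of R)).residueField s
  let str : (T : Scheme.{u}) ⟶ Spec k := T.ι ≫ h.fiberToSpecResidueField (h y)
  let x : (T : Scheme.{u}) := ⟨h.asFiber y, hyT⟩
  obtain ⟨φ, hφ⟩ := Spec.map_surjective ((T : Scheme.{u}).fromSpecResidueField x ≫ str)
  let j : (T : Scheme.{u}) ⟶ Spec (CommRingCat.of A) := T.ι ≫ h.fiberι (h y)
  have hjx : j x = y := by
    show h.fiberι (h y) (T.ι x) = y
    exact h.fiberι_asFiber y
  have hσb : Function.Bijective (j.residueFieldMap x) := RadPtLib.bijective_residueFieldMap j x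
  letI algK : Algebra p.ResidueField y.asIdeal.ResidueField :=
    (Ideal.ResidueField.mapₐ p y.asIdeal (Algebra.ofId R A) (y.asIdeal.over_def p)).toRingHom.toAlgebra
  obtain ⟨ι, b, hb, htop⟩ := hpt
  -- the residue field of the point inside the piece
  let σ : CommRingCat.of y.asIdeal.ResidueField ⟶ (T : Scheme.{u}).residueField x :=
    (Scheme.Spec.residueFieldIso (CommRingCat.of A) y).inv ≫ ((Spec (CommRingCat.of A)).residueFieldCongr hjx).inv ≫
      j.residueFieldMap x
  haveI : IsIso (j.residueFieldMap x) := (ConcreteCategory.isIso_iff_bijective _).2 hσb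
  haveI : IsIso σ := inferInstance
  let κ := (Scheme.Spec.residueFieldIso (CommRingCat.of R) s)
  have hbase : κ.inv ≫ φ = CommRingCat.ofHom (algebraMap p.ResidueField y.asIdeal.ResidueField) ≫ σ := by
    have hR : CommRingCat.ofHom (algebraMap R s.asIdeal.ResidueField) ≫ κ.inv ≫ φ =
        CommRingCat.ofHom (algebraMap R y.asIdeal.ResidueField) ≫ σ := by
      apply Spec.map_injective
      simp only [Spec.map_comp, Category.assoc]
      rw [hφ]
      simp only [σ, Spec.map_comp, Category.assoc, str]
      have hc : h.fiberToSpecResidueField (h y) ≫ (Spec (CommRingCat.of R)).fromSpecResidueField s = h.fiberι (h y) ≫ h :=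
        pullback.condition.symm
      rw [show Spec.map κ.inv ≫ Spec.map (CommRingCat.ofHom (algebraMap R s.asIdeal.ResidueField)) =
          (Spec (CommRingCat.of R)).fromSpecResidueField s from Scheme.Spec.map_residueFieldIso_inv_eq_fromSpecResidueField _ _,
        hc]
      rw [show CommRingCat.ofHom (algebraMap R y.asIdeal.ResidueField) =
          CommRingCat.ofHom (algebraMap R A) ≫ CommRingCat.ofHom (algebraMap A y.asIdeal.ResidueField) by
        rw [← CommRingCat.ofHom_comp, ← IsScalarTower.algebraMap_eq]]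
      rw [Spec.map_comp, Scheme.Spec.map_residueFieldIso_inv_eq_fromSpecResidueField_assoc,
        Scheme.residueFieldCongr_inv, Scheme.residueFieldCongr_fromSpecResidueField_assoc, Scheme.Hom.SpecMap_residueFieldMap_fromSpecResidueField_assoc]
      simp [j, h]
    apply CommRingCat.hom_ext
    refine Ideal.ResidueField.ringHom_ext (I := p) (RingHom.ext fun r => ?_)
    refine (RingHom.congr_fun (congrArg CommRingCat.Hom.hom hR) r).trans ?_
    show σ.hom (algebraMap R y.asIdeal.ResidueField r) = σ.hom (algebraMap p.ResidueField y.asIdeal.ResidueField (algebraMap R p.ResidueField r))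
    congr 1
    exact ((Ideal.ResidueField.mapₐ p y.asIdeal (Algebra.ofId R A) (y.asIdeal.over_def p)).commutes r).symm
  refine Groth.Agent.S4619.result (k := (k : Type u)) str x ⟨φ.hom, ?_, ?_⟩
  · exact hφ
  letI : Algebra k ((T : Scheme.{u}).residueField x) := φ.hom.toAlgebra
  refine le_antisymm (fun a ha => ?_) bot_le
  have halg : IsAlgebraic k a := (mem_separableClosure_iff.1 ha).isIntegral.isAlgebraic
  obtain ⟨a, rfl⟩ := (ConcreteCategory.isIso_iff_bijective σ).1 inferInstance |>.2 a
  have halg' : IsAlgebraic p.ResidueField a := by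
    obtain ⟨P, hP0, hP⟩ := halg
    refine ⟨P.map (κ.hom).hom, (Polynomial.map_ne_zero_iff (RingHom.injective _)).2 hP0, ?_⟩
    refine (map_eq_zero_iff σ.hom (RingHom.injective _)).1 ?_
    rw [Polynomial.aeval_def, Polynomial.hom_eval₂, Polynomial.eval₂_map,
      show (σ.hom.comp (algebraMap p.ResidueField y.asIdeal.ResidueField)).comp κ.hom.hom = φ.hom from
        congrArg CommRingCat.Hom.hom (show κ.hom ≫ CommRingCat.ofHom (algebraMap p.ResidueField y.asIdeal.ResidueField) ≫ σ = φ by
          rw [← hbase, Iso.hom_inv_id_assoc])]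
    exact hP
  obtain ⟨c, rfl⟩ := mem_range_of_isAlgebraic_pureTrans b hb.1 htop a halg'
  refine IntermediateField.mem_bot.2 ⟨κ.inv.hom c, ?_⟩
  exact RingHom.congr_fun (congrArg CommRingCat.Hom.hom hbase) c

attribute [local instance] Algebra.TensorProduct.rightAlgebra

/-- Around a point with purely transcendental residue field a smooth algebra has, over an elementary etale neighbourhood
of the base, a standard open piece with geometrically integral fibres over a standard open piece of that base. -/
theorem exists_geomIntegral_piece {R A : Type u} [CommRing R] [CommRing A] [Algebra R A] (n : ℕ)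
    (hn : FlatCA.SmoothRelDim n R A) (p : Ideal R) [p.IsPrime] (y : Ideal A) [y.IsPrime] [hyp : y.LiesOver p]
    (hpt : FlatCA.PurelyTranscendental p y) :
    ∃ (R₁ : Type u) (_ : CommRing R₁) (_ : Algebra R R₁) (p₁ : Ideal R₁) (_ : p₁.IsPrime) (f : R₁)
      (P : Ideal (R₁ ⊗[R] A)) (_ : P.IsPrime) (w : R₁ ⊗[R] A)
      (_ : Algebra (Localization.Away f) (Localization.Away (w * algebraMap R₁ (R₁ ⊗[R] A) f)))
      (_ : IsScalarTower R₁ (Localization.Away f) (Localization.Away (w * algebraMap R₁ (R₁ ⊗[R] A) f))),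
      FlatCA.IsEtaleNhd R R₁ p p₁ ∧ FlatCA.IsEtaleNhd A (R₁ ⊗[R] A) y P ∧ P.comap (algebraMap R₁ (R₁ ⊗[R] A)) = p₁ ∧
        f ∉ p₁ ∧ w ∉ P ∧
        FlatCA.GeomIntegralFibres (Localization.Away f) (Localization.Away (w * algebraMap R₁ (R₁ ⊗[R] A) f)) := by
  obtain rfl : p = y.under R := hyp.over
  let h := Spec.map (CommRingCat.ofHom (algebraMap R A))
  haveI : SmoothOfRelativeDimension n h := hn
  haveI : Smooth h := SmoothOfRelativeDimension.smooth (n := n) h
  haveI := GrpSchLib.IsogenyFibre.geometricallyReduced_of_smooth' h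
  let yp : PrimeSpectrum A := ⟨y, inferInstance⟩
  let str := h.fiberToSpecResidueField (h yp)
  haveI : Smooth str := MorphismProperty.pullback_snd h _ inferInstance
  haveI : QuasiCompact str := MorphismProperty.pullback_snd h _ inferInstance
  haveI : IsLocallyNoetherian (h.fiber (h yp)) := LocallyOfFiniteType.isLocallyNoetherian str
  haveI : CompactSpace (h.fiber (h yp)) := QuasiCompact.compactSpace_of_compactSpace str
  haveI : AlgebraicGeometry.IsNoetherian (h.fiber (h yp)) := { }
  haveI : LocallyConnectedSpace (h.fiber (h yp)) :=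
    H23.LocNoethTop.locallyConnectedSpace fun z => ⟨Set.univ, Filter.univ_mem, inferInstance⟩
  let T : (h.fiber (h yp)).Opens := ⟨connectedComponent (h.asFiber yp), isOpen_connectedComponent⟩
  haveI : ConnectedSpace (T : Scheme.{u}) := Subtype.connectedSpace isConnected_connectedComponent
  obtain ⟨S', g, s', hS', hg, V, hVc, hVg, hVT⟩ :=
    Groth.Agent.S1356.result h (h yp) T (geometricallyConnected_piece yp hpt T mem_connectedComponent)
  haveI := hS'
  haveI := hg.etale
  let R₁ : Type u := Γ(S', ⊤)
  obtain ⟨φ, hφ⟩ := Spec.map_surjective (S'.isoSpec.inv ≫ g)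
  letI : Algebra R R₁ := φ.hom.toAlgebra
  haveI : AlgebraicGeometry.Etale (Spec.map φ) := by rw [hφ]; infer_instance
  haveI hR₁ : Algebra.Etale R R₁ :=
    RingHom.etale_algebraMap.1 ((HasRingHomProperty.Spec_iff (P := @AlgebraicGeometry.Etale)).1
      (inferInstanceAs (AlgebraicGeometry.Etale (Spec.map φ))))
  let p₁ : (Spec (CommRingCat.of R₁) : Scheme.{u}) := S'.isoSpec.hom s'
  have hiso : S'.isoSpec.inv p₁ = s' := by
    exact congr($(S'.isoSpec.hom_inv_id) s')
  have hp₁ : p₁.asIdeal.comap (algebraMap R R₁) = y.under R := by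
    have h1 : Spec.map φ p₁ = h yp := by rw [hφ, Scheme.Hom.comp_apply, hiso]; exact hg.base_eq
    exact congrArg PrimeSpectrum.asIdeal h1
  have hp₁b : Function.Bijective (Ideal.ResidueField.mapₐ (y.under R) p₁.asIdeal (Algebra.ofId R R₁) hp₁.symm) := by
    refine bijective_mapₐ_of_rfm _ p₁ hp₁.symm ?_
    show Function.Bijective ((Spec.map φ).residueFieldMap p₁)
    rw [hφ]
    refine MorLib.EEF.bijective_rfm_comp _ _ _ (MorLib.EEF.bijective_rfm_isOpenImmersion _ _) ?_
    rw [hiso]
    exact hg.residue_bijective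
  -- the base change
  let W := R₁ ⊗[R] A
  obtain ⟨P, hPp, hPl, ⟨hPr, hPb⟩, -⟩ :=
    exists_unique_prime_over_trivial (D := R₁) (C := A) (y.under R) p₁.asIdeal ⟨hp₁.symm⟩ hp₁b.2 y ⟨rfl⟩
  let a : Spec (CommRingCat.of W) ⟶ Spec (CommRingCat.of A) := Spec.map (CommRingCat.ofHom (algebraMap A W))
  let b : Spec (CommRingCat.of W) ⟶ Spec (CommRingCat.of R₁) := Spec.map (CommRingCat.ofHom (algebraMap R₁ W))
  have sq₀ : IsPullback a b h (Spec.map φ) :=
    isPullback_SpecMap_of_isPushout _ _ _ _ (CommRingCat.isPushout_tensorProduct R R₁ A).flip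
  have sq : IsPullback a (b ≫ S'.isoSpec.inv) h g :=
    sq₀.of_iso (Iso.refl _) (Iso.refl _) S'.isoSpec.symm (Iso.refl _) (by simp) (by simp) (by simp)
      (by rw [Iso.refl_hom, Category.comp_id, hφ]; rfl)
  let j := sq.isoPullback.hom
  let V' : (Spec (CommRingCat.of W)).Opens := j ⁻¹ᵁ V
  have hVgc : GeometricallyConnected (V'.ι ≫ b) := by
    refine (MorphismProperty.cancel_right_of_respectsIso @GeometricallyConnected _ S'.isoSpec.inv).1 ?_
    rw [Category.assoc, show b ≫ S'.isoSpec.inv = j ≫ pullback.snd h g from sq.isoPullback_hom_snd.symm,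
      ← reassoc_of% morphismRestrict_ι j V]
    exact (MorphismProperty.cancel_left_of_respectsIso @GeometricallyConnected (j ∣_ V) _).2 hVg
  haveI := hVgc
  let Pp : PrimeSpectrum W := ⟨P, hPp⟩
  have hPV : Pp ∈ V' := by
    show j Pp ∈ V
    have hsnd : pullback.snd h g (j Pp) = s' := by
      rw [← Scheme.Hom.comp_apply, show j ≫ pullback.snd h g = b ≫ S'.isoSpec.inv from sq.isoPullback_hom_snd,
        Scheme.Hom.comp_apply, show b Pp = p₁ from PrimeSpectrum.ext hPl]
      exact hiso
    refine (hVT _ hsnd).2 ⟨h.asFiber yp, mem_connectedComponent, ?_⟩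
    rw [h.fiberι_asFiber, ← Scheme.Hom.comp_apply, show j ≫ pullback.fst h g = a from sq.isoPullback_hom_fst]
    exact PrimeSpectrum.ext hPr
  obtain ⟨_, ⟨w, rfl⟩, hPw, hwV⟩ := PrimeSpectrum.isTopologicalBasis_basic_opens.isOpen_iff.1 V'.isOpen Pp hPV
  haveI := smoothOfRelativeDimension_isStableUnderBaseChange n
  haveI : SmoothOfRelativeDimension n b := MorphismProperty.of_isPullback sq₀ hn
  haveI : Smooth b := SmoothOfRelativeDimension.smooth (n := n) b
  obtain ⟨_, ⟨f, rfl⟩, hp₁f, hfU⟩ := PrimeSpectrum.isTopologicalBasis_basic_opens.isOpen_iff.1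
    (b.isOpenMap _ (PrimeSpectrum.basicOpen w).isOpen) p₁ ⟨Pp, hPw, PrimeSpectrum.ext hPl⟩
  let R' := Localization.Away f
  let D := Localization.Away (w * algebraMap R₁ W f)
  letI : Algebra R' D := (IsLocalization.Away.lift (g := algebraMap R₁ D) f (by
    rw [IsScalarTower.algebraMap_apply R₁ W D]
    exact isUnit_of_dvd_unit ((algebraMap W D).map_dvd (dvd_mul_left _ w))
      (IsLocalization.Away.algebraMap_isUnit (w * algebraMap R₁ W f)))).toAlgebra
  haveI : IsScalarTower R₁ R' D :=
    IsScalarTower.of_algebraMap_eq fun c => (IsLocalization.Away.lift_eq f _ c).symm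
  haveI : IsScalarTower R R' D := IsScalarTower.of_algebraMap_eq fun c => by
    rw [IsScalarTower.algebraMap_apply R R₁ R', ← IsScalarTower.algebraMap_apply R₁ R' D,
      ← IsScalarTower.algebraMap_apply R R₁ D]
  haveI : IsScalarTower R A D := IsScalarTower.of_algebraMap_eq fun c => by
    rw [IsScalarTower.algebraMap_apply A W D, ← IsScalarTower.algebraMap_apply R A W, ← IsScalarTower.algebraMap_apply R W D]
  let i : Spec (CommRingCat.of D) ⟶ Spec (CommRingCat.of W) := Spec.map (CommRingCat.ofHom (algebraMap W D))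
  haveI : IsOpenImmersion i := .of_isLocalization (w * algebraMap R₁ W f)
  let m : Spec (CommRingCat.of R') ⟶ Spec (CommRingCat.of R₁) := Spec.map (CommRingCat.ofHom (algebraMap R₁ R'))
  haveI : IsOpenImmersion m := .of_isLocalization f
  let h' : Spec (CommRingCat.of D) ⟶ Spec (CommRingCat.of R') := Spec.map (CommRingCat.ofHom (algebraMap R' D))
  have he : h' ≫ m = i ≫ b := by
    show Spec.map _ ≫ Spec.map _ = Spec.map _ ≫ Spec.map _
    rw [← Spec.map_comp, ← Spec.map_comp, ← CommRingCat.ofHom_comp, ← CommRingCat.ofHom_comp,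
      ← IsScalarTower.algebraMap_eq, ← IsScalarTower.algebraMap_eq]
  have hrange : Set.range i = (PrimeSpectrum.basicOpen (w * algebraMap R₁ W f) : Set (PrimeSpectrum W)) :=
    PrimeSpectrum.localization_away_comap_range D (w * algebraMap R₁ W f)
  have hPD : Pp ∈ Set.range i := by
    rw [hrange]
    intro hmem
    rcases hPp.mem_or_mem hmem with h1 | h1
    · exact hPw h1
    · exact hp₁f (hPl.le h1)
  obtain ⟨yD, hyD⟩ := hPD
  let p' : PrimeSpectrum R' := h' yD
  have hp'₁ : p'.asIdeal.comap (algebraMap R₁ R') = p₁.asIdeal := by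
    refine congrArg PrimeSpectrum.asIdeal (show m p' = p₁ from ?_)
    rw [← Scheme.Hom.comp_apply, he, Scheme.Hom.comp_apply, hyD]
    exact PrimeSpectrum.ext hPl
  haveI : Surjective h' := ⟨fun q => by
    have hq : m q ∈ PrimeSpectrum.basicOpen f :=
      (PrimeSpectrum.localization_away_comap_range R' f).le ⟨q, rfl⟩
    obtain ⟨Q, hQw, hQ⟩ := hfU hq
    obtain ⟨Q', rfl⟩ : Q ∈ Set.range i := by
      rw [hrange]
      intro hmem
      rcases Q.2.mem_or_mem hmem with h1 | h1
      · exact hQw h1
      · refine hq ?_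
        rw [← hQ]
        exact h1
    refine ⟨Q', m.isOpenEmbedding.injective ?_⟩
    rw [← Scheme.Hom.comp_apply, he, Scheme.Hom.comp_apply, hQ]⟩
  have hirange : Set.range i ⊆ Set.range V'.ι := by
    rw [Scheme.Opens.range_ι, hrange]
    exact fun Q hQ => hwV fun hmem => hQ (Ideal.mul_mem_right _ _ hmem)
  let iV := IsOpenImmersion.lift V'.ι i hirange
  have hiV : iV ≫ V'.ι = i := IsOpenImmersion.lift_fac _ _ _
  haveI : IsOpenImmersion (iV ≫ V'.ι) := by rw [hiV]; infer_instance
  haveI : IsOpenImmersion iV := IsOpenImmersion.of_comp iV V'.ι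
  haveI : CompactSpace (V' : Scheme.{u}) :=
    isCompact_iff_compactSpace.1 ((j.homeomorph.isCompact_preimage).2 hVc)
  haveI : QuasiCompact (V'.ι ≫ b) := (quasiCompact_iff_compactSpace _).2 inferInstance
  have hgi : GeometricallyIntegral h' :=
    geometricallyIntegral_of_open_geomConnected (V'.ι ≫ b) iV h' m (by rw [he, reassoc_of% hiV])
  have hAW : FlatCA.IsEtaleNhd A W y P := by
    refine ⟨RingHom.etale_algebraMap.1 ((HasRingHomProperty.Spec_iff (P := @AlgebraicGeometry.Etale)).1
      (MorphismProperty.of_isPullback sq₀.flip ‹AlgebraicGeometry.Etale (Spec.map φ)›)), ⟨hPr⟩, ?_⟩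
    exact hPb
  refine ⟨R₁, inferInstance, inferInstance, p₁.asIdeal, inferInstance, f, P, hPp, w, inferInstance, inferInstance,
    ⟨hR₁, ⟨hp₁.symm⟩, hp₁b⟩, hAW, hPl, hp₁f, hPw, hgi⟩

/-- Around a point with purely transcendental residue field a smooth algebra has, over an elementary etale neighbourhood
of the base, an elementary etale neighbourhood with geometrically integral fibres. -/
theorem exists_geomIntegral_nhd {R A : Type u} [CommRing R] [CommRing A] [Algebra R A] (n : ℕ)
    (hn : FlatCA.SmoothRelDim n R A) (p : Ideal R) [p.IsPrime] (y : Ideal A) [y.IsPrime] [hyp : y.LiesOver p]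
    (hpt : FlatCA.PurelyTranscendental p y) :
    ∃ (R' D : Type u) (_ : CommRing R') (_ : Algebra R R') (_ : CommRing D) (_ : Algebra A D) (_ : Algebra R' D)
      (_ : Algebra R D) (_ : IsScalarTower R A D) (_ : IsScalarTower R R' D) (p' : Ideal R') (_ : p'.IsPrime)
      (y' : Ideal D) (_ : y'.IsPrime) (_ : y'.LiesOver p'),
      FlatCA.IsEtaleNhd R R' p p' ∧ FlatCA.IsEtaleNhd A D y y' ∧ FlatCA.SmoothRelDim n R' D ∧
        FlatCA.GeomIntegralFibres R' D := by
  obtain ⟨R₁, _, _, p₁, _, f, P, _, w, _, _, hR, hA, hPp, hf, hw, hgi⟩ := exists_geomIntegral_piece n hn p y hpt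
  let R' := Localization.Away f
  let W := R₁ ⊗[R] A
  let D := Localization.Away (w * algebraMap R₁ W f)
  haveI : IsScalarTower R R' D := IsScalarTower.of_algebraMap_eq fun c => by
    rw [IsScalarTower.algebraMap_apply R R₁ R', ← IsScalarTower.algebraMap_apply R₁ R' D,
      ← IsScalarTower.algebraMap_apply R R₁ D]
  haveI : IsScalarTower R A D := IsScalarTower.of_algebraMap_eq fun c => by
    rw [IsScalarTower.algebraMap_apply A W D, ← IsScalarTower.algebraMap_apply R A W, ← IsScalarTower.algebraMap_apply R W D]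
  have hmem : w * algebraMap R₁ W f ∉ P := fun hc =>
    (‹P.IsPrime›.mem_or_mem hc).elim hw fun h1 => hf (hPp.le h1)
  let b : Spec (CommRingCat.of W) ⟶ Spec (CommRingCat.of R₁) := Spec.map (CommRingCat.ofHom (algebraMap R₁ W))
  let m : Spec (CommRingCat.of R') ⟶ Spec (CommRingCat.of R₁) := Spec.map (CommRingCat.ofHom (algebraMap R₁ R'))
  let i : Spec (CommRingCat.of D) ⟶ Spec (CommRingCat.of W) := Spec.map (CommRingCat.ofHom (algebraMap W D))
  haveI : IsOpenImmersion i := .of_isLocalization (w * algebraMap R₁ W f)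
  let h' : Spec (CommRingCat.of D) ⟶ Spec (CommRingCat.of R') := Spec.map (CommRingCat.ofHom (algebraMap R' D))
  have he : h' ≫ m = i ≫ b := by
    show Spec.map _ ≫ Spec.map _ = Spec.map _ ≫ Spec.map _
    rw [← Spec.map_comp, ← Spec.map_comp, ← CommRingCat.ofHom_comp, ← CommRingCat.ofHom_comp,
      ← IsScalarTower.algebraMap_eq, ← IsScalarTower.algebraMap_eq]
  haveI := smoothOfRelativeDimension_isStableUnderBaseChange n
  haveI : SmoothOfRelativeDimension n b := MorphismProperty.of_isPullback
    (isPullback_SpecMap_of_isPushout _ _ _ _ (CommRingCat.isPushout_tensorProduct R R₁ A).flip) hn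
  have hsm : SmoothOfRelativeDimension n h' := by
    haveI : SmoothOfRelativeDimension n (pullback.snd b m) := MorphismProperty.pullback_snd b m ‹_›
    let k := pullback.lift i h' he.symm
    haveI : IsOpenImmersion (k ≫ pullback.fst b m) := by rw [pullback.lift_fst]; infer_instance
    haveI : IsOpenImmersion k := IsOpenImmersion.of_comp k (pullback.fst b m)
    rw [show h' = k ≫ pullback.snd b m from (pullback.lift_snd _ _ _).symm]
    exact IsZariskiLocalAtSource.comp ‹SmoothOfRelativeDimension n (pullback.snd b m)› k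
  obtain ⟨yD, hyD⟩ : (⟨P, inferInstance⟩ : PrimeSpectrum W) ∈ Set.range (PrimeSpectrum.comap (algebraMap W D)) := by
    rw [PrimeSpectrum.localization_away_comap_range D (w * algebraMap R₁ W f)]
    exact hmem
  let p' : PrimeSpectrum R' := h' yD
  have hp'₁ : p'.asIdeal.comap (algebraMap R₁ R') = p₁ := by
    show (yD.asIdeal.comap (algebraMap R' D)).comap (algebraMap R₁ R') = p₁
    rw [Ideal.comap_comap, ← IsScalarTower.algebraMap_eq, IsScalarTower.algebraMap_eq R₁ W D, ← Ideal.comap_comap]
    exact (congrArg (fun z => z.asIdeal.comap (algebraMap R₁ W)) hyD).trans hPp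
  refine ⟨R', D, inferInstance, inferInstance, inferInstance, inferInstance, inferInstance, inferInstance, inferInstance,
    inferInstance, p'.asIdeal, inferInstance, yD.asIdeal, inferInstance, ⟨rfl⟩, ?_, ?_, hsm, hgi⟩
  · exact isEtaleNhd_trans _ p₁ _ hR (isEtaleNhd_away f p' _ hp'₁)
  · refine isEtaleNhd_trans y P _ hA (isEtaleNhd_away (w * algebraMap R₁ W f) yD P ?_)
    exact congrArg PrimeSpectrum.asIdeal hyD

end Groth.Agent.H4RG
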