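import Groth.Prelude
import Groth.Agent.H4RG.GeomIntNhd
import Mathlib

/-! A finite chart of a closed subscheme over an etale neighbourhood, lifted to the ambient scheme. -/

set_option autoImplicit false
set_option linter.style.haveILetI false
set_option backward.isDefEq.respectTransparency.types false

universe u

open TensorProduct

namespace Groth.Agent.H4RG

/-- Surjective ring maps induce surjections of residue fields. -/
theorem surjective_residueMap_of_surjective {A B : Type u} [CommRing A] [CommRing B] (f : A →+* B)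
    (hf : Function.Surjective f) (a : Ideal A) [a.IsPrime] (b : Ideal B) [b.IsPrime] (h : a = b.comap f) :
    Function.Surjective (Ideal.ResidueField.map a b f h) :=
  MorLib.EEF.surjective_residueField_map_of_generated f b a h fun t => by
    obtain ⟨s, rfl⟩ := hf t
    exact ⟨algebraMap A a.ResidueField s, Ideal.ResidueField.map_algebraMap a b f h s⟩

/-- Surjectivity of residue field maps composes. -/
theorem surjective_residueMap_comp {A B C : Type u} [CommRing A] [CommRing B] [CommRing C] (f : A →+* B) (g : B →+* C)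
    (a : Ideal A) [a.IsPrime] (b : Ideal B) [b.IsPrime] (c : Ideal C) [c.IsPrime] (h1 : a = b.comap f) (h2 : b = c.comap g)
    (h : a = c.comap (g.comp f)) (hf : Function.Surjective (Ideal.ResidueField.map a b f h1))
    (hg : Function.Surjective (Ideal.ResidueField.map b c g h2)) :
    Function.Surjective (Ideal.ResidueField.map a c (g.comp f) h) := by
  have e : Ideal.ResidueField.map a c (g.comp f) h =
      (Ideal.ResidueField.map b c g h2).comp (Ideal.ResidueField.map a b f h1) := by
    refine Ideal.ResidueField.ringHom_ext (RingHom.ext fun r => ?_)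
    simp only [RingHom.comp_apply, Ideal.ResidueField.map_algebraMap]
  rw [e]
  exact hg.comp hf

/-- Surjectivity of the composite gives it for the first map, as residue field maps are injective. -/
theorem surjective_residueMap_of_comp {A B C : Type u} [CommRing A] [CommRing B] [CommRing C] (f : A →+* B) (g : B →+* C)
    (a : Ideal A) [a.IsPrime] (b : Ideal B) [b.IsPrime] (c : Ideal C) [c.IsPrime] (h1 : a = b.comap f) (h2 : b = c.comap g)
    (h : a = c.comap (g.comp f)) (hgf : Function.Surjective (Ideal.ResidueField.map a c (g.comp f) h)) :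
    Function.Surjective (Ideal.ResidueField.map a b f h1) := by
  intro z
  obtain ⟨w, hw⟩ := hgf (Ideal.ResidueField.map b c g h2 z)
  refine ⟨w, (Ideal.ResidueField.map b c g h2).injective ?_⟩
  rw [← hw]
  refine RingHom.congr_fun (f := (Ideal.ResidueField.map b c g h2).comp (Ideal.ResidueField.map a b f h1)) ?_ w
  refine Ideal.ResidueField.ringHom_ext (RingHom.ext fun r => ?_)
  simp only [RingHom.comp_apply, Ideal.ResidueField.map_algebraMap]

attribute [local instance] Algebra.TensorProduct.rightAlgebra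

/-- An algebra etale over `A` stays etale over the other factor of a tensor product. -/
theorem etale_right (A D S : Type u) [CommRing A] [CommRing D] [CommRing S] [Algebra A D] [Algebra A S] [Algebra.Etale A D] :
    Algebra.Etale S (D ⊗[A] S) :=
  Algebra.Etale.of_equiv (Algebra.TensorProduct.commRight A S D)

/-- The lifted chart. -/
theorem exists_lifted_chart {A A1 D S C0 : Type u} [CommRing A] [CommRing A1] [CommRing D] [CommRing S] [CommRing C0]
    [Algebra A A1] [Algebra A1 D] [Algebra A D] [IsScalarTower A A1 D] [Algebra.Etale A D]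
    [Algebra A S] [Algebra A C0] [Algebra S C0] [IsScalarTower A S C0]
    (hsurj : Function.Surjective (algebraMap S C0)) (hker : (RingHom.ker (algebraMap S C0)).FG)
    (e : A1 ⊗[A] C0) (he : IsIdempotentElem e) (hfin : Module.Finite A1 (Localization.Away e))
    (y0 : Ideal A) [y0.IsPrime] (y1 : Ideal A1) [y1.IsPrime] (yD : Ideal D) [yD.IsPrime] [hD1 : yD.LiesOver y1]
    (h01 : FlatCA.IsEtaleNhd A A1 y0 y1) (h0D : FlatCA.IsEtaleNhd A D y0 yD)
    (q0 : Ideal C0) [q0.IsPrime] [hq0 : q0.LiesOver y0]
    (P' : Ideal (A1 ⊗[A] C0)) [P'.IsPrime] (hP'1 : P'.comap Algebra.TensorProduct.includeLeftRingHom = y1)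
    (hP'q : P'.comap (Algebra.TensorProduct.includeRight (R := A) (A := A1) (B := C0)).toRingHom = q0) (heP' : e ∉ P')
    (huniq : ∀ P'' : Ideal (A1 ⊗[A] C0), P''.IsPrime → P''.comap Algebra.TensorProduct.includeLeftRingHom = y1 → e ∉ P'' → P'' = P')
    (q : Ideal S) [q.IsPrime] (hq : q0.comap (algebraMap S C0) = q) :
    ∃ (S' C : Type u) (_ : CommRing S') (_ : CommRing C) (_ : Algebra S S') (_ : Algebra D S') (_ : Algebra S' C)
      (_ : Algebra D C) (_ : IsScalarTower D S' C) (z : Ideal C) (_ : z.IsPrime),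
      (∀ a : A, algebraMap D S' (algebraMap A D a) = algebraMap S S' (algebraMap A S a)) ∧
      FlatCA.IsEtaleNhd S S' q (z.comap (algebraMap S' C)) ∧ Function.Surjective (algebraMap S' C) ∧
      Algebra.FinitePresentation S' C ∧ Module.Finite D C ∧ z.comap (algebraMap D C) = yD ∧
      (∀ z₁ : Ideal C, z₁.IsPrime → z₁.comap (algebraMap D C) = yD → z₁ = z) ∧
      RingHom.ker (algebraMap S' C) ≤ (RingHom.ker (algebraMap S C0)).map (algebraMap S S') := by
  classical
  obtain ⟨-, h01o, h01b⟩ := h01
  obtain ⟨-, h0Do, h0Db⟩ := h0D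
  obtain ⟨P2, hP2, hP2l, ⟨hP2r, hP2b⟩, hP2u⟩ := exists_unique_prime_over_trivial (D := D) (C := C0) y0 yD h0Do h0Db.2 q0 hq0
  obtain ⟨P1, hP1, hP1l, -, hP1u⟩ := exists_unique_prime_over_trivial (D := A1) (C := C0) y0 y1 h01o h01b.2 q0 hq0
  let π : D ⊗[A] S →ₐ[D] D ⊗[A] C0 := Algebra.TensorProduct.map (AlgHom.id D D) (IsScalarTower.toAlgHom A S C0)
  have hπ : Function.Surjective π := fun t => by
    induction t using TensorProduct.induction_on with
    | zero => exact ⟨0, map_zero π⟩
    | add a b ha hb =>
      obtain ⟨a, rfl⟩ := ha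
      obtain ⟨b, rfl⟩ := hb
      exact ⟨a + b, map_add π a b⟩
    | tmul d c =>
      obtain ⟨s, rfl⟩ := hsurj c
      exact ⟨d ⊗ₜ s, by simp [π]⟩
  let μ : A1 ⊗[A] C0 →ₐ[A] D ⊗[A] C0 := Algebra.TensorProduct.map (IsScalarTower.toAlgHom A A1 D) (AlgHom.id A C0)
  have hμl : ∀ a : A1, μ (a ⊗ₜ 1) = algebraMap D (D ⊗[A] C0) (algebraMap A1 D a) := fun a => by
    simp [μ, Algebra.TensorProduct.algebraMap_apply]
  have hμcomap : ∀ P : Ideal (D ⊗[A] C0), P.comap Algebra.TensorProduct.includeLeftRingHom = yD →
      (P.comap μ.toRingHom).comap Algebra.TensorProduct.includeLeftRingHom = y1 := by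
    intro P hP
    ext a
    show μ (a ⊗ₜ 1) ∈ P ↔ _
    rw [hμl, hD1.over, Ideal.under, Ideal.mem_comap, ← hP]
    rfl
  have hμr : ∀ P : Ideal (D ⊗[A] C0),
      (P.comap μ.toRingHom).comap (Algebra.TensorProduct.includeRight (R := A) (A := A1) (B := C0)).toRingHom =
        P.comap (Algebra.TensorProduct.includeRight (R := A) (A := D) (B := C0)).toRingHom := by
    intro P
    ext c
    show μ ((1 : A1) ⊗ₜ c) ∈ P ↔ (1 : D) ⊗ₜ[A] c ∈ P
    simp [μ]
  let e2 := μ e
  have he2P : e2 ∉ P2 := by
    intro hmem
    refine heP' ?_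
    have h1 : P2.comap μ.toRingHom = P1 := hP1u _ inferInstance (hμcomap P2 hP2l) ((hμr P2).trans hP2r.symm)
    rw [hP1u P' inferInstance hP'1 hP'q, ← h1]
    exact hmem
  obtain ⟨et, het⟩ := hπ e2
  let S' := Localization.Away et
  let C := Localization.Away e2
  have hu : IsUnit (((algebraMap (D ⊗[A] C0) C).comp π.toRingHom) et) := by
    show IsUnit (algebraMap (D ⊗[A] C0) C (π et))
    rw [het]
    exact IsLocalization.Away.algebraMap_isUnit e2
  letI algSC : Algebra S' C := (IsLocalization.Away.lift (g := (algebraMap (D ⊗[A] C0) C).comp π.toRingHom) et hu).toAlgebra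
  have hfac : ∀ w, algebraMap S' C (algebraMap (D ⊗[A] S) S' w) = algebraMap (D ⊗[A] C0) C (π w) := fun w =>
    IsLocalization.Away.lift_eq et hu w
  haveI : IsScalarTower D S' C := IsScalarTower.of_algebraMap_eq fun d => by
    rw [IsScalarTower.algebraMap_apply D (D ⊗[A] S) S', hfac, π.commutes, ← IsScalarTower.algebraMap_apply]
  letI algSC0 : Algebra S (D ⊗[A] C0) :=
    ((algebraMap C0 (D ⊗[A] C0)).comp (algebraMap S C0)).toAlgebra
  haveI : IsScalarTower S C0 (D ⊗[A] C0) := IsScalarTower.of_algebraMap_eq fun _ => rfl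
  have hSC : ∀ s : S, algebraMap S' C (algebraMap S S' s) = algebraMap (D ⊗[A] C0) C (algebraMap S (D ⊗[A] C0) s) :=
    fun s => by
      rw [IsScalarTower.algebraMap_apply S (D ⊗[A] S) S', hfac]
      congr 1
  have hCsurj : Function.Surjective (algebraMap (D ⊗[A] C0) C) := by
    intro t
    obtain ⟨x, ⟨_, k, rfl⟩, rfl⟩ := IsLocalization.exists_mk'_eq (Submonoid.powers e2) t
    refine ⟨x * e2, ?_⟩
    rw [IsLocalization.eq_mk'_iff_mul_eq, ← map_mul, mul_assoc, ← pow_succ',
      (he.map μ).pow_succ_eq k, map_mul]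
    have h1 : algebraMap (D ⊗[A] C0) C e2 = 1 :=
      (IsIdempotentElem.iff_eq_one_of_isUnit (IsLocalization.Away.algebraMap_isUnit e2)).1 ((he.map μ).map (algebraMap (D ⊗[A] C0) C))
    rw [h1, mul_one]
  have hS'surj : Function.Surjective (algebraMap S' C) := fun t => by
    obtain ⟨w, rfl⟩ := hCsurj t
    obtain ⟨s, rfl⟩ := hπ w
    exact ⟨_, hfac s⟩
  haveI : Algebra.Etale S (D ⊗[A] S) := etale_right A D S
  haveI : Algebra.Etale C0 (D ⊗[A] C0) := etale_right A D C0
  haveI : Algebra.Etale (D ⊗[A] S) S' := Algebra.Etale.of_isLocalizationAway et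
  haveI : Algebra.Etale S S' := Algebra.Etale.comp S (D ⊗[A] S) S'
  haveI : Algebra.Etale (D ⊗[A] C0) C := Algebra.Etale.of_isLocalizationAway e2
  haveI : Algebra.FinitePresentation S C0 := Algebra.FinitePresentation.of_surjective (f := Algebra.ofId S C0) hsurj hker
  haveI : Algebra.FinitePresentation S (D ⊗[A] C0) := Algebra.FinitePresentation.trans S C0 (D ⊗[A] C0)
  haveI : Algebra.FinitePresentation S C := Algebra.FinitePresentation.trans S (D ⊗[A] C0) C
  haveI : IsScalarTower S S' C := IsScalarTower.of_algebraMap_eq fun s => by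
    rw [hSC, ← IsScalarTower.algebraMap_apply]
  have hfp : Algebra.FinitePresentation S' C := Algebra.FinitePresentation.of_restrict_scalars_finitePresentation S S' C
  have hDC : Module.Finite D C := by
    let ν : Localization.Away e →+* C :=
      IsLocalization.Away.lift (g := (algebraMap (D ⊗[A] C0) C).comp μ.toRingHom) e (IsLocalization.Away.algebraMap_isUnit e2)
    have hν : ∀ w, ν (algebraMap _ _ w) = algebraMap (D ⊗[A] C0) C (μ w) := fun w => IsLocalization.Away.lift_eq e _ w
    obtain ⟨s, hs⟩ := hfin.fg_top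
    refine ⟨⟨s.image ν, eq_top_iff.2 fun t _ => ?_⟩⟩
    have hin : ∀ u : Localization.Away e, ν u ∈ Submodule.span D ((s.image ν : Finset C) : Set C) := fun u => by
      have : u ∈ Submodule.span A1 (s : Set (Localization.Away e)) := hs ▸ Submodule.mem_top
      induction this using Submodule.span_induction with
      | mem x hx => exact Submodule.subset_span (Finset.mem_coe.2 (Finset.mem_image_of_mem ν hx))
      | zero => rw [map_zero]; exact zero_mem _
      | add x y _ _ hx hy => rw [map_add]; exact add_mem hx hy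
      | smul a x _ hx =>
        rw [Algebra.smul_def, map_mul, IsScalarTower.algebraMap_apply A1 (A1 ⊗[A] C0) (Localization.Away e), hν,
          show μ (algebraMap A1 (A1 ⊗[A] C0) a) = algebraMap D (D ⊗[A] C0) (algebraMap A1 D a) from hμl a,
          ← IsScalarTower.algebraMap_apply, ← Algebra.smul_def]
        exact Submodule.smul_mem _ _ hx
    obtain ⟨w, rfl⟩ := hCsurj t
    induction w using TensorProduct.induction_on with
    | zero => rw [map_zero]; exact zero_mem _
    | add a b ha hb => rw [map_add]; exact add_mem (ha trivial) (hb trivial)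
    | tmul d c =>
      rw [show d ⊗ₜ[A] c = algebraMap D (D ⊗[A] C0) d * μ ((1 : A1) ⊗ₜ c) by
        simp [μ, Algebra.TensorProduct.algebraMap_apply], map_mul, ← IsScalarTower.algebraMap_apply, ← hν, ← Algebra.smul_def]
      exact Submodule.smul_mem _ _ (hin _)
  have hd : Disjoint (Submonoid.powers e2 : Set (D ⊗[A] C0)) P2 :=
    (Ideal.disjoint_powers_iff_notMem e2 hP2.isRadical).2 he2P
  let z : Ideal C := P2.map (algebraMap (D ⊗[A] C0) C)
  haveI hzp : z.IsPrime := IsLocalization.isPrime_of_isPrime_disjoint (Submonoid.powers e2) C P2 hP2 hd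
  have hzc : z.comap (algebraMap (D ⊗[A] C0) C) = P2 :=
    IsLocalization.comap_map_of_isPrime_disjoint (Submonoid.powers e2) C hP2 hd
  have hzD : z.comap (algebraMap D C) = yD := by
    rw [IsScalarTower.algebraMap_eq D (D ⊗[A] C0) C, ← Ideal.comap_comap, hzc]
    exact hP2l
  refine ⟨S', C, inferInstance, inferInstance, inferInstance, inferInstance, algSC, inferInstance, inferInstance, z, hzp,
    fun a => ?_, ?_, hS'surj, hfp, hDC, hzD, fun z₁ hz₁ hz₁D => ?_, fun x hx => ?_⟩
  · rw [IsScalarTower.algebraMap_apply D (D ⊗[A] S) S', IsScalarTower.algebraMap_apply S (D ⊗[A] S) S']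
    exact congrArg _ (Algebra.TensorProduct.includeRight.commutes a).symm
  · refine ⟨inferInstance, ?_⟩
    have hqz : q = (z.comap (algebraMap S' C)).comap (algebraMap S S') := by
      rw [Ideal.comap_comap, ← IsScalarTower.algebraMap_eq, IsScalarTower.algebraMap_eq S (D ⊗[A] C0) C, ← Ideal.comap_comap,
        hzc, IsScalarTower.algebraMap_eq S C0 (D ⊗[A] C0), ← Ideal.comap_comap, ← hq]
      exact congrArg (Ideal.comap (algebraMap S C0)) hP2r
    refine ⟨⟨hqz⟩, RingHom.injective _, ?_⟩
    have hSz : Function.Surjective (Ideal.ResidueField.map q z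
        ((algebraMap (D ⊗[A] C0) C).comp ((algebraMap C0 (D ⊗[A] C0)).comp (algebraMap S C0)))
        (by rw [← Ideal.comap_comap, hzc, ← Ideal.comap_comap, ← hq]; exact congrArg _ hP2r)) := by
      refine surjective_residueMap_comp _ _ q P2 z ?_ hzc.symm _ ?_ ?_
      · rw [← Ideal.comap_comap, ← hq]; exact congrArg _ hP2r
      · exact surjective_residueMap_comp _ _ q q0 P2 hq.symm hP2r _ (surjective_residueMap_of_surjective _ hsurj q q0 hq.symm) hP2b.2
      · exact surjective_residueMap_of_surjective _ hCsurj P2 z hzc.symm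
    refine surjective_residueMap_of_comp (algebraMap S S') (algebraMap S' C) q _ z hqz rfl ?_ ?_
    · rw [← Ideal.comap_comap]; exact hqz
    · convert hSz using 3
      refine RingHom.ext fun s => ?_
      exact hSC s
  · have h1 : z₁.comap (algebraMap (D ⊗[A] C0) C) = P2 := by
      have hl : (z₁.comap (algebraMap (D ⊗[A] C0) C)).comap Algebra.TensorProduct.includeLeftRingHom = yD := by
        rw [← hz₁D, IsScalarTower.algebraMap_eq D (D ⊗[A] C0) C, ← Ideal.comap_comap]
        rfl
      refine hP2u _ inferInstance hl ?_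
      rw [← hμr, huniq _ inferInstance (hμcomap _ hl) fun hmem => ?_]
      · exact hP'q
      · exact hz₁.ne_top (Ideal.eq_top_of_isUnit_mem _ hmem (IsLocalization.Away.algebraMap_isUnit e2))
    show z₁ = P2.map (algebraMap (D ⊗[A] C0) C)
    rw [← h1, IsLocalization.map_comap (Submonoid.powers e2) C]
  · obtain ⟨w, ⟨_, k, rfl⟩, rfl⟩ := IsLocalization.exists_mk'_eq (Submonoid.powers et) x
    have h0 : algebraMap (D ⊗[A] C0) C (π w) = 0 := by
      rw [← hfac, ← IsLocalization.mk'_spec S' w (⟨et ^ k, k, rfl⟩ : Submonoid.powers et), map_mul, RingHom.mem_ker.1 hx, zero_mul]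
    obtain ⟨⟨_, m, rfl⟩, hm⟩ := (IsLocalization.map_eq_zero_iff (Submonoid.powers e2) C _).1 h0
    have hw : et ^ m * w ∈ RingHom.ker π := by
      rw [RingHom.mem_ker, map_mul, map_pow, het]; exact hm
    have hker' : et ^ m * w ∈ (RingHom.ker (IsScalarTower.toAlgHom A S C0)).map
        (Algebra.TensorProduct.includeRight (R := A) (A := D) (B := S)) := by
      rw [← Algebra.TensorProduct.lTensor_ker (A := D) (IsScalarTower.toAlgHom A S C0) hsurj, RingHom.mem_ker]
      have hπ' : π.restrictScalars A = Algebra.TensorProduct.map (AlgHom.id A D) (IsScalarTower.toAlgHom A S C0) :=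
        Algebra.TensorProduct.ext' fun d c => by simp [π]
      rw [← hπ']
      exact hw
    replace hw : et ^ m * w ∈ (RingHom.ker (algebraMap S C0)).map
        (Algebra.TensorProduct.includeRight (R := A) (A := D) (B := S)).toRingHom := hker'
    have hw' := Ideal.mem_map_of_mem (algebraMap (D ⊗[A] S) S') hw
    rw [Ideal.map_map, map_mul, map_pow, Ideal.unit_mul_mem_iff_mem _ ((IsLocalization.Away.algebraMap_isUnit et).pow m)] at hw'
    rw [IsLocalization.mk'_eq_mul_mk'_one]
    exact Ideal.mul_mem_right _ _ hw'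

end Groth.Agent.H4RG
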