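import Groth.Agent.H4RG.QFPoly
import Mathlib

/-! A map to affine space, quasi-finite at a point, whose image has purely transcendental residue field. -/

set_option autoImplicit false
set_option linter.style.haveILetI false
set_option backward.isDefEq.respectTransparency.types false

universe u

open TensorProduct

namespace Groth.Agent.H4RG

/-- In a noetherian spectrum a point that is both minimal and maximal is open. -/
theorem isOpen_singleton_of_isMin_isMax {F : Type u} [CommRing F] [IsNoetherianRing F] (x : PrimeSpectrum F)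
    (hmin : ∀ P : PrimeSpectrum F, P.asIdeal ≤ x.asIdeal → P = x)
    (hmax : ∀ P : PrimeSpectrum F, x.asIdeal ≤ P.asIdeal → P = x) : IsOpen ({x} : Set (PrimeSpectrum F)) := by
  have hfin : {P : Ideal F | P ∈ minimalPrimes F ∧ P ≠ x.asIdeal}.Finite :=
    (minimalPrimes.finite_of_isNoetherianRing _).subset fun P hP => hP.1
  have he : ({x} : Set (PrimeSpectrum F)) =
      (⋃ P ∈ {P : Ideal F | P ∈ minimalPrimes F ∧ P ≠ x.asIdeal}, PrimeSpectrum.zeroLocus (P : Set F))ᶜ := by
    refine Set.ext fun y => ⟨?_, fun hy => ?_⟩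
    · rintro rfl
      simp only [Set.mem_compl_iff, Set.mem_iUnion, not_exists]
      rintro P ⟨hP, hne⟩ hle
      haveI := hP.1.1
      exact hne (congrArg PrimeSpectrum.asIdeal (hmin ⟨P, hP.1.1⟩ hle))
    · obtain ⟨P, hP, hPy⟩ := Ideal.exists_minimalPrimes_le (bot_le : (⊥ : Ideal F) ≤ y.asIdeal)
      by_cases hPx : P = x.asIdeal
      · exact hmax y (hPx ▸ hPy)
      · exact absurd (Set.mem_iUnion₂.2 ⟨P, ⟨hP, hPx⟩, hPy⟩) hy
  rw [he]
  exact (hfin.isClosed_biUnion fun P _ => PrimeSpectrum.isClosed_zeroLocus _).isOpen_compl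

/-- An algebraic nonzero value divides a nonzero value of the base, with cofactor from the source. -/
theorem exists_coeff_dvd {A C L : Type u} [CommRing A] [CommRing C] [Algebra A C] [Field L] (ψ : A →+* L) (y0 : Ideal A)
    (hy0 : RingHom.ker ψ = y0) [Algebra (A ⧸ y0) L] (hmap : ∀ P, algebraMap (A ⧸ y0) L (Ideal.Quotient.mk y0 P) = ψ P)
    (c : C) (χ : C →+* L) (hχ : ∀ P, χ (algebraMap A C P) = ψ P) (halg : IsAlgebraic (A ⧸ y0) (χ c)) (hne : χ c ≠ 0) :
    ∃ (m : C) (P : A), P ∉ y0 ∧ χ (algebraMap A C P) = χ m * χ c := by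
  obtain ⟨g, hg0, hg⟩ := halg.exists_nonzero_coeff_and_aeval_eq_zero (mem_nonZeroDivisors_of_ne_zero hne)
  choose lift hlift using fun i => Ideal.Quotient.mk_surjective (g.coeff i)
  refine ⟨-∑ i ∈ Finset.range g.natDegree, algebraMap A C (lift (i + 1)) * c ^ i, lift 0, fun h => hg0 ?_, ?_⟩
  · rw [← hlift 0, Ideal.Quotient.eq_zero_iff_mem.2 h]
  · rw [Polynomial.aeval_eq_sum_range, Finset.sum_range_succ'] at hg
    simp only [pow_zero, Algebra.smul_def, mul_one, ← hlift, hmap] at hg
    rw [map_neg, map_sum, neg_mul, Finset.sum_mul, hχ]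
    refine eq_neg_of_add_eq_zero_right ?_
    convert hg using 2
    refine Finset.sum_congr rfl fun i _ => ?_
    rw [map_mul, map_pow, hχ, mul_assoc, pow_succ]

/-- Algebra structures over a residue field are determined on the ring. -/
theorem algebra_residueField_ext {R : Type u} [CommRing R] (p : Ideal R) [p.IsPrime] (L : Type u) [CommRing L]
    (a b : Algebra p.ResidueField L)
    (h : ∀ c, (letI := a; algebraMap p.ResidueField L (algebraMap R p.ResidueField c)) =
      (letI := b; algebraMap p.ResidueField L (algebraMap R p.ResidueField c))) : a = b :=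
  Algebra.algebra_ext _ _ (RingHom.congr_fun (Ideal.ResidueField.ringHom_ext (I := p) (RingHom.ext h)))

variable {R C : Type u} [CommRing R] [CommRing C] [Algebra R C]

/-- The map with control of the images of the variables. -/
theorem exists_quasiFiniteAt_strong [Algebra.FiniteType R C] (p : Ideal R) [p.IsPrime]
    (q : Ideal C) [q.IsPrime] (x : PrimeSpectrum (p.Fiber C))
    (hx : x.asIdeal.comap (Algebra.TensorProduct.includeRight (R := R) (A := p.ResidueField) (B := C)).toRingHom = q)
    (n : ℕ) (hn : FlatMor.localDim (PrimeSpectrum (p.Fiber C)) x ≤ n) :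
    ∃ φ : MvPolynomial (Fin n) R →ₐ[R] C,
      (letI := φ.toRingHom.toAlgebra
      Algebra.QuasiFiniteAt (MvPolynomial (Fin n) R) q ∧
        ∃ _ : (q.comap φ.toRingHom).LiesOver p, FlatCA.PurelyTranscendental p (q.comap φ.toRingHom)) ∧
      ∃ r d : ℕ, r + d ≤ n ∧ Algebra.trdeg p.ResidueField x.asIdeal.ResidueField = r ∧ x.asIdeal.height = d ∧
        (∀ j : Fin n, r ≤ (j : ℕ) → φ (MvPolynomial.X j) ∈ q) ∧
        ∀ G : MvPolynomial {j : Fin n // (j : ℕ) < r} R,
          φ (MvPolynomial.rename Subtype.val G) ∈ q → ∀ m, G.coeff m ∈ p := by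
  classical
  obtain ⟨r, d, hrd, hr, hd⟩ := exists_basis_and_height (k := p.ResidueField) x n hn
  have hr' : Algebra.trdeg p.ResidueField x.asIdeal.ResidueField = r := by
    convert hr using 2
    · rfl
    · refine algebra_residueField_ext p x.asIdeal.ResidueField _ _ fun c => ?_
      rw [← IsScalarTower.algebraMap_apply R p.ResidueField x.asIdeal.ResidueField]
      exact (IsScalarTower.algebraMap_apply R p.ResidueField x.asIdeal.ResidueField c)
  obtain ⟨z, hz⟩ := exists_basis_from_algebra p x.asIdeal r hr'
  obtain ⟨u, huQ, humin⟩ := exists_parameters p x.asIdeal d hd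
  let ez : Fin r → Fin n := fun i => Fin.castLE hrd (Fin.castAdd d i)
  let eu : Fin d → Fin n := fun j => Fin.castLE hrd (Fin.natAdd r j)
  let b : Fin n → C := Function.extend (Fin.castLE hrd) (Fin.append z u) fun _ => 0
  have hbz : ∀ i, b (ez i) = z i := fun i => by
    rw [show ez i = Fin.castLE hrd (Fin.castAdd d i) from rfl]
    simp [b, (Fin.castLE_injective hrd).extend_apply, Fin.append_left]
  have hbu : ∀ j, b (eu j) = u j := fun j => by
    rw [show eu j = Fin.castLE hrd (Fin.natAdd r j) from rfl]
    simp [b, (Fin.castLE_injective hrd).extend_apply, Fin.append_right]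
  have hcases : ∀ j : Fin n, (∃ i, j = ez i) ∨ (1 : p.ResidueField) ⊗ₜ[R] b j ∈ x.asIdeal := fun j => by
    by_cases hj : ∃ m, Fin.castLE hrd m = j
    · obtain ⟨m, rfl⟩ := hj
      refine Fin.addCases (fun i => Or.inl ⟨i, rfl⟩) (fun i => Or.inr ?_) m
      rw [show b (Fin.castLE hrd (Fin.natAdd r i)) = u i from hbu i]
      exact huQ i
    · refine Or.inr ?_
      rw [show b j = 0 from Function.extend_apply' _ _ _ hj, TensorProduct.tmul_zero]
      exact zero_mem _
  let φ : MvPolynomial (Fin n) R →ₐ[R] C := MvPolynomial.aeval b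
  have hφX : ∀ j, φ (MvPolynomial.X j) = b j := fun j => MvPolynomial.aeval_X b j
  let L' := x.asIdeal.ResidueField
  have hextra : ∃ r d : ℕ, r + d ≤ n ∧ Algebra.trdeg p.ResidueField x.asIdeal.ResidueField = r ∧ x.asIdeal.height = d ∧
      (∀ j : Fin n, r ≤ (j : ℕ) → φ (MvPolynomial.X j) ∈ q) ∧
      ∀ G : MvPolynomial {j : Fin n // (j : ℕ) < r} R,
        φ (MvPolynomial.rename Subtype.val G) ∈ q → ∀ m, G.coeff m ∈ p := by
    refine ⟨r, d, hrd, hr', hd, fun j hj => ?_, fun G hG m => ?_⟩
    · rcases hcases j with ⟨i, rfl⟩ | h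
      · exact absurd hj (not_le.2 i.2)
      · rw [hφX, ← hx]
        exact h
    · let ι : {j : Fin n // (j : ℕ) < r} → Fin r := fun j => ⟨j.1, j.2⟩
      let zz : Fin r → L' := fun i => algebraMap (p.Fiber C) L' ((1 : p.ResidueField) ⊗ₜ[R] z i)
      let χ : C →+* L' := (algebraMap (p.Fiber C) L').comp
        (Algebra.TensorProduct.includeRight (R := R) (A := p.ResidueField) (B := C)).toRingHom
      have h0 : ∀ G : MvPolynomial {j : Fin n // (j : ℕ) < r} R, χ (φ (MvPolynomial.rename Subtype.val G)) =
          MvPolynomial.aeval (zz ∘ ι) (MvPolynomial.map (algebraMap R p.ResidueField) G) := by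
        intro G
        induction G using MvPolynomial.induction_on with
        | C c =>
          rw [MvPolynomial.rename_C, MvPolynomial.map_C, MvPolynomial.aeval_C, MvPolynomial.aeval_C]
          show algebraMap (p.Fiber C) L' (Algebra.TensorProduct.includeRight (R := R) (A := p.ResidueField) (algebraMap R C c)) = _
          rw [AlgHom.commutes, ← IsScalarTower.algebraMap_apply R (p.Fiber C) L',
            ← IsScalarTower.algebraMap_apply R p.ResidueField L']
        | add a b ha hb => simp only [map_add, ha, hb]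
        | mul_X a j ha =>
          simp only [map_mul, MvPolynomial.rename_X, MvPolynomial.map_X, MvPolynomial.aeval_X, ha, hφX]
          congr 1
          have e : j.1 = ez (ι j) := Fin.ext rfl
          rw [e, hbz]
          rfl
      have hind : AlgebraicIndependent p.ResidueField (zz ∘ ι) :=
        hz.1.comp ι fun a b (h : (⟨a.1, a.2⟩ : Fin r) = ⟨b.1, b.2⟩) =>
          Subtype.ext (Fin.ext (congrArg Fin.val h :))
      have h1 : MvPolynomial.map (algebraMap R p.ResidueField) G = 0 := by
        refine (algebraicIndependent_iff.1 hind) _ ?_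
        rw [← h0]
        show algebraMap (p.Fiber C) L' _ = 0
        rw [Ideal.algebraMap_residueField_eq_zero]
        exact hx.ge hG
      have := congrArg (MvPolynomial.coeff m) h1
      rwa [MvPolynomial.coeff_map, MvPolynomial.coeff_zero, Ideal.algebraMap_residueField_eq_zero] at this
  refine ⟨φ, ?_, hextra⟩
  letI : Algebra (MvPolynomial (Fin n) R) C := φ.toRingHom.toAlgebra
  haveI : IsScalarTower R (MvPolynomial (Fin n) R) C := IsScalarTower.of_algebraMap_eq fun c => (φ.commutes c).symm
  haveI : Algebra.FiniteType (MvPolynomial (Fin n) R) C := Algebra.FiniteType.of_restrictScalars_finiteType R _ _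
  let L := x.asIdeal.ResidueField
  let incl : C →+* p.Fiber C := (Algebra.TensorProduct.includeRight (R := R) (A := p.ResidueField) (B := C)).toRingHom
  let ψ : MvPolynomial (Fin n) R →+* L := (algebraMap (p.Fiber C) L).comp (incl.comp φ.toRingHom)
  let y0 : Ideal (MvPolynomial (Fin n) R) := q.comap φ.toRingHom
  have hy0 : RingHom.ker ψ = y0 := by
    ext P
    rw [RingHom.mem_ker, show ψ P = algebraMap (p.Fiber C) L (incl (φ P)) from rfl, Ideal.algebraMap_residueField_eq_zero,
      show y0 = q.comap φ.toRingHom from rfl, ← hx]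
    rfl
  have hxR : ∀ c : R, incl (algebraMap R C c) = algebraMap p.ResidueField (p.Fiber C) (algebraMap R p.ResidueField c) := by
    intro c
    show Algebra.TensorProduct.includeRight (R := R) (A := p.ResidueField) (algebraMap R C c) = _
    rw [AlgHom.commutes, ← IsScalarTower.algebraMap_apply]
  have hover : y0.LiesOver p := ⟨by
    ext c
    show c ∈ p ↔ φ (algebraMap R _ c) ∈ q
    rw [AlgHom.commutes, ← hx]
    show c ∈ p ↔ incl (algebraMap R C c) ∈ x.asIdeal
    rw [hxR, ← Ideal.mem_comap, Ideal.eq_bot_of_prime (x.asIdeal.comap (algebraMap p.ResidueField (p.Fiber C))),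
      Ideal.mem_bot, Ideal.algebraMap_residueField_eq_zero]⟩
  letI algKy : Algebra p.ResidueField y0.ResidueField :=
    (Ideal.ResidueField.mapₐ p y0 (Algebra.ofId R (MvPolynomial (Fin n) R)) hover.over).toRingHom.toAlgebra
  let lK : y0.ResidueField →+* L := Ideal.ResidueField.lift y0 ψ hy0.ge
    (fun P hP => IsUnit.mk0 _ fun h => hP (hy0.le h))
  have hlK : ∀ P, lK (algebraMap _ y0.ResidueField P) = ψ P := fun P =>
    Ideal.ResidueField.lift_algebraMap y0 ψ hy0.ge (fun P hP => IsUnit.mk0 _ fun h => hP (hy0.le h)) P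
  have hlkR : ∀ a : p.ResidueField, lK (algebraMap p.ResidueField y0.ResidueField a) =
      algebraMap (p.Fiber C) L (algebraMap p.ResidueField (p.Fiber C) a) := by
    refine RingHom.congr_fun (f := lK.comp (algebraMap p.ResidueField y0.ResidueField))
      (g := (algebraMap (p.Fiber C) L).comp (algebraMap p.ResidueField (p.Fiber C))) ?_
    ext c
    show lK (Ideal.ResidueField.mapₐ p y0 (Algebra.ofId R (MvPolynomial (Fin n) R)) hover.over (algebraMap R p.ResidueField c)) = _
    rw [AlgHom.commutes, IsScalarTower.algebraMap_apply R (MvPolynomial (Fin n) R) y0.ResidueField, hlK]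
    show algebraMap (p.Fiber C) L (incl (φ (algebraMap R _ c))) = _
    rw [AlgHom.commutes, hxR]
    rfl
  have hcomp : algebraMap p.ResidueField L = (algebraMap (p.Fiber C) L).comp (algebraMap p.ResidueField (p.Fiber C)) := by
    ext c
    show algebraMap p.ResidueField L (algebraMap R p.ResidueField c) =
      algebraMap (p.Fiber C) L (algebraMap p.ResidueField (p.Fiber C) (algebraMap R p.ResidueField c))
    rw [← IsScalarTower.algebraMap_apply R p.ResidueField x.asIdeal.ResidueField,
      ← IsScalarTower.algebraMap_apply R p.ResidueField (p.Fiber C),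
      ← IsScalarTower.algebraMap_apply R (p.Fiber C) x.asIdeal.ResidueField]
  let lA : y0.ResidueField →ₐ[p.ResidueField] L :=
    { lK with commutes' := fun a => (hlkR a).trans (RingHom.congr_fun hcomp a).symm }
  let xs : Fin r → y0.ResidueField := fun i => algebraMap (MvPolynomial (Fin n) R) y0.ResidueField (MvPolynomial.X (ez i))
  have hxs : ∀ i, lA (xs i) = algebraMap (p.Fiber C) L ((1 : p.ResidueField) ⊗ₜ[R] z i) := fun i => by
    show lK (xs i) = _
    rw [hlK]
    show algebraMap (p.Fiber C) L (incl (φ (MvPolynomial.X (ez i)))) = _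
    rw [hφX, hbz]
    rfl
  have hind : AlgebraicIndependent p.ResidueField xs :=
    AlgebraicIndependent.of_comp lA (by rw [show lA ∘ xs = _ from funext hxs]; exact hz.1)
  have hgen : ∀ P, algebraMap (MvPolynomial (Fin n) R) y0.ResidueField P ∈
      IntermediateField.adjoin p.ResidueField (Set.range xs) := fun P => by
    induction P using MvPolynomial.induction_on with
    | C c =>
      rw [show (MvPolynomial.C c : MvPolynomial (Fin n) R) = algebraMap R _ c from rfl,
        ← IsScalarTower.algebraMap_apply,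
        show algebraMap R y0.ResidueField c = algebraMap p.ResidueField y0.ResidueField (algebraMap R p.ResidueField c) from
          ((Ideal.ResidueField.mapₐ p y0 (Algebra.ofId R (MvPolynomial (Fin n) R)) hover.over).commutes c).symm]
      exact IntermediateField.algebraMap_mem _ _
    | add a b ha hb => rw [map_add]; exact add_mem ha hb
    | mul_X a j ha =>
      rw [map_mul]
      refine mul_mem ha ?_
      rcases hcases j with ⟨i, rfl⟩ | hj
      · exact IntermediateField.subset_adjoin _ _ ⟨i, rfl⟩
      · have h0 : algebraMap (MvPolynomial (Fin n) R) y0.ResidueField (MvPolynomial.X j) = 0 := by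
          refine (map_eq_zero_iff lK lK.injective).1 ?_
          rw [hlK]
          show algebraMap (p.Fiber C) L (incl (φ (MvPolynomial.X j))) = 0
          rw [hφX, Ideal.algebraMap_residueField_eq_zero]
          exact hj
        rw [h0]
        exact zero_mem _
  have hadj : IntermediateField.adjoin p.ResidueField (Set.range xs) = ⊤ := by
    refine eq_top_iff.2 fun a _ => ?_
    obtain ⟨P, Q, -, rfl⟩ := IsFractionRing.div_surjective (A := MvPolynomial (Fin n) R ⧸ y0) a
    obtain ⟨P, rfl⟩ := Ideal.Quotient.mk_surjective P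
    obtain ⟨Q, rfl⟩ := Ideal.Quotient.mk_surjective Q
    rw [Ideal.algebraMap_quotient_residueField_mk, Ideal.algebraMap_quotient_residueField_mk]
    exact div_mem (hgen P) (hgen Q)
  refine ⟨?_, hover, ULift.{u} (Fin r), fun i => xs i.down, ?_, ?_⟩
  rotate_left
  · rw [← isTranscendenceBasis_equiv Equiv.ulift.symm]
    show IsTranscendenceBasis p.ResidueField xs
    rw [hind.isTranscendenceBasis_iff_isAlgebraic]
    have h1 : Algebra.IsAlgebraic (IntermediateField.adjoin p.ResidueField (Set.range xs)) y0.ResidueField :=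
      ⟨fun a => by
        rw [show a = algebraMap (IntermediateField.adjoin p.ResidueField (Set.range xs)) y0.ResidueField
          ⟨a, hadj ▸ IntermediateField.mem_top⟩ from rfl]
        exact isAlgebraic_algebraMap _⟩
    exact ⟨fun a => IntermediateField.isAlgebraic_adjoin_iff.1 (h1.isAlgebraic a)⟩
  · rw [← hadj]
    congr 1
    exact Equiv.ulift.surjective.range_comp xs
  -- quasi-finiteness
  letI : Algebra y0.ResidueField L := lK.toAlgebra
  haveI : IsScalarTower p.ResidueField y0.ResidueField L := IsScalarTower.of_algebraMap_eq fun a => (lA.commutes a).symm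
  haveI : Algebra.IsAlgebraic y0.ResidueField L := by
    haveI := hz.isAlgebraic
    refine ⟨fun a => ?_⟩
    have hle : Algebra.adjoin p.ResidueField (Set.range fun i => algebraMap (p.Fiber C) L ((1 : p.ResidueField) ⊗ₜ[R] z i)) ≤
        (IsScalarTower.toAlgHom p.ResidueField y0.ResidueField L).range :=
      Algebra.adjoin_le (by rintro _ ⟨i, rfl⟩; exact ⟨xs i, hxs i⟩)
    obtain ⟨P, hP0, hP⟩ := Algebra.IsAlgebraic.isAlgebraic
      (R := Algebra.adjoin p.ResidueField (Set.range fun i => algebraMap (p.Fiber C) L ((1 : p.ResidueField) ⊗ₜ[R] z i))) a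
    choose g hg using fun c : Algebra.adjoin p.ResidueField
      (Set.range fun i => algebraMap (p.Fiber C) L ((1 : p.ResidueField) ⊗ₜ[R] z i)) => hle c.2
    have hf : ∃ P' : Polynomial y0.ResidueField, P'.map (algebraMap y0.ResidueField L) =
        P.map (algebraMap _ L) := by
      refine ⟨∑ i ∈ P.support, Polynomial.C (g (P.coeff i)) * Polynomial.X ^ i, ?_⟩
      conv_rhs => rw [P.as_sum_support_C_mul_X_pow]
      rw [Polynomial.map_sum, Polynomial.map_sum]
      refine Finset.sum_congr rfl fun i _ => ?_
      simp only [Polynomial.map_mul, Polynomial.map_C, Polynomial.map_pow, Polynomial.map_X]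
      rw [show algebraMap y0.ResidueField L (g (P.coeff i)) = (P.coeff i : L) from hg (P.coeff i)]
      rfl
    obtain ⟨P', hP'⟩ := hf
    refine ⟨P', fun h0 => hP0 ?_, ?_⟩
    · rw [h0, Polynomial.map_zero] at hP'
      exact Polynomial.map_injective _ Subtype.val_injective (hP'.symm.trans (Polynomial.map_zero _).symm)
    · rw [Polynomial.aeval_def, ← Polynomial.eval_map, hP', Polynomial.eval_map, ← Polynomial.aeval_def]
      exact hP
  have key : ∀ (Q' : Ideal C) [Q'.IsPrime], Q'.comap φ.toRingHom = y0 → (Q' ≤ q → Q' = q) ∧ (q ≤ Q' → Q' = q) := by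
    intro Q' _ hQ'
    have hQ'p : p = Q'.comap (algebraMap R C) := by
      have h := congrArg (Ideal.comap (algebraMap R (MvPolynomial (Fin n) R))) hQ'
      rw [Ideal.comap_comap, show φ.toRingHom.comp (algebraMap R (MvPolynomial (Fin n) R)) = algebraMap R C from
        φ.comp_algebraMap] at h
      exact hover.over.trans h.symm
    constructor
    · intro hle
      let e := PrimeSpectrum.preimageOrderIsoFiber R C ⟨p, inferInstance⟩
      let a : PrimeSpectrum.comap (algebraMap R C) ⁻¹' {(⟨p, inferInstance⟩ : PrimeSpectrum R)} :=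
        ⟨⟨Q', inferInstance⟩, PrimeSpectrum.ext hQ'p.symm⟩
      have hsymm : ∀ w, (e.symm w).1.asIdeal = w.asIdeal.comap incl := fun w => rfl
      have hQa : (e a).asIdeal.comap incl = Q' := by rw [← hsymm, OrderIso.symm_apply_apply]
      have hxa : e a ≤ x := by
        rw [← e.symm.le_iff_le, OrderIso.symm_apply_apply]
        show Q' ≤ (e.symm x).1.asIdeal
        rw [hsymm, hx]
        exact hle
      have hu : ∀ j, (1 : p.ResidueField) ⊗ₜ[R] u j ∈ (e a).asIdeal := fun j => by
        show incl (u j) ∈ (e a).asIdeal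
        rw [← Ideal.mem_comap, hQa, ← hbu, ← hφX]
        show MvPolynomial.X (eu j) ∈ Q'.comap φ.toRingHom
        refine hQ'.ge ?_
        show φ (MvPolynomial.X (eu j)) ∈ q
        rw [hφX, hbu, ← hx]
        exact huQ j
      rw [← hQa, humin _ (e a).2 hxa hu, hx]
    · intro hle
      refine le_antisymm (fun c hc => ?_) hle
      by_contra hcq
      have hne : algebraMap (p.Fiber C) L (incl c) ≠ 0 := by
        rw [Ne, Ideal.algebraMap_residueField_eq_zero]
        intro h
        exact hcq (hx ▸ h)
      letI : Algebra (MvPolynomial (Fin n) R ⧸ y0) L :=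
        ((algebraMap y0.ResidueField L).comp (algebraMap (MvPolynomial (Fin n) R ⧸ y0) y0.ResidueField)).toAlgebra
      haveI : IsScalarTower (MvPolynomial (Fin n) R ⧸ y0) y0.ResidueField L := IsScalarTower.of_algebraMap_eq fun _ => rfl
      haveI : Algebra.IsAlgebraic (MvPolynomial (Fin n) R ⧸ y0) L :=
        (IsFractionRing.comap_isAlgebraic_iff (K := y0.ResidueField)).2 inferInstance
      have halg := Algebra.IsAlgebraic.isAlgebraic (R := MvPolynomial (Fin n) R ⧸ y0) (algebraMap (p.Fiber C) L (incl c))
      obtain ⟨m, P, hP, hPeq⟩ := exists_coeff_dvd ψ y0 hy0 (fun P => (hlK P).symm ▸ rfl) c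
        ((algebraMap (p.Fiber C) L).comp incl) (fun P => rfl) halg hne
      have h1 : φ P - m * c ∈ q := by
        rw [← hx, Ideal.mem_comap, ← Ideal.algebraMap_residueField_eq_zero]
        show algebraMap (p.Fiber C) L (incl (φ P - m * c)) = 0
        rw [map_sub, map_sub, map_mul, map_mul, sub_eq_zero]
        exact hPeq
      have h2 : φ P ∈ Q' := by
        rw [← sub_add_cancel (φ P) (m * c)]
        exact add_mem (hle h1) (Q'.mul_mem_left m hc)
      exact hP (hQ'.le h2)
  rw [Algebra.quasiFiniteAt_iff_isOpen_singleton_fiber (⟨q, inferInstance⟩ : PrimeSpectrum C)]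
  let y : PrimeSpectrum (MvPolynomial (Fin n) R) := PrimeSpectrum.comap (algebraMap (MvPolynomial (Fin n) R) C) ⟨q, inferInstance⟩
  let e := PrimeSpectrum.preimageHomeomorphFiber (MvPolynomial (Fin n) R) C y
  let eo := PrimeSpectrum.preimageOrderIsoFiber (MvPolynomial (Fin n) R) C y
  haveI : IsNoetherianRing (y.asIdeal.Fiber C) := Algebra.FiniteType.isNoetherianRing y.asIdeal.ResidueField _
  rw [← e.isOpen_image, Set.image_singleton]
  refine isOpen_singleton_of_isMin_isMax _ (fun P hP => ?_) (fun P hP => ?_)
  all_goals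
    have hP' : (eo.symm P).1.asIdeal.comap φ.toRingHom = y0 := congrArg PrimeSpectrum.asIdeal (eo.symm P).2
    have hq : ∀ w, (eo.symm (e w)).1.asIdeal = w.1.asIdeal := fun w =>
      congrArg (fun t => t.1.asIdeal) (eo.symm_apply_apply w)
    apply eo.symm.injective
    refine Subtype.ext (PrimeSpectrum.ext ?_)
    rw [hq]
  · refine (key _ hP').1 (le_of_le_of_eq ?_ (hq ⟨⟨q, inferInstance⟩, rfl⟩))
    exact eo.symm.monotone hP
  · refine (key _ hP').2 (le_of_eq_of_le (hq ⟨⟨q, inferInstance⟩, rfl⟩).symm ?_)
    exact eo.symm.monotone hP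

/-- An extension by transcendence-basis values and zeros, quasi-finite at the point. -/
theorem exists_quasiFiniteAt_purelyTranscendental [Algebra.FiniteType R C] (p : Ideal R) [p.IsPrime]
    (q : Ideal C) [q.IsPrime] (x : PrimeSpectrum (p.Fiber C))
    (hx : x.asIdeal.comap (Algebra.TensorProduct.includeRight (R := R) (A := p.ResidueField) (B := C)).toRingHom = q)
    (n : ℕ) (hn : FlatMor.localDim (PrimeSpectrum (p.Fiber C)) x ≤ n) :
    ∃ φ : MvPolynomial (Fin n) R →ₐ[R] C,
      letI := φ.toRingHom.toAlgebra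
      Algebra.QuasiFiniteAt (MvPolynomial (Fin n) R) q ∧
        ∃ _ : (q.comap φ.toRingHom).LiesOver p, FlatCA.PurelyTranscendental p (q.comap φ.toRingHom) := by
  obtain ⟨φ, h, -⟩ := exists_quasiFiniteAt_strong p q x hx n hn
  exact ⟨φ, h⟩

end Groth.Agent.H4RG
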