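import Groth.Prelude
import Groth.Agent.H4RG.QFPoint
import Groth.Agent.H4RG.FiniteChart
import Groth.Agent.FlatLoc6.Supp
import Groth.Agent.FibDim.Top
import Mathlib

/-! Elementary devissages exist. -/

set_option autoImplicit false
set_option linter.style.haveILetI false
set_option backward.isDefEq.respectTransparency.types false

universe u

open TensorProduct

namespace Groth.Agent.H4RG

section support

attribute [local instance] Algebra.TensorProduct.rightAlgebra

variable {R S : Type u} [CommRing R] [CommRing S] [Algebra R S] [Algebra.FiniteType R S]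
  (N : Type u) [AddCommGroup N] [Module S N] [Module.Finite S N]

/-- The support of a fibre module is cut out by finitely many elements of the annihilator. -/
theorem exists_annihilator_model (p : Ideal R) [p.IsPrime] (q : Ideal S) [q.IsPrime] [hqp : q.LiesOver p] (n : ℕ)
    (x : PrimeSpectrum (p.Fiber S)) (hxq : x.asIdeal = FlatCA.fiberIdeal p q)
    (hx : x ∈ Module.support (p.Fiber S) (FlatCA.fiberMod p S N))
    (hn : FlatMor.localDim (Module.support (p.Fiber S) (FlatCA.fiberMod p S N)) ⟨x, hx⟩ = n) :
    ∃ I : Ideal S, I.FG ∧ I ≤ Module.annihilator S N ∧ ∃ x0 : PrimeSpectrum (p.Fiber (S ⧸ I)),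
      (x0.asIdeal.comap (Algebra.TensorProduct.includeRight (R := R) (A := p.ResidueField) (B := S ⧸ I)).toRingHom).comap
        (Ideal.Quotient.mk I) = q ∧ FlatMor.localDim (PrimeSpectrum (p.Fiber (S ⧸ I))) x0 = n := by
  classical
  let incl : S →+* p.Fiber S := (Algebra.TensorProduct.includeRight (R := R) (A := p.ResidueField) (B := S)).toRingHom
  let J := Module.annihilator S N
  haveI : IsNoetherianRing (p.Fiber S) := Algebra.FiniteType.isNoetherianRing p.ResidueField _
  obtain ⟨t, htsub, htspan⟩ := (Submodule.fg_span_iff_fg_span_finset_subset (incl '' (J : Set S))).1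
    (IsNoetherian.noetherian (Ideal.map incl J))
  obtain ⟨t', ht'J, rfl⟩ := Finset.subset_set_image_iff.1 htsub
  refine ⟨Ideal.span (t' : Set S), ⟨t', rfl⟩, Ideal.span_le.2 ht'J, ?_⟩
  set I : Ideal S := Ideal.span (t' : Set S) with hI
  have hmap : I.map incl = J.map incl := by
    rw [hI, Ideal.map_span]
    refine Eq.trans ?_ htspan.symm
    rw [Finset.coe_image]
  let π : p.Fiber S →ₐ[p.ResidueField] p.Fiber (S ⧸ I) :=
    Algebra.TensorProduct.map (AlgHom.id p.ResidueField p.ResidueField) (Ideal.Quotient.mkₐ R I)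
  have hπ : Function.Surjective π := fun w => by
    induction w using TensorProduct.induction_on with
    | zero => exact ⟨0, map_zero π⟩
    | add a b ha hb =>
      obtain ⟨a, rfl⟩ := ha
      obtain ⟨b, rfl⟩ := hb
      exact ⟨a + b, map_add π a b⟩
    | tmul d c =>
      obtain ⟨s, rfl⟩ := Ideal.Quotient.mk_surjective c
      exact ⟨d ⊗ₜ s, by simp [π]⟩
  have hker : RingHom.ker π.toRingHom = I.map incl := by
    have h := Algebra.TensorProduct.lTensor_ker (A := p.ResidueField) (Ideal.Quotient.mkₐ R I) (Ideal.Quotient.mkₐ_surjective R I)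
    have e : π.restrictScalars R = Algebra.TensorProduct.map (AlgHom.id R p.ResidueField) (Ideal.Quotient.mkₐ R I) :=
      Algebra.TensorProduct.ext' fun d c => by simp [π]
    rw [← e, show RingHom.ker (Ideal.Quotient.mkₐ R I) = I from Ideal.mk_ker] at h
    exact h
  have hsupp : Module.support (p.Fiber S) (FlatCA.fiberMod p S N) = Set.range (PrimeSpectrum.comap π.toRingHom) := by
    rw [range_comap_of_surjective _ _ hπ, hker, hmap]
    ext P
    show P ∈ Module.support (p.Fiber S) ((p.Fiber S) ⊗[S] N) ↔ _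
    rw [Groth.Agent.FlatLoc6.mem_support_tensor_iff, PrimeSpectrum.mem_zeroLocus, SetLike.coe_subset_coe, Ideal.map_le_iff_le_comap]
    constructor
    · rintro ⟨-, h⟩
      exact (Module.mem_support_iff_of_finite.1 h)
    · intro h
      refine ⟨?_, Module.mem_support_iff_of_finite.2 h⟩
      rw [Module.support_eq_zeroLocus, PrimeSpectrum.mem_zeroLocus]
      intro a ha
      have h1 := Module.mem_annihilator.1 ha 1
      rw [smul_eq_mul, mul_one] at h1
      rw [h1]
      exact zero_mem _
  let e : PrimeSpectrum (p.Fiber (S ⧸ I)) ≃ₜ ↥(Module.support (p.Fiber S) (FlatCA.fiberMod p S N)) :=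
    (PrimeSpectrum.isClosedEmbedding_comap_of_surjective _ _ hπ).isEmbedding.toHomeomorph.trans
      (Homeomorph.setCongr hsupp.symm)
  refine ⟨e.symm ⟨x, hx⟩, ?_, ?_⟩
  · have hval : PrimeSpectrum.comap π.toRingHom (e.symm ⟨x, hx⟩) = x :=
      congrArg Subtype.val (e.apply_symm_apply ⟨x, hx⟩)
    have hxq' : x.asIdeal.comap incl = q := by
      let ep := PrimeSpectrum.preimageHomeomorphFiber R S ⟨p, inferInstance⟩
      let Q := ep ⟨⟨q, inferInstance⟩, PrimeSpectrum.ext hqp.over.symm⟩
      have hQ : Q.asIdeal.comap incl = q := congrArg (fun z => z.1.asIdeal) (ep.symm_apply_apply _)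
      refine le_antisymm ?_ (hxq ▸ Ideal.le_comap_map)
      calc x.asIdeal.comap incl ≤ Q.asIdeal.comap incl := Ideal.comap_mono (by
            rw [hxq, show FlatCA.fiberIdeal p q = q.map incl from rfl, Ideal.map_le_iff_le_comap, hQ])
        _ = q := hQ
    have hval' := congrArg (fun P : PrimeSpectrum (p.Fiber S) => P.asIdeal.comap incl) hval
    refine Eq.trans ?_ (hval'.trans hxq')
    ext s
    simp [π, incl, Ideal.mem_comap]
  · rw [← hn]
    exact (FibDim.localDim_homeomorph e.symm ⟨x, hx⟩)

end support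

/-- A polynomial algebra is standard smooth of relative dimension the number of variables. -/
theorem isStandardSmoothOfRelativeDimension_mvPolynomial (R : Type u) [CommRing R] (σ : Type) [Finite σ] :
    Algebra.IsStandardSmoothOfRelativeDimension (Nat.card σ) R (MvPolynomial σ R) := by
  let v : PEmpty.{1} → MvPolynomial σ R := PEmpty.elim
  let P₀ := Algebra.PreSubmersivePresentation.naive (v := v) PEmpty.elim (fun x => x.elim)
  let P : Algebra.SubmersivePresentation R (MvPolynomial σ R ⧸ Ideal.span (Set.range v)) σ PEmpty.{1} :=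
    ⟨P₀, by rw [Algebra.PreSubmersivePresentation.jacobian_eq_jacobiMatrix_det, Matrix.det_isEmpty, map_one]; exact isUnit_one⟩
  haveI : Algebra.IsStandardSmoothOfRelativeDimension (Nat.card σ) R (MvPolynomial σ R ⧸ Ideal.span (Set.range v)) :=
    P.isStandardSmoothOfRelativeDimension (by simp [Algebra.Presentation.dimension])
  have h : Ideal.span (Set.range v) = ⊥ := by rw [Set.range_eq_empty, Ideal.span_empty]
  exact Algebra.IsStandardSmoothOfRelativeDimension.of_algEquiv _
    ((Ideal.quotientEquivAlgOfEq R h).trans (AlgEquiv.quotientBot R (MvPolynomial σ R)))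

/-- Affine space is smooth of its dimension. -/
theorem smoothRelDim_mvPolynomial (R : Type u) [CommRing R] (n : ℕ) :
    FlatCA.SmoothRelDim n R (MvPolynomial (Fin n) R) := by
  refine (AlgebraicGeometry.HasRingHomProperty.Spec_iff (P := @AlgebraicGeometry.SmoothOfRelativeDimension n)).2 ?_
  refine RingHom.locally_of RingHom.isStandardSmoothOfRelativeDimension_respectsIso _ ?_
  rw [CommRingCat.hom_ofHom, RingHom.isStandardSmoothOfRelativeDimension_algebraMap]
  simpa using isStandardSmoothOfRelativeDimension_mvPolynomial R (Fin n)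

/-- An etale algebra over a smooth one has the same relative dimension. -/
theorem smoothRelDim_of_etale {R A B : Type u} [CommRing R] [CommRing A] [CommRing B] [Algebra R A] [Algebra A B]
    [Algebra R B] [IsScalarTower R A B] [Algebra.Etale A B] (n : ℕ) (h : FlatCA.SmoothRelDim n R A) :
    FlatCA.SmoothRelDim n R B := by
  haveI : AlgebraicGeometry.Etale (AlgebraicGeometry.Spec.map (CommRingCat.ofHom (algebraMap A B))) :=
    AlgebraicGeometry.HasRingHomProperty.Spec_iff.2 (RingHom.etale_algebraMap.2 inferInstance)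
  haveI : AlgebraicGeometry.SmoothOfRelativeDimension 0 (AlgebraicGeometry.Spec.map (CommRingCat.ofHom (algebraMap A B))) :=
    inferInstance
  haveI : AlgebraicGeometry.SmoothOfRelativeDimension n (AlgebraicGeometry.Spec.map (CommRingCat.ofHom (algebraMap R A))) := h
  show AlgebraicGeometry.SmoothOfRelativeDimension n _
  have := AlgebraicGeometry.smoothOfRelativeDimension_comp (n := 0) (m := n)
    (AlgebraicGeometry.Spec.map (CommRingCat.ofHom (algebraMap A B))) (AlgebraicGeometry.Spec.map (CommRingCat.ofHom (algebraMap R A)))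
  rw [zero_add, ← AlgebraicGeometry.Spec.map_comp, ← CommRingCat.ofHom_comp, ← IsScalarTower.algebraMap_eq] at this
  exact this

/-- The assembled devissage. -/
theorem nonempty_elemDevissage_of_data {R S : Type u} [CommRing R] [CommRing S] [Algebra R S]
    (N : Type u) [AddCommGroup N] [Module S N] [Module.Finite S N] (p : Ideal R) [p.IsPrime] (q : Ideal S) [q.IsPrime] (n : ℕ)
    (R' S' C D : Type u) [CommRing R'] [CommRing S'] [CommRing C] [CommRing D] [Algebra R R'] [Algebra S S'] [Algebra R' D]
    [Algebra D S'] [Algebra S' C] [Algebra D C] [IsScalarTower D S' C]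
    (hcompat : ∀ r : R, algebraMap D S' (algebraMap R' D (algebraMap R R' r)) = algebraMap S S' (algebraMap R S r))
    (p' : Ideal R') [p'.IsPrime] (y : Ideal D) [y.IsPrime] [hyp : y.LiesOver p'] (z : Ideal C) [z.IsPrime]
    (hR : FlatCA.IsEtaleNhd R R' p p') (hS : FlatCA.IsEtaleNhd S S' q (z.comap (algebraMap S' C)))
    (hsurj : Function.Surjective (algebraMap S' C)) (hfp : Algebra.FinitePresentation S' C) (hfin : Module.Finite D C)
    (hzy : z.comap (algebraMap D C) = y) (huniq : ∀ z₁ : Ideal C, z₁.IsPrime → z₁.comap (algebraMap D C) = y → z₁ = z)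
    (I : Ideal S) (hI : I ≤ Module.annihilator S N) (hker : RingHom.ker (algebraMap S' C) ≤ I.map (algebraMap S S'))
    (hpt : FlatCA.PurelyTranscendental p' y) (hsm : FlatCA.SmoothRelDim n R' D) (hgi : FlatCA.GeomIntegralFibres R' D) :
    Nonempty (FlatCA.ElemDevissage R S N p q n) := by
  letI aR'S' : Algebra R' S' := ((algebraMap D S').comp (algebraMap R' D)).toAlgebra
  letI aRS' : Algebra R S' := ((algebraMap S S').comp (algebraMap R S)).toAlgebra
  haveI tRSS' : IsScalarTower R S S' := IsScalarTower.of_algebraMap_eq fun _ => rfl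
  haveI tRR'S' : IsScalarTower R R' S' := IsScalarTower.of_algebraMap_eq fun r => (hcompat r).symm
  letI aR'C : Algebra R' C := ((algebraMap D C).comp (algebraMap R' D)).toAlgebra
  haveI tR'DC : IsScalarTower R' D C := IsScalarTower.of_algebraMap_eq fun _ => rfl
  haveI tR'S'C : IsScalarTower R' S' C := IsScalarTower.of_algebraMap_eq fun r =>
    IsScalarTower.algebraMap_apply D S' C (algebraMap R' D r)
  have hkill : ∀ a ∈ RingHom.ker (algebraMap S' C), ∀ w : S' ⊗[S] N, a • w = 0 := by
    intro a ha w
    have ha' := hker ha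
    rw [Ideal.map] at ha'
    clear ha
    induction ha' using Submodule.span_induction with
    | mem t ht =>
      obtain ⟨s, hs, rfl⟩ := ht
      rw [algebraMap_smul]
      induction w using TensorProduct.induction_on with
      | zero => exact smul_zero _
      | add u v hu hv => rw [smul_add, hu, hv, add_zero]
      | tmul d m => rw [TensorProduct.smul_tmul', TensorProduct.smul_tmul, Module.mem_annihilator.1 (hI hs) m, TensorProduct.tmul_zero]
    | zero => exact zero_smul _ _
    | add u v _ _ hu hv => rw [add_smul, hu, hv, add_zero]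
    | smul u v _ hv => rw [smul_eq_mul, mul_smul, hv, smul_zero]
  have htor : Module.IsTorsionBySet S' (S' ⊗[S] N) (RingHom.ker (algebraMap S' C) : Set S') := fun w a => hkill a.1 a.2 w
  letI mq := htor.module
  letI mCG : Module C (S' ⊗[S] N) :=
    Module.compHom _ (RingHom.quotientKerEquivOfSurjective hsurj).symm.toRingHom
  haveI tS'CG : IsScalarTower S' C (S' ⊗[S] N) := IsScalarTower.of_algebraMap_smul fun a (w : S' ⊗[S] N) => by
    show (RingHom.quotientKerEquivOfSurjective hsurj).symm (algebraMap S' C a) • w = a • w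
    rw [show (RingHom.quotientKerEquivOfSurjective hsurj).symm (algebraMap S' C a) = Ideal.Quotient.mk _ a from
      (RingHom.quotientKerEquivOfSurjective hsurj).symm_apply_eq.2 rfl]
    exact htor.mk_smul a w
  haveI tDCG : IsScalarTower D C (S' ⊗[S] N) := IsScalarTower.of_algebraMap_smul fun a (w : S' ⊗[S] N) => by
    rw [IsScalarTower.algebraMap_apply D S' C, algebraMap_smul, algebraMap_smul]
  haveI tR'CG : IsScalarTower R' C (S' ⊗[S] N) := IsScalarTower.of_algebraMap_smul fun a (w : S' ⊗[S] N) => by
    rw [IsScalarTower.algebraMap_apply R' S' C, algebraMap_smul, algebraMap_smul]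
  haveI tR'DG : IsScalarTower R' D (S' ⊗[S] N) := IsScalarTower.of_algebraMap_smul fun a (w : S' ⊗[S] N) => by
    rw [← algebraMap_smul S' (algebraMap R' D a), ← algebraMap_smul S' a]
    rfl
  haveI : Module.Finite C (S' ⊗[S] N) := Module.Finite.of_restrictScalars_finite S' C _
  haveI hq'p : (z.comap (algebraMap S' C)).LiesOver p' := ⟨by
    rw [Ideal.under, Ideal.comap_comap, ← IsScalarTower.algebraMap_eq, IsScalarTower.algebraMap_eq R' D C, ← Ideal.comap_comap, hzy]
    exact hyp.over⟩
  exact ⟨{
    R' := R'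
    S' := S'
    C := C
    D := D
    N' := S' ⊗[S] N
    G := S' ⊗[S] N
    aR'S' := aR'S'
    aRS' := aRS'
    tRR'S' := tRR'S'
    tRSS' := tRSS'
    aR'C := aR'C
    tR'DC := tR'DC
    tR'S'C := tR'S'C
    mCG := mCG
    tS'CG := tS'CG
    tDCG := tDCG
    tR'CG := tR'CG
    tR'DG := tR'DG
    p' := p'
    q' := z.comap (algebraMap S' C)
    z := z
    y := y
    etaleR := hR
    etaleS := hS
    q'Over := hq'p
    f := TensorProduct.mk S S' N 1
    isBaseChange := TensorProduct.isBaseChange S N S'
    surjC := hsurj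
    fpC := hfp
    iso := LinearEquiv.refl S' _
    finiteDC := hfin
    finiteG := inferInstance
    zOver := ⟨rfl⟩
    zOverY := ⟨hzy.symm⟩
    yOver := hyp
    uniq := fun z₁ hz₁ h => huniq z₁ hz₁ h.over.symm
    pureTrans := hpt
    smooth := hsm
    geomInt := hgi }⟩

/-- Elementary devissages exist. -/
theorem nonempty_elemDevissage {R S : Type u} [CommRing R] [CommRing S] [Algebra R S] [Algebra.FiniteType R S]
    (N : Type u) [AddCommGroup N] [Module S N] [Module.Finite S N]
    (p : Ideal R) [p.IsPrime] (q : Ideal S) [q.IsPrime] [q.LiesOver p] (n : ℕ)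
    (x : PrimeSpectrum (p.Fiber S)) (hxq : x.asIdeal = FlatCA.fiberIdeal p q)
    (hx : x ∈ Module.support (p.Fiber S) (FlatCA.fiberMod p S N))
    (hn : FlatMor.localDim (Module.support (p.Fiber S) (FlatCA.fiberMod p S N)) ⟨x, hx⟩ = n) :
    Nonempty (FlatCA.ElemDevissage R S N p q n) := by
  classical
  obtain ⟨I, hIfg, hIann, x0, hx0q, hx0n⟩ := exists_annihilator_model N p q n x hxq hx hn
  let q0 : Ideal (S ⧸ I) :=
    x0.asIdeal.comap (Algebra.TensorProduct.includeRight (R := R) (A := p.ResidueField) (B := S ⧸ I)).toRingHom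
  haveI : q0.IsPrime := Ideal.comap_isPrime _ _
  obtain ⟨φ, hqf, hover, hpt⟩ := exists_quasiFiniteAt_purelyTranscendental p q0 x0 rfl n hx0n.le
  let A := MvPolynomial (Fin n) R
  obtain ⟨φ', rfl⟩ : ∃ φ' : A →ₐ[R] S, (Ideal.Quotient.mkₐ R I).comp φ' = φ := by
    choose b hb using fun i : Fin n => Ideal.Quotient.mk_surjective (φ (MvPolynomial.X i))
    exact ⟨MvPolynomial.aeval b, MvPolynomial.algHom_ext fun i => by simp [hb]⟩
  letI : Algebra A S := φ'.toRingHom.toAlgebra
  haveI : IsScalarTower R A S := IsScalarTower.of_algebraMap_eq fun r => (φ'.commutes r).symm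
  have halg : ((Ideal.Quotient.mkₐ R I).comp φ').toRingHom.toAlgebra = (inferInstance : Algebra A (S ⧸ I)) :=
    Algebra.algebra_ext _ _ fun a => rfl
  rw [halg] at hqf
  haveI : Algebra.QuasiFiniteAt A q0 := hqf
  haveI : Algebra.FiniteType A (S ⧸ I) := Algebra.FiniteType.of_restrictScalars_finiteType R A _
  haveI : (q0.under A).LiesOver p := hover
  obtain ⟨A1, _, _, hA1, y1, hy1, hy1o, e, he, P', hP', hP'1, hP'q, heP', hb1, hfin, huniq⟩ :=
    Algebra.exists_etale_isIdempotentElem_forall_liesOver_eq (q0.under A) q0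
  letI : Algebra R A1 := ((algebraMap A A1).comp (algebraMap R A)).toAlgebra
  haveI : IsScalarTower R A A1 := IsScalarTower.of_algebraMap_eq fun _ => rfl
  haveI : y1.LiesOver p := Ideal.LiesOver.trans y1 (q0.under A) p
  haveI hpp : p.LiesOver p := ⟨(Ideal.comap_id p).symm⟩
  have hRR : Function.Bijective (Ideal.ResidueField.mapₐ p p (Algebra.ofId R R) (p.over_def p)) := by
    have : (Ideal.ResidueField.mapₐ p p (Algebra.ofId R R) (p.over_def p)).toRingHom = RingHom.id _ :=
      Ideal.ResidueField.ringHom_ext (RingHom.ext fun r => (Ideal.ResidueField.mapₐ p p (Algebra.ofId R R) (p.over_def p)).commutes r)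
    exact ⟨fun u v h => by simpa [this] using (show (Ideal.ResidueField.mapₐ p p (Algebra.ofId R R) (p.over_def p)).toRingHom u = _ from h),
      fun v => ⟨v, RingHom.congr_fun this v⟩⟩
  have hpt1 : FlatCA.PurelyTranscendental p y1 :=
    purelyTranscendental_transport (R := R) (R' := R) (A := A) (D := A1) p p (q0.under A) y1 ⟨p.over_def p⟩ hy1o hRR hb1 hpt
  obtain ⟨R', D, _, _, _, _, _, _, _, _, p', hp', yD, hyD, hyDp, hR, hA1D, hsm, hgi⟩ :=
    exists_geomIntegral_nhd n (smoothRelDim_of_etale n (smoothRelDim_mvPolynomial R n) (A := A) (B := A1)) p y1 hpt1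
  letI : Algebra A D := ((algebraMap A1 D).comp (algebraMap A A1)).toAlgebra
  haveI : IsScalarTower A A1 D := IsScalarTower.of_algebraMap_eq fun _ => rfl
  haveI : yD.LiesOver y1 := hA1D.2.choose
  have hAD : FlatCA.IsEtaleNhd A D (q0.under A) yD := isEtaleNhd_trans _ y1 _ ⟨hA1, hy1o, hb1⟩ hA1D
  haveI : Algebra.Etale A D := hAD.1
  obtain ⟨S', C, _, _, _, _, _, _, _, z, hz, hcompat, hS, hsurj, hfp, hDC, hzy, huz, hker⟩ :=
    exists_lifted_chart (A := A) (A1 := A1) (D := D) (S := S) (C0 := S ⧸ I) Ideal.Quotient.mk_surjective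
      (by rw [Ideal.Quotient.algebraMap_eq, Ideal.mk_ker]; exact hIfg) e he hfin (q0.under A) y1 yD ⟨hA1, hy1o, hb1⟩ hAD
      q0 P' hP'1.over.symm hP'q heP' (fun P'' h1 h2 h3 => huniq P'' h1 ⟨h2.symm⟩ h3) q hx0q
  refine nonempty_elemDevissage_of_data N p q n R' S' C D (fun r => ?_) p' yD z hR hS hsurj hfp hDC hzy huz I hIann ?_ ?_ hsm hgi
  · rw [← IsScalarTower.algebraMap_apply R R' D, IsScalarTower.algebraMap_apply R A1 D, IsScalarTower.algebraMap_apply R A A1,
      ← IsScalarTower.algebraMap_apply A A1 D, hcompat]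
    exact congrArg (algebraMap S S') (φ'.commutes r)
  · rw [Ideal.Quotient.algebraMap_eq, Ideal.mk_ker] at hker
    exact hker
  · exact purelyTranscendental_transport p p' y1 yD hR.2.choose hA1D.2.choose hR.2.choose_spec hA1D.2.choose_spec hpt1

end Groth.Agent.H4RG
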