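import Groth.Prelude
import Groth.Agent.H4RG.DevStep
import Groth.Agent.H4RG.GeomIntNhd
import Groth.Agent.H4RG.ElemDevExists
import Mathlib

/-! Standard shrinkings of a one-step devissage. -/

set_option autoImplicit false
set_option linter.style.haveILetI false
set_option backward.isDefEq.respectTransparency.types false

universe u

open TensorProduct Topology AlgebraicGeometry CategoryTheory

namespace Groth.Agent.H4RG

attribute [local instance] Algebra.TensorProduct.rightAlgebra

/-- Away from the only point over `y`, an element becomes invertible over a neighbourhood of `y`. -/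
theorem exists_inside {D C : Type u} [CommRing D] [CommRing C] [Algebra D C] [Algebra.IsIntegral D C] (y : Ideal D)
    [y.IsPrime] (z : Ideal C) (h3 : ∀ (z₁ : Ideal C) [z₁.IsPrime], z₁.LiesOver y → z₁ = z) (e : C) (he : e ∉ z) :
    ∃ b : D, b ∉ y ∧ algebraMap D C b ∈ (Ideal.span {e}).radical := by
  have hcl : IsClosed (PrimeSpectrum.comap (algebraMap D C) '' PrimeSpectrum.zeroLocus {e}) :=
    PrimeSpectrum.isClosedMap_comap_of_isIntegral _ (algebraMap_isIntegral_iff.2 inferInstance) _
      (PrimeSpectrum.isClosed_zeroLocus _)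
  have hy : (⟨y, inferInstance⟩ : PrimeSpectrum D) ∉ PrimeSpectrum.comap (algebraMap D C) '' PrimeSpectrum.zeroLocus {e} := by
    rintro ⟨Q, hQ, hQy⟩
    exact he (h3 Q.asIdeal ⟨(congrArg PrimeSpectrum.asIdeal hQy).symm⟩ ▸ hQ rfl)
  obtain ⟨-, ⟨b, rfl⟩, hyb, hb⟩ :=
    PrimeSpectrum.isTopologicalBasis_basic_opens.exists_subset_of_mem_open hy hcl.isOpen_compl
  refine ⟨b, hyb, ?_⟩
  rw [← PrimeSpectrum.vanishingIdeal_zeroLocus_eq_radical, PrimeSpectrum.mem_vanishingIdeal]
  intro Q hQ
  rw [PrimeSpectrum.zeroLocus_span] at hQ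
  by_contra hbQ
  exact hb (show PrimeSpectrum.comap (algebraMap D C) Q ∈ (PrimeSpectrum.basicOpen b : Set (PrimeSpectrum D)) from hbQ)
    ⟨Q, hQ, rfl⟩

/-- An element of the radical of a principal ideal becomes invertible only where the generator does. -/
theorem isUnit_of_mem_radical {C T : Type u} [CommRing C] [CommRing T] [Algebra C T] (a e : C)
    (h : a ∈ (Ideal.span {e}).radical) (ha : IsUnit (algebraMap C T a)) : IsUnit (algebraMap C T e) := by
  obtain ⟨k, hk⟩ := h
  obtain ⟨c, hc⟩ := Ideal.mem_span_singleton'.1 hk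
  exact isUnit_of_mul_isUnit_right (x := algebraMap C T c) (by rw [← map_mul, hc, map_pow]; exact ha.pow k)

/-- The points of the base near `p` all have a point of `D(b)` above them. -/
theorem exists_base_of_smooth {R D : Type u} [CommRing R] [CommRing D] [Algebra R D] [Algebra.Smooth R D]
    (p : Ideal R) [p.IsPrime] (y : Ideal D) [y.IsPrime] [hyp : y.LiesOver p] (b : D) (hb : b ∉ y) :
    ∃ g : R, g ∉ p ∧ ∀ P : PrimeSpectrum R, g ∉ P.asIdeal →
      ∃ Q : PrimeSpectrum D, b ∉ Q.asIdeal ∧ PrimeSpectrum.comap (algebraMap R D) Q = P := by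
  haveI : Module.Flat R D := Algebra.Smooth.flat R D
  have hopen := PrimeSpectrum.isOpenMap_comap_of_hasGoingDown_of_finitePresentation (R := R) (S := D) _
    (PrimeSpectrum.basicOpen b).2
  obtain ⟨-, ⟨g, rfl⟩, hpg, hg⟩ := PrimeSpectrum.isTopologicalBasis_basic_opens.exists_subset_of_mem_open
    (a := (⟨p, inferInstance⟩ : PrimeSpectrum R))
    (show (⟨p, inferInstance⟩ : PrimeSpectrum R) ∈ PrimeSpectrum.comap (algebraMap R D) '' (PrimeSpectrum.basicOpen b : Set (PrimeSpectrum D))
      from ⟨⟨y, inferInstance⟩, hb, PrimeSpectrum.ext hyp.over.symm⟩) hopen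
  exact ⟨g, hpg, fun P hP => hg hP⟩

section away

variable {R D R' D' : Type u} [CommRing R] [CommRing D] [CommRing R'] [CommRing D'] [Algebra R D] [Algebra R R']
  [Algebra D D'] [Algebra R' D'] [Algebra R D'] [IsScalarTower R D D'] [IsScalarTower R R' D']
  (g : R) [IsLocalization.Away g R'] (b : D) [IsLocalization.Away b D']

include g b

/-- An open piece over an open piece of the base keeps the relative dimension. -/
theorem smoothRelDim_away {n : ℕ} (h : FlatCA.SmoothRelDim n R D) : FlatCA.SmoothRelDim n R' D' := by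
  haveI : Algebra.Etale D D' := Algebra.Etale.of_isLocalizationAway b
  have h1 : FlatCA.SmoothRelDim n R D' := smoothRelDim_of_etale n h
  haveI : IsLocalization (Algebra.algebraMapSubmonoid D' (Submonoid.powers g)) D' := by
    refine IsLocalization.self fun x hx => ?_
    obtain ⟨-, ⟨k, rfl⟩, rfl⟩ := hx
    show IsUnit (algebraMap R D' (g ^ k))
    rw [map_pow, IsScalarTower.algebraMap_apply R R' D']
    exact ((IsLocalization.Away.algebraMap_isUnit g).map _).pow k
  haveI : Algebra.IsPushout R R' D' D' := (Algebra.isPushout_of_isLocalization (Submonoid.powers g) R' D' D').symm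
  exact smoothRelDim_baseChange (R := R) (X := D') h1

/-- An open piece meeting all the fibres keeps them geometrically irreducible. -/
theorem geomIrredFibres_away [Algebra.Smooth R D] (h : FlatCA.GeomIrredFibres R D)
    (hne : ∀ P : PrimeSpectrum R, g ∉ P.asIdeal →
      ∃ Q : PrimeSpectrum D, b ∉ Q.asIdeal ∧ PrimeSpectrum.comap (algebraMap R D) Q = P) :
    FlatCA.GeomIrredFibres R' D' := by
  haveI hi : IsOpenImmersion (Spec.map (CommRingCat.ofHom (algebraMap D D'))) := .of_isLocalization b
  haveI hm : IsOpenImmersion (Spec.map (CommRingCat.ofHom (algebraMap R R'))) := .of_isLocalization g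
  haveI : Smooth (Spec.map (CommRingCat.ofHom (algebraMap R D))) :=
    (HasRingHomProperty.Spec_iff (P := @Smooth)).2 (RingHom.smooth_algebraMap.2 ‹Algebra.Smooth R D›)
  haveI hc : GeometricallyConnected (Spec.map (CommRingCat.ofHom (algebraMap R D))) := by
    refine ⟨fun K _ x P fst snd sq => ?_⟩
    haveI := h.geometrically_irreducibleSpace _ _ _ sq
    infer_instance
  haveI : Surjective (Spec.map (CommRingCat.ofHom (algebraMap R' D'))) := by
    refine ⟨fun P => ?_⟩
    have hgP : g ∉ (PrimeSpectrum.comap (algebraMap R R') P).asIdeal := fun hgP =>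
      P.isPrime.ne_top (Ideal.eq_top_of_isUnit_mem _ hgP (IsLocalization.Away.algebraMap_isUnit g))
    obtain ⟨Q, hbQ, hQ⟩ := hne _ hgP
    obtain ⟨Q', rfl⟩ : Q ∈ Set.range (PrimeSpectrum.comap (algebraMap D D')) := by
      rw [PrimeSpectrum.localization_away_comap_range D' b]
      exact hbQ
    refine ⟨Q', ?_⟩
    apply hm.base_open.injective
    refine PrimeSpectrum.ext ?_
    show (Q'.asIdeal.comap (algebraMap R' D')).comap (algebraMap R R') = P.asIdeal.comap (algebraMap R R')
    rw [Ideal.comap_comap, ← IsScalarTower.algebraMap_eq, IsScalarTower.algebraMap_eq R D D', ← Ideal.comap_comap]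
    exact congrArg PrimeSpectrum.asIdeal hQ
  haveI := geometricallyIntegral_of_open_geomConnected (Spec.map (CommRingCat.ofHom (algebraMap R D)))
    (Spec.map (CommRingCat.ofHom (algebraMap D D'))) (Spec.map (CommRingCat.ofHom (algebraMap R' D')))
    (Spec.map (CommRingCat.ofHom (algebraMap R R'))) (by
      rw [← Spec.map_comp, ← Spec.map_comp, ← CommRingCat.ofHom_comp, ← CommRingCat.ofHom_comp,
        ← IsScalarTower.algebraMap_eq, ← IsScalarTower.algebraMap_eq])
  exact inferInstanceAs (GeometricallyIrreducible (Spec.map (CommRingCat.ofHom (algebraMap R' D'))))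

end away

/-- A module localised on the top of a pushout square is a base change along the bottom. -/
theorem isBaseChange_of_pushout {S S' C C' G G' : Type u} [CommRing S] [CommRing S'] [CommRing C] [CommRing C']
    [Algebra S S'] [Algebra S C] [Algebra S' C'] [Algebra C C'] [Algebra S C'] [IsScalarTower S S' C'] [IsScalarTower S C C']
    [Algebra.IsPushout S S' C C'] [AddCommGroup G] [Module S G] [Module C G] [IsScalarTower S C G]
    [AddCommGroup G'] [Module C' G'] [Module S' G'] [IsScalarTower S' C' G'] [Module C G'] [IsScalarTower C C' G']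
    [Module S G'] [IsScalarTower S C G'] [IsScalarTower S S' G']
    (g : G →ₗ[C] G') (hg : IsBaseChange C' g) : IsBaseChange S' (g.restrictScalars S) := by
  refine IsBaseChange.of_equiv
    ((Algebra.IsPushout.cancelBaseChange S S' C C' G).symm ≪≫ₗ hg.equiv.restrictScalars S') fun x => ?_
  simp [Algebra.IsPushout.cancelBaseChange_symm_tmul, hg.equiv_tmul]

/-- Localisation away from an element is the base change to any algebra in which only that element is inverted. -/
theorem isPushout_away {S S' C C' : Type u} [CommRing S] [CommRing S'] [CommRing C] [CommRing C']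
    [Algebra S S'] [Algebra S C] [Algebra S' C'] [Algebra C C'] [Algebra S C'] [IsScalarTower S S' C'] [IsScalarTower S C C']
    (s : S) [IsLocalization.Away s S'] [h : IsLocalization.Away (algebraMap S C s) C'] :
    Algebra.IsPushout S S' C C' := by
  haveI : IsLocalization (Algebra.algebraMapSubmonoid C (Submonoid.powers s)) C' := by
    rwa [Algebra.algebraMapSubmonoid, Submonoid.map_powers]
  exact (Algebra.isPushout_of_isLocalization (Submonoid.powers s) S' C C').symm

/-- The points of the shrunk fibre. -/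
theorem isOpenEmbedding_fib_away {R S R' S' : Type u} [CommRing R] [CommRing S] [CommRing R'] [CommRing S'] [Algebra R S] [Algebra R R']
    [Algebra R' S'] [Algebra R S'] [Algebra S S'] [IsScalarTower R R' S'] [IsScalarTower R S S']
    (g : R) [IsLocalization.Away g R'] (hX : S) [IsLocalization.Away hX S']
    (p : Ideal R) [p.IsPrime] (p' : Ideal R') [p'.IsPrime] [hp' : p'.LiesOver p]
    (hm : Set.MapsTo (PrimeSpectrum.comap (algebraMap S S')) {Q | Q.asIdeal.comap (algebraMap R' S') = p'}
      {Q | Q.asIdeal.comap (algebraMap R S) = p}) : IsOpenEmbedding hm.restrict :=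
  isOpenEmbedding_fib_of_openEmbedding p p' hp'.over.symm
    (PrimeSpectrum.localization_comap_isEmbedding R' (Submonoid.powers g)).injective
    (PrimeSpectrum.localization_away_isOpenEmbedding S' hX) hm

section shrink

variable {R S C D R' S' C' D' : Type u} [CommRing R] [CommRing S] [CommRing C] [CommRing D] [CommRing R'] [CommRing S']
  [CommRing C'] [CommRing D'] [Algebra R S] [Algebra S C] [Algebra R C] [IsScalarTower R S C]
  [Algebra R D] [Algebra D C] [IsScalarTower R D C] [Algebra R R']
  [Algebra R' S'] [Algebra R S'] [Algebra S S'] [IsScalarTower R R' S'] [IsScalarTower R S S']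
  [Algebra R' C'] [Algebra C C'] [Algebra R' D'] [Algebra R D'] [Algebra D D'] [IsScalarTower R R' D'] [IsScalarTower R D D']
  [Algebra S' C'] [IsScalarTower R' S' C'] [Algebra S C'] [IsScalarTower S S' C'] [IsScalarTower S C C']
  [Algebra D' C'] [IsScalarTower R' D' C'] [Algebra D C'] [IsScalarTower D D' C'] [IsScalarTower D C C']
  (g : R) [IsLocalization.Away g R'] (hX : S) [IsLocalization.Away hX S'] [IsLocalization.Away (algebraMap S C hX) C']
  (hY : D) [IsLocalization.Away hY D'] [IsLocalization.Away (algebraMap D C hY) C']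

include g hX hY in
/-- A standard shrinking of a one-step devissage. -/
theorem isOneStepDevissage_away [Algebra.Smooth R D] {N : Type u} [AddCommGroup N] [Module S N] [Module R N]
    [IsScalarTower R S N] [Module.Finite S N] (p : Ideal R) [p.IsPrime] (q : Ideal S) [q.IsPrime] [hqp : q.LiesOver p]
    {G : Type u} [AddCommGroup G] [Module C G] [Module S G] [IsScalarTower S C G] {n : ℕ}
    (h : FlatCA.IsOneStepDevissage R S N p C D G n)
    (h1 : ∃ (ξ : PrimeSpectrum (p.Fiber S)) (hξ : ξ ∈ Module.support (p.Fiber S) (FlatCA.fiberMod p S N)),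
      ξ.asIdeal = FlatCA.fiberIdeal p q ∧
      FlatMor.localDim (Module.support (p.Fiber S) (FlatCA.fiberMod p S N)) ⟨ξ, hξ⟩ = n)
    (hne : ∀ P : PrimeSpectrum R, g ∉ P.asIdeal →
      ∃ Q : PrimeSpectrum D, hY ∉ Q.asIdeal ∧ PrimeSpectrum.comap (algebraMap R D) Q = P)
    (p' : Ideal R') [p'.IsPrime] [hp' : p'.LiesOver p]
    (q' : Ideal S') [q'.IsPrime] [hq'q : q'.LiesOver q] [hq'p : q'.LiesOver p']
    {N' : Type u} [AddCommGroup N'] [Module S' N'] [Module R' N'] [IsScalarTower R' S' N']
    [Module S N'] [IsScalarTower S S' N'] (f : N →ₗ[S] N') (hf : IsBaseChange S' f)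
    {G' : Type u} [AddCommGroup G'] [Module C' G'] [Module S' G'] [IsScalarTower S' C' G']
    [Module C G'] [IsScalarTower C C' G'] (γ : G →ₗ[C] G') (hg : IsBaseChange C' γ) :
    FlatCA.IsOneStepDevissage R' S' N' p' C' D' G' n ∧
      ∃ (ξ' : PrimeSpectrum (p'.Fiber S')) (hξ' : ξ' ∈ Module.support (p'.Fiber S') (FlatCA.fiberMod p' S' N')),
        ξ'.asIdeal = FlatCA.fiberIdeal p' q' ∧
        FlatMor.localDim (Module.support (p'.Fiber S') (FlatCA.fiberMod p' S' N')) ⟨ξ', hξ'⟩ = n := by
  obtain ⟨⟨e⟩, hsurj, hfp, hfin, hfinG, hsm, hgi, hdim⟩ := h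
  haveI hS : Algebra.IsPushout S S' C C' := isPushout_away hX
  haveI hD : Algebra.IsPushout D D' C C' := isPushout_away hY
  let eS : S' ⊗[S] C ≃ₐ[S'] C' := Algebra.IsPushout.equiv S S' C C'
  let eD : D' ⊗[D] C ≃ₐ[D'] C' := Algebra.IsPushout.equiv D D' C C'
  letI : Module S G' := Module.compHom G' (algebraMap S C')
  haveI : IsScalarTower S C' G' := IsScalarTower.of_algebraMap_smul fun a x => rfl
  haveI : IsScalarTower S C G' := IsScalarTower.of_algebraMap_smul fun a (x : G') => by
    show algebraMap S C a • x = algebraMap S C' a • x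
    rw [IsScalarTower.algebraMap_apply S C C']
    exact (algebraMap_smul C' (algebraMap S C a) x).symm
  haveI : IsScalarTower S S' G' := IsScalarTower.of_algebraMap_smul fun a (x : G') => by
    show algebraMap S S' a • x = algebraMap S C' a • x
    rw [IsScalarTower.algebraMap_apply S S' C']
    exact (algebraMap_smul C' (algebraMap S S' a) x).symm
  have hg' : IsBaseChange S' (γ.restrictScalars S) := isBaseChange_of_pushout γ hg
  haveI : Module.Finite S' N' := Module.Finite.equiv hf.equiv
  have hm : Set.MapsTo (PrimeSpectrum.comap (algebraMap S S')) {Q | Q.asIdeal.comap (algebraMap R' S') = p'}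
      {Q | Q.asIdeal.comap (algebraMap R S) = p} := by
    intro Q (hQ : Q.asIdeal.comap (algebraMap R' S') = p')
    show (Q.asIdeal.comap (algebraMap S S')).comap (algebraMap R S) = p
    rw [Ideal.comap_comap, ← IsScalarTower.algebraMap_eq, IsScalarTower.algebraMap_eq R R' S', ← Ideal.comap_comap, hQ]
    exact hp'.over.symm
  have hloc : LocAt p' N' (⟨q', inferInstance⟩ : PrimeSpectrum S') n :=
    LocAt.transport p N hf hm (isOpenEmbedding_fib_away g hX p p' hm)
      ((locAt_iff p N q hqp.over.symm _).1 h1) ⟨q', inferInstance⟩ hq'p.over.symm (PrimeSpectrum.ext hq'q.over.symm)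
  refine ⟨⟨⟨hf.equiv.symm ≪≫ₗ LinearEquiv.baseChange S S' N G e ≪≫ₗ hg'.equiv⟩, ?_, ?_, ?_,
    Module.Finite.equiv hg.equiv, smoothRelDim_away g hY hsm, geomIrredFibres_away g hY hgi hne, ?_⟩,
    (locAt_iff p' N' q' hq'p.over.symm _).2 hloc⟩
  · intro c
    obtain ⟨t, rfl⟩ := eS.surjective c
    induction t using TensorProduct.induction_on with
    | zero => exact ⟨0, by simp⟩
    | tmul a b =>
      obtain ⟨b, rfl⟩ := hsurj b
      refine ⟨a * algebraMap S S' b, ?_⟩
      simp [eS, Algebra.IsPushout.equiv_tmul, ← IsScalarTower.algebraMap_apply]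
    | add a b ha hb =>
      obtain ⟨a', ha'⟩ := ha
      obtain ⟨b', hb'⟩ := hb
      exact ⟨a' + b', by rw [map_add, map_add, ha', hb']⟩
  · exact Algebra.FinitePresentation.equiv eS
  · exact Module.Finite.equiv eD.toLinearEquiv
  · refine le_antisymm ?_ (le_supportDim_of_locAt p' N' hloc)
    rw [← hdim, supportDim_fiberMod, supportDim_fiberMod]
    refine Order.krullDim_le_of_strictMono (fun Q => ⟨PrimeSpectrum.comap (algebraMap S S') Q.1, hm Q.2.1,
      (annihilator_le_iff_of_isBaseChange N f hf Q.1).1 Q.2.2⟩) fun a b hab => ?_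
    show PrimeSpectrum.comap (algebraMap S S') a.1 < PrimeSpectrum.comap (algebraMap S S') b.1
    have hmono : Monotone (PrimeSpectrum.comap (algebraMap S S')) := fun x y hxy => Ideal.comap_mono hxy
    exact hmono.strictMono_of_injective (PrimeSpectrum.localization_comap_isEmbedding S' (Submonoid.powers hX)).injective hab

end shrink

end Groth.Agent.H4RG
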