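import Groth.Prelude
import Groth.Agent.H4RG.DevShrink
import Groth.Agent.S1223
import Mathlib

/-! Tools to move a chain of a devissage along compatible pushout squares. -/

set_option autoImplicit false
set_option linter.style.haveILetI false
set_option backward.isDefEq.respectTransparency.types false

universe u

open TensorProduct

namespace Groth.Agent.H4RG

attribute [local instance] Algebra.TensorProduct.rightAlgebra

/-- In a smooth algebra with geometrically irreducible fibres the extension of a prime is prime, and is read in the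
fibre. -/
theorem isPrime_map_of_geomIrred {R B : Type u} [CommRing R] [CommRing B] [Algebra R B] [Algebra.Smooth R B]
    (h : FlatCA.GeomIrredFibres R B) (p : Ideal R) [p.IsPrime] :
    (p.map (algebraMap R B)).IsPrime ∧
      p.map (algebraMap R B) =
        RingHom.ker (Algebra.TensorProduct.includeRight (R := R) (A := p.ResidueField) (B := B)).toRingHom := by
  haveI : Module.Flat R B := Algebra.Smooth.flat R B
  haveI : IsDomain (p.Fiber B) := by
    haveI := Groth.Agent.S1223.isDomain_tensor (geomIntegralFibres_of_smooth h) p.ResidueField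
    exact (Algebra.TensorProduct.comm R p.ResidueField B).toRingEquiv.toMulEquiv.isDomain _
  have key : p.map (algebraMap R B) =
      RingHom.ker (Algebra.TensorProduct.includeRight (R := R) (A := p.ResidueField) (B := B)).toRingHom := by
    refine le_antisymm (Ideal.map_le_iff_le_comap.2 fun r hr => ?_) fun x hx => ?_
    · rw [Ideal.mem_comap, RingHom.mem_ker]
      show (1 : p.ResidueField) ⊗ₜ[R] algebraMap R B r = 0
      rw [Algebra.algebraMap_eq_smul_one, ← TensorProduct.smul_tmul, Algebra.smul_def, mul_one,
        show algebraMap R p.ResidueField r = 0 from Ideal.algebraMap_residueField_eq_zero.2 hr, TensorProduct.zero_tmul]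
    · let f : (R ⧸ p) →ₗ[R] p.ResidueField := (IsScalarTower.toAlgHom R (R ⧸ p) p.ResidueField).toLinearMap
      have hinj : Function.Injective f := Ideal.injective_algebraMap_quotient_residueField p
      have h0 : (Ideal.Quotient.mk p 1) ⊗ₜ[R] x = 0 := by
        refine Module.Flat.rTensor_preserves_injective_linearMap (M := B) f hinj ?_
        rw [map_zero, LinearMap.rTensor_tmul]
        have hone : f (Ideal.Quotient.mk p 1) = 1 := by simp [f]
        rw [hone]
        have hx1 := RingHom.mem_ker.1 hx
        exact hx1
      have h7 := congrArg (TensorProduct.quotTensorEquivQuotSMul B p) h0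
      rw [map_zero, TensorProduct.quotTensorEquivQuotSMul_mk_tmul, one_smul, Submodule.Quotient.mk_eq_zero,
        Ideal.smul_top_eq_map, Submodule.restrictScalars_mem] at h7
      exact h7
  exact ⟨key ▸ RingHom.ker_isPrime _, key⟩

/-- The generic point of a fibre lies over the generic point. -/
theorem comap_map_generic {R B R' B' : Type u} [CommRing R] [CommRing B] [CommRing R'] [CommRing B'] [Algebra R B]
    [Algebra R R'] [Algebra R' B'] [Algebra R B'] [Algebra B B'] [IsScalarTower R R' B'] [IsScalarTower R B B']
    [Algebra.IsPushout R R' B B'] [Algebra.Smooth R B] (h : FlatCA.GeomIrredFibres R B) (p : Ideal R) [p.IsPrime]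
    (p' : Ideal R') [p'.IsPrime] [hp : p'.LiesOver p] :
    (p'.map (algebraMap R' B')).comap (algebraMap B B') = p.map (algebraMap R B) := by
  refine le_antisymm (fun x hx => ?_) (Ideal.map_le_iff_le_comap.2 fun r hr => ?_)
  swap
  · rw [Ideal.mem_comap, Ideal.mem_comap, ← IsScalarTower.algebraMap_apply, IsScalarTower.algebraMap_apply R R' B']
    exact Ideal.mem_map_of_mem _ (hp.over.le hr)
  rw [(isPrime_map_of_geomIrred h p).2, RingHom.mem_ker]
  haveI : Algebra.Smooth R' B' :=
    Algebra.Smooth.of_equiv (Algebra.IsPushout.equiv R R' B B')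
  have hx' := Ideal.mem_comap.1 hx
  rw [(isPrime_map_of_geomIrred (geomIrredFibres_of_pushout (X := B) h) p').2, RingHom.mem_ker] at hx'
  letI : Algebra p.ResidueField p'.ResidueField :=
    (Ideal.ResidueField.mapₐ p p' (Algebra.ofId R R') hp.over).toRingHom.toAlgebra
  haveI : IsScalarTower R p.ResidueField p'.ResidueField :=
    IsScalarTower.of_algebraMap_eq fun a => ((Ideal.ResidueField.mapₐ p p' (Algebra.ofId R R') hp.over).commutes a).symm
  let e0 : p'.Fiber B' ≃+* p'.ResidueField ⊗[R'] (R' ⊗[R] B) :=
    (Algebra.TensorProduct.congr (AlgEquiv.refl (R := R') (A₁ := p'.ResidueField)) (Algebra.IsPushout.equiv R R' B B').symm).toRingEquiv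
  let e1 : p'.ResidueField ⊗[R'] (R' ⊗[R] B) ≃+* p'.ResidueField ⊗[R] B :=
    (Algebra.TensorProduct.cancelBaseChange R R' R' p'.ResidueField B).toRingEquiv
  have h0 : (Algebra.IsPushout.equiv R R' B B').symm (algebraMap B B' x) = (1 : R') ⊗ₜ[R] x := by
    rw [AlgEquiv.symm_apply_eq]
    simp [Algebra.IsPushout.equiv_tmul]
  have h1 : (1 : p'.ResidueField) ⊗ₜ[R] x = 0 := by
    have h2 : (e0.trans e1) ((1 : p'.ResidueField) ⊗ₜ[R'] algebraMap B B' x) = (1 : p'.ResidueField) ⊗ₜ[R] x := by
      simp [e0, e1, h0]
    rw [← h2]
    exact (congrArg (e0.trans e1) hx').trans (map_zero _)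
  let φ : p.ResidueField →ₗ[R] p'.ResidueField := (IsScalarTower.toAlgHom R p.ResidueField p'.ResidueField).toLinearMap
  haveI : Module.Flat R B := Algebra.Smooth.flat R B
  refine Module.Flat.rTensor_preserves_injective_linearMap (M := B) φ (RingHom.injective _) ?_
  rw [map_zero]
  show φ.rTensor B ((1 : p.ResidueField) ⊗ₜ[R] x) = 0
  rw [LinearMap.rTensor_tmul]
  show (algebraMap p.ResidueField p'.ResidueField 1) ⊗ₜ[R] x = 0
  rw [map_one, h1]

/-- A base change of a map which is an isomorphism over a field is one over every larger field. -/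
theorem bijective_baseChange_square {B B' K K' F M F' M' : Type u} [CommRing B] [CommRing B'] [CommRing K] [CommRing K']
    [Algebra B B'] [Algebra B K] [Algebra B' K'] [Algebra B K'] [Algebra K K'] [IsScalarTower B B' K']
    [IsScalarTower B K K'] [AddCommGroup F] [Module B F] [AddCommGroup M] [Module B M] [AddCommGroup F'] [Module B' F']
    [Module B F'] [IsScalarTower B B' F'] [AddCommGroup M'] [Module B' M'] [Module B M'] [IsScalarTower B B' M']
    (α : F →ₗ[B] M) (α' : F' →ₗ[B'] M') (f : F →ₗ[B] F') (hf : IsBaseChange B' f) (g : M →ₗ[B] M')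
    (hg : IsBaseChange B' g) (hsq : ∀ x, α' (f x) = g (α x)) (h : Function.Bijective (α.baseChange K)) :
    Function.Bijective (α'.baseChange K') := by
  let eF : K' ⊗[K] (K ⊗[B] F) ≃ₗ[K'] K' ⊗[B'] F' :=
    AlgebraTensorModule.cancelBaseChange B K K' K' F ≪≫ₗ
      (AlgebraTensorModule.cancelBaseChange B B' K' K' F).symm ≪≫ₗ LinearEquiv.baseChange B' K' _ _ hf.equiv
  let eM : K' ⊗[K] (K ⊗[B] M) ≃ₗ[K'] K' ⊗[B'] M' :=
    AlgebraTensorModule.cancelBaseChange B K K' K' M ≪≫ₗ
      (AlgebraTensorModule.cancelBaseChange B B' K' K' M).symm ≪≫ₗ LinearEquiv.baseChange B' K' _ _ hg.equiv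
  let e := LinearEquiv.baseChange K K' _ _ (LinearEquiv.ofBijective (α.baseChange K) h)
  have key : ∀ t, α'.baseChange K' (eF t) = eM (e t) := by
    intro t
    induction t using TensorProduct.induction_on with
    | zero => simp
    | tmul k s =>
      induction s using TensorProduct.induction_on with
      | zero => simp
      | tmul c x => simp [eF, eM, e, hf.equiv_tmul, hg.equiv_tmul, hsq, TensorProduct.smul_tmul']
      | add a b ha hb => simp only [TensorProduct.tmul_add, map_add, ha, hb]
    | add a b ha hb => simp only [map_add, ha, hb]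
  have hcomp : ⇑(α'.baseChange K') = eM ∘ e ∘ eF.symm := by
    funext t
    simpa using key (eF.symm t)
  rw [hcomp]
  exact eM.bijective.comp (e.bijective.comp eF.symm.bijective)

/-- Base change keeps a cokernel. -/
theorem coker_baseChange {B B' F M N F' M' N' : Type u} [CommRing B] [CommRing B'] [Algebra B B']
    [AddCommGroup F] [Module B F] [AddCommGroup M] [Module B M] [AddCommGroup N] [Module B N]
    [AddCommGroup F'] [Module B' F'] [Module B F'] [IsScalarTower B B' F']
    [AddCommGroup M'] [Module B' M'] [Module B M'] [IsScalarTower B B' M']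
    [AddCommGroup N'] [Module B' N'] [Module B N'] [IsScalarTower B B' N']
    (α : F →ₗ[B] M) (π : M →ₗ[B] N) (hπ : Function.Surjective π) (hex : Function.Exact α π)
    (α' : F' →ₗ[B'] M') (f : F →ₗ[B] F') (hf : IsBaseChange B' f) (g : M →ₗ[B] M') (hg : IsBaseChange B' g)
    (k : N →ₗ[B] N') (hk : IsBaseChange B' k) (hsq : ∀ x, α' (f x) = g (α x)) :
    Nonempty ((M' ⧸ LinearMap.range α') ≃ₗ[B'] N') := by
  let π' : M' →ₗ[B'] N' := hk.equiv.toLinearMap ∘ₗ π.baseChange B' ∘ₗ hg.equiv.symm.toLinearMap
  have hs : Function.Surjective π' :=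
    hk.equiv.surjective.comp ((LinearMap.lTensor_surjective B' hπ).comp hg.equiv.symm.surjective)
  have hsq' : ∀ t, α' (hf.equiv t) = hg.equiv (α.baseChange B' t) := by
    intro t
    induction t using TensorProduct.induction_on with
    | zero => simp
    | tmul c x => simp [hf.equiv_tmul, hg.equiv_tmul, hsq]
    | add a b ha hb => simp only [map_add, ha, hb]
  have hker : LinearMap.range α' = LinearMap.ker π' := by
    refine le_antisymm ?_ fun m hm => ?_
    · rintro - ⟨v, rfl⟩
      obtain ⟨t, rfl⟩ := hf.equiv.surjective v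
      rw [LinearMap.mem_ker, hsq']
      show hk.equiv (π.baseChange B' (hg.equiv.symm (hg.equiv _))) = 0
      rw [LinearEquiv.symm_apply_apply, map_eq_zero_iff _ hk.equiv.injective]
      exact (lTensor_exact B' hex hπ).apply_apply_eq_zero t
    · have h0 : π.baseChange B' (hg.equiv.symm m) = 0 := by
        have h1 : hk.equiv (π.baseChange B' (hg.equiv.symm m)) = 0 := LinearMap.mem_ker.1 hm
        exact (map_eq_zero_iff _ hk.equiv.injective).1 h1
      obtain ⟨t, ht⟩ := (lTensor_exact B' hex hπ _).1 h0
      refine ⟨hf.equiv t, ?_⟩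
      rw [hsq']
      exact (congrArg hg.equiv ht).trans (hg.equiv.apply_symm_apply m)
  exact ⟨Submodule.quotEquivOfEq _ _ hker ≪≫ₗ π'.quotKerEquivOfSurjective hs⟩

/-- The map from a free module of finite rank given by the images of the unit vectors. -/
noncomputable def freeLift {B B' M M' : Type u} [CommRing B] [CommRing B'] [AddCommGroup M] [Module B M] [AddCommGroup M']
    [Module B' M'] {r : ℕ} (α : (Fin r → B) →ₗ[B] M) (g : M → M') : (Fin r → B') →ₗ[B'] M' :=
  Fintype.linearCombination B' fun j => g (α (Pi.single j 1))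

/-- The unit vectors after a base change. -/
theorem isBaseChange_pi (B B' : Type u) [CommRing B] [CommRing B'] [Algebra B B'] (r : ℕ) :
    IsBaseChange B' ((Algebra.linearMap B B').compLeft (Fin r)) := by
  refine IsBaseChange.of_equiv (TensorProduct.piScalarRight B B' B' (Fin r)) fun x => funext fun j => ?_
  simp [Algebra.algebraMap_eq_smul_one]

section free

variable {B B' M M' : Type u} [CommRing B] [CommRing B'] [Algebra B B'] [AddCommGroup M] [Module B M] [AddCommGroup M']
  [Module B' M'] [Module B M'] [IsScalarTower B B' M'] {r : ℕ} (α : (Fin r → B) →ₗ[B] M) (g : M →ₗ[B] M')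

/-- The lift agrees with the map on the unit vectors. -/
theorem freeLift_apply (x : Fin r → B) :
    freeLift (B' := B') α g ((Algebra.linearMap B B').compLeft (Fin r) x) = g (α x) := by
  conv_rhs => rw [← Finset.univ_sum_single x]
  rw [freeLift, Fintype.linearCombination_apply, map_sum, map_sum]
  refine Finset.sum_congr rfl fun j _ => ?_
  rw [show Pi.single j (x j) = x j • (Pi.single j (1 : B) : Fin r → B) by rw [← Pi.single_smul, smul_eq_mul, mul_one],
    map_smul, map_smul]
  simp [algebraMap_smul]

omit [Algebra B B'] [Module B M'] [IsScalarTower B B' M'] in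
/-- The range of the lift is spanned by the image of the range. -/
theorem range_freeLift (g : M → M') (hg : ∀ (b : B) (m : M), ∃ b' : B', g (b • m) = b' • g m) (hadd : ∀ a b, g (a + b) = g a + g b) :
    LinearMap.range (freeLift (B' := B') α g) = Submodule.span B' (g '' (LinearMap.range α : Set M)) := by
  rw [freeLift, Fintype.range_linearCombination]
  refine le_antisymm (Submodule.span_le.2 ?_) (Submodule.span_le.2 ?_)
  · rintro - ⟨j, rfl⟩
    exact Submodule.subset_span ⟨_, ⟨_, rfl⟩, rfl⟩
  · rintro - ⟨-, ⟨x, rfl⟩, rfl⟩
    let P := Submodule.span B' (Set.range fun j => g (α (Pi.single j 1)))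
    have h0 : g 0 = 0 := by simpa using hadd 0 0
    have hsum : ∀ s : Finset (Fin r), g (α (∑ j ∈ s, Pi.single j (x j))) ∈ P := by
      classical
      intro s
      induction s using Finset.induction_on with
      | empty => rw [Finset.sum_empty, map_zero, h0]; exact P.zero_mem
      | insert j s hj ih =>
        rw [Finset.sum_insert hj, map_add, hadd]
        refine P.add_mem ?_ ih
        rw [show Pi.single j (x j) = x j • (Pi.single j (1 : B) : Fin r → B) by
          rw [← Pi.single_smul, smul_eq_mul, mul_one], map_smul]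
        obtain ⟨b', hb'⟩ := hg (x j) (α (Pi.single j 1))
        rw [hb']
        exact P.smul_mem _ (Submodule.subset_span ⟨j, rfl⟩)
    simpa [Finset.univ_sum_single] using hsum Finset.univ

end free

end Groth.Agent.H4RG
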