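import Groth.Prelude
import Groth.Agent.H4RG.DevEngineTools
import Mathlib

/-! Moving a complete devissage along compatible pushout squares. Beyond the length the chain is continued by the residue
field at the last generic point. -/

set_option autoImplicit false
set_option linter.style.haveILetI false
set_option maxHeartbeats 1000000
set_option backward.isDefEq.respectTransparency.types false

universe u

open TensorProduct

namespace Groth.Agent.H4RG

attribute [local instance] Algebra.TensorProduct.rightAlgebra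

/-- A morphism of the rings of a complete devissage by pushout squares, over a map of the bases. -/
structure DevTarget {R S : Type u} [CommRing R] [CommRing S] [Algebra R S] {N : Type u} [AddCommGroup N] [Module S N]
    {p : Ideal R} [p.IsPrime] (𝒟 : FlatCA.CompleteDevissage R S N p) (R' : Type u) [CommRing R'] [Algebra R R']
    (p' : Ideal R') (S' : Type u) [CommRing S'] [Algebra R' S'] [Algebra S S'] : Type (u + 1) where
  A : Fin 𝒟.n → Type u
  B : Fin 𝒟.n → Type u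
  [cA : ∀ i : Fin 𝒟.n, CommRing (A i)] [cB : ∀ i : Fin 𝒟.n, CommRing (B i)]
  [aA : ∀ i : Fin 𝒟.n, Algebra R' (A i)] [aB : ∀ i : Fin 𝒟.n, Algebra R' (B i)]
  [fA : ∀ i : Fin 𝒟.n, Algebra (𝒟.A i) (A i)] [fB : ∀ i : Fin 𝒟.n, Algebra (𝒟.B i) (B i)]
  [rA : ∀ i : Fin 𝒟.n, Algebra R (A i)] [rB : ∀ i : Fin 𝒟.n, Algebra R (B i)]
  [tA : ∀ i : Fin 𝒟.n, IsScalarTower R R' (A i)] [tA' : ∀ i : Fin 𝒟.n, IsScalarTower R (𝒟.A i) (A i)]
  [tB : ∀ i : Fin 𝒟.n, IsScalarTower R R' (B i)] [tB' : ∀ i : Fin 𝒟.n, IsScalarTower R (𝒟.B i) (B i)]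
  [BA : ∀ i : Fin 𝒟.n, Algebra (B i) (A i)] [tBA : ∀ i : Fin 𝒟.n, IsScalarTower R' (B i) (A i)]
  [bA : ∀ i : Fin 𝒟.n, Algebra (𝒟.B i) (A i)] [tbA : ∀ i : Fin 𝒟.n, IsScalarTower (𝒟.B i) (𝒟.A i) (A i)]
  [tbA' : ∀ i : Fin 𝒟.n, IsScalarTower (𝒟.B i) (B i) (A i)]
  lk : ∀ (i : Fin 𝒟.n) (h : (i : ℕ) + 1 < 𝒟.n), B i →ₐ[R'] A ⟨i + 1, h⟩
  lk_comm : ∀ (i : Fin 𝒟.n) (h : (i : ℕ) + 1 < 𝒟.n) (x : 𝒟.B i),
    lk i h (algebraMap (𝒟.B i) (B i) x) =
      algebraMap (𝒟.A (⟨i + 1, h⟩ : Fin 𝒟.n)) (A ⟨i + 1, h⟩) (algebraMap (𝒟.B i) (𝒟.A (i + 1)) x)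
  s0 : S' →ₐ[R'] A ⟨0, 𝒟.pos⟩
  s0_comm : ∀ x : S, s0 (algebraMap S S' x) = algebraMap (𝒟.A (⟨0, 𝒟.pos⟩ : Fin 𝒟.n)) (A ⟨0, 𝒟.pos⟩) (algebraMap S (𝒟.A 0) x)
  pushBA : ∀ i : Fin 𝒟.n, Algebra.IsPushout (𝒟.B i) (B i) (𝒟.A i) (A i)
  pushLk : ∀ (i : Fin 𝒟.n) (h : (i : ℕ) + 1 < 𝒟.n) (a : Algebra (B i) (A ⟨i + 1, h⟩)) (b : Algebra (𝒟.B i) (A ⟨i + 1, h⟩))
    (_ : IsScalarTower (𝒟.B i) (B i) (A ⟨i + 1, h⟩)) (_ : IsScalarTower (𝒟.B i) (𝒟.A (⟨i + 1, h⟩ : Fin 𝒟.n)) (A ⟨i + 1, h⟩)),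
    (∀ y, algebraMap (B i) (A ⟨i + 1, h⟩) y = lk i h y) →
      Algebra.IsPushout (𝒟.B i) (B i) (𝒟.A (⟨i + 1, h⟩ : Fin 𝒟.n)) (A ⟨i + 1, h⟩)
  pushS : ∀ (a : Algebra S' (A ⟨0, 𝒟.pos⟩)) (b : Algebra S (A ⟨0, 𝒟.pos⟩))
    (_ : IsScalarTower S S' (A ⟨0, 𝒟.pos⟩)) (_ : IsScalarTower S (𝒟.A (⟨0, 𝒟.pos⟩ : Fin 𝒟.n)) (A ⟨0, 𝒟.pos⟩)),
    (∀ y, algebraMap S' (A ⟨0, 𝒟.pos⟩) y = s0 y) →
      Algebra.IsPushout S S' (𝒟.A (⟨0, 𝒟.pos⟩ : Fin 𝒟.n)) (A ⟨0, 𝒟.pos⟩)
  smooth : ∀ i : Fin 𝒟.n, Algebra.Smooth R' (B i)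
  geomIrred : ∀ i : Fin 𝒟.n, FlatCA.GeomIrredFibres R' (B i)
  generic : ∀ i : Fin 𝒟.n, (p'.map (algebraMap R' (B i))).comap (algebraMap (𝒟.B i) (B i)) = p.map (algebraMap R (𝒟.B i))
  [hgen : ∀ i : Fin 𝒟.n, (p'.map (algebraMap R' (B i))).IsPrime]

attribute [instance] DevTarget.cA DevTarget.cB DevTarget.aA DevTarget.aB DevTarget.fA DevTarget.fB DevTarget.rA
  DevTarget.rB DevTarget.tA DevTarget.tA' DevTarget.tB DevTarget.tB' DevTarget.BA DevTarget.tBA DevTarget.bA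
  DevTarget.tbA DevTarget.tbA' DevTarget.hgen

/-- The rings and the module at one place of a chain. -/
structure DevLevel (R' : Type u) [CommRing R'] : Type (u + 1) where
  A : Type u
  B : Type u
  M : Type u
  [cA : CommRing A] [cB : CommRing B] [aA : Algebra R' A] [aB : Algebra R' B] [BA : Algebra B A]
  [tBA : IsScalarTower R' B A] [gM : AddCommGroup M] [mAM : Module A M]

attribute [instance] DevLevel.cA DevLevel.cB DevLevel.aA DevLevel.aB DevLevel.BA DevLevel.tBA DevLevel.gM DevLevel.mAM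

namespace DevTarget

variable {R S : Type u} [CommRing R] [CommRing S] [Algebra R S] {N : Type u} [AddCommGroup N] [Module S N]
  {p : Ideal R} [p.IsPrime] {𝒟 : FlatCA.CompleteDevissage R S N p} {R' : Type u} [CommRing R'] [Algebra R R']
  {p' : Ideal R'} [p'.IsPrime] {S' : Type u} [CommRing S'] [Algebra R' S'] [Algebra S S'] (T : DevTarget 𝒟 R' p' S')

/-- The last index. -/
def last (𝒟 : FlatCA.CompleteDevissage R S N p) : Fin 𝒟.n := ⟨𝒟.n - 1, Nat.sub_one_lt_of_lt 𝒟.pos⟩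

/-- The field which continues the chain. -/
abbrev Tail : Type u := (p'.map (algebraMap R' (T.B (last 𝒟)))).ResidueField

/-- The module over the new ring at a place before the end. -/
def TM (i : Fin 𝒟.n) : Type u := T.A i ⊗[𝒟.A i] 𝒟.M i

noncomputable instance (i : Fin 𝒟.n) : AddCommGroup (T.TM i) :=
  inferInstanceAs (AddCommGroup (T.A i ⊗[𝒟.A i] 𝒟.M i))

noncomputable instance (i : Fin 𝒟.n) : Module (T.A i) (T.TM i) :=
  inferInstanceAs (Module (T.A i) (T.A i ⊗[𝒟.A i] 𝒟.M i))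

/-- The canonical map into the new module. -/
noncomputable def toTM (i : Fin 𝒟.n) : 𝒟.M i → T.TM i := fun x => (1 : T.A i) ⊗ₜ[𝒟.A i] x

theorem toTM_add (i : Fin 𝒟.n) (x y : 𝒟.M i) : T.toTM i (x + y) = T.toTM i x + T.toTM i y :=
  TensorProduct.tmul_add _ _ _

theorem toTM_smul (i : Fin 𝒟.n) (a : 𝒟.A i) (x : 𝒟.M i) :
    T.toTM i (a • x) = algebraMap (𝒟.A i) (T.A i) a • T.toTM i x := by
  show (1 : T.A i) ⊗ₜ[𝒟.A i] (a • x) = (algebraMap (𝒟.A i) (T.A i) a * 1) ⊗ₜ[𝒟.A i] x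
  rw [mul_one, ← TensorProduct.smul_tmul, Algebra.smul_def, mul_one]

theorem exists_toTM (i : Fin 𝒟.n) [Module (𝒟.A i) (T.TM i)] [IsScalarTower (𝒟.A i) (T.A i) (T.TM i)] :
    ∃ g : 𝒟.M i →ₗ[𝒟.A i] T.TM i, IsBaseChange (T.A i) g ∧ ∀ x, g x = T.toTM i x := by
  let g : 𝒟.M i →ₗ[𝒟.A i] T.TM i :=
    { toFun := T.toTM i
      map_add' := T.toTM_add i
      map_smul' := fun a x => by rw [T.toTM_smul, algebraMap_smul, RingHom.id_apply] }
  exact ⟨g, IsBaseChange.of_equiv (show T.A i ⊗[𝒟.A i] 𝒟.M i ≃ₗ[T.A i] T.TM i from LinearEquiv.refl _ _) fun x => rfl,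
    fun x => rfl⟩

/-- The chain with its continuation. -/
noncomputable def level : Option (Fin 𝒟.n) → DevLevel R'
  | some i => { A := T.A i, B := T.B i, M := T.TM i }
  | none => { A := T.Tail, B := T.Tail, M := PUnit }

/-- The place of an index. -/
def idx (𝒟 : FlatCA.CompleteDevissage R S N p) (i : ℕ) : Option (Fin 𝒟.n) := if h : i < 𝒟.n then some ⟨i, h⟩ else none

theorem idx_fin (i : Fin 𝒟.n) : idx 𝒟 i = some i := by simp [idx, i.2]

theorem idx_of_lt {i : ℕ} (h : i < 𝒟.n) : idx 𝒟 i = some ⟨i, h⟩ := by simp [idx, h]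

/-- Two places one after the other. -/
def Follows : Option (Fin 𝒟.n) → Option (Fin 𝒟.n) → Prop
  | some i, some j => (i : ℕ) + 1 = j
  | some i, none => (i : ℕ) + 1 = 𝒟.n
  | none, none => True
  | none, some _ => False

theorem follows_idx (i : ℕ) : Follows (idx 𝒟 i) (idx 𝒟 (i + 1)) := by
  unfold idx
  split <;> split
  · exact rfl
  · show i + 1 = 𝒟.n
    omega
  · omega
  · trivial

/-- The map between consecutive places. -/
noncomputable def link : (a b : Option (Fin 𝒟.n)) → Follows a b → ((T.level a).B →ₐ[R'] (T.level b).A)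
  | some i, some j, h =>
    (show (⟨i + 1, (h ▸ j.2 : (i : ℕ) + 1 < 𝒟.n)⟩ : Fin 𝒟.n) = j from Fin.ext h) ▸ T.lk i (h ▸ j.2)
  | some i, none, h =>
    (show last 𝒟 = i from Fin.ext (show 𝒟.n - 1 = (i : ℕ) by have : (i : ℕ) + 1 = 𝒟.n := h; omega)) ▸
      IsScalarTower.toAlgHom R' (T.B (last 𝒟)) T.Tail
  | none, none, _ => AlgHom.id R' T.Tail
  | none, some _, h => h.elim

/-- The algebra structure over the old ring at a place of the chain. -/
noncomputable def algA (i : Fin 𝒟.n) : (o : Option (Fin 𝒟.n)) → o = some i → Algebra (𝒟.A i) (T.level o).A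
  | _, rfl => T.fA i

/-- The algebra structure over the old smooth ring at a place of the chain. -/
noncomputable def algB (i : Fin 𝒟.n) : (o : Option (Fin 𝒟.n)) → o = some i → Algebra (𝒟.B i) (T.level o).B
  | _, rfl => T.fB i

/-- The algebra structure over the old base at a place of the chain. -/
noncomputable def algRA (o : Option (Fin 𝒟.n)) : Algebra R (T.level o).A :=
  ((algebraMap R' (T.level o).A).comp (algebraMap R R')).toAlgebra

/-- The algebra structure of the smooth ring over the old base at a place of the chain. -/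
noncomputable def algRB (o : Option (Fin 𝒟.n)) : Algebra R (T.level o).B :=
  ((algebraMap R' (T.level o).B).comp (algebraMap R R')).toAlgebra

/-- The module of the old chain maps to the new one. -/
noncomputable def toM (i : Fin 𝒟.n) : (o : Option (Fin 𝒟.n)) → o = some i → 𝒟.M i → (T.level o).M
  | _, rfl => T.toTM i

/-- The map from the base change of the first ring. -/
noncomputable def fromS : (o : Option (Fin 𝒟.n)) → o = some ⟨0, 𝒟.pos⟩ → (S' →ₐ[R'] (T.level o).A)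
  | _, rfl => T.s0

/-- The images of the unit vectors. -/
noncomputable def vec (i : ℕ) (j : Fin (𝒟.r i)) : (T.level (idx 𝒟 i)).M :=
  if h : i < 𝒟.n then T.toM ⟨i, h⟩ _ (idx_of_lt h) (𝒟.α i (Pi.single j 1)) else 0

theorem vec_fin (i : Fin 𝒟.n) (j : Fin (𝒟.r i)) :
    T.vec i j = T.toM i _ (idx_fin i) (𝒟.α i (Pi.single j 1)) := dif_pos i.2

/-- What is known at one place. -/
theorem level_facts (i : Fin 𝒟.n) (o : Option (Fin 𝒟.n)) (h : o = some i) :
    letI := T.algA i o h; letI := T.algB i o h; letI := T.algRA o; letI := T.algRB o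
    letI : Algebra (𝒟.B i) (T.level o).A := ((algebraMap (𝒟.A i) (T.level o).A).comp (algebraMap (𝒟.B i) (𝒟.A i))).toAlgebra
    letI : Module (𝒟.A i) (T.level o).M := Module.compHom _ (algebraMap (𝒟.A i) (T.level o).A)
    letI : Module (T.level o).B (T.level o).M := Module.compHom _ (algebraMap (T.level o).B (T.level o).A)
    haveI : IsScalarTower (𝒟.A i) (T.level o).A (T.level o).M := IsScalarTower.of_algebraMap_smul fun _ _ => rfl
    IsScalarTower R (𝒟.A i) (T.level o).A ∧ IsScalarTower R (𝒟.B i) (T.level o).B ∧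
      IsScalarTower (𝒟.B i) (T.level o).B (T.level o).A ∧
      Module.Finite (T.level o).B (T.level o).A ∧ Module.Finite (T.level o).A (T.level o).M ∧
      Algebra.Smooth R' (T.level o).B ∧ FlatCA.GeomIrredFibres R' (T.level o).B ∧
      (∃ gM : 𝒟.M i →ₗ[𝒟.A i] (T.level o).M, IsBaseChange (T.level o).A gM ∧ ∀ x, gM x = T.toM i o h x) ∧
      (∀ (Q : Ideal (T.level o).B) [Q.IsPrime], Q = p'.map (algebraMap R' (T.level o).B) →
        Function.Bijective ((Fintype.linearCombination (T.level o).B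
          fun j => T.toM i o h (𝒟.α i (Pi.single j 1))).baseChange Q.ResidueField)) ∧
      LinearMap.range (Fintype.linearCombination (T.level o).B fun j => T.toM i o h (𝒟.α i (Pi.single j 1))) =
        Submodule.span (T.level o).B (T.toM i o h '' (LinearMap.range (𝒟.α i) : Set (𝒟.M i))) ∧
      ((i : ℕ) + 1 = 𝒟.n → Function.Surjective
        (Fintype.linearCombination (T.level o).B fun j => T.toM i o h (𝒟.α i (Pi.single j 1)))) := by
  subst h
  letI : Algebra R (T.A i) := ((algebraMap R' (T.A i)).comp (algebraMap R R')).toAlgebra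
  letI : Algebra R (T.B i) := ((algebraMap R' (T.B i)).comp (algebraMap R R')).toAlgebra
  letI mBT : Module (T.B i) (T.TM i) := Module.compHom _ (algebraMap (T.B i) (T.A i))
  letI mAT : Module (𝒟.A i) (T.TM i) := Module.compHom _ (algebraMap (𝒟.A i) (T.A i))
  letI : Algebra (𝒟.B i) (T.A i) := ((algebraMap (𝒟.A i) (T.A i)).comp (algebraMap (𝒟.B i) (𝒟.A i))).toAlgebra
  haveI : IsScalarTower (𝒟.B i) (𝒟.A i) (T.A i) := IsScalarTower.of_algebraMap_eq fun _ => rfl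
  have hRA : IsScalarTower R (𝒟.A i) (T.A i) := IsScalarTower.of_algebraMap_eq fun x => by
    show algebraMap R' (T.A i) (algebraMap R R' x) = _
    rw [← @IsScalarTower.algebraMap_apply R R' (T.A i) _ _ _ _ _ (T.rA i) (T.tA i),
      @IsScalarTower.algebraMap_apply R (𝒟.A i) (T.A i) _ _ _ _ _ (T.rA i) (T.tA' i)]
  have hRB : IsScalarTower R (𝒟.B i) (T.B i) := IsScalarTower.of_algebraMap_eq fun x => by
    show algebraMap R' (T.B i) (algebraMap R R' x) = _
    rw [← @IsScalarTower.algebraMap_apply R R' (T.B i) _ _ _ _ _ (T.rB i) (T.tB i),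
      @IsScalarTower.algebraMap_apply R (𝒟.B i) (T.B i) _ _ _ _ _ (T.rB i) (T.tB' i)]
  haveI hBBA : IsScalarTower (𝒟.B i) (T.B i) (T.A i) := IsScalarTower.of_algebraMap_eq fun x => by
    show algebraMap (𝒟.A i) (T.A i) (algebraMap (𝒟.B i) (𝒟.A i) x) = _
    rw [← @IsScalarTower.algebraMap_apply (𝒟.B i) (𝒟.A i) (T.A i) _ _ _ _ _ (T.bA i) (T.tbA i),
      @IsScalarTower.algebraMap_apply (𝒟.B i) (T.B i) (T.A i) _ _ _ _ _ (T.bA i) (T.tbA' i)]
  haveI hpush : Algebra.IsPushout (𝒟.B i) (T.B i) (𝒟.A i) (T.A i) := by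
    convert! T.pushBA i using 1
    exact Algebra.algebra_ext _ _ fun x => by
      show algebraMap (𝒟.A i) (T.A i) (algebraMap (𝒟.B i) (𝒟.A i) x) = _
      rw [← @IsScalarTower.algebraMap_apply (𝒟.B i) (𝒟.A i) (T.A i) _ _ _ _ _ (T.bA i) (T.tbA i)]
  haveI : Module.Finite (𝒟.B i) (𝒟.A i) := 𝒟.finiteBA i i.2
  haveI : Module.Finite (𝒟.A i) (𝒟.M i) := 𝒟.finiteM i i.2
  haveI : IsScalarTower (T.B i) (T.A i) (T.TM i) := IsScalarTower.of_algebraMap_smul fun _ _ => rfl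
  haveI : IsScalarTower (𝒟.A i) (T.A i) (T.TM i) := IsScalarTower.of_algebraMap_smul fun _ _ => rfl
  obtain ⟨gM, hg, hgx⟩ := T.exists_toTM i
  letI : Module (𝒟.B i) (T.TM i) := Module.compHom _ (algebraMap (𝒟.B i) (T.A i))
  haveI : IsScalarTower (𝒟.B i) (T.A i) (T.TM i) := IsScalarTower.of_algebraMap_smul fun _ _ => rfl
  haveI : IsScalarTower (𝒟.B i) (𝒟.A i) (T.TM i) := IsScalarTower.of_algebraMap_smul fun _ _ => rfl
  haveI : IsScalarTower (𝒟.B i) (T.B i) (T.TM i) := IsScalarTower.of_algebraMap_smul fun b m => by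
    show algebraMap (T.B i) (T.A i) (algebraMap (𝒟.B i) (T.B i) b) • m = algebraMap (𝒟.B i) (T.A i) b • m
    rw [← IsScalarTower.algebraMap_apply]
  have hgB : IsBaseChange (T.B i) (gM.restrictScalars (𝒟.B i)) := isBaseChange_of_pushout gM hg
  let α' : (Fin (𝒟.r i) → T.B i) →ₗ[T.B i] T.TM i := freeLift (𝒟.α i) (gM.restrictScalars (𝒟.B i))
  have hfin : Module.Finite (T.B i) (T.A i) :=
    Module.Finite.equiv (Algebra.IsPushout.equiv (𝒟.B i) (T.B i) (𝒟.A i) (T.A i)).toLinearEquiv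
  refine ⟨hRA, hRB, hBBA, hfin,
    (inferInstanceAs (Module.Finite (T.A i) (T.A i ⊗[𝒟.A i] 𝒟.M i))), T.smooth i, T.geomIrred i,
    ⟨gM, hg, hgx⟩, ?_⟩
  change _ ∧ LinearMap.range (Fintype.linearCombination (T.B i) fun j => T.toTM i (𝒟.α i (Pi.single j 1))) =
      Submodule.span (T.B i) (T.toTM i '' (LinearMap.range (𝒟.α i) : Set (𝒟.M i))) ∧ _
  rw [show T.toTM i = ⇑gM from (funext hgx).symm]
  refine ⟨?_, ?_, ?_⟩
  · intro Q _ hQ
    subst hQ
    show Function.Bijective ((Fintype.linearCombination (T.B i) fun j => T.toTM i (𝒟.α i (Pi.single j 1))).baseChange (p'.map (algebraMap R' (T.B i))).ResidueField)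
    rw [show T.toTM i = ⇑gM from (funext hgx).symm]
    letI : Algebra (p.map (algebraMap R (𝒟.B i))).ResidueField (p'.map (algebraMap R' (T.B i))).ResidueField :=
      (Ideal.ResidueField.map _ _ (algebraMap (𝒟.B i) (T.B i)) (T.generic i).symm).toAlgebra
    haveI : IsScalarTower (𝒟.B i) (p.map (algebraMap R (𝒟.B i))).ResidueField (p'.map (algebraMap R' (T.B i))).ResidueField :=
      IsScalarTower.of_algebraMap_eq fun x => by
        rw [RingHom.algebraMap_toAlgebra, Ideal.ResidueField.map_algebraMap, ← IsScalarTower.algebraMap_apply]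
    exact bijective_baseChange_square (𝒟.α i) α' _ (isBaseChange_pi (𝒟.B i) (T.B i) (𝒟.r i)) _ hgB
      (fun x => freeLift_apply (𝒟.α i) (gM.restrictScalars (𝒟.B i)) x) (𝒟.fibreIso i i.2)
  · exact range_freeLift (𝒟.α i) (fun x => gM x)
      (fun b m => ⟨algebraMap (𝒟.B i) (T.B i) b, by
        show gM.restrictScalars (𝒟.B i) (b • m) = algebraMap (𝒟.B i) (T.B i) b • gM.restrictScalars (𝒟.B i) m
        rw [map_smul, algebraMap_smul]⟩)
      (fun a b => map_add gM a b)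
  · intro hlast
    have hi : 𝒟.n - 1 = (i : ℕ) := by omega
    have hsurj : Function.Surjective (𝒟.α i) := by
      have := 𝒟.cokerLast
      rw [hi] at this
      exact this
    show Function.Surjective (Fintype.linearCombination (T.B i) fun j => T.toTM i (𝒟.α i (Pi.single j 1)))
    rw [show T.toTM i = ⇑gM from (funext hgx).symm]
    show Function.Surjective α'
    intro m
    obtain ⟨t, rfl⟩ := hgB.equiv.surjective m
    induction t using TensorProduct.induction_on with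
    | zero => exact ⟨0, by simp⟩
    | tmul c x =>
      obtain ⟨v, rfl⟩ := hsurj x
      refine ⟨c • (Algebra.linearMap (𝒟.B i) (T.B i)).compLeft (Fin (𝒟.r i)) v, ?_⟩
      rw [map_smul, hgB.equiv_tmul, freeLift_apply]
    | add a b ha hb =>
      obtain ⟨a', ha'⟩ := ha
      obtain ⟨b', hb'⟩ := hb
      exact ⟨a' + b', by rw [map_add, map_add, ha', hb']⟩

/-- What is known at two consecutive places. -/
theorem link_facts (i : Fin 𝒟.n) (h : (i : ℕ) + 1 < 𝒟.n) (a b : Option (Fin 𝒟.n)) (ha : a = some i)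
    (hb : b = some ⟨i + 1, h⟩) (hf : Follows a b) :
    letI := T.algA ⟨i + 1, h⟩ b hb; letI := T.algB i a ha
    letI : Algebra (T.level a).B (T.level b).A := (T.link a b hf).toRingHom.toAlgebra
    letI : Module (T.level a).B (T.level a).M := Module.compHom _ (algebraMap (T.level a).B (T.level a).A)
    letI : Module (T.level a).B (T.level b).M := Module.compHom _ (T.link a b hf).toRingHom
    (∀ x : 𝒟.B i, T.link a b hf (algebraMap (𝒟.B i) (T.level a).B x) =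
        algebraMap (𝒟.A (⟨i + 1, h⟩ : Fin 𝒟.n)) (T.level b).A (algebraMap (𝒟.B i) (𝒟.A (i + 1)) x)) ∧
      Function.Surjective (T.link a b hf) ∧
      Algebra.FinitePresentation (T.level a).B (T.level b).A ∧
      Nonempty (((T.level a).M ⧸ LinearMap.range (Fintype.linearCombination (T.level a).B
          fun j => T.toM i a ha (𝒟.α i (Pi.single j 1)))) ≃ₗ[(T.level a).B] (T.level b).M) := by
  subst ha hb
  let j : Fin 𝒟.n := ⟨i + 1, h⟩
  letI fj : Algebra (𝒟.A j) (T.A j) := T.fA j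
  letI aL : Algebra (T.B i) (T.A j) := (T.lk i h).toRingHom.toAlgebra
  letI bL : Algebra (𝒟.B i) (T.A j) := ((algebraMap (𝒟.A j) (T.A j)).comp (algebraMap (𝒟.B i) (𝒟.A j))).toAlgebra
  haveI t1 : IsScalarTower (𝒟.B i) (𝒟.A j) (T.A j) := IsScalarTower.of_algebraMap_eq fun _ => rfl
  haveI t2 : IsScalarTower (𝒟.B i) (T.B i) (T.A j) := IsScalarTower.of_algebraMap_eq fun x => (T.lk_comm i h x).symm
  haveI hpush : Algebra.IsPushout (𝒟.B i) (T.B i) (𝒟.A j) (T.A j) := T.pushLk i h aL bL t2 t1 fun _ => rfl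
  letI bA : Algebra (𝒟.B i) (T.A i) := T.bA i
  haveI := T.tbA i
  haveI := T.tbA' i
  haveI hpushA : Algebra.IsPushout (𝒟.B i) (T.B i) (𝒟.A i) (T.A i) := T.pushBA i
  letI : Module (T.B i) (T.TM i) := Module.compHom _ (algebraMap (T.B i) (T.A i))
  letI : Module (T.B i) (T.TM j) := Module.compHom _ (T.lk i h).toRingHom
  haveI : IsScalarTower (T.B i) (T.A i) (T.TM i) := IsScalarTower.of_algebraMap_smul fun _ _ => rfl
  haveI : IsScalarTower (T.B i) (T.A j) (T.TM j) := IsScalarTower.of_algebraMap_smul fun _ _ => rfl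
  letI : Module (𝒟.B i) (T.TM i) := Module.compHom _ (algebraMap (𝒟.B i) (T.A i))
  letI : Module (𝒟.B i) (T.TM j) := Module.compHom _ (algebraMap (𝒟.B i) (T.A j))
  haveI : IsScalarTower (𝒟.B i) (T.A i) (T.TM i) := IsScalarTower.of_algebraMap_smul fun _ _ => rfl
  haveI : IsScalarTower (𝒟.B i) (T.A j) (T.TM j) := IsScalarTower.of_algebraMap_smul fun _ _ => rfl
  haveI : IsScalarTower (𝒟.B i) (T.B i) (T.TM i) := IsScalarTower.of_algebraMap_smul fun b m => by
    show algebraMap (T.B i) (T.A i) (algebraMap (𝒟.B i) (T.B i) b) • m = algebraMap (𝒟.B i) (T.A i) b • m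
    rw [← IsScalarTower.algebraMap_apply]
  haveI : IsScalarTower (𝒟.B i) (T.B i) (T.TM j) := IsScalarTower.of_algebraMap_smul fun b m => by
    show algebraMap (T.B i) (T.A j) (algebraMap (𝒟.B i) (T.B i) b) • m = algebraMap (𝒟.B i) (T.A j) b • m
    rw [← IsScalarTower.algebraMap_apply]
  letI : Module (𝒟.A i) (T.TM i) := Module.compHom _ (algebraMap (𝒟.A i) (T.A i))
  letI : Module (𝒟.A j) (T.TM j) := Module.compHom _ (algebraMap (𝒟.A j) (T.A j))
  haveI : IsScalarTower (𝒟.A i) (T.A i) (T.TM i) := IsScalarTower.of_algebraMap_smul fun _ _ => rfl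
  haveI : IsScalarTower (𝒟.A j) (T.A j) (T.TM j) := IsScalarTower.of_algebraMap_smul fun _ _ => rfl
  obtain ⟨gi, hgi0, hgix⟩ := T.exists_toTM i
  obtain ⟨gj, hgj0, hgjx⟩ := T.exists_toTM j
  haveI : IsScalarTower (𝒟.B i) (𝒟.A i) (T.TM i) := IsScalarTower.of_algebraMap_smul fun b m => by
    rw [← algebraMap_smul (T.A i) (algebraMap (𝒟.B i) (𝒟.A i) b) m, ← IsScalarTower.algebraMap_apply]
    rfl
  haveI : IsScalarTower (𝒟.B i) (𝒟.A j) (T.TM j) := IsScalarTower.of_algebraMap_smul fun b m => by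
    rw [← algebraMap_smul (T.A j) (algebraMap (𝒟.B i) (𝒟.A j) b) m, ← IsScalarTower.algebraMap_apply]
    rfl
  have hgi : IsBaseChange (T.B i) (gi.restrictScalars (𝒟.B i)) :=
    isBaseChange_of_pushout gi hgi0
  have hgj : IsBaseChange (T.B i) (gj.restrictScalars (𝒟.B i)) :=
    isBaseChange_of_pushout gj hgj0
  let π : 𝒟.M i →ₗ[𝒟.B i] 𝒟.M j :=
    (𝒟.isoCoker i h).toLinearMap.comp (LinearMap.range (𝒟.α i)).mkQ
  have hπ : Function.Surjective π := (𝒟.isoCoker i h).surjective.comp (Submodule.mkQ_surjective _)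
  have hex : Function.Exact (𝒟.α i) π := fun x => by
    show 𝒟.isoCoker i h (Submodule.Quotient.mk x) = 0 ↔ _
    rw [map_eq_zero_iff _ (𝒟.isoCoker i h).injective, Submodule.Quotient.mk_eq_zero]
    exact Iff.rfl
  refine ⟨T.lk_comm i h, ?_, ?_, ?_⟩
  rotate_left 2
  · show Nonempty ((T.TM i ⧸ LinearMap.range (Fintype.linearCombination (T.B i)
      fun k => T.toTM i (𝒟.α i (Pi.single k 1)))) ≃ₗ[T.B i] T.TM j)
    rw [show T.toTM i = ⇑gi from (funext hgix).symm]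
    have hsq : ∀ x : Fin (𝒟.r i) → 𝒟.B i, freeLift (B' := T.B i) (𝒟.α i) (gi.restrictScalars (𝒟.B i))
        ((Algebra.linearMap (𝒟.B i) (T.B i)).compLeft (Fin (𝒟.r i)) x) = gi.restrictScalars (𝒟.B i) (𝒟.α i x) :=
      fun x => freeLift_apply (𝒟.α i) (gi.restrictScalars (𝒟.B i)) x
    have hfr : IsBaseChange (T.B i) ((Algebra.linearMap (𝒟.B i) (T.B i)).compLeft (Fin (𝒟.r i))) :=
      isBaseChange_pi (𝒟.B i) (T.B i) (𝒟.r i)
    have e := coker_baseChange (N' := T.TM j) (M' := T.TM i) (𝒟.α i) π hπ hex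
      (freeLift (B' := T.B i) (𝒟.α i) (gi.restrictScalars (𝒟.B i))) _ hfr (gi.restrictScalars (𝒟.B i)) hgi
      (gj.restrictScalars (𝒟.B i)) hgj hsq
    exact e
  · intro c
    obtain ⟨t, rfl⟩ := (Algebra.IsPushout.equiv (𝒟.B i) (T.B i) (𝒟.A j) (T.A j)).surjective c
    induction t using TensorProduct.induction_on with
    | zero => exact ⟨0, (map_zero _).trans (map_zero _).symm⟩
    | tmul a b =>
      obtain ⟨b, rfl⟩ := 𝒟.surjBA' i h b
      refine ⟨a * algebraMap (𝒟.B i) (T.B i) b, ?_⟩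
      show algebraMap (T.B i) (T.A j) (a * algebraMap (𝒟.B i) (T.B i) b) = _
      rw [Algebra.IsPushout.equiv_tmul, map_mul, ← IsScalarTower.algebraMap_apply, ← IsScalarTower.algebraMap_apply]
    | add a b ha hb =>
      obtain ⟨a', ha'⟩ := ha
      obtain ⟨b', hb'⟩ := hb
      exact ⟨a' + b', (map_add _ _ _).trans ((congrArg₂ (· + ·) ha' hb').trans (map_add _ _ _).symm)⟩
  · haveI : Algebra.FinitePresentation (𝒟.B i) (𝒟.A j) := 𝒟.fpBA' i h
    have hfp : Algebra.FinitePresentation (T.B i) (T.A j) :=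
      Algebra.FinitePresentation.equiv (Algebra.IsPushout.equiv (𝒟.B i) (T.B i) (𝒟.A j) (T.A j))
    exact hfp

/-- What is known at the first place. -/
theorem first_facts {N' : Type u} [AddCommGroup N'] [Module S' N'] [Module S N'] [IsScalarTower S S' N']
    (f : N →ₗ[S] N') (hf : IsBaseChange S' f) (o : Option (Fin 𝒟.n)) (h : o = some ⟨0, 𝒟.pos⟩) :
    letI := T.algA ⟨0, 𝒟.pos⟩ o h
    letI : Algebra S' (T.level o).A := (T.fromS o h).toRingHom.toAlgebra
    letI : Module S' (T.level o).M := Module.compHom _ (T.fromS o h).toRingHom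
    (∀ x : S, T.fromS o h (algebraMap S S' x) =
        algebraMap (𝒟.A (⟨0, 𝒟.pos⟩ : Fin 𝒟.n)) (T.level o).A (algebraMap S (𝒟.A 0) x)) ∧
      Function.Surjective (T.fromS o h) ∧ Algebra.FinitePresentation S' (T.level o).A ∧
      ∃ e : N' ≃ₗ[S'] (T.level o).M, ∀ x, e (f x) = T.toM ⟨0, 𝒟.pos⟩ o h (𝒟.isoN x) := by
  subst h
  let j : Fin 𝒟.n := ⟨0, 𝒟.pos⟩
  letI fj : Algebra (𝒟.A j) (T.A j) := T.fA j
  letI aL : Algebra S' (T.A j) := T.s0.toRingHom.toAlgebra
  letI bL : Algebra S (T.A j) := ((algebraMap (𝒟.A j) (T.A j)).comp (algebraMap S (𝒟.A j))).toAlgebra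
  haveI t1 : IsScalarTower S (𝒟.A j) (T.A j) := IsScalarTower.of_algebraMap_eq fun _ => rfl
  haveI t2 : IsScalarTower S S' (T.A j) := IsScalarTower.of_algebraMap_eq fun x => (T.s0_comm x).symm
  haveI hpush : Algebra.IsPushout S S' (𝒟.A j) (T.A j) := T.pushS aL bL t2 t1 fun _ => rfl
  letI : Module S' (T.TM j) := Module.compHom _ T.s0.toRingHom
  haveI : IsScalarTower S' (T.A j) (T.TM j) := IsScalarTower.of_algebraMap_smul fun _ _ => rfl
  letI : Module S (T.TM j) := Module.compHom _ (algebraMap S (T.A j))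
  haveI : IsScalarTower S (T.A j) (T.TM j) := IsScalarTower.of_algebraMap_smul fun _ _ => rfl
  haveI : IsScalarTower S S' (T.TM j) := IsScalarTower.of_algebraMap_smul fun b m => by
    show algebraMap S' (T.A j) (algebraMap S S' b) • m = algebraMap S (T.A j) b • m
    rw [← IsScalarTower.algebraMap_apply]
  letI : Module (𝒟.A j) (T.TM j) := Module.compHom _ (algebraMap (𝒟.A j) (T.A j))
  haveI : IsScalarTower (𝒟.A j) (T.A j) (T.TM j) := IsScalarTower.of_algebraMap_smul fun _ _ => rfl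
  obtain ⟨gj, hgj0, hgjx⟩ := T.exists_toTM j
  haveI : IsScalarTower S (𝒟.A j) (T.TM j) := IsScalarTower.of_algebraMap_smul fun b m => by
    rw [← algebraMap_smul (T.A j) (algebraMap S (𝒟.A j) b) m, ← IsScalarTower.algebraMap_apply]
    rfl
  have hgj : IsBaseChange S' (gj.restrictScalars S) :=
    isBaseChange_of_pushout gj hgj0
  refine ⟨T.s0_comm, ?_, ?_, hf.equiv.symm ≪≫ₗ LinearEquiv.baseChange S S' N (𝒟.M j) 𝒟.isoN ≪≫ₗ hgj.equiv, fun x => ?_⟩
  · intro c
    obtain ⟨t, rfl⟩ := (Algebra.IsPushout.equiv S S' (𝒟.A j) (T.A j)).surjective c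
    induction t using TensorProduct.induction_on with
    | zero => exact ⟨0, (map_zero _).trans (map_zero _).symm⟩
    | tmul a b =>
      obtain ⟨b, rfl⟩ := 𝒟.surjSA b
      refine ⟨a * algebraMap S S' b, ?_⟩
      show algebraMap S' (T.A j) (a * algebraMap S S' b) = _
      rw [Algebra.IsPushout.equiv_tmul, map_mul, ← IsScalarTower.algebraMap_apply, ← IsScalarTower.algebraMap_apply]
    | add a b ha hb =>
      obtain ⟨a', ha'⟩ := ha
      obtain ⟨b', hb'⟩ := hb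
      exact ⟨a' + b', (map_add _ _ _).trans ((congrArg₂ (· + ·) ha' hb').trans (map_add _ _ _).symm)⟩
  · haveI : Algebra.FinitePresentation S (𝒟.A j) := 𝒟.fpSA
    have hfp : Algebra.FinitePresentation S' (T.A j) :=
      Algebra.FinitePresentation.equiv (Algebra.IsPushout.equiv S S' (𝒟.A j) (T.A j))
    exact hfp
  · show hgj.equiv (LinearEquiv.baseChange S S' N (𝒟.M j) 𝒟.isoN (hf.equiv.symm (f x))) = _
    rw [hf.equiv_symm_apply]
    show hgj.equiv ((1 : S') ⊗ₜ[S] 𝒟.isoN x) = _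
    rw [hgj.equiv_tmul, one_smul]
    exact hgjx _

/-- The extended prime is prime at every place. -/
theorem isPrime_map (o : Option (Fin 𝒟.n)) : (p'.map (algebraMap R' (T.level o).B)).IsPrime := by
  cases o with
  | some i => exact T.hgen i
  | none =>
    have h : p'.map (algebraMap R' T.Tail) = ⊥ := by
      rw [← le_bot_iff, Ideal.map_le_iff_le_comap]
      intro r hr
      show algebraMap R' T.Tail r = 0
      rw [IsScalarTower.algebraMap_apply R' (T.B (last 𝒟)) T.Tail, Ideal.algebraMap_residueField_eq_zero]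
      exact Ideal.mem_map_of_mem _ hr
    show (p'.map (algebraMap R' T.Tail)).IsPrime
    rw [h]
    exact Ideal.isPrime_bot

end DevTarget

/-- A complete devissage moved along compatible pushout squares; `P` records what is wanted of the new rings. -/
theorem DevTarget.exists_devissage {R S : Type u} [CommRing R] [CommRing S] [Algebra R S] {N : Type u} [AddCommGroup N]
    [Module S N] {p : Ideal R} [p.IsPrime] {𝒟 : FlatCA.CompleteDevissage R S N p} {R' : Type u} [CommRing R']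
    [Algebra R R'] {p' : Ideal R'} [p'.IsPrime] {S' : Type u} [CommRing S'] [Algebra R' S'] [Algebra S S']
    (T : DevTarget 𝒟 R' p' S') {N' : Type u} [AddCommGroup N'] [Module S' N'] [Module S N'] [IsScalarTower S S' N']
    (f : N →ₗ[S] N') (hf : IsBaseChange S' f)
    (P : ∀ (i : Fin 𝒟.n) (A' B' : Type u) [CommRing A'] [CommRing B'] [Algebra R' A'] [Algebra R' B']
      [Algebra (𝒟.A i) A'] [Algebra (𝒟.B i) B'] [Algebra R A'] [Algebra R B'] [IsScalarTower R R' A']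
      [IsScalarTower R R' B'] [IsScalarTower R (𝒟.A i) A'] [IsScalarTower R (𝒟.B i) B'], Prop)
    (hP : ∀ i, P i (T.A i) (T.B i)) :
    ∃ (𝒟' : FlatCA.CompleteDevissage R' S' N' p')
      (aA : ∀ i : Fin 𝒟.n, Algebra (𝒟.A i) (𝒟'.A i)) (rA : ∀ i : Fin 𝒟.n, Algebra R (𝒟'.A i))
      (_t1 : ∀ i : Fin 𝒟.n, IsScalarTower R (R') (𝒟'.A i)) (_t2 : ∀ i : Fin 𝒟.n, IsScalarTower R (𝒟.A i) (𝒟'.A i))
      (aB : ∀ i : Fin 𝒟.n, Algebra (𝒟.B i) (𝒟'.B i)) (rB : ∀ i : Fin 𝒟.n, Algebra R (𝒟'.B i))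
      (_t3 : ∀ i : Fin 𝒟.n, IsScalarTower R (R') (𝒟'.B i)) (_t4 : ∀ i : Fin 𝒟.n, IsScalarTower R (𝒟.B i) (𝒟'.B i))
      (bA : ∀ i : Fin 𝒟.n, Algebra (𝒟.B i) (𝒟'.A i)) (_t5 : ∀ i : Fin 𝒟.n, IsScalarTower (𝒟.B i) (𝒟.A i) (𝒟'.A i))
      (_t6 : ∀ i : Fin 𝒟.n, IsScalarTower (𝒟.B i) (𝒟'.B i) (𝒟'.A i))
      (bA' : ∀ i : Fin 𝒟.n, Algebra (𝒟.B i) (𝒟'.A (i + 1)))
      (_t7 : ∀ i : Fin 𝒟.n, IsScalarTower (𝒟.B i) (𝒟'.B i) (𝒟'.A (i + 1)))
      (sA : Algebra S (𝒟'.A 0)) (_t8 : IsScalarTower S (S') (𝒟'.A 0))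
      (mA : ∀ i : Fin 𝒟.n, Module (𝒟.A i) (𝒟'.M i)) (_t9 : ∀ i : Fin 𝒟.n, IsScalarTower (𝒟.A i) (𝒟'.A i) (𝒟'.M i))
      (gM : ∀ i : Fin 𝒟.n, 𝒟.M i →ₗ[𝒟.A i] 𝒟'.M i),
      𝒟'.n = 𝒟.n ∧ 𝒟'.r = 𝒟.r ∧
      (letI := aA ⟨0, 𝒟.pos⟩; IsScalarTower S (𝒟.A 0) (𝒟'.A 0)) ∧
      (∀ x : N, 𝒟'.isoN (f x) = gM ⟨0, 𝒟.pos⟩ (𝒟.isoN x)) ∧
      (∀ (i : Fin 𝒟.n) (h : (i : ℕ) + 1 < 𝒟.n),
        letI := aA ⟨i + 1, h⟩; IsScalarTower (𝒟.B i) (𝒟.A (i + 1)) (𝒟'.A (i + 1))) ∧
      (∀ i, 𝒟.n ≤ i → ∃ (Q : Ideal (𝒟'.B i)) (Z : Ideal (𝒟'.A i)),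
        Q.IsPrime ∧ Z.IsPrime ∧ Q.LiesOver p' ∧ Z.LiesOver Q) ∧
      ∀ i : Fin 𝒟.n,
        P i (𝒟'.A i) (𝒟'.B i) ∧ IsBaseChange (𝒟'.A i) (gM i) ∧
        LinearMap.range (𝒟'.α i) =
          Submodule.span (𝒟'.B i) ((gM i) '' (LinearMap.range (𝒟.α i) : Set (𝒟.M i))) := by
  let o : ℕ → Option (Fin 𝒟.n) := DevTarget.idx 𝒟
  have ho : ∀ i : Fin 𝒟.n, o i = some i := DevTarget.idx_fin
  have ho0 : o 0 = some ⟨0, 𝒟.pos⟩ := ho ⟨0, 𝒟.pos⟩
  have hl : ∀ {i : ℕ} (h : i < 𝒟.n), o i = some ⟨i, h⟩ := fun h => DevTarget.idx_of_lt h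
  let L : ℕ → DevLevel R' := fun i => T.level (o i)
  letI aL : ∀ i, Algebra (L i).B (L (i + 1)).A := fun i => (T.link _ _ (DevTarget.follows_idx i)).toRingHom.toAlgebra
  haveI tL : ∀ i, IsScalarTower R' (L i).B (L (i + 1)).A := fun i => IsScalarTower.of_algebraMap_eq fun x =>
    ((T.link _ _ (DevTarget.follows_idx i)).commutes x).symm
  letI aS : Algebra S' (L 0).A := (T.fromS (o 0) ho0).toRingHom.toAlgebra
  haveI tS : IsScalarTower R' S' (L 0).A := IsScalarTower.of_algebraMap_eq fun x => ((T.fromS (o 0) ho0).commutes x).symm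
  letI mB : ∀ i, Module (L i).B (L i).M := fun i => Module.compHom _ (algebraMap (L i).B (L i).A)
  haveI tB : ∀ i, IsScalarTower (L i).B (L i).A (L i).M := fun i => IsScalarTower.of_algebraMap_smul fun _ _ => rfl
  letI mR : ∀ i, Module R' (L i).M := fun i => Module.compHom _ (algebraMap R' (L i).A)
  haveI tR : ∀ i, IsScalarTower R' (L i).B (L i).M := fun i => IsScalarTower.of_algebraMap_smul fun r m => by
    show algebraMap (L i).B (L i).A (algebraMap R' (L i).B r) • m = algebraMap R' (L i).A r • m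
    rw [← IsScalarTower.algebraMap_apply]
  letI mL : ∀ i, Module (L i).B (L (i + 1)).M := fun i => Module.compHom _ (T.link _ _ (DevTarget.follows_idx i)).toRingHom
  haveI tM : ∀ i, IsScalarTower (L i).B (L (i + 1)).A (L (i + 1)).M := fun i => IsScalarTower.of_algebraMap_smul fun _ _ => rfl
  letI mS : Module S' (L 0).M := Module.compHom _ (T.fromS (o 0) ho0).toRingHom
  haveI tSM : IsScalarTower S' (L 0).A (L 0).M := IsScalarTower.of_algebraMap_smul fun _ _ => rfl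
  let α' : ∀ i, (Fin (𝒟.r i) → (L i).B) →ₗ[(L i).B] (L i).M := fun i => Fintype.linearCombination (L i).B (T.vec i)
  have hα : ∀ i : Fin 𝒟.n,
      α' i = Fintype.linearCombination (L i).B fun j => T.toM i (o i) (ho i) (𝒟.α i (Pi.single j 1)) :=
    fun i => congrArg (Fintype.linearCombination (L i).B) (funext (T.vec_fin i))
  obtain ⟨hs0, hssurj, hsfp, eN, heN⟩ := T.first_facts f hf (o 0) ho0
  have hco : ∀ i, i + 1 < 𝒟.n → Nonempty (((L i).M ⧸ LinearMap.range (α' i)) ≃ₗ[(L i).B] (L (i + 1)).M) := by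
    intro i hi
    have hr : LinearMap.range (α' i) = _ := congrArg LinearMap.range (hα ⟨i, by omega⟩)
    obtain ⟨e⟩ := (T.link_facts ⟨i, by omega⟩ hi (o i) (o (i + 1)) (hl _) (hl hi) (DevTarget.follows_idx i)).2.2.2
    exact ⟨Submodule.quotEquivOfEq _ _ hr ≪≫ₗ e⟩
  haveI : ∀ i, (p'.map (algebraMap R' (L i).B)).IsPrime := fun i => T.isPrime_map (o i)
  let 𝒟' : FlatCA.CompleteDevissage R' S' N' p' :=
    { n := 𝒟.n
      pos := 𝒟.pos
      A := fun i => (L i).A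
      B := fun i => (L i).B
      M := fun i => (L i).M
      r := 𝒟.r
      α := α'
      surjSA := hssurj
      fpSA := hsfp
      surjBA' := fun i hi =>
        (T.link_facts ⟨i, by omega⟩ hi (o i) (o (i + 1)) (hl _) (hl hi) (DevTarget.follows_idx i)).2.1
      fpBA' := fun i hi =>
        (T.link_facts ⟨i, by omega⟩ hi (o i) (o (i + 1)) (hl _) (hl hi) (DevTarget.follows_idx i)).2.2.1
      finiteBA := fun i hi => (T.level_facts ⟨i, hi⟩ (o i) (hl hi)).2.2.2.1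
      smooth := fun i hi => (T.level_facts ⟨i, hi⟩ (o i) (hl hi)).2.2.2.2.2.1
      geomIrred := fun i hi => (T.level_facts ⟨i, hi⟩ (o i) (hl hi)).2.2.2.2.2.2.1
      finiteM := fun i hi => (T.level_facts ⟨i, hi⟩ (o i) (hl hi)).2.2.2.2.1
      isoN := eN
      isoCoker := fun i hi => (hco i hi).some
      fibreIso := fun i hi => by
        rw [hα ⟨i, hi⟩]
        exact (T.level_facts ⟨i, hi⟩ (o i) (hl hi)).2.2.2.2.2.2.2.2.1 _ rfl
      cokerLast := by
        show Function.Surjective (α' (DevTarget.last 𝒟 : ℕ))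
        rw [hα (DevTarget.last 𝒟)]
        exact (T.level_facts (DevTarget.last 𝒟) _ (ho _)).2.2.2.2.2.2.2.2.2.2
          (show 𝒟.n - 1 + 1 = 𝒟.n by have := 𝒟.pos; omega) }
  letI aA : ∀ i : Fin 𝒟.n, Algebra (𝒟.A i) (𝒟'.A i) := fun i => T.algA i (o i) (ho i)
  letI rA : ∀ i : Fin 𝒟.n, Algebra R (𝒟'.A i) := fun i => T.algRA (o i)
  letI aB : ∀ i : Fin 𝒟.n, Algebra (𝒟.B i) (𝒟'.B i) := fun i => T.algB i (o i) (ho i)
  letI rB : ∀ i : Fin 𝒟.n, Algebra R (𝒟'.B i) := fun i => T.algRB (o i)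
  letI bA : ∀ i : Fin 𝒟.n, Algebra (𝒟.B i) (𝒟'.A i) := fun i =>
    ((algebraMap (𝒟.A i) (𝒟'.A i)).comp (algebraMap (𝒟.B i) (𝒟.A i))).toAlgebra
  letI bA' : ∀ i : Fin 𝒟.n, Algebra (𝒟.B i) (𝒟'.A (i + 1)) := fun i =>
    ((algebraMap (L i).B (L (i + 1)).A).comp (algebraMap (𝒟.B i) (𝒟'.B i))).toAlgebra
  letI sA : Algebra S (𝒟'.A 0) := (((T.fromS (o 0) ho0).toRingHom).comp (algebraMap S S')).toAlgebra
  letI mA : ∀ i : Fin 𝒟.n, Module (𝒟.A i) (𝒟'.M i) := fun i => Module.compHom _ (algebraMap (𝒟.A i) (𝒟'.A i))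
  refine ⟨𝒟', aA, rA, fun i => IsScalarTower.of_algebraMap_eq' rfl,
    fun i => (T.level_facts i (o i) (ho i)).1, aB, rB,
    fun i => IsScalarTower.of_algebraMap_eq' rfl, fun i => (T.level_facts i (o i) (ho i)).2.1,
    bA, fun i => IsScalarTower.of_algebraMap_eq' rfl, fun i => (T.level_facts i (o i) (ho i)).2.2.1,
    bA', fun i => IsScalarTower.of_algebraMap_eq' rfl, sA, IsScalarTower.of_algebraMap_eq' rfl,
    mA, fun i => IsScalarTower.of_algebraMap_smul fun _ _ => rfl,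
    fun i => (T.level_facts i (o i) (ho i)).2.2.2.2.2.2.2.1.choose, rfl, rfl, ?_, fun x => ?_, fun i h => ?_,
    fun i hi => ?_, fun i => ⟨?_, (T.level_facts i (o i) (ho i)).2.2.2.2.2.2.2.1.choose_spec.1, ?_⟩⟩
  · letI := T.algA ⟨0, 𝒟.pos⟩ (o 0) ho0
    letI : Algebra S (L 0).A := (((T.fromS (o 0) ho0).toRingHom).comp (algebraMap S S')).toAlgebra
    exact IsScalarTower.of_algebraMap_eq fun x => hs0 x
  · exact (heN x).trans ((T.level_facts ⟨0, 𝒟.pos⟩ (o 0) ho0).2.2.2.2.2.2.2.1.choose_spec.2 _).symm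
  · letI := T.algA ⟨i + 1, h⟩ (o (i + 1)) (hl h)
    letI := T.algB i (o i) (ho i)
    letI : Algebra (𝒟.B i) (L (i + 1)).A := ((algebraMap (L i).B (L (i + 1)).A).comp (algebraMap (𝒟.B i) (L i).B)).toAlgebra
    exact IsScalarTower.of_algebraMap_eq fun x =>
      (T.link_facts i h (o i) (o (i + 1)) (ho i) (hl h) (DevTarget.follows_idx i)).1 x
  · have hi' : o i = none := dif_neg (not_lt.2 hi)
    revert hi'
    show o i = none → ∃ (Q : Ideal (T.level (o i)).B) (Z : Ideal (T.level (o i)).A),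
      Q.IsPrime ∧ Z.IsPrime ∧ Q.LiesOver p' ∧ Z.LiesOver Q
    generalize o i = a
    rintro rfl
    refine ⟨(⊥ : Ideal T.Tail), (⊥ : Ideal T.Tail), Ideal.isPrime_bot (α := T.Tail), Ideal.isPrime_bot (α := T.Tail), ⟨?_⟩, ⟨rfl⟩⟩
    show p' = (⊥ : Ideal T.Tail).comap (algebraMap R' T.Tail)
    ext r
    rw [Ideal.mem_comap, Ideal.mem_bot, IsScalarTower.algebraMap_apply R' (T.B (DevTarget.last 𝒟)) T.Tail,
      Ideal.algebraMap_residueField_eq_zero]
    refine ⟨Ideal.mem_map_of_mem _, fun hr => ?_⟩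
    haveI := T.smooth (DevTarget.last 𝒟)
    obtain ⟨Q, hQ, hQp⟩ := exists_prime_over (R := R') (S := T.B (DevTarget.last 𝒟)) (T.geomIrred _) p'
    exact hQp.le (Ideal.mem_comap.2 (Ideal.map_le_iff_le_comap.2 hQp.ge hr))
  · have key : ∀ (a : Option (Fin 𝒟.n)) (h : a = some i),
        letI := T.algA i a h; letI := T.algB i a h; letI := T.algRA a; letI := T.algRB a
        ∀ (_ : IsScalarTower R R' (T.level a).A) (_ : IsScalarTower R R' (T.level a).B)
          (_ : IsScalarTower R (𝒟.A i) (T.level a).A) (_ : IsScalarTower R (𝒟.B i) (T.level a).B),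
          P i (T.level a).A (T.level a).B := by
      rintro a rfl
      intro _ _ _ _
      have eA : T.algRA (some i) = T.rA i := Algebra.algebra_ext _ _ fun r => (IsScalarTower.algebraMap_apply R R' (T.A i) r).symm
      have eB : T.algRB (some i) = T.rB i := Algebra.algebra_ext _ _ fun r => (IsScalarTower.algebraMap_apply R R' (T.B i) r).symm
      convert! hP i using 1
    exact key (o i) (ho i) _ _ _ _
  · show LinearMap.range (α' i) = _
    rw [hα i]
    refine (T.level_facts i (o i) (ho i)).2.2.2.2.2.2.2.2.2.1.trans (congrArg _ (Set.image_congr fun x _ => ?_))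
    exact ((T.level_facts i (o i) (ho i)).2.2.2.2.2.2.2.1.choose_spec.2 x).symm

end Groth.Agent.H4RG
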