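import Groth.Prelude
import Groth.Agent.H4RG.DevShrink
import Mathlib

/-! The points of a complete devissage after a change of rings which adds nothing to the residue fields. -/

set_option autoImplicit false
set_option linter.style.haveILetI false
set_option backward.isDefEq.respectTransparency.types false

universe u

open TensorProduct Topology

namespace Groth.Agent.H4RG

attribute [local instance] Algebra.TensorProduct.rightAlgebra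

/-- Exactly one point over `p'` above a point, in a map of rings. -/
def PointLift {R' X X' : Type u} [CommRing R'] [CommRing X] [CommRing X'] [Algebra R' X'] [Algebra X X'] (p' : Ideal R')
    (x : Ideal X) : Prop :=
  (∃ Q : Ideal X', Q.IsPrime ∧ Q.comap (algebraMap R' X') = p' ∧ Q.comap (algebraMap X X') = x) ∧
    ∀ Q₁ Q₂ : Ideal X', Q₁.IsPrime → Q₂.IsPrime → Q₁.comap (algebraMap R' X') = p' → Q₁.comap (algebraMap X X') = x →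
      Q₂.comap (algebraMap R' X') = p' → Q₂.comap (algebraMap X X') = x → Q₁ = Q₂

/-- A complete devissage moved by maps adding nothing at the points is a devissage at the moved point. -/
theorem exists_devissageAt {R S : Type u} [CommRing R] [CommRing S] [Algebra R S]
    {N : Type u} [AddCommGroup N] [Module S N] (p : Ideal R) [p.IsPrime] (q : Ideal S) [q.IsPrime]
    {𝒟 : FlatCA.CompleteDevissage R S N p} (𝒜 : FlatCA.CompleteDevissageAt R S N p q 𝒟)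
    {R' : Type u} [CommRing R'] [Algebra R R'] (p' : Ideal R') [p'.IsPrime] [hp' : p'.LiesOver p]
    (hκ : Function.Bijective (Ideal.ResidueField.mapₐ p p' (Algebra.ofId R R') hp'.over))
    {S' : Type u} [CommRing S'] [Algebra R' S'] [Algebra S S']
    {N' : Type u} [AddCommGroup N'] [Module S' N']
    (q' : Ideal S') [q'.IsPrime]
    (hS : ∀ Q : Ideal S', Q.IsPrime → Q.comap (algebraMap R' S') = p' → Q.comap (algebraMap S S') = q → Q = q')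
    (𝒟' : FlatCA.CompleteDevissage R' S' N' p') (hn : 𝒟'.n = 𝒟.n)
    (htail : ∀ i, 𝒟.n ≤ i → ∃ (Q : Ideal (𝒟'.B i)) (P : Ideal (𝒟'.A i)),
      Q.IsPrime ∧ P.IsPrime ∧ Q.LiesOver p' ∧ P.LiesOver Q)
    [aA : ∀ i : Fin 𝒟.n, Algebra (𝒟.A i) (𝒟'.A i)] [rA : ∀ i : Fin 𝒟.n, Algebra R (𝒟'.A i)]
    [aB : ∀ i : Fin 𝒟.n, Algebra (𝒟.B i) (𝒟'.B i)] [rB : ∀ i : Fin 𝒟.n, Algebra R (𝒟'.B i)]
    [∀ i : Fin 𝒟.n, IsScalarTower R (R') (𝒟'.B i)] [∀ i : Fin 𝒟.n, IsScalarTower R (𝒟.B i) (𝒟'.B i)]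
    [bA : ∀ i : Fin 𝒟.n, Algebra (𝒟.B i) (𝒟'.A i)] [∀ i : Fin 𝒟.n, IsScalarTower (𝒟.B i) (𝒟.A i) (𝒟'.A i)]
    [∀ i : Fin 𝒟.n, IsScalarTower (𝒟.B i) (𝒟'.B i) (𝒟'.A i)]
    [bA' : ∀ i : Fin 𝒟.n, Algebra (𝒟.B i) (𝒟'.A (i + 1))]
    [∀ i : Fin 𝒟.n, IsScalarTower (𝒟.B i) (𝒟'.B i) (𝒟'.A (i + 1))]
    [sA : Algebra S (𝒟'.A 0)] [IsScalarTower S (S') (𝒟'.A 0)]
    [mA : ∀ i : Fin 𝒟.n, Module (𝒟.A i) (𝒟'.M i)] [∀ i : Fin 𝒟.n, IsScalarTower (𝒟.A i) (𝒟'.A i) (𝒟'.M i)]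
    (gM : ∀ i : Fin 𝒟.n, 𝒟.M i →ₗ[𝒟.A i] 𝒟'.M i)
    (h0 : letI := aA ⟨0, 𝒟.pos⟩; IsScalarTower S (𝒟.A 0) (𝒟'.A 0))
    (hlink : ∀ (i : Fin 𝒟.n) (h : (i : ℕ) + 1 < 𝒟.n),
        letI := aA ⟨i + 1, h⟩; IsScalarTower (𝒟.B i) (𝒟.A (i + 1)) (𝒟'.A (i + 1)))
    (hgM : ∀ i : Fin 𝒟.n, IsBaseChange (𝒟'.A i) (gM i))
    (hpush : ∀ i : Fin 𝒟.n, Algebra.IsPushout (𝒟.B i) (𝒟'.B i) (𝒟.A i) (𝒟'.A i))
    (hd : ∀ i : Fin 𝒟.n, FlatCA.SmoothRelDim (𝒜.d i) R' (𝒟'.B i))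
    (hA : ∀ i : Fin 𝒟.n, PointLift (X' := 𝒟'.A i) p' (𝒜.qA i))
    (hB : ∀ i : Fin 𝒟.n, PointLift (X' := 𝒟'.B i) p' (𝒜.qB i))
    (hBκ : ∀ (i : Fin 𝒟.n) (Q : Ideal (𝒟'.B i)) [Q.IsPrime] (_ : Q.comap (algebraMap R' (𝒟'.B i)) = p')
      (h : 𝒜.qB i = Q.comap (algebraMap (𝒟.B i) (𝒟'.B i))),
        haveI := 𝒜.hqB i
        Function.Bijective (Ideal.ResidueField.map (𝒜.qB i) Q (algebraMap (𝒟.B i) (𝒟'.B i)) h))
    (hfib : ∀ (i : Fin 𝒟.n), ∃ hm : Set.MapsTo (PrimeSpectrum.comap (algebraMap (𝒟.B i) (𝒟'.B i)))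
        {Q | Q.asIdeal.comap (algebraMap R' (𝒟'.B i)) = p'} {Q | Q.asIdeal.comap (algebraMap R (𝒟.B i)) = p},
        IsOpenEmbedding hm.restrict) :
    ∃ 𝒜' : FlatCA.CompleteDevissageAt R' S' N' p' q' 𝒟', 𝒜'.d = 𝒜.d ∧
      ∀ i : Fin 𝒟.n, (𝒜'.qB i).LiesOver (𝒜.qB i) ∧ (𝒜'.qA i).LiesOver (𝒜.qA i) := by
  classical
  haveI hqA := 𝒜.hqA
  haveI hqB := 𝒜.hqB
  -- the points below the length
  have keyA : ∀ i : Fin 𝒟.n, ∃ (Z : Ideal (𝒟'.A i)), Z.IsPrime ∧ Z.comap (algebraMap R' (𝒟'.A i)) = p' ∧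
      Z.comap (algebraMap (𝒟.A i) (𝒟'.A i)) = 𝒜.qA i := fun i => (hA i).1
  choose Z hZ hZp hZx using keyA
  let Y : ∀ i : Fin 𝒟.n, Ideal (𝒟'.B i) := fun i => (Z i).comap (algebraMap (𝒟'.B i) (𝒟'.A i))
  have hY : ∀ i, (Y i).IsPrime := fun i => haveI := hZ i; Ideal.comap_isPrime _ _
  have hYp : ∀ i, (Y i).comap (algebraMap R' (𝒟'.B i)) = p' := fun i => by
    rw [Ideal.comap_comap, ← IsScalarTower.algebraMap_eq]
    exact hZp i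
  have hYx : ∀ i : Fin 𝒟.n, (Y i).comap (algebraMap (𝒟.B i) (𝒟'.B i)) = 𝒜.qB i := fun i => by
    rw [Ideal.comap_comap, ← IsScalarTower.algebraMap_eq, IsScalarTower.algebraMap_eq (𝒟.B i) (𝒟.A i) (𝒟'.A i),
      ← Ideal.comap_comap, hZx]
    exact (𝒜.overA i).over.symm
  -- the families
  have hex : ∀ i, ∃ (Q : Ideal (𝒟'.B i)) (P : Ideal (𝒟'.A i)), Q.IsPrime ∧ P.IsPrime ∧ Q.LiesOver p' ∧ P.LiesOver Q ∧
      ∀ h : i < 𝒟.n, Q = Y ⟨i, h⟩ ∧ P = Z ⟨i, h⟩ := by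
    intro i
    by_cases h : i < 𝒟.n
    · exact ⟨Y ⟨i, h⟩, Z ⟨i, h⟩, hY _, hZ ⟨i, h⟩, ⟨(hYp ⟨i, h⟩).symm⟩, ⟨rfl⟩, fun _ => ⟨rfl, rfl⟩⟩
    · obtain ⟨Q, P, h1, h2, h3, h4⟩ := htail i (not_lt.1 h)
      exact ⟨Q, P, h1, h2, h3, h4, fun h' => absurd h' h⟩
  choose qB qA hqB' hqA' hoB hoA heq using hex
  haveI := hqB'
  haveI := hqA'
  haveI := hoB
  have hqBe : ∀ i : Fin 𝒟.n, qB i = Y i := fun i => (heq i i.2).1
  have hqAe : ∀ i : Fin 𝒟.n, qA i = Z i := fun i => (heq i i.2).2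
  have hqBx : ∀ i : Fin 𝒟.n, (qB i).comap (algebraMap (𝒟.B i) (𝒟'.B i)) = 𝒜.qB i := fun i => by
    rw [hqBe]; exact hYx i
  have hpt : ∀ i, i < 𝒟.n → FlatCA.PurelyTranscendental p' (qB i) := by
    intro i hi
    let i' : Fin 𝒟.n := ⟨i, hi⟩
    haveI : (𝒜.qB i').LiesOver p := 𝒜.overB i'
    haveI h1 : (qB i').LiesOver (𝒜.qB i') := ⟨(hqBx i').symm⟩
    have hb : Function.Bijective (Ideal.ResidueField.map (𝒜.qB i') (qB i') (algebraMap (𝒟.B i') (𝒟'.B i')) (hqBx i').symm) :=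
      hBκ i' (qB i') (hoB i).over.symm (hqBx i').symm
    exact purelyTranscendental_transport (A := 𝒟.B i') (D := 𝒟'.B i') p p' (𝒜.qB i') (qB i') hp' h1 hκ hb
      (𝒜.pureTrans i hi)
  have huniq : ∀ i, i < 𝒟.n → ∀ (Q : Ideal (𝒟'.A i)) [Q.IsPrime], Q.LiesOver (qB i) → Q = qA i := by
    intro i hi Q _ hQ
    let i' : Fin 𝒟.n := ⟨i, hi⟩
    have hQp : Q.comap (algebraMap R' (𝒟'.A i)) = p' := by
      rw [IsScalarTower.algebraMap_eq R' (𝒟'.B i) (𝒟'.A i), ← Ideal.comap_comap]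
      exact (congrArg (Ideal.comap (algebraMap R' (𝒟'.B i))) hQ.over.symm).trans (hoB i).over.symm
    have hQx : Q.comap (algebraMap (𝒟.A i') (𝒟'.A i')) = 𝒜.qA i' := by
      refine 𝒜.uniq i hi _ ⟨?_⟩
      show 𝒜.qB i' = (Q.comap (algebraMap (𝒟.A i') (𝒟'.A i'))).comap (algebraMap (𝒟.B i') (𝒟.A i'))
      rw [Ideal.comap_comap, ← IsScalarTower.algebraMap_eq, IsScalarTower.algebraMap_eq (𝒟.B i') (𝒟'.B i') (𝒟'.A i'),
        ← Ideal.comap_comap]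
      exact (hqBx i').symm.trans (congrArg (Ideal.comap (algebraMap (𝒟.B i') (𝒟'.B i'))) hQ.over)
    rw [(heq i hi).2]
    exact (hA i').2 Q (Z i') inferInstance (hZ i') hQp hQx (hZp i') (hZx i')
  have hq0 : (qA 0).comap (algebraMap S' (𝒟'.A 0)) = q' := by
    refine hS _ (Ideal.comap_isPrime _ _) ?_ ?_
    · rw [Ideal.comap_comap, ← IsScalarTower.algebraMap_eq, (heq 0 𝒟.pos).2]
      exact hZp ⟨0, 𝒟.pos⟩
    · letI := aA ⟨0, 𝒟.pos⟩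
      haveI := h0
      rw [Ideal.comap_comap, ← IsScalarTower.algebraMap_eq, IsScalarTower.algebraMap_eq S (𝒟.A 0) (𝒟'.A 0),
        ← Ideal.comap_comap, (heq 0 𝒟.pos).2]
      exact (congrArg (Ideal.comap (algebraMap S (𝒟.A 0))) (hZx ⟨0, 𝒟.pos⟩)).trans 𝒜.q0
  have hstep : ∀ i, i + 1 < 𝒟.n → (qA (i + 1)).comap (algebraMap (𝒟'.B i) (𝒟'.A (i + 1))) = qB i := by
    intro i hi
    let i' : Fin 𝒟.n := ⟨i, Nat.lt_of_succ_lt hi⟩
    let j : Fin 𝒟.n := ⟨i + 1, hi⟩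
    haveI := hqA' (i + 1)
    rw [(heq i (Nat.lt_of_succ_lt hi)).1, (heq (i + 1) hi).2]
    haveI := hZ j
    refine (hB i').2 _ _ (Ideal.comap_isPrime _ _) (hY i') ?_ ?_ (hYp i') (hYx i')
    · show ((Z j).comap (algebraMap (𝒟'.B i) (𝒟'.A (i + 1)))).comap (algebraMap R' (𝒟'.B i)) = p'
      rw [Ideal.comap_comap, ← IsScalarTower.algebraMap_eq]
      exact hZp j
    · letI := aA j
      haveI := hlink i' hi
      show ((Z j).comap (algebraMap (𝒟'.B i') (𝒟'.A (i' + 1)))).comap (algebraMap (𝒟.B i') (𝒟'.B i')) = _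
      rw [Ideal.comap_comap, ← IsScalarTower.algebraMap_eq, IsScalarTower.algebraMap_eq (𝒟.B i') (𝒟.A (i' + 1)) (𝒟'.A (i' + 1)),
        ← Ideal.comap_comap]
      exact (congrArg (Ideal.comap (algebraMap (𝒟.B i') (𝒟.A (i' + 1)))) (hZx j)).trans (𝒜.qStep i hi)
  have hloc : ∀ i, i < 𝒟.n → ∃ (x : PrimeSpectrum (p'.Fiber (𝒟'.B i)))
      (hx : x ∈ Module.support (p'.Fiber (𝒟'.B i)) (FlatCA.fiberMod p' (𝒟'.B i) (𝒟'.M i))),
      x.asIdeal = FlatCA.fiberIdeal p' (qB i) ∧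
      FlatMor.localDim (Module.support (p'.Fiber (𝒟'.B i)) (FlatCA.fiberMod p' (𝒟'.B i) (𝒟'.M i))) ⟨x, hx⟩ = 𝒜.d i := by
    intro i hi
    let i' : Fin 𝒟.n := ⟨i, hi⟩
    haveI : Module.Finite (𝒟.B i') (𝒟.M i') :=
      haveI := 𝒟.finiteBA i hi
      haveI := 𝒟.finiteM i hi
      Module.Finite.trans (𝒟.A i) (𝒟.M i)
    haveI : Module.Finite (𝒟'.B i') (𝒟'.M i') :=
      haveI := 𝒟'.finiteBA i (hn.ge.trans_lt' hi)
      haveI := 𝒟'.finiteM i (hn.ge.trans_lt' hi)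
      Module.Finite.trans (𝒟'.A i) (𝒟'.M i)
    haveI := hpush i'
    letI : Module (𝒟.B i') (𝒟'.M i') := Module.compHom _ (algebraMap (𝒟.B i') (𝒟'.A i'))
    haveI : IsScalarTower (𝒟.B i') (𝒟'.A i') (𝒟'.M i') := IsScalarTower.of_algebraMap_smul fun _ _ => rfl
    haveI : IsScalarTower (𝒟.B i') (𝒟.A i') (𝒟'.M i') := IsScalarTower.of_algebraMap_smul fun b m => by
      rw [← algebraMap_smul (𝒟'.A i') (algebraMap (𝒟.B i') (𝒟.A i') b) m, ← IsScalarTower.algebraMap_apply]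
      rfl
    haveI : IsScalarTower (𝒟.B i') (𝒟'.B i') (𝒟'.M i') := IsScalarTower.of_algebraMap_smul fun b m => by
      rw [← algebraMap_smul (𝒟'.A i') (algebraMap (𝒟.B i') (𝒟'.B i') b) m, ← IsScalarTower.algebraMap_apply]
      rfl
    haveI : (qB i').IsPrime := hqB' i
    obtain ⟨hm, hemb⟩ := hfib i'
    refine (locAt_iff p' (𝒟'.M i') (qB i') (hoB i).over.symm _).2 ?_
    exact LocAt.transport p (𝒟.M i') (g := (gM i').restrictScalars (𝒟.B i'))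
      (isBaseChange_of_pushout (gM i') (hgM i')) hm hemb
      ((locAt_iff p (𝒟.M i') (𝒜.qB i') (𝒜.overB i').over.symm _).1 (𝒜.locDim i hi)) ⟨qB i', inferInstance⟩
      (hoB i).over.symm (PrimeSpectrum.ext (hqBx i'))
  refine ⟨{ qB := qB
            qA := qA
            overA := hoA
            pureTrans := fun i hi => hpt i (hn ▸ hi)
            uniq := fun i hi => huniq i (hn ▸ hi)
            q0 := hq0
            qStep := fun i hi => hstep i (hn ▸ hi)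
            d := 𝒜.d
            relDim := fun i hi => hd ⟨i, hn ▸ hi⟩
            locDim := fun i hi => hloc i (hn ▸ hi) }, rfl, fun i => ⟨⟨(hqBx i).symm⟩, ⟨?_⟩⟩⟩
  show 𝒜.qA i = (qA i).comap (algebraMap (𝒟.A i) (𝒟'.A i))
  rw [hqAe]
  exact (hZx i).symm

end Groth.Agent.H4RG
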