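import Groth.Prelude
import Groth.Agent.H4RG.DevEngine
import Groth.Agent.H4RG.DevPoints
import Mathlib

/-! The base change of a complete devissage as a moved chain. -/

set_option autoImplicit false
set_option linter.style.haveILetI false
set_option backward.isDefEq.respectTransparency.types false

universe u

open TensorProduct

namespace Groth.Agent.H4RG

attribute [local instance] Algebra.TensorProduct.rightAlgebra

/-- Mapping the second factor of a tensor product gives a map of algebras over the first. -/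
noncomputable abbrev tensorMapRight {R R' X Y : Type u} [CommRing R] [CommRing R'] [CommRing X] [CommRing Y] [Algebra R R']
    [Algebra R X] [Algebra R Y] (φ : X →ₐ[R] Y) : R' ⊗[R] X →ₐ[R'] R' ⊗[R] Y :=
  Algebra.TensorProduct.map (AlgHom.id R' R') φ

/-- The pushout squares of the base change of a complete devissage. -/
theorem exists_devTarget_baseChange {R S : Type u} [CommRing R] [CommRing S] [Algebra R S] {N : Type u} [AddCommGroup N]
    [Module S N] (p : Ideal R) [p.IsPrime] (𝒟 : FlatCA.CompleteDevissage R S N p) (R' : Type u) [CommRing R'] [Algebra R R']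
    (p' : Ideal R') [p'.IsPrime] [p'.LiesOver p] (S' : Type u) [CommRing S'] [Algebra R' S'] [Algebra R S'] [Algebra S S']
    [IsScalarTower R R' S'] [IsScalarTower R S S'] [Algebra.IsPushout R R' S S'] :
    ∃ T : DevTarget 𝒟 R' p' S', ∀ i : Fin 𝒟.n,
      Algebra.IsPushout R R' (𝒟.A i) (T.A i) ∧ Algebra.IsPushout R R' (𝒟.B i) (T.B i) := by
  let eS : R' ⊗[R] S ≃ₐ[R'] S' := Algebra.IsPushout.equiv R R' S S'
  letI BA : ∀ i : Fin 𝒟.n, Algebra (R' ⊗[R] 𝒟.B i) (R' ⊗[R] 𝒟.A i) := fun i =>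
    (tensorMapRight (R' := R') (IsScalarTower.toAlgHom R (𝒟.B i) (𝒟.A i))).toRingHom.toAlgebra
  letI bA : ∀ i : Fin 𝒟.n, Algebra (𝒟.B i) (R' ⊗[R] 𝒟.A i) := fun i =>
    ((algebraMap (𝒟.A i) (R' ⊗[R] 𝒟.A i)).comp (algebraMap (𝒟.B i) (𝒟.A i))).toAlgebra
  haveI tBA : ∀ i : Fin 𝒟.n, IsScalarTower R' (R' ⊗[R] 𝒟.B i) (R' ⊗[R] 𝒟.A i) := fun i =>
    IsScalarTower.of_algebraMap_eq fun x => ((tensorMapRight (R' := R') (IsScalarTower.toAlgHom R (𝒟.B i) (𝒟.A i))).commutes x).symm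
  haveI tbA : ∀ i : Fin 𝒟.n, IsScalarTower (𝒟.B i) (𝒟.A i) (R' ⊗[R] 𝒟.A i) := fun i =>
    IsScalarTower.of_algebraMap_eq fun _ => rfl
  haveI tbA' : ∀ i : Fin 𝒟.n, IsScalarTower (𝒟.B i) (R' ⊗[R] 𝒟.B i) (R' ⊗[R] 𝒟.A i) := fun i =>
    IsScalarTower.of_algebraMap_eq fun x => by
      show (1 : R') ⊗ₜ[R] algebraMap (𝒟.B i) (𝒟.A i) x = tensorMapRight (R' := R') _ ((1 : R') ⊗ₜ[R] x)
      simp
  haveI : ∀ i : Fin 𝒟.n, Algebra.Smooth R (𝒟.B i) := fun i => 𝒟.smooth i i.2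
  have hgi : ∀ i : Fin 𝒟.n, FlatCA.GeomIrredFibres R' (R' ⊗[R] 𝒟.B i) := fun i =>
    geomIrredFibres_baseChange (𝒟.geomIrred i i.2) R'
  haveI hgen : ∀ i : Fin 𝒟.n, (p'.map (algebraMap R' (R' ⊗[R] 𝒟.B i))).IsPrime := fun i =>
    (isPrime_map_of_geomIrred (hgi i) p').1
  refine ⟨{ A := fun i => R' ⊗[R] 𝒟.A i
            B := fun i => R' ⊗[R] 𝒟.B i
            lk := fun i h => tensorMapRight (IsScalarTower.toAlgHom R (𝒟.B i) (𝒟.A (i + 1)))
            lk_comm := fun i h x => ?_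
            s0 := (tensorMapRight (IsScalarTower.toAlgHom R S (𝒟.A 0))).comp eS.symm.toAlgHom
            s0_comm := fun x => ?_
            pushBA := fun i => isPushout_step (R := R) (R' := R')
            pushLk := fun i h a b hab hab' he => ?_
            pushS := fun a b hab hab' he => ?_
            smooth := fun i => inferInstance
            geomIrred := hgi
            generic := fun i => comap_map_generic (B := 𝒟.B i) (𝒟.geomIrred i i.2) p p' }, fun i => ⟨?_, ?_⟩⟩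
  · show tensorMapRight (R' := R') _ ((1 : R') ⊗ₜ[R] x) = (1 : R') ⊗ₜ[R] algebraMap (𝒟.B i) (𝒟.A (i + 1)) x
    simp
  · show tensorMapRight (R' := R') _ (eS.symm (algebraMap S S' x)) = (1 : R') ⊗ₜ[R] algebraMap S (𝒟.A 0) x
    have h0 : eS.symm (algebraMap S S' x) = (1 : R') ⊗ₜ[R] x := by
      rw [AlgEquiv.symm_apply_eq]
      simp [eS, Algebra.IsPushout.equiv_tmul]
    rw [h0]
    simp
  · letI := a
    letI := b
    haveI := hab
    haveI := hab'
    let j : Fin 𝒟.n := ⟨i + 1, h⟩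
    letI f : Algebra (𝒟.A j) (R' ⊗[R] 𝒟.A j) := Algebra.TensorProduct.rightAlgebra
    letI : Algebra (𝒟.B i) (𝒟.A j) := 𝒟.aBA' i
    haveI : IsScalarTower R (𝒟.B i) (𝒟.A j) := 𝒟.tRBA' i
    haveI : IsScalarTower (𝒟.B i) (𝒟.A j) (R' ⊗[R] 𝒟.A j) := hab'
    haveI : IsScalarTower R' (R' ⊗[R] 𝒟.B i) (R' ⊗[R] 𝒟.A j) := IsScalarTower.of_algebraMap_eq fun x => by
      rw [he]; exact (AlgHom.commutes _ x).symm
    exact isPushout_step (R := R) (R' := R')
  · letI := a
    letI := b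
    haveI := hab
    haveI := hab'
    let j : Fin 𝒟.n := ⟨0, 𝒟.pos⟩
    letI f : Algebra (𝒟.A j) (R' ⊗[R] 𝒟.A j) := Algebra.TensorProduct.rightAlgebra
    letI : Algebra S (𝒟.A j) := 𝒟.aSA
    haveI : IsScalarTower R S (𝒟.A j) := 𝒟.tRSA
    haveI : IsScalarTower S (𝒟.A j) (R' ⊗[R] 𝒟.A j) := hab'
    haveI : IsScalarTower R' S' (R' ⊗[R] 𝒟.A j) := IsScalarTower.of_algebraMap_eq fun x => by
      rw [he]; exact (AlgHom.commutes _ x).symm
    exact isPushout_step (R := R) (R' := R')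
  · exact inferInstanceAs (Algebra.IsPushout R R' (𝒟.A i) (R' ⊗[R] 𝒟.A i))
  · exact inferInstanceAs (Algebra.IsPushout R R' (𝒟.B i) (R' ⊗[R] 𝒟.B i))

end Groth.Agent.H4RG
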