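import Groth.Prelude
import Groth.Agent.H4RG.DevFibre
import Mathlib

/-! A step in front of a complete devissage of its cokernel. -/

set_option autoImplicit false
set_option linter.style.haveILetI false
set_option backward.isDefEq.respectTransparency.types false

universe u

open TensorProduct

namespace Groth.Agent.H4RG

/-- A step at a point with surjective map from the free module is a complete devissage, and a step followed by a complete
devissage of its cokernel at the point is one. -/
theorem hasCompleteDevissageAt_cons {R S C D : Type u} [CommRing R] [CommRing S] [CommRing C] [CommRing D] [Algebra R S]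
    [Algebra S C] [Algebra R C] [IsScalarTower R S C] [Algebra R D] [Algebra D C] [IsScalarTower R D C]
    (hsurj : Function.Surjective (algebraMap S C)) (hfp : Algebra.FinitePresentation S C) [Module.Finite D C]
    [Algebra.Smooth R D] (n : ℕ) (hn : FlatCA.SmoothRelDim n R D) (hgi : FlatCA.GeomIrredFibres R D)
    (p : Ideal R) [p.IsPrime] [hpD : (p.map (algebraMap R D)).IsPrime] (q : Ideal S) [q.IsPrime]
    {N G : Type u} [AddCommGroup N] [Module S N] [AddCommGroup G] [Module C G] [Module S G] [IsScalarTower S C G]
    [Module D G] [IsScalarTower D C G] [Module R G] [IsScalarTower R D G] [Module.Finite C G] (e : N ≃ₗ[S] G)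
    (z : Ideal C) [z.IsPrime] (y : Ideal D) [y.IsPrime] [hzy : z.LiesOver y] [hyp : y.LiesOver p]
    (hzq : z.comap (algebraMap S C) = q)
    (huniq : ∀ (z₁ : Ideal C) [z₁.IsPrime], z₁.LiesOver y → z₁ = z)
    (hpt : FlatCA.PurelyTranscendental p y) (hloc : LocAt p G (⟨y, inferInstance⟩ : PrimeSpectrum D) n)
    (r : ℕ) (α : (Fin r → D) →ₗ[D] G)
    (hbij : Function.Bijective (α.baseChange (p.map (algebraMap R D)).ResidueField)) :
    (Function.Surjective α → FlatCA.HasCompleteDevissageAt R S N p q) ∧
      (FlatCA.HasCompleteDevissageAt R D (G ⧸ LinearMap.range α) p y → FlatCA.HasCompleteDevissageAt R S N p q) := by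
  haveI : Module.Finite D G := Module.Finite.trans C G
  have hlocD := (locAt_iff p G y hyp.over.symm _).2 hloc
  constructor
  · intro hα
    let A' : ℕ → Type u := fun i => match i with | 0 => C | _ + 1 => D
    let M' : ℕ → Type u := fun i => match i with | 0 => G | _ + 1 => PUnit
    let r' : ℕ → ℕ := fun i => match i with | 0 => r | _ + 1 => 0
    letI cA : ∀ i, CommRing (A' i) := fun i => match i with | 0 => (inferInstance : CommRing C) | _ + 1 => (inferInstance : CommRing D)
    letI aRA : ∀ i, Algebra R (A' i) := fun i =>
      match i with | 0 => (inferInstance : Algebra R C) | _ + 1 => (inferInstance : Algebra R D)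
    letI aBA : ∀ i, Algebra D (A' i) := fun i =>
      match i with | 0 => (inferInstance : Algebra D C) | _ + 1 => (inferInstance : Algebra D D)
    haveI tRBA : ∀ i, IsScalarTower R D (A' i) := fun i =>
      match i with | 0 => (inferInstance : IsScalarTower R D C) | _ + 1 => (inferInstance : IsScalarTower R D D)
    letI gM : ∀ i, AddCommGroup (M' i) := fun i =>
      match i with | 0 => (inferInstance : AddCommGroup G) | _ + 1 => (inferInstance : AddCommGroup PUnit.{u+1})
    letI mAM : ∀ i, Module (A' i) (M' i) := fun i =>
      match i with | 0 => (inferInstance : Module C G) | _ + 1 => (inferInstance : Module D PUnit.{u+1})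
    letI mBM : ∀ i, Module D (M' i) := fun i =>
      match i with | 0 => (inferInstance : Module D G) | _ + 1 => (inferInstance : Module D PUnit.{u+1})
    haveI tBAM : ∀ i, IsScalarTower D (A' i) (M' i) := fun i =>
      match i with | 0 => (inferInstance : IsScalarTower D C G) | _ + 1 => (inferInstance : IsScalarTower D D PUnit.{u+1})
    letI mRM : ∀ i, Module R (M' i) := fun i =>
      match i with | 0 => (inferInstance : Module R G) | _ + 1 => (inferInstance : Module R PUnit.{u+1})
    haveI tRBM : ∀ i, IsScalarTower R D (M' i) := fun i =>
      match i with | 0 => (inferInstance : IsScalarTower R D G) | _ + 1 => ⟨fun _ _ _ => rfl⟩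
    letI aSA : Algebra S (A' 0) := (inferInstance : Algebra S C)
    haveI : IsScalarTower R S (A' 0) := (inferInstance : IsScalarTower R S C)
    letI mSM : Module S (M' 0) := (inferInstance : Module S G)
    haveI : IsScalarTower S (A' 0) (M' 0) := (inferInstance : IsScalarTower S C G)
    let α' : ∀ i, (Fin (r' i) → D) →ₗ[D] M' i := fun i => match i with | 0 => α | _ + 1 => 0
    let 𝒟 : FlatCA.CompleteDevissage R S N p :=
      { n := 1
        pos := Nat.one_pos
        A := A'
        B := fun _ => D
        M := M'
        r := r'
        aBA' := fun i => aBA (i + 1)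
        tRBA' := fun i => tRBA (i + 1)
        mB'M := fun i => mBM (i + 1)
        tB'AM := fun i => tBAM (i + 1)
        hp := fun _ => hpD
        α := α'
        surjSA := hsurj
        fpSA := hfp
        surjBA' := fun i hi => absurd hi (by omega)
        fpBA' := fun i hi => absurd hi (by omega)
        finiteBA := fun i hi => by obtain rfl : i = 0 := (by omega); exact (inferInstance : Module.Finite D C)
        smooth := fun _ _ => inferInstance
        geomIrred := fun _ _ => hgi
        finiteM := fun i hi => by obtain rfl : i = 0 := (by omega); exact (inferInstance : Module.Finite C G)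
        isoN := e
        isoCoker := fun i hi => absurd hi (by omega)
        fibreIso := fun i hi => by obtain rfl : i = 0 := (by omega); exact hbij
        cokerLast := hα }
    let qA : ∀ i, Ideal (𝒟.A i) := fun i => match i with | 0 => z | _ + 1 => y
    have hqA : ∀ i, (qA i).IsPrime := fun i =>
      match i with | 0 => (inferInstance : z.IsPrime) | _ + 1 => (inferInstance : y.IsPrime)
    exact ⟨𝒟, ⟨{ qB := fun _ => y
                 qA := qA
                 hqB := fun _ => inferInstance
                 hqA := hqA
                 overB := fun _ => hyp
                 overA := fun i => match i with | 0 => hzy | _ + 1 => (⟨(Ideal.comap_id y).symm⟩ : y.LiesOver y)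
                 pureTrans := fun _ _ => hpt
                 uniq := fun i hi => by obtain rfl : i = 0 := (by have : i < 1 := hi; omega); exact huniq
                 q0 := hzq
                 qStep := fun i hi => absurd (show i + 1 < 1 from hi) (by omega)
                 d := fun _ => n
                 relDim := fun _ _ => hn
                 locDim := fun i hi => by obtain rfl : i = 0 := (by have : i < 1 := hi; omega); exact hlocD }⟩⟩
  · rintro ⟨T, ⟨𝒜⟩⟩
    haveI := 𝒜.hqA
    haveI := 𝒜.hqB
    let A' : ℕ → Type u := fun i => match i with | 0 => C | j + 1 => T.A j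
    let B' : ℕ → Type u := fun i => match i with | 0 => D | j + 1 => T.B j
    let M' : ℕ → Type u := fun i => match i with | 0 => G | j + 1 => T.M j
    let r' : ℕ → ℕ := fun i => match i with | 0 => r | j + 1 => T.r j
    letI cA : ∀ i, CommRing (A' i) := fun i => match i with | 0 => (inferInstance : CommRing C) | j + 1 => T.cA j
    letI cB : ∀ i, CommRing (B' i) := fun i => match i with | 0 => (inferInstance : CommRing D) | j + 1 => T.cB j
    letI aRA : ∀ i, Algebra R (A' i) := fun i => match i with | 0 => (inferInstance : Algebra R C) | j + 1 => T.aRA j
    letI aRB : ∀ i, Algebra R (B' i) := fun i => match i with | 0 => (inferInstance : Algebra R D) | j + 1 => T.aRB j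
    letI aBA : ∀ i, Algebra (B' i) (A' i) := fun i => match i with | 0 => (inferInstance : Algebra D C) | j + 1 => T.aBA j
    haveI tRBA : ∀ i, IsScalarTower R (B' i) (A' i) := fun i =>
      match i with | 0 => (inferInstance : IsScalarTower R D C) | j + 1 => T.tRBA j
    letI aBA' : ∀ i, Algebra (B' i) (A' (i + 1)) := fun i => match i with | 0 => T.aSA | j + 1 => T.aBA' j
    haveI tRBA' : ∀ i, IsScalarTower R (B' i) (A' (i + 1)) := fun i => match i with | 0 => T.tRSA | j + 1 => T.tRBA' j
    letI gM : ∀ i, AddCommGroup (M' i) := fun i => match i with | 0 => (inferInstance : AddCommGroup G) | j + 1 => T.gM j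
    letI mAM : ∀ i, Module (A' i) (M' i) := fun i => match i with | 0 => (inferInstance : Module C G) | j + 1 => T.mAM j
    letI mBM : ∀ i, Module (B' i) (M' i) := fun i => match i with | 0 => (inferInstance : Module D G) | j + 1 => T.mBM j
    haveI tBAM : ∀ i, IsScalarTower (B' i) (A' i) (M' i) := fun i =>
      match i with | 0 => (inferInstance : IsScalarTower D C G) | j + 1 => T.tBAM j
    letI mRM : ∀ i, Module R (M' i) := fun i => match i with | 0 => (inferInstance : Module R G) | j + 1 => T.mRM j
    haveI tRBM : ∀ i, IsScalarTower R (B' i) (M' i) := fun i =>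
      match i with | 0 => (inferInstance : IsScalarTower R D G) | j + 1 => T.tRBM j
    letI mB'M : ∀ i, Module (B' i) (M' (i + 1)) := fun i => match i with | 0 => T.mSM | j + 1 => T.mB'M j
    haveI tB'AM : ∀ i, IsScalarTower (B' i) (A' (i + 1)) (M' (i + 1)) := fun i =>
      match i with | 0 => T.tSAM | j + 1 => T.tB'AM j
    letI aSA : Algebra S (A' 0) := (inferInstance : Algebra S C)
    haveI : IsScalarTower R S (A' 0) := (inferInstance : IsScalarTower R S C)
    letI mSM : Module S (M' 0) := (inferInstance : Module S G)
    haveI : IsScalarTower S (A' 0) (M' 0) := (inferInstance : IsScalarTower S C G)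
    haveI hp' : ∀ i, (p.map (algebraMap R (B' i))).IsPrime := fun i => match i with | 0 => hpD | j + 1 => T.hp j
    let α' : ∀ i, (Fin (r' i) → B' i) →ₗ[B' i] M' i := fun i => match i with | 0 => α | j + 1 => T.α j
    let 𝒟 : FlatCA.CompleteDevissage R S N p :=
      { n := T.n + 1
        pos := Nat.succ_pos _
        A := A'
        B := B'
        M := M'
        r := r'
        α := α'
        surjSA := hsurj
        fpSA := hfp
        surjBA' := fun i hi => match i, hi with
          | 0, _ => T.surjSA
          | j + 1, hi => T.surjBA' j (Nat.lt_of_succ_lt_succ hi)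
        fpBA' := fun i hi => match i, hi with
          | 0, _ => T.fpSA
          | j + 1, hi => T.fpBA' j (Nat.lt_of_succ_lt_succ hi)
        finiteBA := fun i hi => match i, hi with
          | 0, _ => (inferInstance : Module.Finite D C)
          | j + 1, hi => T.finiteBA j (Nat.lt_of_succ_lt_succ hi)
        smooth := fun i hi => match i, hi with
          | 0, _ => (inferInstance : Algebra.Smooth R D)
          | j + 1, hi => T.smooth j (Nat.lt_of_succ_lt_succ hi)
        geomIrred := fun i hi => match i, hi with
          | 0, _ => hgi
          | j + 1, hi => T.geomIrred j (Nat.lt_of_succ_lt_succ hi)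
        finiteM := fun i hi => match i, hi with
          | 0, _ => (inferInstance : Module.Finite C G)
          | j + 1, hi => T.finiteM j (Nat.lt_of_succ_lt_succ hi)
        isoN := e
        isoCoker := fun i hi => match i, hi with
          | 0, _ => T.isoN
          | j + 1, hi => T.isoCoker j (Nat.lt_of_succ_lt_succ hi)
        fibreIso := fun i hi => match i, hi with
          | 0, _ => hbij
          | j + 1, hi => T.fibreIso j (Nat.lt_of_succ_lt_succ hi)
        cokerLast := by
          have hlast : ∀ j, j + 1 = T.n → Function.Surjective (α' (j + 1)) := fun j hj => by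
            have h := T.cokerLast
            rw [show T.n - 1 = j by omega] at h
            exact h
          have hidx : T.n + 1 - 1 = (T.n - 1) + 1 := by have := T.pos; omega
          rw [hidx]
          exact hlast _ (by have := T.pos; omega) }
    let qB : ∀ i, Ideal (B' i) := fun i => match i with | 0 => y | j + 1 => 𝒜.qB j
    let qA : ∀ i, Ideal (A' i) := fun i => match i with | 0 => z | j + 1 => 𝒜.qA j
    have hqB : ∀ i, (qB i).IsPrime := fun i => match i with | 0 => (inferInstance : y.IsPrime) | j + 1 => 𝒜.hqB j
    have hqA : ∀ i, (qA i).IsPrime := fun i => match i with | 0 => (inferInstance : z.IsPrime) | j + 1 => 𝒜.hqA j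
    let d : ℕ → ℕ := fun i => match i with | 0 => n | j + 1 => 𝒜.d j
    exact ⟨𝒟, ⟨{ qB := qB
                 qA := qA
                 hqB := hqB
                 hqA := hqA
                 overB := fun i => match i with | 0 => hyp | j + 1 => 𝒜.overB j
                 overA := fun i => match i with | 0 => hzy | j + 1 => 𝒜.overA j
                 pureTrans := fun i hi => match i, hi with
                   | 0, _ => hpt
                   | j + 1, hi => 𝒜.pureTrans j (Nat.lt_of_succ_lt_succ hi)
                 uniq := fun i hi => match i, hi with
                   | 0, _ => huniq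
                   | j + 1, hi => 𝒜.uniq j (Nat.lt_of_succ_lt_succ hi)
                 q0 := hzq
                 qStep := fun i hi => match i, hi with
                   | 0, _ => 𝒜.q0
                   | j + 1, hi => 𝒜.qStep j (Nat.lt_of_succ_lt_succ hi)
                 d := d
                 relDim := fun i hi => match i, hi with
                   | 0, _ => hn
                   | j + 1, hi => 𝒜.relDim j (Nat.lt_of_succ_lt_succ hi)
                 locDim := fun i hi => match i, hi with
                   | 0, _ => hlocD
                   | j + 1, hi => 𝒜.locDim j (Nat.lt_of_succ_lt_succ hi) }⟩⟩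

end Groth.Agent.H4RG
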