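import Groth.Prelude
import Groth.Agent.H4RG.DevShrink
import Mathlib

/-! Standard shrinkings at a point, on the chosen models of the localisations. -/

set_option autoImplicit false
set_option linter.style.haveILetI false
set_option backward.isDefEq.respectTransparency.types false

universe u

open TensorProduct

namespace Groth.Agent.H4RG

/-- The prime of a localisation over a prime avoiding the element. -/
theorem isPrime_map_away {A : Type u} [CommRing A] (a : A) (P : Ideal A) [hP : P.IsPrime] (ha : a ∉ P) :
    (P.map (algebraMap A (Localization.Away a))).IsPrime ∧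
      (P.map (algebraMap A (Localization.Away a))).comap (algebraMap A (Localization.Away a)) = P :=
  ⟨IsLocalization.isPrime_of_isPrime_disjoint (Submonoid.powers a) _ P hP ((Ideal.disjoint_powers_iff_notMem_of_isPrime a).2 ha),
    IsLocalization.comap_map_of_isPrime_disjoint (Submonoid.powers a) _ hP ((Ideal.disjoint_powers_iff_notMem_of_isPrime a).2 ha)⟩

/-- A prime of a localisation is the extension of its contraction. -/
theorem map_comap_away {A : Type u} [CommRing A] (a : A) (J : Ideal (Localization.Away a)) (P : Ideal A)
    (h : J.comap (algebraMap A (Localization.Away a)) = P) : J = P.map (algebraMap A (Localization.Away a)) :=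
  h ▸ (IsLocalization.map_comap (Submonoid.powers a) _ J).symm

/-- If inverting `b` inverts `e` then inverting `e * b` is inverting `b`. -/
theorem isLocalization_away_right {A : Type u} [CommRing A] (e b : A) (h : IsUnit (algebraMap A (Localization.Away b) e))
    {x : A} (hx : x = e * b) : IsLocalization.Away b (Localization.Away x) := by
  subst hx
  haveI : IsLocalization.Away (e * b) (Localization.Away b) := IsLocalization.Away.mul_of_isUnit' (S := Localization.Away b) e b h
  exact IsLocalization.isLocalization_of_algEquiv (Submonoid.powers b)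
    (IsLocalization.algEquiv (Submonoid.powers (e * b)) (Localization.Away b) (Localization.Away (e * b)))

variable {R S C D : Type u} [CommRing R] [CommRing S] [CommRing C] [CommRing D] [Algebra R S] [Algebra S C]
  [Algebra R C] [IsScalarTower R S C] [Algebra R D] [Algebra D C] [IsScalarTower R D C]

/-- A standard shrinking of a one-step devissage at a point. -/
theorem exists_standardShrinking_core
    (N : Type u) [AddCommGroup N] [Module S N] [Module R N] [IsScalarTower R S N] [Module.Finite S N]
    (p : Ideal R) [p.IsPrime] (q : Ideal S) [q.IsPrime] [hqp : q.LiesOver p]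
    (G : Type u) [AddCommGroup G] [Module C G] [Module S G] [IsScalarTower S C G] (n : ℕ)
    (h : FlatCA.IsOneStepDevissage R S N p C D G n)
    (z : Ideal C) [z.IsPrime] (y : Ideal D) [y.IsPrime] [hzq : z.LiesOver q] [hzy : z.LiesOver y] [hyp : y.LiesOver p]
    (h1 : ∃ (ξ : PrimeSpectrum (p.Fiber S)) (hξ : ξ ∈ Module.support (p.Fiber S) (FlatCA.fiberMod p S N)),
      ξ.asIdeal = FlatCA.fiberIdeal p q ∧
      FlatMor.localDim (Module.support (p.Fiber S) (FlatCA.fiberMod p S N)) ⟨ξ, hξ⟩ = n)
    (h3 : ∀ (z₁ : Ideal C) [z₁.IsPrime], z₁.LiesOver y → z₁ = z)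
    (h4 : FlatCA.PurelyTranscendental p y)
    (g : R) (hX : S) (hY : D) (hgp : g ∉ p) (hXq : hX ∉ q) (hYy : hY ∉ y)
    (ugX : IsUnit (algebraMap R (Localization.Away hX) g)) (ugY : IsUnit (algebraMap R (Localization.Away hY) g))
    (hne : ∀ P : PrimeSpectrum R, g ∉ P.asIdeal →
      ∃ Q : PrimeSpectrum D, hY ∉ Q.asIdeal ∧ PrimeSpectrum.comap (algebraMap R D) Q = P)
    (hloc : IsLocalization.Away (algebraMap D C hY) (Localization.Away (algebraMap S C hX))) :
    ∃ (hZ : C), hZ ∉ z ∧
      ∃ (_ : Algebra (Localization.Away g) (Localization.Away hX)) (_ : IsScalarTower R (Localization.Away g) (Localization.Away hX))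
        (_ : Algebra (Localization.Away g) (Localization.Away hZ)) (_ : IsScalarTower R (Localization.Away g) (Localization.Away hZ))
        (_ : Algebra (Localization.Away g) (Localization.Away hY)) (_ : IsScalarTower R (Localization.Away g) (Localization.Away hY))
        (_ : Algebra (Localization.Away hX) (Localization.Away hZ)) (_ : IsScalarTower S (Localization.Away hX) (Localization.Away hZ))
        (_ : IsScalarTower (Localization.Away g) (Localization.Away hX) (Localization.Away hZ))
        (_ : Algebra (Localization.Away hY) (Localization.Away hZ)) (_ : IsScalarTower D (Localization.Away hY) (Localization.Away hZ))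
        (_ : IsScalarTower (Localization.Away g) (Localization.Away hY) (Localization.Away hZ))
        (_ : Module (Localization.Away g) (LocalizedModule (Submonoid.powers hX) N)) (_ : IsScalarTower (Localization.Away g) (Localization.Away hX) (LocalizedModule (Submonoid.powers hX) N))
        (_ : Module (Localization.Away hX) (LocalizedModule (Submonoid.powers hZ) G)) (_ : IsScalarTower (Localization.Away hX) (Localization.Away hZ) (LocalizedModule (Submonoid.powers hZ) G))
        (_ : (Ideal.map (algebraMap R (Localization.Away g)) p).IsPrime) (_ : (Ideal.map (algebraMap D (Localization.Away hY)) y).IsPrime) (_ : (Ideal.map (algebraMap D (Localization.Away hY)) y).LiesOver (Ideal.map (algebraMap R (Localization.Away g)) p)),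
        FlatCA.IsOneStepDevissage (Localization.Away g) (Localization.Away hX) (LocalizedModule (Submonoid.powers hX) N) (Ideal.map (algebraMap R (Localization.Away g)) p) (Localization.Away hZ) (Localization.Away hY) (LocalizedModule (Submonoid.powers hZ) G) n ∧
        (∃ (ξ : PrimeSpectrum ((Ideal.map (algebraMap R (Localization.Away g)) p).Fiber (Localization.Away hX)))
            (hξ : ξ ∈ Module.support ((Ideal.map (algebraMap R (Localization.Away g)) p).Fiber (Localization.Away hX)) (FlatCA.fiberMod (Ideal.map (algebraMap R (Localization.Away g)) p) (Localization.Away hX) (LocalizedModule (Submonoid.powers hX) N))),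
          ξ.asIdeal = FlatCA.fiberIdeal (Ideal.map (algebraMap R (Localization.Away g)) p) (Ideal.map (algebraMap S (Localization.Away hX)) q) ∧
          FlatMor.localDim (Module.support ((Ideal.map (algebraMap R (Localization.Away g)) p).Fiber (Localization.Away hX)) (FlatCA.fiberMod (Ideal.map (algebraMap R (Localization.Away g)) p) (Localization.Away hX) (LocalizedModule (Submonoid.powers hX) N))) ⟨ξ, hξ⟩ = n) ∧
        (Ideal.map (algebraMap C (Localization.Away hZ)) z).LiesOver (Ideal.map (algebraMap S (Localization.Away hX)) q) ∧ (Ideal.map (algebraMap C (Localization.Away hZ)) z).LiesOver (Ideal.map (algebraMap D (Localization.Away hY)) y) ∧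
        (∀ (z₂ : Ideal (Localization.Away hZ)) [z₂.IsPrime], z₂.LiesOver (Ideal.map (algebraMap D (Localization.Away hY)) y) → z₂ = Ideal.map (algebraMap C (Localization.Away hZ)) z) ∧
        FlatCA.PurelyTranscendental (Ideal.map (algebraMap R (Localization.Away g)) p) (Ideal.map (algebraMap D (Localization.Away hY)) y) := by
  haveI := hloc
  obtain ⟨⟨-⟩, -, -, -, -, hsm, -⟩ := id h
  haveI : Algebra.Smooth R D := by
    haveI : AlgebraicGeometry.SmoothOfRelativeDimension n (AlgebraicGeometry.Spec.map (CommRingCat.ofHom (algebraMap R D))) := hsm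
    exact RingHom.smooth_algebraMap.1 ((AlgebraicGeometry.HasRingHomProperty.Spec_iff (P := @AlgebraicGeometry.Smooth)).1
      (AlgebraicGeometry.SmoothOfRelativeDimension.smooth (n := n) (AlgebraicGeometry.Spec.map (CommRingCat.ofHom (algebraMap R D)))))
  set hZ := algebraMap S C hX with hZdef
  have hZz : hZ ∉ z := fun hc => hXq (hzq.over.symm ▸ hc)
  refine ⟨hZ, hZz, ?_⟩
  let R' := Localization.Away g
  let S' := Localization.Away hX
  let C' := Localization.Away hZ
  let D' := Localization.Away hY
  have uX : IsUnit (algebraMap S C' hX) := by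
    rw [IsScalarTower.algebraMap_apply S C C']
    exact IsLocalization.Away.algebraMap_isUnit hZ
  have uY : IsUnit (algebraMap D C' hY) := by
    rw [IsScalarTower.algebraMap_apply D C C']
    exact IsLocalization.Away.algebraMap_isUnit (algebraMap D C hY)
  letI a1 : Algebra R' S' := (IsLocalization.Away.lift g ugX).toAlgebra
  haveI t1 : IsScalarTower R R' S' := IsScalarTower.of_algebraMap_eq fun x => (IsLocalization.Away.lift_eq g ugX x).symm
  letI a2 : Algebra S' C' := (IsLocalization.Away.lift hX uX).toAlgebra
  haveI t2 : IsScalarTower S S' C' := IsScalarTower.of_algebraMap_eq fun x => (IsLocalization.Away.lift_eq hX uX x).symm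
  letI a3 : Algebra R' C' := ((algebraMap S' C').comp (algebraMap R' S')).toAlgebra
  haveI t3 : IsScalarTower R' S' C' := IsScalarTower.of_algebraMap_eq fun _ => rfl
  haveI t4 : IsScalarTower R R' C' := IsScalarTower.of_algebraMap_eq fun x => by
    show algebraMap R C' x = algebraMap S' C' (algebraMap R' S' (algebraMap R R' x))
    rw [← IsScalarTower.algebraMap_apply R R' S', IsScalarTower.algebraMap_apply R S S',
      ← IsScalarTower.algebraMap_apply S S' C', ← IsScalarTower.algebraMap_apply R S C']
  letI a4 : Algebra R' D' := (IsLocalization.Away.lift g ugY).toAlgebra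
  haveI t5 : IsScalarTower R R' D' := IsScalarTower.of_algebraMap_eq fun x => (IsLocalization.Away.lift_eq g ugY x).symm
  letI a5 : Algebra D' C' := (IsLocalization.Away.lift hY uY).toAlgebra
  haveI t6 : IsScalarTower D D' C' := IsScalarTower.of_algebraMap_eq fun x => (IsLocalization.Away.lift_eq hY uY x).symm
  haveI t7 : IsScalarTower R' D' C' := IsScalarTower.of_algebraMap_eq' (IsLocalization.ringHom_ext (Submonoid.powers g)
    (RingHom.ext fun x => by
      show algebraMap R' C' (algebraMap R R' x) = algebraMap D' C' (algebraMap R' D' (algebraMap R R' x))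
      rw [← IsScalarTower.algebraMap_apply R R' C', ← IsScalarTower.algebraMap_apply R R' D',
        IsScalarTower.algebraMap_apply R D D', ← IsScalarTower.algebraMap_apply D D' C',
        ← IsScalarTower.algebraMap_apply R D C']))
  let N' := LocalizedModule (Submonoid.powers hX) N
  let G' := LocalizedModule (Submonoid.powers hZ) G
  letI m1 : Module R' N' := Module.compHom N' (algebraMap R' S')
  haveI t8 : IsScalarTower R' S' N' := IsScalarTower.of_algebraMap_smul fun _ _ => rfl
  letI m2 : Module S' G' := Module.compHom G' (algebraMap S' C')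
  haveI t9 : IsScalarTower S' C' G' := IsScalarTower.of_algebraMap_smul fun _ _ => rfl
  haveI hpp := (isPrime_map_away g p hgp).1
  haveI hop : (p.map (algebraMap R R')).LiesOver p := ⟨(isPrime_map_away g p hgp).2.symm⟩
  haveI hqq := (isPrime_map_away hX q hXq).1
  haveI hoq : (q.map (algebraMap S S')).LiesOver q := ⟨(isPrime_map_away hX q hXq).2.symm⟩
  haveI hyy := (isPrime_map_away hY y hYy).1
  haveI hoy : (y.map (algebraMap D D')).LiesOver y := ⟨(isPrime_map_away hY y hYy).2.symm⟩
  haveI hzz := (isPrime_map_away hZ z hZz).1
  have hoz := (isPrime_map_away hZ z hZz).2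
  haveI hyp' : (y.map (algebraMap D D')).LiesOver (p.map (algebraMap R R')) := by
    refine ⟨(map_comap_away g ((y.map (algebraMap D D')).comap (algebraMap R' D')) p ?_).symm⟩
    rw [Ideal.comap_comap, ← IsScalarTower.algebraMap_eq, IsScalarTower.algebraMap_eq R D D', ← Ideal.comap_comap,
      (isPrime_map_away hY y hYy).2]
    exact hyp.over.symm
  haveI hqp' : (q.map (algebraMap S S')).LiesOver (p.map (algebraMap R R')) := by
    refine ⟨(map_comap_away g ((q.map (algebraMap S S')).comap (algebraMap R' S')) p ?_).symm⟩
    rw [Ideal.comap_comap, ← IsScalarTower.algebraMap_eq, IsScalarTower.algebraMap_eq R S S', ← Ideal.comap_comap,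
      (isPrime_map_away hX q hXq).2]
    exact hqp.over.symm
  obtain ⟨hstep, hdim⟩ := isOneStepDevissage_away (R' := R') (S' := S') (C' := C') (D' := D') g hX hY p q h h1 hne (p.map (algebraMap R R'))
    (q.map (algebraMap S S')) (LocalizedModule.mkLinearMap (Submonoid.powers hX) N)
    (IsLocalizedModule.isBaseChange (Submonoid.powers hX) S' (LocalizedModule.mkLinearMap (Submonoid.powers hX) N))
    (LocalizedModule.mkLinearMap (Submonoid.powers hZ) G)
    (IsLocalizedModule.isBaseChange (Submonoid.powers hZ) C' (LocalizedModule.mkLinearMap (Submonoid.powers hZ) G))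
  refine ⟨a1, t1, a3, t4, a4, t5, a2, t2, t3, a5, t6, t7, m1, t8, m2, t9, hpp, hyy, hyp', hstep, hdim,
    ⟨?_⟩, ⟨?_⟩, fun z₂ _ hz₂ => map_comap_away hZ z₂ z (h3 _ ⟨?_⟩), ?_⟩
  · refine (map_comap_away hX ((z.map (algebraMap C C')).comap (algebraMap S' C')) q ?_).symm
    rw [Ideal.comap_comap, ← IsScalarTower.algebraMap_eq, IsScalarTower.algebraMap_eq S C C', ← Ideal.comap_comap, hoz]
    exact hzq.over.symm
  · refine (map_comap_away hY ((z.map (algebraMap C C')).comap (algebraMap D' C')) y ?_).symm
    rw [Ideal.comap_comap, ← IsScalarTower.algebraMap_eq, IsScalarTower.algebraMap_eq D C C', ← Ideal.comap_comap, hoz]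
    exact hzy.over.symm
  · show y = (z₂.comap (algebraMap C C')).comap (algebraMap D C)
    rw [Ideal.comap_comap, ← IsScalarTower.algebraMap_eq, IsScalarTower.algebraMap_eq D D' C', ← Ideal.comap_comap]
    exact hoy.over.trans (congrArg (Ideal.comap (algebraMap D D')) hz₂.over)
  · exact purelyTranscendental_transport p (p.map (algebraMap R R')) y (y.map (algebraMap D D')) hop hoy
      (isEtaleNhd_away g (⟨_, hpp⟩ : PrimeSpectrum R') p hop.over.symm).2.choose_spec
      (isEtaleNhd_away hY (⟨_, hyy⟩ : PrimeSpectrum D') y hoy.over.symm).2.choose_spec h4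

end Groth.Agent.H4RG
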