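import Groth.Prelude
import Groth.Agent.H4RG.DevShrinkAt
import Groth.Agent.H4RG.DevEngineTools
import Groth.Agent.DescLib.LocalDim
import Groth.Agent.FibDim.RingLoc
import Groth.Agent.FibDim.Top
import Groth.Agent.S2768
import Mathlib

/-! Local dimensions of fibre supports through etale maps, and the dimension bookkeeping of one step. -/

set_option autoImplicit false
set_option linter.style.haveILetI false
set_option backward.isDefEq.respectTransparency.types false

universe u

open TensorProduct Topology AlgebraicGeometry CategoryTheory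

namespace Groth.Agent.H4RG

attribute [local instance] Algebra.TensorProduct.rightAlgebra

/-- A localisation at an element is a localisation of any intermediate one. -/
theorem isLocalization_away_of_tower {A A' B : Type u} [CommRing A] [CommRing A'] [CommRing B] [Algebra A A']
    [Algebra A B] [Algebra A' B] [IsScalarTower A A' B] (x y : A) [IsLocalization.Away x A'] [IsLocalization.Away y B] :
    IsLocalization.Away (algebraMap A A' y) B := by
  refine IsLocalization.Away.mk _ ?_ (fun z => ?_) (fun a b hab => ?_)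
  · rw [← IsScalarTower.algebraMap_apply]
    exact IsLocalization.Away.algebraMap_isUnit y
  · obtain ⟨m, a, ha⟩ := IsLocalization.Away.surj y z
    exact ⟨m, algebraMap A A' a, by rw [← IsScalarTower.algebraMap_apply, ← IsScalarTower.algebraMap_apply, ha]⟩
  · obtain ⟨m, a₀, ha⟩ := IsLocalization.Away.surj x a
    obtain ⟨k, b₀, hb⟩ := IsLocalization.Away.surj x b
    have h0 : algebraMap A B (a₀ * x ^ k) = algebraMap A B (b₀ * x ^ m) := by
      simp only [map_mul, map_pow, IsScalarTower.algebraMap_apply A A' B]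
      rw [← ha, ← hb, map_mul, map_mul, map_pow, map_pow, hab]
      ring
    obtain ⟨c, hc⟩ := IsLocalization.Away.exists_of_eq y h0
    refine ⟨c, ((IsLocalization.Away.algebraMap_isUnit (S := A') x).pow (m + k)).mul_right_cancel ?_⟩
    have h1 := congrArg (algebraMap A A') hc
    simp only [map_mul, map_pow, ← ha, ← hb] at h1
    rw [pow_add]
    linear_combination h1

/-- The local dimension of a fibre support as a fibre dimension of the closed subscheme cut out by the annihilator. -/
theorem locAt_iff_fibreDimAt {R X : Type u} [CommRing R] [CommRing X] [Algebra R X] (p : Ideal R) [p.IsPrime]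
    (M : Type u) [AddCommGroup M] [Module X M] (I : Ideal X)
    (hI : ∀ Q : PrimeSpectrum X, Q.asIdeal.comap (algebraMap R X) = p → (Module.annihilator X M ≤ Q.asIdeal ↔ I ≤ Q.asIdeal))
    (Q : PrimeSpectrum (X ⧸ I)) (hQ : Q.asIdeal.comap (algebraMap R (X ⧸ I)) = p) (n : WithBot ℕ∞) :
    LocAt p M (PrimeSpectrum.comap (Ideal.Quotient.mk I) Q) n ↔
      FlatMor.fibreDimAt (Spec.map (CommRingCat.ofHom (algebraMap R (X ⧸ I)))) Q = n := by
  let F : Set (PrimeSpectrum (X ⧸ I)) := {P | P.asIdeal.comap (algebraMap R (X ⧸ I)) = p}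
  have hcomap : ∀ P : PrimeSpectrum (X ⧸ I),
      (PrimeSpectrum.comap (Ideal.Quotient.mk I) P).asIdeal.comap (algebraMap R X) = P.asIdeal.comap (algebraMap R (X ⧸ I)) :=
    fun P => rfl
  have hle : ∀ P : PrimeSpectrum (X ⧸ I), I ≤ (PrimeSpectrum.comap (Ideal.Quotient.mk I) P).asIdeal := fun P a ha => by
    show Ideal.Quotient.mk I a ∈ P.asIdeal
    rw [Ideal.Quotient.eq_zero_iff_mem.2 ha]
    exact zero_mem _
  have hemb : IsEmbedding (PrimeSpectrum.comap (Ideal.Quotient.mk I)) :=
    (PrimeSpectrum.isClosedEmbedding_comap_of_surjective (X ⧸ I) (Ideal.Quotient.mk I) Ideal.Quotient.mk_surjective).isEmbedding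
  let g : F → PrimeSpectrum X := fun P => PrimeSpectrum.comap (Ideal.Quotient.mk I) P.1
  have hg : IsEmbedding g := hemb.comp IsEmbedding.subtypeVal
  have hr : Set.range g = suppOver X p M := by
    ext P
    constructor
    · rintro ⟨P, rfl⟩
      exact ⟨(hcomap P.1).trans P.2, (hI _ ((hcomap P.1).trans P.2)).2 (hle P.1)⟩
    · intro hP
      obtain ⟨P', hP'⟩ : P ∈ Set.range (PrimeSpectrum.comap (Ideal.Quotient.mk I)) := by
        rw [range_comap_of_surjective _ _ Ideal.Quotient.mk_surjective, Ideal.mk_ker]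
        exact (hI P hP.1).1 hP.2
      exact ⟨⟨P', (hcomap P').symm.trans (hP' ▸ hP.1)⟩, hP'⟩
  let e : F ≃ₜ suppOver X p M := hg.toHomeomorph.trans (Homeomorph.setCongr hr)
  obtain ⟨q, hq⟩ : ∃ q : PrimeSpectrum (X ⧸ I), q = Q := ⟨Q, rfl⟩
  subst hq
  have hp : q.asIdeal.under R = p := hQ
  subst hp
  obtain ⟨ξ, hξ⟩ := FibDim.exists_fiber_point (A := R) q
  rw [← FibDim.localDim_fiber_eq_fibreDimAt q ξ hξ]
  let ep := PrimeSpectrum.preimageHomeomorphFiber R (X ⧸ I) ⟨q.asIdeal.under R, inferInstance⟩
  let c : ↥(PrimeSpectrum.comap (algebraMap R (X ⧸ I)) ⁻¹' {(⟨q.asIdeal.under R, inferInstance⟩ : PrimeSpectrum R)}) ≃ₜ F :=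
    Homeomorph.setCongr (Set.ext fun P => ⟨fun h => congrArg PrimeSpectrum.asIdeal h, fun h => PrimeSpectrum.ext h⟩)
  let H := ep.symm.trans (c.trans e)
  have hH : (H ξ).1 = PrimeSpectrum.comap (Ideal.Quotient.mk I) q :=
    congrArg (PrimeSpectrum.comap (Ideal.Quotient.mk I))
      (PrimeSpectrum.ext hξ : (ep.symm ξ).1 = q)
  rw [← FibDim.localDim_homeomorph H ξ]
  constructor
  · rintro ⟨hmem, rfl⟩
    exact congrArg (FlatMor.localDim _) (Subtype.ext hH)
  · intro h
    exact ⟨hH ▸ (H ξ).2, (congrArg (FlatMor.localDim _) (Subtype.ext hH.symm)).trans h⟩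

/-- The local dimension of a fibre support is kept by etale maps. -/
theorem LocAt.etale {R X R' X' : Type u} [CommRing R] [CommRing X] [CommRing R'] [CommRing X'] [Algebra R X]
    [Algebra R' X'] [Algebra R R'] [Algebra X X'] [Algebra R X'] [IsScalarTower R R' X'] [IsScalarTower R X X']
    [Algebra.Etale R R'] [Algebra.Etale X X'] (p : Ideal R) [p.IsPrime] (p' : Ideal R') [p'.IsPrime]
    {M M' : Type u} [AddCommGroup M] [Module X M] [Module.Finite X M] [AddCommGroup M'] [Module X' M'] [Module X M']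
    [IsScalarTower X X' M'] {g : M →ₗ[X] M'} (hg : IsBaseChange X' g) {Q : PrimeSpectrum X} {n : WithBot ℕ∞}
    (h : LocAt p M Q n) (Q' : PrimeSpectrum X') (hQ' : Q'.asIdeal.comap (algebraMap R' X') = p')
    (hQQ : PrimeSpectrum.comap (algebraMap X X') Q' = Q) : LocAt p' M' Q' n := by
  subst hQQ
  let I := Module.annihilator X M
  let I' : Ideal X' := I.map (algebraMap X X')
  obtain ⟨hmem, -⟩ := id h
  have hI' : I' ≤ Q'.asIdeal := Ideal.map_le_iff_le_comap.2 hmem.2
  obtain ⟨P, hP⟩ : PrimeSpectrum.comap (algebraMap X X') Q' ∈ Set.range (PrimeSpectrum.comap (Ideal.Quotient.mk I)) := by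
    rw [range_comap_of_surjective _ _ Ideal.Quotient.mk_surjective, Ideal.mk_ker]
    exact hmem.2
  obtain ⟨P', hP'⟩ : Q' ∈ Set.range (PrimeSpectrum.comap (Ideal.Quotient.mk I')) := by
    rw [range_comap_of_surjective _ _ Ideal.Quotient.mk_surjective, Ideal.mk_ker]
    exact hI'
  rw [← hP] at h
  rw [← hP']
  have hp : P.asIdeal.comap (algebraMap R (X ⧸ I)) = p := by
    have := hmem.1
    rw [← hP] at this
    exact this
  have hp' : P'.asIdeal.comap (algebraMap R' (X' ⧸ I')) = p' := by
    have := hQ'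
    rw [← hP'] at this
    exact this
  refine (locAt_iff_fibreDimAt p' M' I' (fun R₁ _ => ?_) P' hp' n).2 ?_
  · exact (annihilator_le_iff_of_isBaseChange M g hg R₁).trans Ideal.map_le_iff_le_comap.symm
  have h0 := (locAt_iff_fibreDimAt p M I (fun R₁ _ => Iff.rfl) P hp n).1 h
  have hI : I ≤ I'.comap (algebraMap X X') := Ideal.le_comap_map
  let φ : X ⧸ I →+* X' ⧸ I' := Ideal.quotientMap I' (algebraMap X X') hI
  haveI : IsScalarTower X (X ⧸ I) (X' ⧸ I') := IsScalarTower.of_algebraMap_eq fun x => by
    rw [IsScalarTower.algebraMap_apply X X' (X' ⧸ I')]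
    exact (Ideal.quotientMap_mk (I := I') (f := algebraMap X X') (H := hI) (x := x)).symm
  haveI : Algebra.Etale (X ⧸ I) (X' ⧸ I') := by
    haveI : Algebra.Etale (X ⧸ I) ((X ⧸ I) ⊗[X] X') := inferInstance
    refine Algebra.Etale.of_equiv (R := X ⧸ I) (A := (X ⧸ I) ⊗[X] X') ?_
    refine (AlgEquiv.ofRingEquiv (f := (Algebra.TensorProduct.quotIdealMapEquivQuotTensor X' I).symm.toRingEquiv) fun x => ?_)
    obtain ⟨x, rfl⟩ := Ideal.Quotient.mk_surjective x
    show (Algebra.TensorProduct.quotIdealMapEquivQuotTensor X' I).symm (algebraMap (X ⧸ I) _ (Ideal.Quotient.mk I x)) = _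
    rw [AlgEquiv.commutes]
  let a : Spec (CommRingCat.of (X' ⧸ I')) ⟶ Spec (CommRingCat.of (X ⧸ I)) :=
    Spec.map (CommRingCat.ofHom (algebraMap (X ⧸ I) (X' ⧸ I')))
  let b : Spec (CommRingCat.of R') ⟶ Spec (CommRingCat.of R) := Spec.map (CommRingCat.ofHom (algebraMap R R'))
  haveI : Etale a := HasRingHomProperty.Spec_iff.2 (RingHom.etale_algebraMap.2 inferInstance)
  haveI : Etale b := HasRingHomProperty.Spec_iff.2 (RingHom.etale_algebraMap.2 inferInstance)
  have comm : Spec.map (CommRingCat.ofHom (algebraMap R' (X' ⧸ I'))) ≫ b =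
      a ≫ Spec.map (CommRingCat.ofHom (algebraMap R (X ⧸ I))) := by
    rw [← Spec.map_comp, ← Spec.map_comp, ← CommRingCat.ofHom_comp, ← CommRingCat.ofHom_comp]
    congr 2
    refine RingHom.ext fun r => ?_
    show algebraMap R' (X' ⧸ I') (algebraMap R R' r) = φ (Ideal.Quotient.mk I (algebraMap R X r))
    rw [Ideal.quotientMap_mk, ← IsScalarTower.algebraMap_apply R X X', IsScalarTower.algebraMap_apply R' X' (X' ⧸ I'),
      ← IsScalarTower.algebraMap_apply R R' X']
    rfl
  have haP : a P' = P := by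
    refine (PrimeSpectrum.isClosedEmbedding_comap_of_surjective (X ⧸ I) (Ideal.Quotient.mk I) Ideal.Quotient.mk_surjective).injective ?_
    rw [hP]
    refine PrimeSpectrum.ext (Ideal.ext fun x => ?_)
    show φ (Ideal.Quotient.mk I x) ∈ P'.asIdeal ↔ algebraMap X X' x ∈ Q'.asIdeal
    rw [Ideal.quotientMap_mk]
    exact iff_of_eq (congrArg (fun z : PrimeSpectrum X' => algebraMap X X' x ∈ z.asIdeal) hP')
  rw [← DescLib.fibreDimAt_eq_of_etale _ _ a b comm P', haP]
  exact h0

/-- Supports of fibres of a module over a quotient are those of the module. -/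
theorem locAt_iff_of_surjective {R S C : Type u} [CommRing R] [CommRing S] [CommRing C] [Algebra R S] [Algebra R C]
    [Algebra S C] [IsScalarTower R S C] (hsurj : Function.Surjective (algebraMap S C)) (p : Ideal R)
    {N G : Type u} [AddCommGroup N] [Module S N] [AddCommGroup G] [Module C G] [Module S G] [IsScalarTower S C G]
    (e : N ≃ₗ[S] G) (z : PrimeSpectrum C) (n : WithBot ℕ∞) :
    LocAt p N (PrimeSpectrum.comap (algebraMap S C) z) n ↔ LocAt p G z n := by
  have hann : ∀ s : S, s ∈ Module.annihilator S N ↔ algebraMap S C s ∈ Module.annihilator C G := fun s => by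
    rw [e.annihilator_eq, Module.mem_annihilator, Module.mem_annihilator]
    simp only [algebraMap_smul]
  have hcl := PrimeSpectrum.isClosedEmbedding_comap_of_surjective C (algebraMap S C) hsurj
  have hmem : ∀ P : PrimeSpectrum C,
      PrimeSpectrum.comap (algebraMap S C) P ∈ suppOver S p N ↔ P ∈ suppOver C p G := fun P => by
    refine and_congr ?_ ⟨fun h c hc => ?_, fun h s hs => h ((hann s).1 hs)⟩
    · show (P.asIdeal.comap (algebraMap S C)).comap (algebraMap R S) = p ↔ _
      rw [Ideal.comap_comap, ← IsScalarTower.algebraMap_eq]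
    · obtain ⟨s, rfl⟩ := hsurj c
      exact h ((hann s).2 hc)
  have hr : Set.range (fun P : suppOver C p G => PrimeSpectrum.comap (algebraMap S C) P.1) = suppOver S p N := by
    ext Q
    constructor
    · rintro ⟨P, rfl⟩
      exact (hmem P.1).2 P.2
    · intro hQ
      obtain ⟨P, rfl⟩ : Q ∈ Set.range (PrimeSpectrum.comap (algebraMap S C)) := by
        rw [range_comap_of_surjective _ _ hsurj]
        intro s hs
        refine hQ.2 ((hann s).2 ?_)
        rw [RingHom.mem_ker.1 hs]
        exact zero_mem _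
      exact ⟨⟨P, (hmem P).1 hQ⟩, rfl⟩
  let H : suppOver C p G ≃ₜ suppOver S p N :=
    (hcl.isEmbedding.comp IsEmbedding.subtypeVal).toHomeomorph.trans (Homeomorph.setCongr hr)
  constructor
  · rintro ⟨hz, rfl⟩
    exact ⟨(hmem z).1 hz, (FibDim.localDim_homeomorph H ⟨z, (hmem z).1 hz⟩).symm⟩
  · rintro ⟨hz, rfl⟩
    exact ⟨(hmem z).2 hz, FibDim.localDim_homeomorph H ⟨z, hz⟩⟩

/-- The local dimension of a fibre support is at most the dimension of the support. -/
theorem le_krullDim_suppOver {R X : Type u} [CommRing R] [CommRing X] [Algebra R X] (p : Ideal R) [p.IsPrime]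
    (M : Type u) [AddCommGroup M] [Module X M] [Module.Finite X M] {Q : PrimeSpectrum X} {n : WithBot ℕ∞}
    (h : LocAt p M Q n) : n ≤ Order.krullDim (suppOver X p M) := by
  letI : Module R M := Module.compHom M (algebraMap R X)
  haveI : IsScalarTower R X M := IsScalarTower.of_algebraMap_smul fun a (x : M) => rfl
  exact (le_supportDim_of_locAt p M h).trans (le_of_eq (supportDim_fiberMod p M))

/-- On the smooth algebra of one step the support fills the fibre, and has everywhere the local dimension `n`. -/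
theorem locAt_of_finite {R D C : Type u} [CommRing R] [CommRing D] [CommRing C] [Algebra R D] [Algebra R C] [Algebra D C]
    [IsScalarTower R D C] [Module.Finite D C] [Algebra.Smooth R D] (n : ℕ) (hn : FlatCA.SmoothRelDim n R D)
    (hgi : FlatCA.GeomIrredFibres R D) (p : Ideal R) [p.IsPrime] (G : Type u) [AddCommGroup G] [Module C G]
    [Module D G] [IsScalarTower D C G] [Module.Finite C G] {z : PrimeSpectrum C} (hz : LocAt p G z n) :
    (∀ P : PrimeSpectrum D, P.asIdeal.comap (algebraMap R D) = p → Module.annihilator D G ≤ P.asIdeal) ∧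
      ∀ P : PrimeSpectrum D, P.asIdeal.comap (algebraMap R D) = p → LocAt p G P n := by
  have h1 : (n : WithBot ℕ∞) ≤ Order.krullDim (suppOver D p G) := by
    rw [krullDim_suppOver_of_finite (X := D) (Y := C) p G]
    exact le_krullDim_suppOver p G hz
  let F : Set (PrimeSpectrum D) := {P | P.asIdeal.comap (algebraMap R D) = p}
  haveI := (isPrime_map_of_geomIrred hgi p).1
  let η : PrimeSpectrum D := ⟨p.map (algebraMap R D), inferInstance⟩
  have hηF : η ∈ F := by
    obtain ⟨Q, hQ, hQp⟩ := exists_prime_over hgi p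
    exact le_antisymm ((Ideal.comap_mono (Ideal.map_le_iff_le_comap.2 hQp.ge)).trans hQp.le) Ideal.le_comap_map
  have hFfib : F = FibDim.fib (B := D) (⟨p, inferInstance⟩ : PrimeSpectrum R) :=
    Set.ext fun P => ⟨fun h => PrimeSpectrum.ext h, fun h => congrArg PrimeSpectrum.asIdeal h⟩
  have hFn : Order.krullDim F ≤ (n : WithBot ℕ∞) := by
    rw [hFfib]
    exact krullDim_fib_le n hn ⟨p, inferInstance⟩
  have hη : Module.annihilator D G ≤ η.asIdeal := by
    by_contra hc
    refine absurd h1 (not_le.2 (krullDim_lt_of_forall_gt F _ η hηF (fun P hP => hP.1) (fun P hP => ?_) hFn))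
    refine lt_of_le_of_ne (Ideal.map_le_iff_le_comap.2 (hP.1.ge : p ≤ P.asIdeal.comap (algebraMap R D))) ?_
    rintro rfl
    exact hc hP.2
  have hall : ∀ P : PrimeSpectrum D, P.asIdeal.comap (algebraMap R D) = p → Module.annihilator D G ≤ P.asIdeal :=
    fun P hP => hη.trans (Ideal.map_le_iff_le_comap.2 hP.ge)
  refine ⟨hall, fun P hP => ?_⟩
  have heq : suppOver D p G = F := Set.ext fun Q => ⟨fun h => h.1, fun h => ⟨h, hall Q h⟩⟩
  refine ⟨heq.ge hP, ?_⟩
  let f : Spec (CommRingCat.of D) ⟶ Spec (CommRingCat.of R) := Spec.map (CommRingCat.ofHom (algebraMap R D))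
  haveI : SmoothOfRelativeDimension n f := hn
  have hdim : FlatMor.fibreDimAt f P = (n : WithBot ℕ∞) := Groth.Agent.S2768.result n f P
  subst hP
  obtain ⟨ξ, hξ⟩ := FibDim.exists_fiber_point (A := R) P
  rw [← hdim, ← FibDim.localDim_fiber_eq_fibreDimAt P ξ hξ]
  let ep := PrimeSpectrum.preimageHomeomorphFiber R D ⟨P.asIdeal.under R, inferInstance⟩
  let H := ep.symm.trans (Homeomorph.setCongr (hFfib.symm.trans heq.symm))
  rw [← FibDim.localDim_homeomorph H ξ]
  exact congrArg (FlatMor.localDim _) (Subtype.ext (PrimeSpectrum.ext hξ).symm)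

/-- A generic point of a fibre lies over the generic point in an etale algebra over an etale base change. -/
theorem comap_map_generic_etale {R B R' B' : Type u} [CommRing R] [CommRing B] [CommRing R'] [CommRing B'] [Algebra R B]
    [Algebra R R'] [Algebra R' B'] [Algebra R B'] [Algebra B B'] [IsScalarTower R R' B'] [IsScalarTower R B B']
    [Algebra.Etale R R'] [Algebra.Etale B B'] (p : Ideal R) [p.IsPrime] (p' : Ideal R') [p'.IsPrime] [hp : p'.LiesOver p]
    [(p.map (algebraMap R B)).IsPrime] [(p'.map (algebraMap R' B')).IsPrime]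
    (hB : (p.map (algebraMap R B)).comap (algebraMap R B) = p)
    (hB' : (p'.map (algebraMap R' B')).comap (algebraMap R' B') = p') :
    (p'.map (algebraMap R' B')).comap (algebraMap B B') = p.map (algebraMap R B) := by
  haveI : Module.Flat B B' := inferInstance
  have hle : p.map (algebraMap R B) ≤ (p'.map (algebraMap R' B')).comap (algebraMap B B') := by
    refine Ideal.map_le_iff_le_comap.2 fun r hr => ?_
    rw [Ideal.mem_comap, Ideal.mem_comap, ← IsScalarTower.algebraMap_apply, IsScalarTower.algebraMap_apply R R' B']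
    exact Ideal.mem_map_of_mem _ (hp.over.le hr)
  refine le_antisymm ?_ hle
  let J := p'.map (algebraMap R' B')
  haveI : J.LiesOver (J.comap (algebraMap B B')) := ⟨rfl⟩
  obtain ⟨Q, hQle, hQ, hQo⟩ := Ideal.exists_ideal_le_liesOver_of_le (p := p.map (algebraMap R B))
    (q := J.comap (algebraMap B B')) J hle
  haveI := hQ
  have hQr : Q.comap (algebraMap R' B') = p' := by
    refine Algebra.QuasiFinite.eq_of_le_of_under_eq (R := R) _ _ ((Ideal.comap_mono hQle).trans hB'.le) ?_
    show (Q.comap (algebraMap R' B')).comap (algebraMap R R') = p'.comap (algebraMap R R')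
    rw [Ideal.comap_comap, ← IsScalarTower.algebraMap_eq, IsScalarTower.algebraMap_eq R B B', ← Ideal.comap_comap]
    exact ((congrArg (Ideal.comap (algebraMap R B)) hQo.over.symm).trans hB).trans hp.over
  exact le_trans (Ideal.comap_mono (Ideal.map_le_iff_le_comap.2 hQr.ge)) hQo.over.ge

/-- An etale neighbourhood of a smooth algebra is smooth over an etale neighbourhood of the base. -/
theorem smoothRelDim_nhd {R D R' D' : Type u} [CommRing R] [CommRing D] [CommRing R'] [CommRing D'] [Algebra R D]
    [Algebra R R'] [Algebra R' D'] [Algebra R D'] [Algebra D D'] [IsScalarTower R R' D'] [IsScalarTower R D D']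
    [Algebra.Etale R R'] [Algebra.Etale D D'] (n : ℕ) (h : FlatCA.SmoothRelDim n R D) : FlatCA.SmoothRelDim n R' D' := by
  have h1 : FlatCA.SmoothRelDim n R D' := smoothRelDim_of_etale n h
  have h2 : FlatCA.SmoothRelDim n R' (R' ⊗[R] D') := smoothRelDim_baseChange (X := D') h1
  letI : Algebra (R' ⊗[R] D') D' :=
    (Algebra.TensorProduct.productMap (IsScalarTower.toAlgHom R R' D') (AlgHom.id R D')).toRingHom.toAlgebra
  have hmap : ∀ a : R', ∀ b : D', algebraMap (R' ⊗[R] D') D' (a ⊗ₜ b) = algebraMap R' D' a * b := fun a b => by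
    simp [RingHom.algebraMap_toAlgebra]
  haveI : IsScalarTower D' (R' ⊗[R] D') D' := IsScalarTower.of_algebraMap_eq fun b => by
    show b = algebraMap (R' ⊗[R] D') D' ((1 : R') ⊗ₜ b)
    rw [hmap, map_one, one_mul]
  haveI : IsScalarTower R' (R' ⊗[R] D') D' := IsScalarTower.of_algebraMap_eq fun a => by
    show _ = algebraMap (R' ⊗[R] D') D' (a ⊗ₜ 1)
    rw [hmap, mul_one]
  haveI : Algebra.Etale D' (R' ⊗[R] D') := etale_right R R' D'
  haveI : Algebra.Etale (R' ⊗[R] D') D' := Algebra.Etale.of_restrictScalars D' (R' ⊗[R] D') D'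
  exact smoothRelDim_of_etale n h2

end Groth.Agent.H4RG
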