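import Groth.Prelude
import Groth.Agent.H4RG.DevEtale
import Groth.Agent.H4RG.FiniteChart
import Groth.Agent.EtFound.LiftEtale
import Mathlib

/-! An etale neighbourhood of the smooth algebra of a step carries the closed subscheme to a closed subscheme of an etale
neighbourhood of the ambient scheme. -/

set_option autoImplicit false
set_option linter.style.haveILetI false
set_option backward.isDefEq.respectTransparency.types false
set_option maxHeartbeats 1000000

universe u

open TensorProduct

namespace Groth.Agent.H4RG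

attribute [local instance] Algebra.TensorProduct.rightAlgebra

/-- Etale neighbourhoods of one step lift to the ambient algebra, near the point. -/
theorem exists_lift_stage {R S C D : Type u} [CommRing R] [CommRing S] [CommRing C] [CommRing D] [Algebra R S]
    [Algebra S C] [Algebra R C] [IsScalarTower R S C] [Algebra R D] [Algebra D C] [IsScalarTower R D C] [Module.Finite D C]
    (hsurj : Function.Surjective (algebraMap S C)) (hfp : Algebra.FinitePresentation S C)
    (p : Ideal R) [p.IsPrime] (q : Ideal S) [q.IsPrime] (z : Ideal C) [z.IsPrime] (y : Ideal D) [y.IsPrime]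
    [hzq : z.LiesOver q] [hzy : z.LiesOver y]
    (h3 : ∀ (z₁ : Ideal C) [z₁.IsPrime], z₁.LiesOver y → z₁ = z)
    {R' : Type u} [CommRing R'] [Algebra R R'] (p' : Ideal R') [p'.IsPrime] (hR' : FlatCA.IsEtaleNhd R R' p p')
    {D' : Type u} [CommRing D'] [Algebra D D'] [Algebra R' D'] [Algebra R D'] [IsScalarTower R R' D']
    [IsScalarTower R D D'] (y' : Ideal D') [y'.IsPrime] (hD' : FlatCA.IsEtaleNhd D D' y y') :
    ∃ b : D', b ∉ y' ∧ ∀ (d : D') (g : R'), d ∉ y' → b ∣ d → algebraMap R' D' g ∣ d →
      ∀ (D'' : Type u) [CommRing D''] [Algebra D' D''] [IsLocalization.Away d D''] [Algebra D D''] [IsScalarTower D D' D'']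
        (y'' : Ideal D'') [y''.IsPrime], y''.comap (algebraMap D' D'') = y' →
      ∃ (S'' C'' : Type u) (_ : CommRing S'') (_ : CommRing C'') (_ : Algebra S S'') (_ : Algebra R' S'') (_ : Algebra R S'')
        (_ : IsScalarTower R S S'') (_ : IsScalarTower R R' S'') (_ : Algebra D'' C'') (_ : Algebra C C'') (_ : Algebra D C'')
        (_ : IsScalarTower D D'' C'') (_ : IsScalarTower D C C'') (_ : Algebra S'' C'') (_ : Algebra S C'')
        (_ : IsScalarTower S S'' C'') (_ : IsScalarTower S C C'') (z'' : Ideal C'') (_ : z''.IsPrime),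
        (∀ r : R', algebraMap S'' C'' (algebraMap R' S'' r) = algebraMap D'' C'' (algebraMap D' D'' (algebraMap R' D' r))) ∧
        Algebra.IsPushout D D'' C C'' ∧ Algebra.IsPushout S S'' C C'' ∧ IsUnit (algebraMap R' S'' g) ∧
        z''.comap (algebraMap C C'') = z ∧ z''.comap (algebraMap D'' C'') = y'' ∧
        FlatCA.IsEtaleNhd S S'' q (z''.comap (algebraMap S'' C'')) ∧
        ∀ z₂ : Ideal C'', z₂.IsPrime → z₂.comap (algebraMap D'' C'') = y'' → z₂ = z'' := by
  classical
  obtain ⟨hR'e, hp'o, -⟩ := hR'
  obtain ⟨hD'e, hy'o, hy'b⟩ := hD'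
  haveI := hR'e
  haveI := hD'e
  -- the base change of the closed subscheme
  let C' := D' ⊗[D] C
  obtain ⟨z', hz'p, hz'l, ⟨hz'r, hz'b⟩, hz'u⟩ := exists_unique_prime_over_trivial (A := D) (D := D') (C := C) y y' hy'o hy'b.2 z hzy
  have hz'uniq : ∀ P : Ideal C', P.IsPrime → P.comap (algebraMap D' C') = y' → P = z' := by
    intro P hP hPy
    haveI := hP
    refine hz'u P hP hPy (h3 _ ⟨?_⟩)
    show y = (P.comap (algebraMap C C')).comap (algebraMap D C)
    rw [Ideal.comap_comap, ← IsScalarTower.algebraMap_eq, IsScalarTower.algebraMap_eq D D' C', ← Ideal.comap_comap, hPy]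
    exact hy'o.over
  let S₁ := R' ⊗[R] S
  let C₁ := R' ⊗[R] C
  letI algS₁C₁ : Algebra S₁ C₁ :=
    (Algebra.TensorProduct.map (AlgHom.id R' R') (IsScalarTower.toAlgHom R S C)).toRingHom.toAlgebra
  have hmap₁ : ∀ (r : R') (s : S), algebraMap S₁ C₁ (r ⊗ₜ s) = r ⊗ₜ algebraMap S C s := fun r s => rfl
  haveI : IsScalarTower R' S₁ C₁ := IsScalarTower.of_algebraMap_eq fun r => by
    show r ⊗ₜ[R] (1 : C) = algebraMap S₁ C₁ (r ⊗ₜ 1)
    rw [hmap₁, map_one]
  letI : Algebra S C₁ := ((algebraMap C C₁).comp (algebraMap S C)).toAlgebra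
  haveI : IsScalarTower S C C₁ := IsScalarTower.of_algebraMap_eq fun _ => rfl
  haveI : IsScalarTower S S₁ C₁ := IsScalarTower.of_algebraMap_eq fun s => by
    show (1 : R') ⊗ₜ[R] algebraMap S C s = algebraMap S₁ C₁ ((1 : R') ⊗ₜ s)
    rw [hmap₁]
  haveI hpush₁ : Algebra.IsPushout S S₁ C C₁ := isPushout_step (R := R) (R' := R')
  have hsurj₁ : Function.Surjective (algebraMap S₁ C₁) := fun t => by
    induction t using TensorProduct.induction_on with
    | zero => exact ⟨0, map_zero _⟩
    | tmul r c =>
      obtain ⟨s, rfl⟩ := hsurj c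
      exact ⟨r ⊗ₜ s, hmap₁ r s⟩
    | add a b ha hb =>
      obtain ⟨a, rfl⟩ := ha
      obtain ⟨b, rfl⟩ := hb
      exact ⟨a + b, map_add _ a b⟩
  have hR'C' : ∀ r : R', algebraMap R' C' r = algebraMap D' C' (algebraMap R' D' r) := fun r => rfl
  have hRC' : ∀ r : R, algebraMap R C' r = algebraMap D' C' (algebraMap R D' r) := fun r => rfl
  haveI : IsScalarTower R C C' := IsScalarTower.of_algebraMap_eq fun r => by
    rw [hRC', IsScalarTower.algebraMap_apply R D D', IsScalarTower.algebraMap_apply R D C,
      ← IsScalarTower.algebraMap_apply D C C', ← IsScalarTower.algebraMap_apply D D' C']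
  haveI : IsScalarTower R R' C' := IsScalarTower.of_algebraMap_eq fun r => by
    rw [hRC', hR'C', ← IsScalarTower.algebraMap_apply R R' D']
  letI algC₁C' : Algebra C₁ C' :=
    (Algebra.TensorProduct.productMap (IsScalarTower.toAlgHom R R' C') (IsScalarTower.toAlgHom R C C')).toRingHom.toAlgebra
  have hC₁r : ∀ r : R', algebraMap C₁ C' (r ⊗ₜ 1) = algebraMap R' C' r := fun r => by
    show Algebra.TensorProduct.productMap (IsScalarTower.toAlgHom R R' C') (IsScalarTower.toAlgHom R C C') (r ⊗ₜ 1) = _
    rw [Algebra.TensorProduct.productMap_apply_tmul, map_one, mul_one]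
    rfl
  have hC₁c : ∀ c : C, algebraMap C₁ C' ((1 : R') ⊗ₜ c) = algebraMap C C' c := fun c => by
    show Algebra.TensorProduct.productMap (IsScalarTower.toAlgHom R R' C') (IsScalarTower.toAlgHom R C C') ((1 : R') ⊗ₜ c) = _
    rw [Algebra.TensorProduct.productMap_apply_tmul, map_one, one_mul]
    rfl
  haveI : IsScalarTower C C₁ C' := IsScalarTower.of_algebraMap_eq fun c => (hC₁c c).symm
  haveI : Algebra.Etale C C₁ := etale_right R R' C
  haveI : Algebra.Etale C C' := etale_right D D' C
  haveI : Algebra.Etale C₁ C' := Algebra.Etale.of_restrictScalars C C₁ C'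
  obtain ⟨h, hh, hstd⟩ := Algebra.IsEtaleAt.exists_isStandardEtale (R := C₁) (S := C') z'
  let Ch := Localization.Away h
  haveI : Algebra.IsStandardEtale C₁ Ch := hstd
  obtain ⟨P, ⟨eP⟩⟩ := EtFound.exists_standardEtale_lift (A := S₁) (T := C₁) (C := Ch) hsurj₁
  let W := P.Ring
  haveI : Algebra.Etale S₁ W := inferInstance
  letI algWCh : Algebra W Ch :=
    (eP.toAlgHom.toRingHom.comp (Algebra.TensorProduct.includeRight (R := S₁) (A := C₁) (B := W)).toRingHom).toAlgebra
  letI algS₁Ch : Algebra S₁ Ch := ((algebraMap C₁ Ch).comp (algebraMap S₁ C₁)).toAlgebra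
  haveI : IsScalarTower S₁ C₁ Ch := IsScalarTower.of_algebraMap_eq fun _ => rfl
  haveI : IsScalarTower S₁ W Ch := IsScalarTower.of_algebraMap_eq fun s => by
    show algebraMap C₁ Ch (algebraMap S₁ C₁ s) = eP ((1 : C₁) ⊗ₜ algebraMap S₁ W s)
    rw [← eP.commutes]
    congr 1
    rw [Algebra.TensorProduct.algebraMap_apply, Algebra.algebraMap_self, RingHom.id_apply,
      Algebra.algebraMap_eq_smul_one (A := W), ← TensorProduct.smul_tmul, Algebra.smul_def, mul_one]
  haveI hpush₂ : Algebra.IsPushout S₁ W C₁ Ch := by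
    haveI : Algebra.IsPushout S₁ C₁ W (C₁ ⊗[S₁] W) := TensorProduct.isPushout
    exact (Algebra.IsPushout.of_equiv (R' := C₁) (S := W) (S' := C₁ ⊗[S₁] W) eP (RingHom.ext fun w => rfl)).symm
  have hWsurj : Function.Surjective (algebraMap W Ch) := fun c => by
    obtain ⟨t, rfl⟩ := (Algebra.IsPushout.equiv S₁ W C₁ Ch).surjective c
    induction t using TensorProduct.induction_on with
    | zero => exact ⟨0, (map_zero _).trans (map_zero _).symm⟩
    | tmul a t =>
      obtain ⟨s, rfl⟩ := hsurj₁ t
      refine ⟨a * algebraMap S₁ W s, ?_⟩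
      rw [Algebra.IsPushout.equiv_tmul, map_mul, ← IsScalarTower.algebraMap_apply, ← IsScalarTower.algebraMap_apply]
    | add a b ha hb =>
      obtain ⟨a', ha'⟩ := ha
      obtain ⟨b', hb'⟩ := hb
      exact ⟨a' + b', by rw [map_add, map_add, ha', hb']⟩
  haveI : Module.Finite D' C' := inferInstance
  haveI : Algebra.IsIntegral D' C' := Algebra.IsIntegral.of_finite D' C'
  obtain ⟨b, hby, hbh⟩ := exists_inside y' z' (fun P _ hP => hz'uniq P inferInstance hP.over.symm) h hh
  refine ⟨b, hby, fun d g hdy hbd hgd D'' _ _ _ _ _ y'' _ hy'' => ?_⟩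
  let dC := algebraMap D' C' d
  let C'' := Localization.Away dC
  have hunit : ∀ a : D', a ∣ d → IsUnit (algebraMap C' C'' (algebraMap D' C' a)) := fun a ha =>
    IsLocalization.Away.isUnit_of_dvd dC (map_dvd (algebraMap D' C') ha)
  have uh : IsUnit (algebraMap C' C'' h) := isUnit_of_mem_radical (algebraMap D' C' b) h hbh (hunit b hbd)
  letI algChC'' : Algebra Ch C'' := (IsLocalization.Away.lift h uh).toAlgebra
  haveI tC'Ch : IsScalarTower C' Ch C'' := IsScalarTower.of_algebraMap_eq fun x => (IsLocalization.Away.lift_eq h uh x).symm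
  haveI : IsLocalization.Away (algebraMap C' Ch dC) C'' := isLocalization_away_of_tower h dC
  obtain ⟨l, hl⟩ := hWsurj (algebraMap C' Ch dC)
  let gW : W := algebraMap S₁ W (algebraMap R' S₁ g)
  have hgW : algebraMap W Ch gW = algebraMap C' Ch (algebraMap D' C' (algebraMap R' D' g)) := by
    show algebraMap W Ch (algebraMap S₁ W (algebraMap R' S₁ g)) = _
    rw [← IsScalarTower.algebraMap_apply S₁ W Ch, IsScalarTower.algebraMap_apply S₁ C₁ Ch,
      ← IsScalarTower.algebraMap_apply R' S₁ C₁, IsScalarTower.algebraMap_apply C₁ C' Ch]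
    exact congrArg (algebraMap C' Ch) (hC₁r g)
  haveI hloc : IsLocalization.Away (algebraMap W Ch (l * gW)) C'' := by
    rw [map_mul, hl, hgW]
    refine IsLocalization.Away.mul_of_isUnit _ _ ?_
    rw [← IsScalarTower.algebraMap_apply C' Ch C'']
    exact hunit _ hgd
  let S'' := Localization.Away (l * gW)
  letI algWC'' : Algebra W C'' := ((algebraMap Ch C'').comp (algebraMap W Ch)).toAlgebra
  haveI : IsScalarTower W Ch C'' := IsScalarTower.of_algebraMap_eq fun _ => rfl
  have uS : IsUnit (algebraMap W C'' (l * gW)) := IsLocalization.Away.algebraMap_isUnit (algebraMap W Ch (l * gW))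
  letI algS''C'' : Algebra S'' C'' := (IsLocalization.Away.lift (l * gW) uS).toAlgebra
  haveI : IsScalarTower W S'' C'' := IsScalarTower.of_algebraMap_eq fun x => (IsLocalization.Away.lift_eq _ uS x).symm
  haveI hpush₃ : Algebra.IsPushout W S'' Ch C'' := isPushout_away (l * gW)
  -- structures over the original rings
  letI algSW : Algebra S W := ((algebraMap S₁ W).comp (algebraMap S S₁)).toAlgebra
  haveI : IsScalarTower S S₁ W := IsScalarTower.of_algebraMap_eq fun _ => rfl
  letI algR'W : Algebra R' W := ((algebraMap S₁ W).comp (algebraMap R' S₁)).toAlgebra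
  letI algRW : Algebra R W := ((algebraMap S W).comp (algebraMap R S)).toAlgebra
  haveI : IsScalarTower R S W := IsScalarTower.of_algebraMap_eq fun _ => rfl
  haveI : IsScalarTower R R' W := IsScalarTower.of_algebraMap_eq fun r => by
    show algebraMap S₁ W (algebraMap S S₁ (algebraMap R S r)) = algebraMap S₁ W (algebraMap R' S₁ (algebraMap R R' r))
    rw [← IsScalarTower.algebraMap_apply R R' S₁, ← IsScalarTower.algebraMap_apply R S S₁]
  haveI : IsScalarTower R S S'' := IsScalarTower.of_algebraMap_eq fun r => by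
    rw [IsScalarTower.algebraMap_apply R W S'', IsScalarTower.algebraMap_apply R S W, ← IsScalarTower.algebraMap_apply S W S'']
  haveI : IsScalarTower R R' S'' := IsScalarTower.of_algebraMap_eq fun r => by
    rw [IsScalarTower.algebraMap_apply R W S'', IsScalarTower.algebraMap_apply R R' W,
      ← IsScalarTower.algebraMap_apply R' W S'']
  haveI : IsScalarTower D C C'' := IsScalarTower.of_algebraMap_eq fun x => by
    rw [IsScalarTower.algebraMap_apply D C' C'', IsScalarTower.algebraMap_apply C C' C'', ← IsScalarTower.algebraMap_apply D C C']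
  letI algSC'' : Algebra S C'' := ((algebraMap C C'').comp (algebraMap S C)).toAlgebra
  haveI : IsScalarTower S C C'' := IsScalarTower.of_algebraMap_eq fun _ => rfl
  have uD : IsUnit (algebraMap D' C'' d) := hunit d dvd_rfl
  letI algD''C'' : Algebra D'' C'' := (IsLocalization.Away.lift d uD).toAlgebra
  haveI : IsScalarTower D' D'' C'' := IsScalarTower.of_algebraMap_eq fun x => (IsLocalization.Away.lift_eq d uD x).symm
  haveI : IsScalarTower D D'' C'' := IsScalarTower.of_algebraMap_eq fun x => by
    rw [IsScalarTower.algebraMap_apply D D' D'', ← IsScalarTower.algebraMap_apply D' D'' C'']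
    rw [IsScalarTower.algebraMap_apply D C' C'', IsScalarTower.algebraMap_apply D' C' C'',
      ← IsScalarTower.algebraMap_apply D D' C']
  haveI : IsScalarTower C C₁ Ch := IsScalarTower.of_algebraMap_eq fun c => by
    rw [IsScalarTower.algebraMap_apply C₁ C' Ch, ← IsScalarTower.algebraMap_apply C C₁ C',
      ← IsScalarTower.algebraMap_apply C C' Ch]
  haveI : IsScalarTower C Ch C'' := IsScalarTower.of_algebraMap_eq fun c => by
    rw [IsScalarTower.algebraMap_apply C C' Ch, ← IsScalarTower.algebraMap_apply C' Ch C'',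
      ← IsScalarTower.algebraMap_apply C C' C'']
  letI algSCh : Algebra S Ch := ((algebraMap C Ch).comp (algebraMap S C)).toAlgebra
  haveI : IsScalarTower S C Ch := IsScalarTower.of_algebraMap_eq fun _ => rfl
  haveI : IsScalarTower S S₁ Ch := IsScalarTower.of_algebraMap_eq fun s => by
    show algebraMap C Ch (algebraMap S C s) = algebraMap C₁ Ch (algebraMap S₁ C₁ (algebraMap S S₁ s))
    rw [← IsScalarTower.algebraMap_apply S S₁ C₁, IsScalarTower.algebraMap_apply S C C₁,
      ← IsScalarTower.algebraMap_apply C C₁ Ch]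
  haveI : IsScalarTower S W Ch := IsScalarTower.of_algebraMap_eq fun s => by
    rw [IsScalarTower.algebraMap_apply S S₁ W, ← IsScalarTower.algebraMap_apply S₁ W Ch,
      ← IsScalarTower.algebraMap_apply S S₁ Ch]
  haveI : IsScalarTower S Ch C'' := IsScalarTower.of_algebraMap_eq fun s => by
    rw [IsScalarTower.algebraMap_apply S C Ch, ← IsScalarTower.algebraMap_apply C Ch C'']
    rfl
  haveI : IsScalarTower S S'' C'' := IsScalarTower.of_algebraMap_eq fun s => by
    rw [IsScalarTower.algebraMap_apply S W S'', ← IsScalarTower.algebraMap_apply W S'' C'',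
      IsScalarTower.algebraMap_apply W Ch C'', ← IsScalarTower.algebraMap_apply S W Ch,
      ← IsScalarTower.algebraMap_apply S Ch C'']
  haveI : IsScalarTower S C₁ Ch := IsScalarTower.of_algebraMap_eq fun s => by
    rw [IsScalarTower.algebraMap_apply S C C₁, ← IsScalarTower.algebraMap_apply C C₁ Ch,
      ← IsScalarTower.algebraMap_apply S C Ch]
  haveI hpushW : Algebra.IsPushout S W C Ch := (Algebra.IsPushout.comp_iff S S₁ C C₁).2 hpush₂
  have hpushS : Algebra.IsPushout S S'' C C'' := (Algebra.IsPushout.comp_iff S W C Ch).2 hpush₃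
  haveI : Algebra.IsPushout D D' C C' := TensorProduct.isPushout
  haveI hpushD' : Algebra.IsPushout D' D'' C' C'' := isPushout_away d
  have hpushD : Algebra.IsPushout D D'' C C'' := (Algebra.IsPushout.comp_iff D D' C C').2 hpushD'
  -- the point
  haveI := hz'p
  have hdz : dC ∉ z' := fun hc => hdy (hz'l.le hc)
  let z'' : Ideal C'' := z'.map (algebraMap C' C'')
  have hzz := isPrime_map_away dC z' hdz
  haveI : z''.IsPrime := hzz.1
  have hz''C' : z''.comap (algebraMap C' C'') = z' := hzz.2
  have hz''C : z''.comap (algebraMap C C'') = z := by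
    rw [IsScalarTower.algebraMap_eq C C' C'', ← Ideal.comap_comap, hz''C']
    exact hz'r.symm
  have hmapback : ∀ J : Ideal D'', J.comap (algebraMap D' D'') = y' → J = y'' := fun J hJ => by
    rw [← IsLocalization.map_comap (Submonoid.powers d) D'' J, ← IsLocalization.map_comap (Submonoid.powers d) D'' y'']
    exact congrArg (Ideal.map (algebraMap D' D'')) (hJ.trans hy''.symm)
  have hz''D : z''.comap (algebraMap D'' C'') = y'' := hmapback _ (by
    rw [Ideal.comap_comap, ← IsScalarTower.algebraMap_eq, IsScalarTower.algebraMap_eq D' C' C'', ← Ideal.comap_comap, hz''C']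
    exact hz'l)
  refine ⟨S'', C'', inferInstance, inferInstance, inferInstance, inferInstance, inferInstance, inferInstance, inferInstance, algD''C'',
    inferInstance, inferInstance, inferInstance, inferInstance, algS''C'', algSC'', inferInstance, inferInstance, z'', inferInstance,
    fun r => ?_, hpushD, hpushS, ?_, hz''C, hz''D, ?_, fun z₂ hz₂ hz₂D => ?_⟩
  · rw [IsScalarTower.algebraMap_apply R' W S'']
    show algebraMap S'' C'' (algebraMap W S'' (algebraMap S₁ W (algebraMap R' S₁ r))) = _
    rw [← IsScalarTower.algebraMap_apply W S'' C'', ← IsScalarTower.algebraMap_apply D' D'' C'',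
      IsScalarTower.algebraMap_apply W Ch C'', IsScalarTower.algebraMap_apply D' C' C'',
      ← IsScalarTower.algebraMap_apply S₁ W Ch, IsScalarTower.algebraMap_apply S₁ C₁ Ch,
      ← IsScalarTower.algebraMap_apply R' S₁ C₁, IsScalarTower.algebraMap_apply C₁ C' Ch,
      ← IsScalarTower.algebraMap_apply C' Ch C'']
    exact congrArg (algebraMap C' C'') (hC₁r r)
  · rw [IsScalarTower.algebraMap_apply R' W S'']
    show IsUnit (algebraMap W S'' gW)
    exact IsLocalization.Away.isUnit_of_dvd (l * gW) (dvd_mul_left _ _)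
  · haveI : Algebra.Etale S S₁ := etale_right R R' S
    haveI : Algebra.Etale S W := Algebra.Etale.comp S S₁ W
    haveI : Algebra.Etale W S'' := Algebra.Etale.of_isLocalizationAway (l * gW)
    refine ⟨Algebra.Etale.comp S W S'', ?_⟩
    have hqz : q = (z''.comap (algebraMap S'' C'')).comap (algebraMap S S'') := by
      rw [Ideal.comap_comap, ← IsScalarTower.algebraMap_eq, IsScalarTower.algebraMap_eq S C C'', ← Ideal.comap_comap, hz''C]
      exact hzq.over
    refine ⟨⟨hqz⟩, RingHom.injective _, ?_⟩
    have hz'C : z = z'.comap (algebraMap C C') := hz'r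
    have hCz : Function.Surjective (Ideal.ResidueField.map z z'' ((algebraMap C' C'').comp (algebraMap C C'))
        (hz''C.symm.trans (congrArg (fun f => z''.comap f) (IsScalarTower.algebraMap_eq C C' C'')))) := by
      refine surjective_residueMap_comp _ _ z z' z'' hz'C hz''C'.symm _ hz'b.2 ?_
      exact (isEtaleNhd_away dC (⟨z'', inferInstance⟩ : PrimeSpectrum C'') z' hz''C').2.choose_spec.2
    have hSz : Function.Surjective (Ideal.ResidueField.map q z''
        (((algebraMap C' C'').comp (algebraMap C C')).comp (algebraMap S C))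
        (by rw [← Ideal.comap_comap, ← IsScalarTower.algebraMap_eq, hz''C]; exact hzq.over)) := by
      exact surjective_residueMap_comp _ _ q z z'' hzq.over _ _
        (surjective_residueMap_of_surjective _ hsurj q z hzq.over) hCz
    refine surjective_residueMap_of_comp (algebraMap S S'') (algebraMap S'' C'') q _ z'' hqz rfl ?_ ?_
    · rw [← Ideal.comap_comap]; exact hqz
    · convert hSz using 3
      exact (IsScalarTower.algebraMap_eq S S'' C'').symm
  · haveI := hz₂
    have h1 : z₂.comap (algebraMap C' C'') = z' := by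
      refine hz'uniq _ inferInstance ?_
      rw [Ideal.comap_comap, ← IsScalarTower.algebraMap_eq, IsScalarTower.algebraMap_eq D' D'' C'', ← Ideal.comap_comap, hz₂D]
      exact hy''
    exact map_comap_away dC z₂ z' h1

end Groth.Agent.H4RG
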