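import Groth.Prelude
import Groth.Agent.H4RG.DevEngine
import Groth.Agent.H4RG.DevPoints
import Groth.Agent.H4RG.DevShrinkAt
import Mathlib

/-! Standard shrinkings of complete devissages. -/

set_option autoImplicit false
set_option linter.style.haveILetI false
set_option backward.isDefEq.respectTransparency.types false
set_option maxHeartbeats 1000000

universe u

open TensorProduct

namespace Groth.Agent.H4RG

attribute [local instance] Algebra.TensorProduct.rightAlgebra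

variable {R S : Type u} [CommRing R] [CommRing S] [Algebra R S] {N : Type u} [AddCommGroup N] [Module S N]
  {p : Ideal R} [p.IsPrime] {q : Ideal S} [q.IsPrime] {𝒟 : FlatCA.CompleteDevissage R S N p}
  (𝒜 : FlatCA.CompleteDevissageAt R S N p q 𝒟)

/-- An element avoiding the point of a smooth ring avoids the point above it. -/
theorem notMem_qA {i : ℕ} {c : 𝒟.B i} (hc : c ∉ 𝒜.qB i) : algebraMap (𝒟.B i) (𝒟.A i) c ∉ 𝒜.qA i :=
  fun h => hc ((𝒜.overA i).over.symm.le h)

/-- Neighbourhoods can be chosen one inside the other along the chain. -/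
theorem exists_forward (u₀ : S) (hu : u₀ ∉ q) :
    ∃ e : ∀ i : ℕ, 𝒟.B i, (∀ i, i < 𝒟.n → e i ∉ 𝒜.qB i) ∧
      algebraMap (𝒟.B 0) (𝒟.A 0) (e 0) ∈ (Ideal.span {algebraMap S (𝒟.A 0) u₀}).radical ∧
      ∀ i, i + 1 < 𝒟.n → algebraMap (𝒟.B (i + 1)) (𝒟.A (i + 1)) (e (i + 1)) ∈
        (Ideal.span {algebraMap (𝒟.B i) (𝒟.A (i + 1)) (e i)}).radical := by
  classical
  haveI := 𝒜.hqB
  have step : ∀ (i : ℕ) (x : 𝒟.A i), ∃ e : 𝒟.B i, i < 𝒟.n → x ∉ 𝒜.qA i →
      e ∉ 𝒜.qB i ∧ algebraMap (𝒟.B i) (𝒟.A i) e ∈ (Ideal.span {x}).radical := by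
    intro i x
    by_cases hi : i < 𝒟.n ∧ x ∉ 𝒜.qA i
    · haveI := 𝒟.finiteBA i hi.1
      haveI : Algebra.IsIntegral (𝒟.B i) (𝒟.A i) := Algebra.IsIntegral.of_finite _ _
      obtain ⟨b, hb⟩ := exists_inside (𝒜.qB i) (𝒜.qA i) (fun z _ hz => 𝒜.uniq i hi.1 z hz) x hi.2
      exact ⟨b, fun _ _ => hb⟩
    · exact ⟨0, fun h h' => absurd ⟨h, h'⟩ hi⟩
  choose nxt hnxt using step
  let e : ∀ i, 𝒟.B i := fun i =>
    Nat.rec (motive := fun i => 𝒟.B i) (nxt 0 (algebraMap S (𝒟.A 0) u₀))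
      (fun i prev => nxt (i + 1) (algebraMap (𝒟.B i) (𝒟.A (i + 1)) prev)) i
  have he : ∀ i, i < 𝒟.n → e i ∉ 𝒜.qB i := by
    intro i
    induction i with
    | zero => exact fun hi => (hnxt 0 _ hi fun h => hu (𝒜.q0.le h)).1
    | succ i ih => exact fun hi => (hnxt (i + 1) _ hi fun h => ih (Nat.lt_of_succ_lt hi) ((𝒜.qStep i hi).le h)).1
  exact ⟨e, he, (hnxt 0 _ 𝒟.pos fun h => hu (𝒜.q0.le h)).2,
    fun i hi => (hnxt (i + 1) _ hi fun h => he i (Nat.lt_of_succ_lt hi) ((𝒜.qStep i hi).le h)).2⟩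

/-- The neighbourhoods are pulled back from the last one, staying inside given ones. -/
theorem exists_backward (e : ∀ i : ℕ, 𝒟.B i) (he : ∀ i, i < 𝒟.n → e i ∉ 𝒜.qB i) (w : 𝒟.B (𝒟.n - 1))
    (hw : w ∉ 𝒜.qB (𝒟.n - 1)) :
    ∃ c : ∀ i : ℕ, 𝒟.B i, (∀ i, i < 𝒟.n → c i ∉ 𝒜.qB i ∧ e i ∣ c i) ∧ c (𝒟.n - 1) = e (𝒟.n - 1) * w ∧
      ∀ i, i + 1 < 𝒟.n → algebraMap (𝒟.B i) (𝒟.A (i + 1)) (c i) =
        algebraMap (𝒟.B i) (𝒟.A (i + 1)) (e i) * algebraMap (𝒟.B (i + 1)) (𝒟.A (i + 1)) (c (i + 1)) := by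
  classical
  haveI := 𝒜.hqB
  haveI := 𝒜.hqA
  have key : ∀ k i, i + k + 1 = 𝒟.n → ∃ c : ∀ j : ℕ, 𝒟.B j,
      (∀ j, i ≤ j → j < 𝒟.n → c j ∉ 𝒜.qB j ∧ e j ∣ c j) ∧ c (𝒟.n - 1) = e (𝒟.n - 1) * w ∧
      ∀ j, i ≤ j → j + 1 < 𝒟.n → algebraMap (𝒟.B j) (𝒟.A (j + 1)) (c j) =
        algebraMap (𝒟.B j) (𝒟.A (j + 1)) (e j) * algebraMap (𝒟.B (j + 1)) (𝒟.A (j + 1)) (c (j + 1)) := by
    intro k
    induction k with
    | zero =>
      intro i hi
      refine ⟨Function.update e (𝒟.n - 1) (e (𝒟.n - 1) * w), fun j hij hj => ?_, Function.update_self _ _ _,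
        fun j hij hj => absurd hj (by omega)⟩
      obtain rfl : j = 𝒟.n - 1 := by omega
      rw [Function.update_self]
      exact ⟨fun hc => ((𝒜.hqB _).mem_or_mem hc).elim (he _ hj) hw, dvd_mul_right _ _⟩
    | succ k ih =>
      intro i hi
      obtain ⟨c, hc, hlast, hrel⟩ := ih (i + 1) (by omega)
      have hi' : i + 1 < 𝒟.n := by omega
      obtain ⟨l, hl⟩ := 𝒟.surjBA' i hi' (algebraMap (𝒟.B (i + 1)) (𝒟.A (i + 1)) (c (i + 1)))
      have hl0 : l ∉ 𝒜.qB i := fun h => by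
        refine notMem_qA 𝒜 (hc (i + 1) le_rfl hi').1 ?_
        rw [← hl]
        exact (𝒜.qStep i hi').ge h
      refine ⟨Function.update c i (e i * l), fun j hij hj => ?_, ?_, fun j hij hj => ?_⟩
      · rcases Nat.eq_or_lt_of_le hij with rfl | hlt
        · rw [Function.update_self]
          exact ⟨fun h => ((𝒜.hqB _).mem_or_mem h).elim (he _ hj) hl0, dvd_mul_right _ _⟩
        · rw [Function.update_of_ne (Nat.ne_of_gt hlt)]
          exact hc j hlt hj
      · rw [Function.update_of_ne (show 𝒟.n - 1 ≠ i by omega), hlast]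
      · rw [Function.update_of_ne (show j + 1 ≠ i by omega)]
        rcases Nat.eq_or_lt_of_le hij with rfl | hlt
        · rw [Function.update_self, map_mul, hl]
        · rw [Function.update_of_ne (Nat.ne_of_gt hlt)]
          exact hrel j hlt hj
  obtain ⟨c, hc, hlast, hrel⟩ := key (𝒟.n - 1) 0 (by have := 𝒟.pos; omega)
  exact ⟨c, fun i hi => hc i i.zero_le hi, hlast, fun i hi => hrel i i.zero_le hi⟩

/-- The chain on the pieces cut out by compatible elements. -/
theorem exists_devTarget_away (g : R) (hX : S) (b : ∀ i : ℕ, 𝒟.B i)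
    [Algebra (Localization.Away g) (Localization.Away hX)] [IsScalarTower R (Localization.Away g) (Localization.Away hX)]
    [(p.map (algebraMap R (Localization.Away g))).IsPrime]
    (hb : ∀ i, i < 𝒟.n → b i ∉ 𝒜.qB i)
    (hgb : ∀ i, i < 𝒟.n → algebraMap R (𝒟.B i) g ∣ b i)
    (hne : ∀ i, i < 𝒟.n → ∀ P : PrimeSpectrum R, g ∉ P.asIdeal →
      ∃ Q : PrimeSpectrum (𝒟.B i), b i ∉ Q.asIdeal ∧ PrimeSpectrum.comap (algebraMap R (𝒟.B i)) Q = P)
    (hlk : ∀ i, i + 1 < 𝒟.n → IsLocalization.Away (algebraMap (𝒟.B i) (𝒟.A (i + 1)) (b i))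
      (Localization.Away (algebraMap (𝒟.B (i + 1)) (𝒟.A (i + 1)) (b (i + 1)))))
    (h0 : IsLocalization.Away (algebraMap S (𝒟.A 0) hX) (Localization.Away (algebraMap (𝒟.B 0) (𝒟.A 0) (b 0)))) :
    ∃ T : DevTarget 𝒟 (Localization.Away g) (p.map (algebraMap R (Localization.Away g))) (Localization.Away hX),
      ∀ i : Fin 𝒟.n, IsLocalization.Away (algebraMap (𝒟.B i) (𝒟.A i) (b i)) (T.A i) ∧
        IsLocalization.Away (b i) (T.B i) := by
  haveI := 𝒜.hqB
  let R' := Localization.Away g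
  let a : ∀ i : ℕ, 𝒟.A i := fun i => algebraMap (𝒟.B i) (𝒟.A i) (b i)
  have uB : ∀ i : Fin 𝒟.n, IsUnit (algebraMap R (Localization.Away (b i)) g) := fun i => by
    rw [IsScalarTower.algebraMap_apply R (𝒟.B i) (Localization.Away (b i))]
    exact IsLocalization.Away.isUnit_of_dvd (b i) (hgb i i.2)
  have uBA : ∀ i : Fin 𝒟.n, IsUnit (algebraMap (𝒟.B i) (Localization.Away (a i)) (b i)) := fun i => by
    rw [IsScalarTower.algebraMap_apply (𝒟.B i) (𝒟.A i) (Localization.Away (a i))]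
    exact IsLocalization.Away.algebraMap_isUnit (a i)
  letI aB : ∀ i : Fin 𝒟.n, Algebra R' (Localization.Away (b i)) := fun i => (IsLocalization.Away.lift g (uB i)).toAlgebra
  haveI tB : ∀ i : Fin 𝒟.n, IsScalarTower R R' (Localization.Away (b i)) := fun i =>
    IsScalarTower.of_algebraMap_eq fun x => (IsLocalization.Away.lift_eq g (uB i) x).symm
  letI BA : ∀ i : Fin 𝒟.n, Algebra (Localization.Away (b i)) (Localization.Away (a i)) := fun i =>
    (IsLocalization.Away.lift (b i) (uBA i)).toAlgebra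
  haveI tbA : ∀ i : Fin 𝒟.n, IsScalarTower (𝒟.B i) (Localization.Away (b i)) (Localization.Away (a i)) := fun i =>
    IsScalarTower.of_algebraMap_eq fun x => (IsLocalization.Away.lift_eq (b i) (uBA i) x).symm
  letI aA : ∀ i : Fin 𝒟.n, Algebra R' (Localization.Away (a i)) := fun i =>
    ((algebraMap (Localization.Away (b i)) (Localization.Away (a i))).comp (algebraMap R' (Localization.Away (b i)))).toAlgebra
  haveI tBA : ∀ i : Fin 𝒟.n, IsScalarTower R' (Localization.Away (b i)) (Localization.Away (a i)) := fun i =>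
    IsScalarTower.of_algebraMap_eq fun _ => rfl
  haveI tA : ∀ i : Fin 𝒟.n, IsScalarTower R R' (Localization.Away (a i)) := fun i =>
    IsScalarTower.of_algebraMap_eq fun x => by
      show algebraMap R (Localization.Away (a i)) x =
        algebraMap (Localization.Away (b i)) (Localization.Away (a i)) (algebraMap R' (Localization.Away (b i)) (algebraMap R R' x))
      rw [← IsScalarTower.algebraMap_apply R R' (Localization.Away (b i)),
        IsScalarTower.algebraMap_apply R (𝒟.B i) (Localization.Away (b i)),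
        ← IsScalarTower.algebraMap_apply (𝒟.B i) (Localization.Away (b i)) (Localization.Away (a i)),
        ← IsScalarTower.algebraMap_apply R (𝒟.B i) (Localization.Away (a i))]
  have hgen : ∀ i : Fin 𝒟.n, ((p.map (algebraMap R R')).map (algebraMap R' (Localization.Away (b i)))).IsPrime ∧
      ((p.map (algebraMap R R')).map (algebraMap R' (Localization.Away (b i)))).comap
        (algebraMap (𝒟.B i) (Localization.Away (b i))) = p.map (algebraMap R (𝒟.B i)) := fun i => by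
    haveI := 𝒟.hp i
    rw [Ideal.map_map, ← IsScalarTower.algebraMap_eq, IsScalarTower.algebraMap_eq R (𝒟.B i) (Localization.Away (b i)),
      ← Ideal.map_map]
    exact isPrime_map_away (b i) _ fun hc => hb i i.2 (Ideal.map_le_iff_le_comap.2 (𝒜.overB i).over.le hc)
  haveI : ∀ i : Fin 𝒟.n, ((p.map (algebraMap R R')).map (algebraMap R' (Localization.Away (b i)))).IsPrime :=
    fun i => (hgen i).1
  have uL : ∀ (i : Fin 𝒟.n) (h : (i : ℕ) + 1 < 𝒟.n),
      IsUnit (algebraMap (𝒟.B i) (Localization.Away (a (i + 1))) (b i)) := fun i h => by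
    haveI := hlk i h
    rw [IsScalarTower.algebraMap_apply (𝒟.B i) (𝒟.A (i + 1)) (Localization.Away (a (i + 1)))]
    exact IsLocalization.Away.algebraMap_isUnit (algebraMap (𝒟.B i) (𝒟.A (i + 1)) (b i))
  have uS : IsUnit (algebraMap S (Localization.Away (a 0)) hX) := by
    haveI := h0
    rw [IsScalarTower.algebraMap_apply S (𝒟.A 0) (Localization.Away (a 0))]
    exact IsLocalization.Away.algebraMap_isUnit (algebraMap S (𝒟.A 0) hX)
  have hbase : ∀ (i : Fin 𝒟.n) (φ : R' →+* Localization.Away (a i)),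
      (∀ x, φ (algebraMap R R' x) = algebraMap R (Localization.Away (a i)) x) →
        φ = algebraMap R' (Localization.Away (a i)) := fun i φ hφ =>
    IsLocalization.ringHom_ext (Submonoid.powers g) (RingHom.ext fun x => by
      rw [RingHom.comp_apply, RingHom.comp_apply, hφ, ← IsScalarTower.algebraMap_apply])
  let lk : ∀ (i : Fin 𝒟.n) (h : (i : ℕ) + 1 < 𝒟.n),
      Localization.Away (b i) →ₐ[R'] Localization.Away (a (⟨i + 1, h⟩ : Fin 𝒟.n)) := fun i h =>
    { toRingHom := IsLocalization.Away.lift (b i) (uL i h)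
      commutes' := fun x => by
        refine RingHom.congr_fun (hbase ⟨i + 1, h⟩
          ((IsLocalization.Away.lift (b i) (uL i h)).comp (algebraMap R' (Localization.Away (b i)))) fun r => ?_) x
        rw [RingHom.comp_apply, ← IsScalarTower.algebraMap_apply R R' (Localization.Away (b i)),
          IsScalarTower.algebraMap_apply R (𝒟.B i) (Localization.Away (b i)), IsLocalization.Away.lift_eq]
        exact (IsScalarTower.algebraMap_apply R (𝒟.B i) (Localization.Away (a (i + 1))) r).symm }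
  let s0 : Localization.Away hX →ₐ[R'] Localization.Away (a (⟨0, 𝒟.pos⟩ : Fin 𝒟.n)) :=
    { toRingHom := IsLocalization.Away.lift hX uS
      commutes' := fun x => by
        refine RingHom.congr_fun (hbase ⟨0, 𝒟.pos⟩
          ((IsLocalization.Away.lift hX uS).comp (algebraMap R' (Localization.Away hX))) fun r => ?_) x
        rw [RingHom.comp_apply, ← IsScalarTower.algebraMap_apply R R' (Localization.Away hX),
          IsScalarTower.algebraMap_apply R S (Localization.Away hX), IsLocalization.Away.lift_eq]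
        exact (IsScalarTower.algebraMap_apply R S (Localization.Away (a 0)) r).symm }
  refine ⟨{ A := fun i => Localization.Away (a i)
            B := fun i => Localization.Away (b i)
            lk := lk
            lk_comm := fun i h x => ?_
            s0 := s0
            s0_comm := fun x => ?_
            pushBA := fun i => isPushout_away (b i)
            pushLk := fun i h _ _ hab hab' _ => ?_
            pushS := fun _ _ hab hab' _ => ?_
            smooth := fun i => ?_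
            geomIrred := fun i => ?_
            generic := fun i => (hgen i).2 }, fun i => ⟨inferInstance, inferInstance⟩⟩
  · show IsLocalization.Away.lift (b i) (uL i h) (algebraMap (𝒟.B i) (Localization.Away (b i)) x) = _
    rw [IsLocalization.Away.lift_eq]
    exact IsScalarTower.algebraMap_apply (𝒟.B i) (𝒟.A (i + 1)) (Localization.Away (a (i + 1))) x
  · show IsLocalization.Away.lift hX uS (algebraMap S (Localization.Away hX) x) = _
    rw [IsLocalization.Away.lift_eq]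
    exact IsScalarTower.algebraMap_apply S (𝒟.A 0) (Localization.Away (a 0)) x
  · exact @isPushout_away (𝒟.B i) (Localization.Away (b i)) (𝒟.A (i + 1)) (Localization.Away (a (i + 1)))
      _ _ _ _ _ _ _ _ _ hab hab' (b i) _ (hlk i h)
  · exact @isPushout_away S (Localization.Away hX) (𝒟.A 0) (Localization.Away (a 0))
      _ _ _ _ _ _ _ _ _ hab hab' hX _ h0
  · haveI := 𝒟.smooth i i.2
    haveI : Algebra.Smooth (𝒟.B i) (Localization.Away (b i)) := by
      haveI : Algebra.Etale (𝒟.B i) (Localization.Away (b i)) := Algebra.Etale.of_isLocalizationAway (b i)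
      infer_instance
    haveI : Algebra.Smooth R (Localization.Away (b i)) := Algebra.Smooth.comp R (𝒟.B i) (Localization.Away (b i))
    haveI : IsLocalization (Algebra.algebraMapSubmonoid (Localization.Away (b i)) (Submonoid.powers g))
        (Localization.Away (b i)) := by
      refine IsLocalization.self fun x hx => ?_
      obtain ⟨-, ⟨k, rfl⟩, rfl⟩ := hx
      rw [map_pow]
      exact (uB i).pow k
    haveI : Algebra.IsPushout R R' (Localization.Away (b i)) (Localization.Away (b i)) :=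
      (Algebra.isPushout_of_isLocalization (Submonoid.powers g) R' (Localization.Away (b i)) (Localization.Away (b i))).symm
    exact Algebra.Smooth.of_equiv (Algebra.IsPushout.equiv R R' (Localization.Away (b i)) (Localization.Away (b i)))
  · haveI := 𝒟.smooth i i.2
    exact geomIrredFibres_away g (b i) (𝒟.geomIrred i i.2) (hne i i.2)

/-- A standard shrinking of a complete devissage inside given neighbourhoods, ending in a given one. -/
theorem exists_standardShrinking_complete (u₀ : S) (hu : u₀ ∉ q) (e : ∀ i : ℕ, 𝒟.B i) (he : ∀ i, i < 𝒟.n → e i ∉ 𝒜.qB i)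
    (he0 : algebraMap (𝒟.B 0) (𝒟.A 0) (e 0) ∈ (Ideal.span {algebraMap S (𝒟.A 0) u₀}).radical)
    (hes : ∀ i, i + 1 < 𝒟.n → algebraMap (𝒟.B (i + 1)) (𝒟.A (i + 1)) (e (i + 1)) ∈
      (Ideal.span {algebraMap (𝒟.B i) (𝒟.A (i + 1)) (e i)}).radical)
    (w : 𝒟.B (𝒟.n - 1)) (hw : w ∉ 𝒜.qB (𝒟.n - 1)) :
    ∃ (g : R) (hX : S), g ∉ p ∧ hX ∉ q ∧ IsUnit (algebraMap S (Localization.Away hX) u₀) ∧
      ∃ (_ : Algebra (Localization.Away g) (Localization.Away hX)) (_ : IsScalarTower R (Localization.Away g) (Localization.Away hX))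
        (_ : Module (Localization.Away g) (LocalizedModule (Submonoid.powers hX) N)) (_ : IsScalarTower (Localization.Away g) (Localization.Away hX) (LocalizedModule (Submonoid.powers hX) N))
        (_ : (Ideal.map (algebraMap R (Localization.Away g)) p).IsPrime) (_ : (Ideal.map (algebraMap S (Localization.Away hX)) q).IsPrime)
        (𝒟' : FlatCA.CompleteDevissage (Localization.Away g) (Localization.Away hX) (LocalizedModule (Submonoid.powers hX) N) (Ideal.map (algebraMap R (Localization.Away g)) p))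
        (𝒜' : FlatCA.CompleteDevissageAt (Localization.Away g) (Localization.Away hX) (LocalizedModule (Submonoid.powers hX) N) (Ideal.map (algebraMap R (Localization.Away g)) p) (Ideal.map (algebraMap S (Localization.Away hX)) q) 𝒟')
        (a : ∀ i : Fin 𝒟.n, 𝒟.A i) (b : ∀ i : Fin 𝒟.n, 𝒟.B i)
      (aA : ∀ i : Fin 𝒟.n, Algebra (𝒟.A i) (𝒟'.A i)) (rA : ∀ i : Fin 𝒟.n, Algebra R (𝒟'.A i))
      (_t1 : ∀ i : Fin 𝒟.n, IsScalarTower R (Localization.Away g) (𝒟'.A i)) (_t2 : ∀ i : Fin 𝒟.n, IsScalarTower R (𝒟.A i) (𝒟'.A i))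
      (aB : ∀ i : Fin 𝒟.n, Algebra (𝒟.B i) (𝒟'.B i)) (rB : ∀ i : Fin 𝒟.n, Algebra R (𝒟'.B i))
      (_t3 : ∀ i : Fin 𝒟.n, IsScalarTower R (Localization.Away g) (𝒟'.B i)) (_t4 : ∀ i : Fin 𝒟.n, IsScalarTower R (𝒟.B i) (𝒟'.B i))
      (bA : ∀ i : Fin 𝒟.n, Algebra (𝒟.B i) (𝒟'.A i)) (_t5 : ∀ i : Fin 𝒟.n, IsScalarTower (𝒟.B i) (𝒟.A i) (𝒟'.A i))
      (_t6 : ∀ i : Fin 𝒟.n, IsScalarTower (𝒟.B i) (𝒟'.B i) (𝒟'.A i))
      (bA' : ∀ i : Fin 𝒟.n, Algebra (𝒟.B i) (𝒟'.A (i + 1)))
      (_t7 : ∀ i : Fin 𝒟.n, IsScalarTower (𝒟.B i) (𝒟'.B i) (𝒟'.A (i + 1)))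
      (sA : Algebra S (𝒟'.A 0)) (_t8 : IsScalarTower S (Localization.Away hX) (𝒟'.A 0))
      (mA : ∀ i : Fin 𝒟.n, Module (𝒟.A i) (𝒟'.M i)) (_t9 : ∀ i : Fin 𝒟.n, IsScalarTower (𝒟.A i) (𝒟'.A i) (𝒟'.M i))
      (gM : ∀ i : Fin 𝒟.n, 𝒟.M i →ₗ[𝒟.A i] 𝒟'.M i),
        𝒟'.n = 𝒟.n ∧ 𝒟'.r = 𝒟.r ∧ 𝒜'.d = 𝒜.d ∧
        (letI := aA ⟨0, 𝒟.pos⟩; IsScalarTower S (𝒟.A 0) (𝒟'.A 0)) ∧
      (∀ x : N, 𝒟'.isoN (LocalizedModule.mkLinearMap (Submonoid.powers hX) N x) = gM ⟨0, 𝒟.pos⟩ (𝒟.isoN x)) ∧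
      (∀ (i : Fin 𝒟.n) (h : (i : ℕ) + 1 < 𝒟.n),
        letI := aA ⟨i + 1, h⟩; IsScalarTower (𝒟.B i) (𝒟.A (i + 1)) (𝒟'.A (i + 1))) ∧
        b ⟨𝒟.n - 1, Nat.sub_one_lt_of_lt 𝒟.pos⟩ = e (𝒟.n - 1) * w * algebraMap R (𝒟.B (𝒟.n - 1)) g ∧
        ∀ i : Fin 𝒟.n,
          a i ∉ 𝒜.qA i ∧ b i ∉ 𝒜.qB i ∧
          IsLocalization.Away (a i) (𝒟'.A i) ∧ IsLocalization.Away (b i) (𝒟'.B i) ∧
          IsLocalizedModule (Submonoid.powers (a i)) (gM i) ∧
          (𝒜'.qA i).LiesOver (𝒜.qA i) ∧ (𝒜'.qB i).LiesOver (𝒜.qB i) ∧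
          LinearMap.range (𝒟'.α i) =
            Submodule.span (𝒟'.B i) ((gM i) '' (LinearMap.range (𝒟.α i) : Set (𝒟.M i))) := by
  classical
  haveI := 𝒜.hqB
  haveI := 𝒜.hqA
  obtain ⟨c, hc, hlast, hrel⟩ := exists_backward 𝒜 e he w hw
  have hbase : ∀ i : Fin 𝒟.n, ∃ g : R, g ∉ p ∧ ∀ P : PrimeSpectrum R, g ∉ P.asIdeal →
      ∃ Q : PrimeSpectrum (𝒟.B i), c i ∉ Q.asIdeal ∧ PrimeSpectrum.comap (algebraMap R (𝒟.B i)) Q = P := fun i => by
    haveI := 𝒟.smooth i i.2
    haveI := 𝒜.overB i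
    exact exists_base_of_smooth p (𝒜.qB i) (c i) (hc i i.2).1
  choose gf hgf hgne using hbase
  let g : R := ∏ i, gf i
  have hgp : g ∉ p := fun h => by
    obtain ⟨i, -, hi⟩ := Ideal.IsPrime.prod_mem_iff.1 h
    exact hgf i hi
  let b : ∀ i, 𝒟.B i := fun i => c i * algebraMap R (𝒟.B i) g
  have hgB : ∀ i, algebraMap R (𝒟.B i) g ∉ 𝒜.qB i := fun i h => hgp ((𝒜.overB i).over.symm.le h)
  have hb : ∀ i, i < 𝒟.n → b i ∉ 𝒜.qB i := fun i hi h => ((𝒜.hqB i).mem_or_mem h).elim (hc i hi).1 (hgB i)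
  have hed : ∀ i, i < 𝒟.n → ∀ {x : 𝒟.A i}, algebraMap (𝒟.B i) (𝒟.A i) (e i) ∈ (Ideal.span {x}).radical →
      IsUnit (algebraMap (𝒟.A i) (Localization.Away (algebraMap (𝒟.B i) (𝒟.A i) (b i))) x) := fun i hi x hx =>
    isUnit_of_mem_radical _ x hx (IsLocalization.Away.isUnit_of_dvd (algebraMap (𝒟.B i) (𝒟.A i) (b i))
      (map_dvd (algebraMap (𝒟.B i) (𝒟.A i)) ((hc i hi).2.trans (dvd_mul_right _ _))))
  have hlk : ∀ i, i + 1 < 𝒟.n → IsLocalization.Away (algebraMap (𝒟.B i) (𝒟.A (i + 1)) (b i))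
      (Localization.Away (algebraMap (𝒟.B (i + 1)) (𝒟.A (i + 1)) (b (i + 1)))) := by
    intro i hi
    have heq : algebraMap (𝒟.B i) (𝒟.A (i + 1)) (b i) =
        algebraMap (𝒟.B i) (𝒟.A (i + 1)) (e i) * algebraMap (𝒟.B (i + 1)) (𝒟.A (i + 1)) (b (i + 1)) := by
      simp only [b]
      rw [map_mul, map_mul, hrel i hi, ← IsScalarTower.algebraMap_apply, ← IsScalarTower.algebraMap_apply]
      ring
    rw [heq]
    exact IsLocalization.Away.mul_of_isUnit' _ _ (hed (i + 1) hi (hes i hi))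
  obtain ⟨l, hl⟩ := 𝒟.surjSA (algebraMap (𝒟.B 0) (𝒟.A 0) (c 0))
  let hX : S := u₀ * (l * algebraMap R S g)
  have hXimg : algebraMap S (𝒟.A 0) hX = algebraMap S (𝒟.A 0) u₀ * algebraMap (𝒟.B 0) (𝒟.A 0) (b 0) := by
    simp only [hX, b]
    rw [map_mul, map_mul, map_mul, hl, ← IsScalarTower.algebraMap_apply, ← IsScalarTower.algebraMap_apply]
  have h0 : IsLocalization.Away (algebraMap S (𝒟.A 0) hX) (Localization.Away (algebraMap (𝒟.B 0) (𝒟.A 0) (b 0))) := by
    rw [hXimg]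
    exact IsLocalization.Away.mul_of_isUnit' _ _ (hed 0 𝒟.pos he0)
  have hXq : hX ∉ q := by
    intro h
    rw [← 𝒜.q0, Ideal.mem_comap, hXimg] at h
    exact ((𝒜.hqA 0).mem_or_mem h).elim (fun h' => hu (𝒜.q0.le h')) (notMem_qA 𝒜 (hb 0 𝒟.pos))
  have ugX : IsUnit (algebraMap R (Localization.Away hX) g) := by
    rw [IsScalarTower.algebraMap_apply R S (Localization.Away hX)]
    exact IsLocalization.Away.isUnit_of_dvd hX ((dvd_mul_left _ _).trans (dvd_mul_left _ _))
  let R' := Localization.Away g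
  let S' := Localization.Away hX
  letI a1 : Algebra R' S' := (IsLocalization.Away.lift g ugX).toAlgebra
  haveI t1 : IsScalarTower R R' S' := IsScalarTower.of_algebraMap_eq fun x => (IsLocalization.Away.lift_eq g ugX x).symm
  letI m1 : Module R' (LocalizedModule (Submonoid.powers hX) N) :=
    Module.compHom (LocalizedModule (Submonoid.powers hX) N) (algebraMap R' S')
  haveI m1t : IsScalarTower R' S' (LocalizedModule (Submonoid.powers hX) N) :=
    IsScalarTower.of_algebraMap_smul fun _ _ => rfl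
  haveI hpp : (p.map (algebraMap R R')).IsPrime := (isPrime_map_away g p hgp).1
  haveI hop : (p.map (algebraMap R R')).LiesOver p := ⟨(isPrime_map_away g p hgp).2.symm⟩
  haveI hqq : (q.map (algebraMap S S')).IsPrime := (isPrime_map_away hX q hXq).1
  obtain ⟨T, hT⟩ := exists_devTarget_away 𝒜 g hX b hb (fun i _ => dvd_mul_left _ _)
    (fun i hi P hP => by
      obtain ⟨Q, hQc, rfl⟩ := hgne ⟨i, hi⟩ P fun h =>
        hP (Ideal.mem_of_dvd _ (Finset.dvd_prod_of_mem gf (Finset.mem_univ _)) h)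
      exact ⟨Q, fun h => (Q.isPrime.mem_or_mem h).elim hQc hP, rfl⟩) hlk h0
  obtain ⟨𝒟', aA, rA, t₁, t₂, aB, rB, t₃, t₄, bA, t₅, t₆, bA', t₇, sA, t₈, mA, t₉, gM, hn, hr, hS0, hiso, hlink, htail, hall⟩ :=
    T.exists_devissage (LocalizedModule.mkLinearMap (Submonoid.powers hX) N)
      (IsLocalizedModule.isBaseChange (Submonoid.powers hX) S' (LocalizedModule.mkLinearMap (Submonoid.powers hX) N))
      (fun i A' B' _ _ _ _ _ _ _ _ _ _ _ _ => IsLocalization.Away (algebraMap (𝒟.B i) (𝒟.A i) (b i)) A' ∧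
        IsLocalization.Away (b i) B') hT
  have hlA : ∀ i : Fin 𝒟.n, IsLocalization.Away (algebraMap (𝒟.B i) (𝒟.A i) (b i)) (𝒟'.A i) := fun i => (hall i).1.1
  have hlB : ∀ i : Fin 𝒟.n, IsLocalization.Away (b i) (𝒟'.B i) := fun i => (hall i).1.2
  have hcontr : ∀ (J : Ideal R'), J.comap (algebraMap R R') = p → J = p.map (algebraMap R R') :=
    fun J hJ => map_comap_away g J p hJ
  have hAp : ∀ i : Fin 𝒟.n, (𝒜.qA i).comap (algebraMap R (𝒟.A i)) = p := fun i => by
    rw [IsScalarTower.algebraMap_eq R (𝒟.B i) (𝒟.A i), ← Ideal.comap_comap]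
    exact (congrArg (Ideal.comap (algebraMap R (𝒟.B i))) (𝒜.overA i).over.symm).trans (𝒜.overB i).over.symm
  have lift : ∀ {X X' : Type u} [CommRing X] [CommRing X'] [Algebra R X] [Algebra R' X'] [Algebra R X'] [Algebra X X']
      [IsScalarTower R R' X'] [IsScalarTower R X X'] (x : X) [IsLocalization.Away x X'] (P : Ideal X) [P.IsPrime],
      x ∉ P → P.comap (algebraMap R X) = p → PointLift (X' := X') (p.map (algebraMap R R')) P := by
    intro X X' _ _ _ _ _ _ _ _ x _ P hP hx hPp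
    have hd := (Ideal.disjoint_powers_iff_notMem_of_isPrime (I := P) x).2 hx
    refine ⟨⟨P.map (algebraMap X X'), IsLocalization.isPrime_of_isPrime_disjoint (Submonoid.powers x) X' P hP hd, ?_,
      IsLocalization.comap_map_of_isPrime_disjoint (Submonoid.powers x) X' hP hd⟩, fun Q₁ Q₂ _ _ _ h₁ _ h₂ => ?_⟩
    · refine hcontr _ ?_
      rw [Ideal.comap_comap, ← IsScalarTower.algebraMap_eq, IsScalarTower.algebraMap_eq R X X', ← Ideal.comap_comap]
      exact (congrArg (Ideal.comap (algebraMap R X))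
        (IsLocalization.comap_map_of_isPrime_disjoint (Submonoid.powers x) X' hP hd)).trans hPp
    · rw [← IsLocalization.map_comap (Submonoid.powers x) X' Q₁, ← IsLocalization.map_comap (Submonoid.powers x) X' Q₂]
      exact congrArg (Ideal.map (algebraMap X X')) (h₁.trans h₂.symm)
  obtain ⟨𝒜', hd', hover⟩ := exists_devissageAt p q 𝒜 (p.map (algebraMap R R'))
    (isEtaleNhd_away g (⟨_, hpp⟩ : PrimeSpectrum R') p hop.over.symm).2.choose_spec (q.map (algebraMap S S'))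
    (fun Q hQ _ hQq => map_comap_away hX Q q hQq) 𝒟' hn htail gM hS0 hlink (fun i => (hall i).2.1)
    (fun i => haveI := hlA i; haveI := hlB i; isPushout_away (b i))
    (fun i => haveI := hlB i; smoothRelDim_away g (b i) (𝒜.relDim i i.2))
    (fun i => haveI := hlA i; lift (algebraMap (𝒟.B i) (𝒟.A i) (b i)) (𝒜.qA i) (notMem_qA 𝒜 (hb i i.2)) (hAp i))
    (fun i => haveI := hlB i; lift (b i) (𝒜.qB i) (hb i i.2) (𝒜.overB i).over.symm)
    (fun i Q _ hQ h => haveI := hlB i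
      (isEtaleNhd_away (b i) (⟨Q, inferInstance⟩ : PrimeSpectrum (𝒟'.B i)) (𝒜.qB i) h.symm).2.choose_spec)
    (fun i => by
      haveI := hlB i
      have hm : Set.MapsTo (PrimeSpectrum.comap (algebraMap (𝒟.B i) (𝒟'.B i)))
          {Q | Q.asIdeal.comap (algebraMap R' (𝒟'.B i)) = p.map (algebraMap R R')}
          {Q | Q.asIdeal.comap (algebraMap R (𝒟.B i)) = p} := fun Q hQ => by
        show (Q.asIdeal.comap (algebraMap (𝒟.B i) (𝒟'.B i))).comap (algebraMap R (𝒟.B i)) = p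
        rw [Ideal.comap_comap, ← IsScalarTower.algebraMap_eq, IsScalarTower.algebraMap_eq R R' (𝒟'.B i),
          ← Ideal.comap_comap]
        exact (congrArg (Ideal.comap (algebraMap R R')) hQ).trans hop.over.symm
      exact ⟨hm, isOpenEmbedding_fib_away g (b i) p _ hm⟩)
  refine ⟨g, hX, hgp, hXq, IsLocalization.Away.isUnit_of_dvd hX (dvd_mul_right _ _), a1, t1, m1, m1t, hpp, hqq, 𝒟', 𝒜',
    fun i => algebraMap (𝒟.B i) (𝒟.A i) (b i), fun i => b i, aA, rA, t₁, t₂, aB, rB, t₃, t₄, bA, t₅, t₆, bA', t₇, sA, t₈,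
    mA, t₉, gM, hn, hr, hd', hS0, hiso, hlink, ?_, fun i => ⟨notMem_qA 𝒜 (hb i i.2), hb i i.2, hlA i, hlB i, ?_,
      (hover i).2, (hover i).1, (hall i).2.2⟩⟩
  · show c (𝒟.n - 1) * _ = _
    rw [hlast]
  · haveI := hlA i
    exact (isLocalizedModule_iff_isBaseChange (Submonoid.powers _) (𝒟'.A i) (gM i)).2 (hall i).2.1

end Groth.Agent.H4RG
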