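import Groth.Prelude
import Groth.Agent.H4RG.DevBaseChange
import Groth.Agent.H4RG.DevShrinkAll
import Mathlib

/-! Having a complete devissage at a point, moved along isomorphisms, base changes and shrinkings. -/

set_option autoImplicit false
set_option linter.style.haveILetI false
set_option backward.isDefEq.respectTransparency.types false

universe u

open TensorProduct

namespace Groth.Agent.H4RG

attribute [local instance] Algebra.TensorProduct.rightAlgebra

/-- Isomorphic modules have complete devissages at the same points. -/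
theorem hasCompleteDevissageAt_congr {R S : Type u} [CommRing R] [CommRing S] [Algebra R S] {N N' : Type u}
    [AddCommGroup N] [Module S N] [AddCommGroup N'] [Module S N'] (e : N ≃ₗ[S] N') {p : Ideal R} [p.IsPrime]
    {q : Ideal S} [q.IsPrime] (h : FlatCA.HasCompleteDevissageAt R S N p q) :
    FlatCA.HasCompleteDevissageAt R S N' p q := by
  obtain ⟨T, ⟨𝒜⟩⟩ := h
  haveI := 𝒜.hqA
  haveI := 𝒜.hqB
  let T' : FlatCA.CompleteDevissage R S N' p :=
    { n := T.n
      pos := T.pos
      A := T.A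
      B := T.B
      M := T.M
      r := T.r
      α := T.α
      surjSA := T.surjSA
      fpSA := T.fpSA
      surjBA' := T.surjBA'
      fpBA' := T.fpBA'
      finiteBA := T.finiteBA
      smooth := T.smooth
      geomIrred := T.geomIrred
      finiteM := T.finiteM
      isoN := e.symm ≪≫ₗ T.isoN
      isoCoker := T.isoCoker
      fibreIso := T.fibreIso
      cokerLast := T.cokerLast }
  exact ⟨T', ⟨{ qB := 𝒜.qB
                qA := 𝒜.qA
                hqB := 𝒜.hqB
                hqA := 𝒜.hqA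
                overB := 𝒜.overB
                overA := 𝒜.overA
                pureTrans := 𝒜.pureTrans
                uniq := 𝒜.uniq
                q0 := 𝒜.q0
                qStep := 𝒜.qStep
                d := 𝒜.d
                relDim := 𝒜.relDim
                locDim := 𝒜.locDim }⟩⟩

/-- A complete devissage at a point pulls back along a base change adding nothing to the residue field. -/
theorem hasCompleteDevissageAt_baseChange {R S R' S' : Type u} [CommRing R] [CommRing S] [CommRing R'] [CommRing S']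
    [Algebra R S] [Algebra R R'] [Algebra R' S'] [Algebra R S'] [Algebra S S']
    [IsScalarTower R R' S'] [IsScalarTower R S S'] [Algebra.IsPushout R R' S S']
    {N : Type u} [AddCommGroup N] [Module S N] {N' : Type u} [AddCommGroup N'] [Module S' N'] [Module S N']
    [IsScalarTower S S' N'] (f : N →ₗ[S] N') (hf : IsBaseChange S' f)
    (p : Ideal R) [p.IsPrime] (q : Ideal S) [q.IsPrime] (p' : Ideal R') [p'.IsPrime] [hp' : p'.LiesOver p]
    (hκ : Function.Bijective (Ideal.ResidueField.mapₐ p p' (Algebra.ofId R R') hp'.over))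
    (q' : Ideal S') [q'.IsPrime] (hq'q : q'.comap (algebraMap S S') = q) (hq'p : q'.comap (algebraMap R' S') = p')
    (h : FlatCA.HasCompleteDevissageAt R S N p q) : FlatCA.HasCompleteDevissageAt R' S' N' p' q' := by
  obtain ⟨𝒟, ⟨𝒜⟩⟩ := h
  haveI := 𝒜.hqA
  haveI := 𝒜.hqB
  obtain ⟨T, hT⟩ := exists_devTarget_baseChange p 𝒟 R' p' S'
  obtain ⟨𝒟', aA, rA, t1, t2, aB, rB, t3, t4, bA, t5, t6, bA', t7, sA, t8, mA, t9, gM, hn, -, h0, -, hlink, htail, hall⟩ :=
    T.exists_devissage f hf (fun i A' B' _ _ _ _ _ _ _ _ _ _ _ _ =>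
      Algebra.IsPushout R R' (𝒟.A i) A' ∧ Algebra.IsPushout R R' (𝒟.B i) B') hT
  have hpA := fun i => (hall i).1.1
  have hpB := fun i => (hall i).1.2
  have hA : ∀ i : Fin 𝒟.n, (𝒜.qA i).comap (algebraMap R (𝒟.A i)) = p := fun i => by
    rw [IsScalarTower.algebraMap_eq R (𝒟.B i) (𝒟.A i), ← Ideal.comap_comap]
    exact (congrArg (Ideal.comap (algebraMap R (𝒟.B i))) (𝒜.overA i).over.symm).trans (𝒜.overB i).over.symm
  obtain ⟨𝒜', -, -⟩ := exists_devissageAt p q 𝒜 p' hκ q'
    (fun Q hQ hQp hQq => haveI := hQ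
      prime_unique_of_pushout (X := S) p p' hκ Q q' hQp hq'p (hQq.trans hq'q.symm))
    𝒟' hn htail gM h0 hlink (fun i => (hall i).2.1)
    (fun i => haveI := hpA i; haveI := hpB i; isPushout_step (R := R) (R' := R'))
    (fun i => haveI := hpB i; smoothRelDim_baseChange (X := 𝒟.B i) (𝒜.relDim i i.2))
    (fun i => haveI := hpA i
      ⟨exists_prime_of_pushout (X := 𝒟.A i) p p' hκ (𝒜.qA i) (hA i), fun Q₁ Q₂ _ _ h₁ h₁' h₂ h₂' =>
        prime_unique_of_pushout (X := 𝒟.A i) p p' hκ Q₁ Q₂ h₁ h₂ (h₁'.trans h₂'.symm)⟩)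
    (fun i => haveI := hpB i
      ⟨exists_prime_of_pushout (X := 𝒟.B i) p p' hκ (𝒜.qB i) (𝒜.overB i).over.symm, fun Q₁ Q₂ _ _ h₁ h₁' h₂ h₂' =>
        prime_unique_of_pushout (X := 𝒟.B i) p p' hκ Q₁ Q₂ h₁ h₂ (h₁'.trans h₂'.symm)⟩)
    (fun i Q _ hQ hh => haveI := hpB i
      bijective_mapₐ_of_pushout (X := 𝒟.B i) p p' hκ (𝒜.qB i) Q (𝒜.overB i) ⟨hQ.symm⟩ ⟨hh⟩)
    (fun i => haveI := hpB i
      ⟨mapsTo_fib (X := 𝒟.B i) (X' := 𝒟'.B i) p p',
        (isOpenEmbedding_fib_of_pushout p p' hp' hκ (mapsTo_fib (X := 𝒟.B i) (X' := 𝒟'.B i) p p')).1⟩)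
  exact ⟨𝒟', ⟨𝒜'⟩⟩

/-- A complete devissage at a point can be shrunk into a standard neighbourhood of the point. -/
theorem hasCompleteDevissageAt_shrink {R S : Type u} [CommRing R] [CommRing S] [Algebra R S]
    {N : Type u} [AddCommGroup N] [Module S N]
    (p : Ideal R) [p.IsPrime] (q : Ideal S) [q.IsPrime] (h : FlatCA.HasCompleteDevissageAt R S N p q)
    (u₀ : S) (hu : u₀ ∉ q) :
    ∃ (g : R) (hX : S), g ∉ p ∧ hX ∉ q ∧ IsUnit (algebraMap S (Localization.Away hX) u₀) ∧
      ∃ (_ : Algebra (Localization.Away g) (Localization.Away hX)) (_ : IsScalarTower R (Localization.Away g) (Localization.Away hX))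
        (_ : (Ideal.map (algebraMap R (Localization.Away g)) p).IsPrime) (_ : (Ideal.map (algebraMap S (Localization.Away hX)) q).IsPrime),
        FlatCA.HasCompleteDevissageAt (Localization.Away g) (Localization.Away hX)
          (LocalizedModule (Submonoid.powers hX) N) (Ideal.map (algebraMap R (Localization.Away g)) p)
          (Ideal.map (algebraMap S (Localization.Away hX)) q) := by
  obtain ⟨𝒟, ⟨𝒜⟩⟩ := h
  obtain ⟨e, he, he0, hes⟩ := exists_forward 𝒜 u₀ hu
  obtain ⟨g, hX, hg, hXq, hu', a1, t1, _, _, hpp, hqq, 𝒟', 𝒜', -⟩ :=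
    exists_standardShrinking_complete 𝒜 u₀ hu e he he0 hes 1 (fun h => (𝒜.hqB _).ne_top ((Ideal.eq_top_iff_one _).2 h))
  exact ⟨g, hX, hg, hXq, hu', a1, t1, hpp, hqq, 𝒟', ⟨𝒜'⟩⟩

end Groth.Agent.H4RG
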