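import Groth.Prelude
import Groth.Agent.H4RG.DevLift
import Groth.Agent.H4RG.DevTail
import Mathlib

/-! The etale neighbourhood over which a step and a devissage of its cokernel live together. -/

set_option autoImplicit false
set_option linter.style.haveILetI false
set_option backward.isDefEq.respectTransparency.types false
set_option maxHeartbeats 1000000

universe u

open TensorProduct

namespace Groth.Agent.H4RG

attribute [local instance] Algebra.TensorProduct.rightAlgebra

/-- A step over an etale neighbourhood of the smooth algebra, on an etale neighbourhood of the ambient algebra. -/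
structure StepLift (R S C D : Type u) [CommRing R] [CommRing S] [CommRing C] [CommRing D] [Algebra R S] [Algebra S C]
    [Algebra D C] (q : Ideal S) [q.IsPrime] (z : Ideal C) (R'' D'' : Type u) [CommRing R''] [CommRing D''] [Algebra R R'']
    [Algebra R'' D''] [Algebra D D''] (y'' : Ideal D'') : Type (u + 1) where
  S' : Type u
  C' : Type u
  [cS : CommRing S'] [cC : CommRing C']
  [aSS : Algebra S S'] [aRS : Algebra R S'] [aR'S : Algebra R'' S'] [tRSS : IsScalarTower R S S'] [tRR'S : IsScalarTower R R'' S']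
  [aD'C : Algebra D'' C'] [aCC : Algebra C C'] [aDC : Algebra D C'] [tDD'C : IsScalarTower D D'' C'] [tDCC : IsScalarTower D C C']
  [aS'C : Algebra S' C'] [aSC : Algebra S C'] [tSS'C : IsScalarTower S S' C'] [tSCC : IsScalarTower S C C']
  [aR'C : Algebra R'' C'] [tR'D'C : IsScalarTower R'' D'' C'] [tR'S'C : IsScalarTower R'' S' C']
  z' : Ideal C'
  [hz' : z'.IsPrime]
  comapC : z'.comap (algebraMap C C') = z
  comapD : z'.comap (algebraMap D'' C') = y''
  pushD : Algebra.IsPushout D D'' C C'
  pushS : Algebra.IsPushout S S' C C'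
  etale : FlatCA.IsEtaleNhd S S' q (z'.comap (algebraMap S' C'))
  uniq : ∀ z₂ : Ideal C', z₂.IsPrime → z₂.comap (algebraMap D'' C') = y'' → z₂ = z'

attribute [instance] StepLift.cS StepLift.cC StepLift.aSS StepLift.aRS StepLift.aR'S StepLift.tRSS StepLift.tRR'S
  StepLift.aD'C StepLift.aCC StepLift.aDC StepLift.tDD'C StepLift.tDCC StepLift.aS'C StepLift.aSC StepLift.tSS'C
  StepLift.tSCC StepLift.aR'C StepLift.tR'D'C StepLift.tR'S'C StepLift.hz'

/-- An algebra smooth of some relative dimension is smooth. -/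
theorem smooth_of_relDim {R D : Type u} [CommRing R] [CommRing D] [Algebra R D] {n : ℕ}
    (h : FlatCA.SmoothRelDim n R D) : Algebra.Smooth R D := by
  haveI : AlgebraicGeometry.SmoothOfRelativeDimension n (AlgebraicGeometry.Spec.map (CommRingCat.ofHom (algebraMap R D))) := h
  exact RingHom.smooth_algebraMap.1 ((AlgebraicGeometry.HasRingHomProperty.Spec_iff (P := @AlgebraicGeometry.Smooth)).1
    (AlgebraicGeometry.SmoothOfRelativeDimension.smooth (n := n) (AlgebraicGeometry.Spec.map (CommRingCat.ofHom (algebraMap R D)))))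

/-- Near the point there are standard opens over which the step lifts and has geometrically irreducible fibres. -/
theorem exists_stage {R S C D : Type u} [CommRing R] [CommRing S] [CommRing C] [CommRing D] [Algebra R S]
    [Algebra S C] [Algebra R C] [IsScalarTower R S C] [Algebra R D] [Algebra D C] [IsScalarTower R D C] [Module.Finite D C]
    (hsurj : Function.Surjective (algebraMap S C)) (hfp : Algebra.FinitePresentation S C)
    {n : ℕ} (hn : FlatCA.SmoothRelDim n R D)
    (p : Ideal R) [p.IsPrime] (q : Ideal S) [q.IsPrime] (z : Ideal C) [z.IsPrime] (y : Ideal D) [y.IsPrime]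
    [hzq : z.LiesOver q] [hzy : z.LiesOver y] [hyp : y.LiesOver p]
    (h3 : ∀ (z₁ : Ideal C) [z₁.IsPrime], z₁.LiesOver y → z₁ = z)
    (hpt : FlatCA.PurelyTranscendental p y)
    {R' : Type u} [CommRing R'] [Algebra R R'] (p' : Ideal R') [p'.IsPrime] (hR' : FlatCA.IsEtaleNhd R R' p p')
    {D' : Type u} [CommRing D'] [Algebra D D'] [Algebra R' D'] [Algebra R D'] [IsScalarTower R R' D']
    [IsScalarTower R D D'] (y' : Ideal D') [y'.IsPrime] (hD' : FlatCA.IsEtaleNhd D D' y y') [hy'p : y'.LiesOver p'] :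
    ∃ (R₁ : Type u) (_ : CommRing R₁) (_ : Algebra R' R₁) (p₁ : Ideal R₁) (_ : p₁.IsPrime)
      (P : Ideal (R₁ ⊗[R'] D')) (_ : P.IsPrime) (u : R₁ ⊗[R'] D') (f : R₁),
      FlatCA.IsEtaleNhd R' R₁ p' p₁ ∧ FlatCA.IsEtaleNhd D' (R₁ ⊗[R'] D') y' P ∧
      P.comap (algebraMap R₁ (R₁ ⊗[R'] D')) = p₁ ∧ FlatCA.SmoothRelDim n R₁ (R₁ ⊗[R'] D') ∧ u ∉ P ∧ f ∉ p₁ ∧
      ∀ (d : R₁ ⊗[R'] D') (G : R₁), d ∉ P → G ∉ p₁ → u ∣ d → f ∣ G → algebraMap R₁ (R₁ ⊗[R'] D') G ∣ d →
        (∀ Q : PrimeSpectrum R₁, G ∉ Q.asIdeal →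
          ∃ Q' : PrimeSpectrum (R₁ ⊗[R'] D'), d ∉ Q'.asIdeal ∧ PrimeSpectrum.comap (algebraMap R₁ (R₁ ⊗[R'] D')) Q' = Q) →
        ∀ [Algebra (Localization.Away G) (Localization.Away d)] [IsScalarTower R₁ (Localization.Away G) (Localization.Away d)]
          [Algebra R (Localization.Away G)] (_ : ∀ r : R, algebraMap R (Localization.Away G) r =
            algebraMap R₁ (Localization.Away G) (algebraMap R' R₁ (algebraMap R R' r)))
          [Algebra D (Localization.Away d)] (_ : ∀ x : D, algebraMap D (Localization.Away d) x =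
            algebraMap D' (Localization.Away d) (algebraMap D D' x)),
          FlatCA.GeomIrredFibres (Localization.Away G) (Localization.Away d) ∧
          FlatCA.SmoothRelDim n (Localization.Away G) (Localization.Away d) ∧
          Nonempty (StepLift R S C D q z (Localization.Away G) (Localization.Away d) (P.map (algebraMap _ (Localization.Away d)))) := by
  classical
  obtain ⟨hR'e, hp'o, hκ⟩ := id hR'
  obtain ⟨hD'e, hy'o, hy'b⟩ := id hD'
  haveI := hR'e
  haveI := hD'e
  have hn' : FlatCA.SmoothRelDim n R' D' := smoothRelDim_nhd (R := R) (D := D) n hn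
  have hpt' : FlatCA.PurelyTranscendental p' y' := purelyTranscendental_transport p p' y y' hp'o hy'o hκ hy'b hpt
  obtain ⟨R₁, _, _, p₁, _, f, P, hPp', w, algp, towp, hR₁, hW, hPp, hf, hw, hgi⟩ := exists_geomIntegral_piece n hn' p' y' hpt'
  haveI := hR₁.1
  haveI := hW.1
  let W := R₁ ⊗[R'] D'
  haveI hPo : P.LiesOver y' := hW.2.choose
  letI : Algebra R R₁ := ((algebraMap R' R₁).comp (algebraMap R R')).toAlgebra
  haveI : IsScalarTower R R' R₁ := IsScalarTower.of_algebraMap_eq fun _ => rfl
  letI : Algebra D W := ((algebraMap D' W).comp (algebraMap D D')).toAlgebra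
  haveI : IsScalarTower D D' W := IsScalarTower.of_algebraMap_eq fun _ => rfl
  haveI : IsScalarTower R R₁ W := IsScalarTower.of_algebraMap_eq fun r => by
    show algebraMap R W r = algebraMap R₁ W (algebraMap R' R₁ (algebraMap R R' r))
    rw [← IsScalarTower.algebraMap_apply R' R₁ W, ← IsScalarTower.algebraMap_apply R R' W]
  haveI : IsScalarTower R D W := IsScalarTower.of_algebraMap_eq fun r => by
    show algebraMap R W r = algebraMap D' W (algebraMap D D' (algebraMap R D r))
    rw [← IsScalarTower.algebraMap_apply R D D', IsScalarTower.algebraMap_apply R R' D',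
      ← IsScalarTower.algebraMap_apply R' D' W, ← IsScalarTower.algebraMap_apply R R' W]
  have hWn : FlatCA.IsEtaleNhd D W y P := isEtaleNhd_trans y y' P hD' hW
  have hR₁n : FlatCA.IsEtaleNhd R R₁ p p₁ := isEtaleNhd_trans p p' p₁ hR' hR₁
  obtain ⟨b, hb, hlift⟩ := exists_lift_stage hsurj hfp p q z y h3 p₁ hR₁n P hWn
  have hnW : FlatCA.SmoothRelDim n R₁ W := smoothRelDim_baseChange (R := R') (X := D') hn'
  have hwf : w * algebraMap R₁ W f ∉ P := fun hc => (hPp'.mem_or_mem hc).elim hw fun h1 => hf (hPp.le h1)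
  refine ⟨R₁, inferInstance, inferInstance, p₁, inferInstance, P, hPp', w * algebraMap R₁ W f * b, f, hR₁, hW, hPp, hnW,
    fun hc => (hPp'.mem_or_mem hc).elim hwf hb, hf, fun d G hd hG hud hfG hGd hne _ _ aRG hRG aDd hDd => ⟨?_, ?_, ?_⟩⟩
  · let R3 := Localization.Away f
    let W3 := Localization.Away (w * algebraMap R₁ W f)
    let R'' := Localization.Away G
    let D'' := Localization.Away d
    haveI hgi' : FlatCA.GeomIrredFibres R3 W3 := by
      haveI := hgi
      exact inferInstanceAs (AlgebraicGeometry.GeometricallyIrreducible _)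
    haveI : Algebra.Smooth R3 W3 := smooth_of_relDim (smoothRelDim_away f (w * algebraMap R₁ W f) hnW)
    have uf : IsUnit (algebraMap R₁ R'' f) := IsLocalization.Away.isUnit_of_dvd G hfG
    letI : Algebra R3 R'' := (IsLocalization.Away.lift f uf).toAlgebra
    haveI : IsScalarTower R₁ R3 R'' := IsScalarTower.of_algebraMap_eq fun x => (IsLocalization.Away.lift_eq f uf x).symm
    have uw : IsUnit (algebraMap W D'' (w * algebraMap R₁ W f)) :=
      IsLocalization.Away.isUnit_of_dvd d ((dvd_mul_right _ b).trans hud)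
    letI : Algebra W3 D'' := (IsLocalization.Away.lift _ uw).toAlgebra
    haveI : IsScalarTower W W3 D'' := IsScalarTower.of_algebraMap_eq fun x => (IsLocalization.Away.lift_eq _ uw x).symm
    letI : Algebra R3 D'' := ((algebraMap R'' D'').comp (algebraMap R3 R'')).toAlgebra
    haveI : IsScalarTower R3 R'' D'' := IsScalarTower.of_algebraMap_eq fun _ => rfl
    haveI : IsScalarTower R₁ R3 D'' := IsScalarTower.of_algebraMap_eq fun x => by
      show algebraMap R₁ D'' x = algebraMap R'' D'' (algebraMap R3 R'' (algebraMap R₁ R3 x))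
      rw [← IsScalarTower.algebraMap_apply R₁ R3 R'', ← IsScalarTower.algebraMap_apply R₁ R'' D'']
    haveI : IsScalarTower R3 W3 D'' := IsScalarTower.of_algebraMap_eq' (IsLocalization.ringHom_ext (Submonoid.powers f)
      (RingHom.ext fun x => by
        show algebraMap R3 D'' (algebraMap R₁ R3 x) = algebraMap W3 D'' (algebraMap R3 W3 (algebraMap R₁ R3 x))
        rw [← IsScalarTower.algebraMap_apply R₁ R3 D'', ← IsScalarTower.algebraMap_apply R₁ R3 W3,
          IsScalarTower.algebraMap_apply R₁ W W3, ← IsScalarTower.algebraMap_apply W W3 D'',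
          ← IsScalarTower.algebraMap_apply R₁ W D'']))
    haveI : IsLocalization.Away (algebraMap R₁ R3 G) R'' := isLocalization_away_of_tower f G
    haveI : IsLocalization.Away (algebraMap W W3 d) D'' := isLocalization_away_of_tower (w * algebraMap R₁ W f) d
    refine geomIrredFibres_away (algebraMap R₁ R3 G) (algebraMap W W3 d) hgi' fun Q hQ => ?_
    obtain ⟨Q', hQ'd, hQ'⟩ := hne (PrimeSpectrum.comap (algebraMap R₁ R3) Q) hQ
    obtain ⟨Q3, rfl⟩ : Q' ∈ Set.range (PrimeSpectrum.comap (algebraMap W W3)) := by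
      rw [PrimeSpectrum.localization_away_comap_range W3 (w * algebraMap R₁ W f)]
      exact fun hc => hQ'd (Ideal.mem_of_dvd _ ((dvd_mul_right _ b).trans hud) hc)
    refine ⟨Q3, hQ'd, (PrimeSpectrum.localization_comap_isEmbedding R3 (Submonoid.powers f)).injective ?_⟩
    rw [← hQ']
    refine PrimeSpectrum.ext ?_
    show (Q3.asIdeal.comap (algebraMap R3 W3)).comap (algebraMap R₁ R3) = (Q3.asIdeal.comap (algebraMap W W3)).comap (algebraMap R₁ W)
    rw [Ideal.comap_comap, Ideal.comap_comap, ← IsScalarTower.algebraMap_eq, ← IsScalarTower.algebraMap_eq]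
  · exact smoothRelDim_away G d hnW
  · let R'' := Localization.Away G
    let D'' := Localization.Away d
    obtain rfl : aDd = (OreLocalization.instAlgebra : Algebra D D'') := Algebra.algebra_ext _ _ fun x => by
      refine (hDd x).trans ?_
      show algebraMap D' D'' _ = algebraMap W D'' (algebraMap D' W (algebraMap D D' x))
      rw [← IsScalarTower.algebraMap_apply D' W D'']
    obtain rfl : aRG = (OreLocalization.instAlgebra : Algebra R R'') := Algebra.algebra_ext _ _ fun x => (hRG x).trans rfl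
    obtain ⟨hyy, hyc⟩ := isPrime_map_away d P hd
    haveI := hyy
    obtain ⟨S'', C'', _, _, aS, aR₁S, aRS, tS, tRS, aD''C, aC, aDC, tD, tDC, aS''C, aSC, tSS, tSC, z'', hz'', hcompat,
      hpD, hpS, hu, hzC, hzD, het, huniq⟩ := hlift d G hd ((dvd_mul_left b _).trans hud) hGd D'' (P.map (algebraMap W D'')) hyc
    letI aR''S : Algebra R'' S'' := (IsLocalization.Away.lift G hu).toAlgebra
    haveI : IsScalarTower R₁ R'' S'' := IsScalarTower.of_algebraMap_eq fun x => (IsLocalization.Away.lift_eq G hu x).symm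
    haveI : IsScalarTower R R'' S'' := IsScalarTower.of_algebraMap_eq fun r => by
      rw [hRG, ← IsScalarTower.algebraMap_apply R₁ R'' S'', IsScalarTower.algebraMap_apply R R₁ S'']
      rfl
    letI aR''C : Algebra R'' C'' := ((algebraMap D'' C'').comp (algebraMap R'' D'')).toAlgebra
    haveI : IsScalarTower R'' D'' C'' := IsScalarTower.of_algebraMap_eq fun _ => rfl
    haveI : IsScalarTower R'' S'' C'' := IsScalarTower.of_algebraMap_eq' (IsLocalization.ringHom_ext (Submonoid.powers G)
      (RingHom.ext fun x => by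
        show algebraMap D'' C'' (algebraMap R'' D'' (algebraMap R₁ R'' x)) =
          algebraMap S'' C'' (algebraMap R'' S'' (algebraMap R₁ R'' x))
        rw [← IsScalarTower.algebraMap_apply R₁ R'' D'', ← IsScalarTower.algebraMap_apply R₁ R'' S'', hcompat,
          IsScalarTower.algebraMap_apply R₁ W D'']))
    exact ⟨{ S' := S'', C' := C'', z' := z'', comapC := hzC, comapD := hzD, pushD := hpD, pushS := hpS, etale := het,
             uniq := huniq }⟩

/-- Standard opens with fibres over all the points of the base piece. -/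
theorem exists_open_base {R₁ W : Type u} [CommRing R₁] [CommRing W] [Algebra R₁ W] [Algebra.Smooth R₁ W] (p₁ : Ideal R₁)
    [p₁.IsPrime] (P : Ideal W) [P.IsPrime] [hP : P.LiesOver p₁] (u : W) (hu : u ∉ P) (f : R₁) (hf : f ∉ p₁) :
    ∃ (d : W) (G : R₁), d ∉ P ∧ G ∉ p₁ ∧ u ∣ d ∧ f ∣ G ∧ algebraMap R₁ W G ∣ d ∧
      ∀ Q : PrimeSpectrum R₁, G ∉ Q.asIdeal → ∃ Q' : PrimeSpectrum W, d ∉ Q'.asIdeal ∧ PrimeSpectrum.comap (algebraMap R₁ W) Q' = Q := by
  obtain ⟨g, hg, hne⟩ := exists_base_of_smooth p₁ P u hu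
  have hG : f * g ∉ p₁ := fun h => (‹p₁.IsPrime›.mem_or_mem h).elim hf hg
  refine ⟨u * algebraMap R₁ W (f * g), f * g, fun h => ?_, hG, dvd_mul_right _ _, dvd_mul_right _ _, dvd_mul_left _ _,
    fun Q hQ => ?_⟩
  · exact (‹P.IsPrime›.mem_or_mem h).elim hu fun h1 => hG (hP.over.symm.le h1)
  · obtain ⟨Q', hQ', rfl⟩ := hne Q fun h => hQ (Ideal.mul_mem_left _ _ h)
    exact ⟨Q', fun h => (Q'.isPrime.mem_or_mem h).elim hQ' hQ, rfl⟩

/-- A devissage of the next module moves to standard opens inside given ones, over which the fibres are nonempty. -/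
theorem exists_tail_open {R' D' R₁ : Type u} [CommRing R'] [CommRing D'] [CommRing R₁] [Algebra R' D'] [Algebra R' R₁]
    {M₀ : Type u} [AddCommGroup M₀] [Module D' M₀] (p' : Ideal R') [p'.IsPrime] (y' : Ideal D') [y'.IsPrime]
    (h : FlatCA.HasCompleteDevissageAt R' D' M₀ p' y') (p₁ : Ideal R₁) [p₁.IsPrime]
    (hR₁ : FlatCA.IsEtaleNhd R' R₁ p' p₁) (P : Ideal (R₁ ⊗[R'] D')) [P.IsPrime]
    (hW : FlatCA.IsEtaleNhd D' (R₁ ⊗[R'] D') y' P) (hPp : P.comap (algebraMap R₁ (R₁ ⊗[R'] D')) = p₁)
    [Algebra.Smooth R₁ (R₁ ⊗[R'] D')] (u : R₁ ⊗[R'] D') (hu : u ∉ P) (f : R₁) (hf : f ∉ p₁) :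
    ∃ (d : R₁ ⊗[R'] D') (G : R₁), d ∉ P ∧ G ∉ p₁ ∧ u ∣ d ∧ f ∣ G ∧ algebraMap R₁ (R₁ ⊗[R'] D') G ∣ d ∧
      (∀ Q : PrimeSpectrum R₁, G ∉ Q.asIdeal →
          ∃ Q' : PrimeSpectrum (R₁ ⊗[R'] D'), d ∉ Q'.asIdeal ∧ PrimeSpectrum.comap (algebraMap R₁ (R₁ ⊗[R'] D')) Q' = Q) ∧
      ∀ [Algebra (Localization.Away G) (Localization.Away d)] [IsScalarTower R₁ (Localization.Away G) (Localization.Away d)]
        [(p₁.map (algebraMap R₁ (Localization.Away G))).IsPrime]
        [(P.map (algebraMap (R₁ ⊗[R'] D') (Localization.Away d))).IsPrime]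
        (M : Type u) [AddCommGroup M] [Module (Localization.Away d) M] [Module D' M]
        [IsScalarTower D' (Localization.Away d) M] (g : M₀ →ₗ[D'] M), IsBaseChange (Localization.Away d) g →
        FlatCA.HasCompleteDevissageAt (Localization.Away G) (Localization.Away d) M
          (p₁.map (algebraMap R₁ (Localization.Away G))) (P.map (algebraMap (R₁ ⊗[R'] D') (Localization.Away d))) := by
  classical
  let W := R₁ ⊗[R'] D'
  haveI hp₁o : p₁.LiesOver p' := hR₁.2.choose
  haveI hPo : P.LiesOver y' := hW.2.choose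
  haveI hPlo : P.LiesOver p₁ := ⟨hPp.symm⟩
  have h1 : FlatCA.HasCompleteDevissageAt R₁ W (W ⊗[D'] M₀) p₁ P :=
    hasCompleteDevissageAt_baseChange (TensorProduct.mk D' W M₀ 1) (TensorProduct.isBaseChange D' M₀ W) p' y' p₁
      hR₁.2.choose_spec P hPo.over.symm hPp h
  obtain ⟨g₁, hX, hg₁, hXP, huX, a1, t1, hpp, hqq, h2⟩ := hasCompleteDevissageAt_shrink p₁ P h1 u hu
  have hXu : hX * u ∉ P := fun hc => (‹P.IsPrime›.mem_or_mem hc).elim hXP hu
  obtain ⟨g₂, hg₂, hne⟩ := exists_base_of_smooth p₁ P (hX * u) hXu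
  let G := g₁ * g₂ * f
  have hG : G ∉ p₁ := fun h => (‹p₁.IsPrime›.mem_or_mem h).elim
    (fun h' => (‹p₁.IsPrime›.mem_or_mem h').elim hg₁ hg₂) hf
  let d := hX * u * algebraMap R₁ W G
  have hd : d ∉ P := fun h => (‹P.IsPrime›.mem_or_mem h).elim hXu fun h' => hG (hPp.le h')
  refine ⟨d, G, hd, hG, (dvd_mul_left u hX).trans (dvd_mul_right _ _), dvd_mul_left _ _, dvd_mul_left _ _,
    fun Q hQ => ?_, ?_⟩
  · obtain ⟨Q', hQ', rfl⟩ := hne Q fun h => hQ (Ideal.mul_mem_right _ _ (Ideal.mul_mem_left _ _ h))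
    exact ⟨Q', fun h => (Q'.isPrime.mem_or_mem h).elim hQ' hQ, rfl⟩
  intro _ _ _ _ M _ _ _ _ g hg
  let R2 := Localization.Away g₁
  let W2 := Localization.Away hX
  let R'' := Localization.Away G
  let D'' := Localization.Away d
  have ug : IsUnit (algebraMap R₁ R'' g₁) := IsLocalization.Away.isUnit_of_dvd G ((dvd_mul_right g₁ g₂).trans (dvd_mul_right _ f))
  letI : Algebra R2 R'' := (IsLocalization.Away.lift g₁ ug).toAlgebra
  haveI : IsScalarTower R₁ R2 R'' := IsScalarTower.of_algebraMap_eq fun x => (IsLocalization.Away.lift_eq g₁ ug x).symm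
  have uX : IsUnit (algebraMap W D'' hX) := IsLocalization.Away.isUnit_of_dvd d ((dvd_mul_right hX u).trans (dvd_mul_right _ _))
  letI : Algebra W2 D'' := (IsLocalization.Away.lift hX uX).toAlgebra
  haveI : IsScalarTower W W2 D'' := IsScalarTower.of_algebraMap_eq fun x => (IsLocalization.Away.lift_eq hX uX x).symm
  letI : Algebra R2 D'' := ((algebraMap R'' D'').comp (algebraMap R2 R'')).toAlgebra
  haveI : IsScalarTower R2 R'' D'' := IsScalarTower.of_algebraMap_eq fun _ => rfl
  haveI : IsScalarTower R₁ R2 D'' := IsScalarTower.of_algebraMap_eq fun x => by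
    show algebraMap R₁ D'' x = algebraMap R'' D'' (algebraMap R2 R'' (algebraMap R₁ R2 x))
    rw [← IsScalarTower.algebraMap_apply R₁ R2 R'', ← IsScalarTower.algebraMap_apply R₁ R'' D'']
  haveI : IsScalarTower R2 W2 D'' := IsScalarTower.of_algebraMap_eq' (IsLocalization.ringHom_ext (Submonoid.powers g₁)
    (RingHom.ext fun x => by
      show algebraMap R2 D'' (algebraMap R₁ R2 x) = algebraMap W2 D'' (algebraMap R2 W2 (algebraMap R₁ R2 x))
      rw [← IsScalarTower.algebraMap_apply R₁ R2 D'', ← IsScalarTower.algebraMap_apply R₁ R2 W2,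
        IsScalarTower.algebraMap_apply R₁ W W2, ← IsScalarTower.algebraMap_apply W W2 D'',
        ← IsScalarTower.algebraMap_apply R₁ W D'']))
  haveI hR'' : IsLocalization.Away (algebraMap R₁ R2 G) R'' := isLocalization_away_of_tower g₁ G
  haveI : IsLocalization.Away (algebraMap W W2 d) D'' := isLocalization_away_of_tower hX d
  haveI : IsLocalization.Away (algebraMap R2 W2 (algebraMap R₁ R2 G)) D'' := by
    refine IsLocalization.Away.of_associated (r := algebraMap W W2 d) ?_
    have hunit : IsUnit (algebraMap W W2 (hX * u)) := by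
      rw [map_mul]
      exact (IsLocalization.Away.algebraMap_isUnit hX).mul huX
    rw [← IsScalarTower.algebraMap_apply R₁ R2 W2, IsScalarTower.algebraMap_apply R₁ W W2,
      show algebraMap W W2 d = algebraMap W W2 (hX * u) * algebraMap W W2 (algebraMap R₁ W G) from map_mul _ _ _]
    exact associated_unit_mul_left _ _ hunit
  haveI : Algebra.IsPushout R2 R'' W2 D'' := isPushout_away (algebraMap R₁ R2 G)
  let p2 : Ideal R2 := p₁.map (algebraMap R₁ R2)
  let p'' : Ideal R'' := p₁.map (algebraMap R₁ R'')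
  let y'' : Ideal D'' := P.map (algebraMap W D'')
  have hp''2 : p''.comap (algebraMap R2 R'') = p2 := map_comap_away g₁ _ p₁ (by
    rw [Ideal.comap_comap, ← IsScalarTower.algebraMap_eq]
    exact (isPrime_map_away G p₁ hG).2)
  haveI : p''.LiesOver p2 := ⟨hp''2.symm⟩
  have hy''2 : y''.comap (algebraMap W2 D'') = P.map (algebraMap W W2) := map_comap_away hX _ P (by
    rw [Ideal.comap_comap, ← IsScalarTower.algebraMap_eq]
    exact (isPrime_map_away d P hd).2)
  have hy''p : y''.comap (algebraMap R'' D'') = p'' := map_comap_away G _ p₁ (by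
    rw [Ideal.comap_comap, ← IsScalarTower.algebraMap_eq, IsScalarTower.algebraMap_eq R₁ W D'', ← Ideal.comap_comap]
    exact (congrArg (Ideal.comap (algebraMap R₁ W)) (isPrime_map_away d P hd).2).trans hPp)
  let gW := LocalizedModule.mkLinearMap (Submonoid.powers hX) (W ⊗[D'] M₀)
  let N2 := LocalizedModule (Submonoid.powers hX) (W ⊗[D'] M₀)
  letI : Module W M := Module.compHom M (algebraMap W D'')
  haveI : IsScalarTower W D'' M := IsScalarTower.of_algebraMap_smul fun _ _ => rfl
  haveI : IsScalarTower D' W M := IsScalarTower.of_algebraMap_smul fun a x => by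
    show algebraMap W D'' (algebraMap D' W a) • x = a • x
    rw [← IsScalarTower.algebraMap_apply D' W D'', algebraMap_smul]
  letI : Module W2 M := Module.compHom M (algebraMap W2 D'')
  haveI : IsScalarTower W2 D'' M := IsScalarTower.of_algebraMap_smul fun _ _ => rfl
  haveI : IsScalarTower W W2 M := IsScalarTower.of_algebraMap_smul fun a x => by
    show algebraMap W2 D'' (algebraMap W W2 a) • x = algebraMap W D'' a • x
    rw [← IsScalarTower.algebraMap_apply W W2 D'']
  -- the module on the last open is the base change of that on the middle one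
  have hmk : IsBaseChange W (TensorProduct.mk D' W M₀ 1) := TensorProduct.isBaseChange D' M₀ W
  have hg1 : IsBaseChange D'' (hmk.lift g) := IsBaseChange.of_comp hmk (by
    convert hg using 1
    exact hmk.lift_comp g)
  have hgW : IsBaseChange W2 gW := IsLocalizedModule.isBaseChange (Submonoid.powers hX) W2 gW
  have hg2 : IsBaseChange D'' (hgW.lift (hmk.lift g)) := IsBaseChange.of_comp hgW (by
    convert hg1 using 1
    exact hgW.lift_comp _)
  exact hasCompleteDevissageAt_baseChange (hgW.lift (hmk.lift g)) hg2 p2 (P.map (algebraMap W W2)) p''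
    (isEtaleNhd_away (algebraMap R₁ R2 G) (⟨p'', inferInstance⟩ : PrimeSpectrum R'') p2 hp''2).2.choose_spec
    y'' hy''2 hy''p h2

end Groth.Agent.H4RG
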