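import Groth.Prelude
import Groth.Agent.H4RG.DevStage
import Groth.Agent.H4RG.DevCons
import Mathlib

/-! What a lifted step gives for a module and for its devissage. -/

set_option autoImplicit false
set_option linter.style.haveILetI false
set_option backward.isDefEq.respectTransparency.types false
set_option maxHeartbeats 1000000

universe u

open TensorProduct

namespace Groth.Agent.H4RG

attribute [local instance] Algebra.TensorProduct.rightAlgebra

/-- The etale neighbourhood given by the identity. -/
theorem isEtaleNhd_self {A : Type u} [CommRing A] (p : Ideal A) [p.IsPrime] : FlatCA.IsEtaleNhd A A p p :=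
  haveI : IsLocalization.Away (1 : A) A := IsLocalization.away_of_isUnit_of_bijective A isUnit_one Function.bijective_id
  isEtaleNhd_away (1 : A) (⟨p, inferInstance⟩ : PrimeSpectrum A) p (Ideal.comap_id p)

/-- Geometrically integral fibres are geometrically irreducible. -/
theorem geomIrredFibres_of_geomIntegral {R B : Type u} [CommRing R] [CommRing B] [Algebra R B]
    (h : FlatCA.GeomIntegralFibres R B) : FlatCA.GeomIrredFibres R B := by
  haveI := h
  exact inferInstanceAs (AlgebraicGeometry.GeometricallyIrreducible _)

/-- Off the points where a map from a free module is bijective over the residue field lies the support of the cokernel. -/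
theorem not_annihilator_le_of_bijective {D F G : Type u} [CommRing D] [AddCommGroup F] [Module D F] [AddCommGroup G]
    [Module D G] [Module.Finite D G] (η : Ideal D) [η.IsPrime] (α : F →ₗ[D] G)
    (h : Function.Bijective (α.baseChange η.ResidueField)) :
    ¬ Module.annihilator D (G ⧸ LinearMap.range α) ≤ η := by
  intro hc
  have hs : (⟨η, inferInstance⟩ : PrimeSpectrum D) ∈ Module.support D (G ⧸ LinearMap.range α) :=
    Module.mem_support_iff_of_finite.2 hc
  rw [Module.mem_support_iff_nontrivial_residueField_tensorProduct] at hs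
  refine not_subsingleton (η.ResidueField ⊗[D] (G ⧸ LinearMap.range α)) ⟨fun a b => ?_⟩
  have key : ∀ t : η.ResidueField ⊗[D] (G ⧸ LinearMap.range α), t = 0 := by
    intro t
    obtain ⟨t, rfl⟩ := LinearMap.lTensor_surjective η.ResidueField (LinearMap.range α).mkQ_surjective t
    obtain ⟨t, rfl⟩ := h.2 t
    exact (lTensor_exact η.ResidueField (LinearMap.exact_map_mkQ_range α) (LinearMap.range α).mkQ_surjective).apply_apply_eq_zero t
  rw [key a, key b]

section step

variable {R S C D R'' D'' : Type u} [CommRing R] [CommRing S] [CommRing C] [CommRing D] [CommRing R''] [CommRing D'']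
  [Algebra R S] [Algebra S C] [Algebra R C] [IsScalarTower R S C] [Algebra R D] [Algebra D C] [IsScalarTower R D C]
  [Algebra R R''] [Algebra R'' D''] [Algebra D D'']
  {q : Ideal S} [q.IsPrime] {z : Ideal C} {y'' : Ideal D''}

/-- The module on the lifted closed subscheme is the base change of the one on the lifted ambient algebra. -/
theorem StepLift.exists_moduleEquiv (SL : StepLift R S C D q z R'' D'' y'') {N G : Type u} [AddCommGroup N] [Module S N]
    [AddCommGroup G] [Module C G] [Module S G] [IsScalarTower S C G] (e : N ≃ₗ[S] G) :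
    Nonempty ((SL.S' ⊗[S] N) ≃ₗ[SL.S'] (SL.C' ⊗[C] G)) := by
  haveI := SL.pushS
  exact ⟨LinearEquiv.baseChange S SL.S' N G e ≪≫ₗ
    (isBaseChange_of_pushout (S := S) (S' := SL.S') (TensorProduct.mk C SL.C' G 1) (TensorProduct.isBaseChange C G SL.C')).equiv⟩

/-- The lift of the closed immersion is a closed immersion. -/
theorem StepLift.surjective (SL : StepLift R S C D q z R'' D'' y'') (h : Function.Surjective (algebraMap S C)) :
    Function.Surjective (algebraMap SL.S' SL.C') := by
  haveI := SL.pushS
  intro c
  obtain ⟨t, rfl⟩ := (Algebra.IsPushout.equiv S SL.S' C SL.C').surjective c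
  induction t using TensorProduct.induction_on with
  | zero => exact ⟨0, by simp⟩
  | tmul a b =>
    obtain ⟨b, rfl⟩ := h b
    refine ⟨a * algebraMap S SL.S' b, ?_⟩
    simp [Algebra.IsPushout.equiv_tmul, ← IsScalarTower.algebraMap_apply]
  | add a b ha hb =>
    obtain ⟨a', ha'⟩ := ha
    obtain ⟨b', hb'⟩ := hb
    exact ⟨a' + b', by rw [map_add, map_add, ha', hb']⟩

/-- The lift of the closed immersion is of finite presentation. -/
theorem StepLift.finitePresentation (SL : StepLift R S C D q z R'' D'' y'') (h : Algebra.FinitePresentation S C) :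
    Algebra.FinitePresentation SL.S' SL.C' := by
  haveI := SL.pushS
  haveI := h
  exact Algebra.FinitePresentation.equiv (Algebra.IsPushout.equiv S SL.S' C SL.C')

/-- The lift of the finite map is finite. -/
theorem StepLift.moduleFinite (SL : StepLift R S C D q z R'' D'' y'') [Module.Finite D C] : Module.Finite D'' SL.C' := by
  haveI := SL.pushD
  exact Module.Finite.equiv (Algebra.IsPushout.equiv D D'' C SL.C').toLinearEquiv

/-- A lifted step, followed by a devissage of the cokernel, is a devissage. -/
theorem StepLift.complete (SL : StepLift R S C D q z R'' D'' y'')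
    [Algebra R D''] [IsScalarTower R R'' D''] [IsScalarTower R D D''] [Module.Finite D C]
    (hsurj : Function.Surjective (algebraMap S C)) (hfp : Algebra.FinitePresentation S C)
    {n : ℕ} (hn'' : FlatCA.SmoothRelDim n R'' D'') (hgi'' : FlatCA.GeomIrredFibres R'' D'')
    (p : Ideal R) [p.IsPrime] (y : Ideal D) [y.IsPrime] [y.LiesOver p]
    (p'' : Ideal R'') [p''.IsPrime] [y''.IsPrime] [hy''p : y''.LiesOver p'']
    (hR'' : FlatCA.IsEtaleNhd R R'' p p'') (hD'' : FlatCA.IsEtaleNhd D D'' y y'')
    (hpt : FlatCA.PurelyTranscendental p y)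
    {N G : Type u} [AddCommGroup N] [Module S N] [AddCommGroup G] [Module C G] [Module S G] [IsScalarTower S C G]
    [Module D G] [IsScalarTower D C G] [Module.Finite C G] (e : N ≃ₗ[S] G)
    (hloc : LocAt p G (⟨y, inferInstance⟩ : PrimeSpectrum D) n)
    [(p.map (algebraMap R D)).IsPrime] (hη : (p.map (algebraMap R D)).comap (algebraMap R D) = p)
    {r : ℕ} (α : (Fin r → D) →ₗ[D] G) (hbij : Function.Bijective (α.baseChange (p.map (algebraMap R D)).ResidueField)) :
    (Subsingleton (D'' ⊗[D] (G ⧸ LinearMap.range α)) →
        FlatCA.HasCompleteDevissageAt R'' SL.S' (SL.S' ⊗[S] N) p'' (SL.z'.comap (algebraMap SL.S' SL.C'))) ∧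
      (FlatCA.HasCompleteDevissageAt R'' D'' (D'' ⊗[D] (G ⧸ LinearMap.range α)) p'' y'' →
        FlatCA.HasCompleteDevissageAt R'' SL.S' (SL.S' ⊗[S] N) p'' (SL.z'.comap (algebraMap SL.S' SL.C'))) := by
  haveI := SL.pushD
  haveI := SL.pushS
  haveI := hR''.1
  haveI := hD''.1
  haveI : Module.Finite D G := Module.Finite.trans C G
  haveI : Module.Finite D'' SL.C' := SL.moduleFinite
  haveI : Algebra.Smooth R'' D'' := smooth_of_relDim hn''
  let G'' := SL.C' ⊗[C] G
  let gC : G →ₗ[C] G'' := TensorProduct.mk C SL.C' G 1
  have hgD : IsBaseChange D'' (gC.restrictScalars D) :=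
    isBaseChange_of_pushout (S := D) (S' := D'') gC (TensorProduct.isBaseChange C G SL.C')
  obtain ⟨e''⟩ := SL.exists_moduleEquiv e
  haveI hp''D := (isPrime_map_of_geomIrred hgi'' p'').1
  obtain ⟨Q, hQ, hQp⟩ := exists_prime_over hgi'' p''
  have hη'' : (p''.map (algebraMap R'' D'')).comap (algebraMap R'' D'') = p'' :=
    le_antisymm ((Ideal.comap_mono (Ideal.map_le_iff_le_comap.2 hQp.ge)).trans hQp.le) Ideal.le_comap_map
  haveI := hR''.2.choose
  have hgen := comap_map_generic_etale (R := R) (B := D) (R' := R'') (B' := D'') p p'' hη hη''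
  letI : Algebra (p.map (algebraMap R D)).ResidueField (p''.map (algebraMap R'' D'')).ResidueField :=
    (Ideal.ResidueField.mapₐ (p.map (algebraMap R D)) (p''.map (algebraMap R'' D'')) (Algebra.ofId D D'') hgen.symm).toRingHom.toAlgebra
  haveI : IsScalarTower D (p.map (algebraMap R D)).ResidueField (p''.map (algebraMap R'' D'')).ResidueField :=
    IsScalarTower.of_algebraMap_eq fun a =>
      ((Ideal.ResidueField.mapₐ (p.map (algebraMap R D)) (p''.map (algebraMap R'' D'')) (Algebra.ofId D D'') hgen.symm).commutes a).symm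
  let α'' : (Fin r → D'') →ₗ[D''] G'' := freeLift α (gC.restrictScalars D)
  have hsq : ∀ x : Fin r → D, α'' ((Algebra.linearMap D D'').compLeft (Fin r) x) = gC.restrictScalars D (α x) :=
    fun x => freeLift_apply α (gC.restrictScalars D) x
  have hbij'' : Function.Bijective (α''.baseChange (p''.map (algebraMap R'' D'')).ResidueField) :=
    bijective_baseChange_square α α'' _ (isBaseChange_pi D D'' r) (gC.restrictScalars D) hgD hsq hbij
  have hloc'' : LocAt p'' G'' (⟨y'', inferInstance⟩ : PrimeSpectrum D'') n :=
    LocAt.etale p p'' hgD hloc ⟨y'', inferInstance⟩ hy''p.over.symm (PrimeSpectrum.ext hD''.2.choose.over.symm)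
  have hpt'' : FlatCA.PurelyTranscendental p'' y'' :=
    purelyTranscendental_transport p p'' y y'' hR''.2.choose hD''.2.choose hR''.2.choose_spec hD''.2.choose_spec hpt
  obtain ⟨ecoker⟩ := coker_baseChange α (LinearMap.range α).mkQ (LinearMap.range α).mkQ_surjective
    (LinearMap.exact_map_mkQ_range α) α'' _ (isBaseChange_pi D D'' r) (gC.restrictScalars D) hgD
    (TensorProduct.mk D D'' (G ⧸ LinearMap.range α) 1) (TensorProduct.isBaseChange D _ D'') hsq
  haveI : SL.z'.LiesOver y'' := ⟨SL.comapD.symm⟩
  have hcons := hasCompleteDevissageAt_cons (R := R'') (S := SL.S') (C := SL.C') (D := D'') (SL.surjective hsurj)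
    (SL.finitePresentation hfp) n hn'' hgi'' p'' (SL.z'.comap (algebraMap SL.S' SL.C')) e'' SL.z' y'' rfl
    (fun z₁ hz₁ h => SL.uniq z₁ hz₁ h.over.symm) hpt'' hloc'' r α'' hbij''
  constructor
  · intro hs
    refine hcons.1 ?_
    rw [← LinearMap.range_eq_top, ← Submodule.Quotient.subsingleton_iff]
    exact ecoker.toEquiv.subsingleton
  · exact fun h => hcons.2 (hasCompleteDevissageAt_congr ecoker.symm h)

end step

end Groth.Agent.H4RG
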