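import Groth.Prelude
import Groth.Agent.H4RG.DevStepData
import Groth.Agent.H4RG.ElemDevExists
import Mathlib

/-! Complete devissages exist after etale localisation. -/

set_option autoImplicit false
set_option linter.style.haveILetI false
set_option backward.isDefEq.respectTransparency.types false
set_option maxHeartbeats 1000000

universe u

open TensorProduct

namespace Groth.Agent.H4RG

attribute [local instance] Algebra.TensorProduct.rightAlgebra

/-- One step, in front of what is known about the cokernel over an etale neighbourhood of the smooth algebra. -/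
theorem exists_step_of_tail {R S C D : Type u} [CommRing R] [CommRing S] [CommRing C] [CommRing D] [Algebra R S]
    [Algebra S C] [Algebra R C] [IsScalarTower R S C] [Algebra R D] [Algebra D C] [IsScalarTower R D C] [Module.Finite D C]
    (hsurj : Function.Surjective (algebraMap S C)) (hfp : Algebra.FinitePresentation S C)
    {n : ℕ} (hn : FlatCA.SmoothRelDim n R D)
    (p : Ideal R) [p.IsPrime] (q : Ideal S) [q.IsPrime] [hqp : q.LiesOver p] (z : Ideal C) [z.IsPrime] (y : Ideal D)
    [y.IsPrime] [hzq : z.LiesOver q] [hzy : z.LiesOver y] [hyp : y.LiesOver p]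
    (h3 : ∀ (z₁ : Ideal C) [z₁.IsPrime], z₁.LiesOver y → z₁ = z) (hpt : FlatCA.PurelyTranscendental p y)
    {N G : Type u} [AddCommGroup N] [Module S N] [AddCommGroup G] [Module C G] [Module S G] [IsScalarTower S C G]
    [Module D G] [IsScalarTower D C G] [Module.Finite C G] (e : N ≃ₗ[S] G)
    (hloc : LocAt p G (⟨y, inferInstance⟩ : PrimeSpectrum D) n)
    [(p.map (algebraMap R D)).IsPrime] (hη : (p.map (algebraMap R D)).comap (algebraMap R D) = p)
    {r : ℕ} (α : (Fin r → D) →ₗ[D] G) (hbij : Function.Bijective (α.baseChange (p.map (algebraMap R D)).ResidueField))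
    {R' : Type u} [CommRing R'] [Algebra R R'] (p' : Ideal R') [p'.IsPrime] (hR' : FlatCA.IsEtaleNhd R R' p p')
    {D' : Type u} [CommRing D'] [Algebra D D'] [Algebra R' D'] [Algebra R D'] [IsScalarTower R R' D']
    [IsScalarTower R D D'] (y' : Ideal D') [y'.IsPrime] (hD' : FlatCA.IsEtaleNhd D D' y y') [hy'p : y'.LiesOver p']
    (htail : ∀ (R₁ : Type u) [CommRing R₁] [Algebra R' R₁] (p₁ : Ideal R₁) [p₁.IsPrime] (P : Ideal (R₁ ⊗[R'] D')) [P.IsPrime]
      (u : R₁ ⊗[R'] D') (f : R₁) [Algebra.Smooth R₁ (R₁ ⊗[R'] D')], FlatCA.IsEtaleNhd R' R₁ p' p₁ →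
      FlatCA.IsEtaleNhd D' (R₁ ⊗[R'] D') y' P → P.comap (algebraMap R₁ (R₁ ⊗[R'] D')) = p₁ → u ∉ P → f ∉ p₁ →
      ∃ (d : R₁ ⊗[R'] D') (G₁ : R₁), d ∉ P ∧ G₁ ∉ p₁ ∧ u ∣ d ∧ f ∣ G₁ ∧ algebraMap R₁ (R₁ ⊗[R'] D') G₁ ∣ d ∧
        (∀ Q : PrimeSpectrum R₁, G₁ ∉ Q.asIdeal →
          ∃ Q' : PrimeSpectrum (R₁ ⊗[R'] D'), d ∉ Q'.asIdeal ∧ PrimeSpectrum.comap (algebraMap R₁ (R₁ ⊗[R'] D')) Q' = Q) ∧
        ∀ [Algebra (Localization.Away G₁) (Localization.Away d)] [IsScalarTower R₁ (Localization.Away G₁) (Localization.Away d)]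
          [(p₁.map (algebraMap R₁ (Localization.Away G₁))).IsPrime]
          [(P.map (algebraMap (R₁ ⊗[R'] D') (Localization.Away d))).IsPrime]
          [Algebra D (Localization.Away d)] [IsScalarTower D D' (Localization.Away d)],
          Subsingleton (Localization.Away d ⊗[D] (G ⧸ LinearMap.range α)) ∨
            FlatCA.HasCompleteDevissageAt (Localization.Away G₁) (Localization.Away d)
              (Localization.Away d ⊗[D] (G ⧸ LinearMap.range α))
              (p₁.map (algebraMap R₁ (Localization.Away G₁))) (P.map (algebraMap (R₁ ⊗[R'] D') (Localization.Away d)))) :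
    ∃ (R'' S'' : Type u) (_ : CommRing R'') (_ : CommRing S'') (_ : Algebra R R'') (_ : Algebra S S'') (_ : Algebra R'' S'')
      (_ : Algebra R S'') (_ : IsScalarTower R R'' S'') (_ : IsScalarTower R S S'')
      (p'' : Ideal R'') (q'' : Ideal S'') (_ : p''.IsPrime) (_ : q''.IsPrime),
      FlatCA.IsEtaleNhd R R'' p p'' ∧ FlatCA.IsEtaleNhd S S'' q q'' ∧ q''.LiesOver p'' ∧
      FlatCA.HasCompleteDevissageAt R'' S'' (S'' ⊗[S] N) p'' q'' := by
  obtain ⟨R₁, _, _, p₁, _, P, _, u, f, hR₁, hW, hPp, hnW, hu, hf, hstage⟩ :=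
    exists_stage hsurj hfp hn p q z y h3 hpt p' hR' y' hD'
  haveI : Algebra.Smooth R₁ (R₁ ⊗[R'] D') := smooth_of_relDim hnW
  obtain ⟨d, G₁, hd, hG, hud, hfG, hGd, hne, hT⟩ := htail R₁ p₁ P u f hR₁ hW hPp hu hf
  let W := R₁ ⊗[R'] D'
  let R'' := Localization.Away G₁
  let D'' := Localization.Away d
  letI : Algebra R R₁ := ((algebraMap R' R₁).comp (algebraMap R R')).toAlgebra
  haveI : IsScalarTower R R' R₁ := IsScalarTower.of_algebraMap_eq fun _ => rfl
  letI : Algebra D W := ((algebraMap D' W).comp (algebraMap D D')).toAlgebra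
  haveI : IsScalarTower D D' W := IsScalarTower.of_algebraMap_eq fun _ => rfl
  haveI : IsScalarTower R R₁ W := IsScalarTower.of_algebraMap_eq fun r => by
    show algebraMap R W r = algebraMap R₁ W (algebraMap R' R₁ (algebraMap R R' r))
    rw [← IsScalarTower.algebraMap_apply R' R₁ W, ← IsScalarTower.algebraMap_apply R R' W]
  haveI : IsScalarTower R D W := IsScalarTower.of_algebraMap_eq fun r => by
    show algebraMap R W r = algebraMap D' W (algebraMap D D' (algebraMap R D r))
    rw [← IsScalarTower.algebraMap_apply R D D', IsScalarTower.algebraMap_apply R R' D',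
      ← IsScalarTower.algebraMap_apply R' D' W, ← IsScalarTower.algebraMap_apply R R' W]
  have uG : IsUnit (algebraMap R₁ D'' G₁) := by
    rw [IsScalarTower.algebraMap_apply R₁ W D'']
    exact IsLocalization.Away.isUnit_of_dvd d hGd
  letI : Algebra R'' D'' := (IsLocalization.Away.lift G₁ uG).toAlgebra
  haveI : IsScalarTower R₁ R'' D'' := IsScalarTower.of_algebraMap_eq fun x => (IsLocalization.Away.lift_eq G₁ uG x).symm
  haveI : IsScalarTower R R'' D'' := IsScalarTower.of_algebraMap_eq fun x => by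
    rw [IsScalarTower.algebraMap_apply R R₁ R'', ← IsScalarTower.algebraMap_apply R₁ R'' D'',
      ← IsScalarTower.algebraMap_apply R R₁ D'']
  haveI : IsScalarTower R D D'' := IsScalarTower.of_algebraMap_eq fun x => by
    rw [IsScalarTower.algebraMap_apply R W D'', IsScalarTower.algebraMap_apply R D W,
      ← IsScalarTower.algebraMap_apply D W D'']
  haveI : IsScalarTower D D' D'' := IsScalarTower.of_algebraMap_eq fun x => by
    rw [IsScalarTower.algebraMap_apply D W D'', IsScalarTower.algebraMap_apply D D' W,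
      ← IsScalarTower.algebraMap_apply D' W D'']
  obtain ⟨hgi'', hn'', ⟨SL⟩⟩ := hstage d G₁ hd hG hud hfG hGd hne
    (fun r => by rw [IsScalarTower.algebraMap_apply R R₁ R'', IsScalarTower.algebraMap_apply R R' R₁])
    (fun x => IsScalarTower.algebraMap_apply D D' D'' x)
  obtain ⟨hpp, hpc⟩ := isPrime_map_away G₁ p₁ hG
  obtain ⟨hyy, hyc⟩ := isPrime_map_away d P hd
  haveI := hpp
  haveI := hyy
  haveI hy''p : (P.map (algebraMap W D'')).LiesOver (p₁.map (algebraMap R₁ R'')) := ⟨(map_comap_away G₁ _ p₁ (by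
    rw [Ideal.comap_comap, ← IsScalarTower.algebraMap_eq, IsScalarTower.algebraMap_eq R₁ W D'', ← Ideal.comap_comap]
    exact (congrArg (Ideal.comap (algebraMap R₁ W)) hyc).trans hPp)).symm⟩
  have hR'' : FlatCA.IsEtaleNhd R R'' p (p₁.map (algebraMap R₁ R'')) :=
    isEtaleNhd_trans p p₁ _ (isEtaleNhd_trans p p' p₁ hR' hR₁) (isEtaleNhd_away G₁ ⟨_, hpp⟩ p₁ hpc)
  have hD'' : FlatCA.IsEtaleNhd D D'' y (P.map (algebraMap W D'')) :=
    isEtaleNhd_trans y P _ (isEtaleNhd_trans y y' P hD' hW) (isEtaleNhd_away d ⟨_, hyy⟩ P hyc)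
  have hc := SL.complete hsurj hfp hn'' hgi'' p y (p₁.map (algebraMap R₁ R'')) hR'' hD'' hpt e hloc hη α hbij
  refine ⟨R'', SL.S', inferInstance, inferInstance, inferInstance, inferInstance, inferInstance, inferInstance,
    inferInstance, inferInstance, p₁.map (algebraMap R₁ R''), SL.z'.comap (algebraMap SL.S' SL.C'), inferInstance,
    inferInstance, hR'', SL.etale, ⟨?_⟩, hT.elim hc.1 hc.2⟩
  show _ = (SL.z'.comap (algebraMap SL.S' SL.C')).comap (algebraMap R'' SL.S')
  rw [Ideal.comap_comap, ← IsScalarTower.algebraMap_eq, IsScalarTower.algebraMap_eq R'' D'' SL.C', ← Ideal.comap_comap,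
    SL.comapD]
  exact hy''p.over

/-- A finite module has, at every point of the support of a fibre, a complete devissage after etale localisation. -/
theorem exists_hasCompleteDevissageAt (n : ℕ) : ∀ (R S : Type u) [CommRing R] [CommRing S] [Algebra R S]
    [Algebra.FiniteType R S] (N : Type u) [AddCommGroup N] [Module S N] [Module.Finite S N]
    (p : Ideal R) [p.IsPrime] (q : Ideal S) [q.IsPrime] [q.LiesOver p], LocAt p N (⟨q, inferInstance⟩ : PrimeSpectrum S) n →
    ∃ (R' S' : Type u) (_ : CommRing R') (_ : CommRing S') (_ : Algebra R R') (_ : Algebra S S') (_ : Algebra R' S')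
      (_ : Algebra R S') (_ : IsScalarTower R R' S') (_ : IsScalarTower R S S')
      (p' : Ideal R') (q' : Ideal S') (_ : p'.IsPrime) (_ : q'.IsPrime),
      FlatCA.IsEtaleNhd R R' p p' ∧ FlatCA.IsEtaleNhd S S' q q' ∧ q'.LiesOver p' ∧
      FlatCA.HasCompleteDevissageAt R' S' (S' ⊗[S] N) p' q' := by
  induction n using Nat.strong_induction_on with
  | _ n ih =>
    intro R S _ _ _ _ N _ _ _ p _ q _ hqp hloc
    obtain ⟨ξ, hξ, hξq, hξn⟩ := (locAt_iff p N q hqp.over.symm _).2 hloc
    obtain ⟨E⟩ := nonempty_elemDevissage N p q n ξ hξq hξ hξn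
    haveI := E.etaleR.1
    haveI := E.etaleS.1
    haveI := E.finiteDC
    haveI := E.finiteG
    have hlocS : LocAt E.p' E.N' (⟨E.q', inferInstance⟩ : PrimeSpectrum E.S') n :=
      LocAt.etale p E.p' E.isBaseChange hloc ⟨E.q', inferInstance⟩ E.q'Over.over.symm
        (PrimeSpectrum.ext E.etaleS.2.choose.over.symm)
    have hzq : PrimeSpectrum.comap (algebraMap E.S' E.C) (⟨E.z, inferInstance⟩ : PrimeSpectrum E.C) =
        (⟨E.q', inferInstance⟩ : PrimeSpectrum E.S') := PrimeSpectrum.ext E.zOver.over.symm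
    rw [← hzq, locAt_iff_of_surjective E.surjC E.p' E.iso] at hlocS
    have hgi := geomIrredFibres_of_geomIntegral E.geomInt
    haveI : Algebra.Smooth E.R' E.D := smooth_of_relDim E.smooth
    obtain ⟨hall, hlocD⟩ := locAt_of_finite n E.smooth hgi E.p' E.G hlocS
    haveI := (isPrime_map_of_geomIrred hgi E.p').1
    obtain ⟨Q, hQ, hQp⟩ := exists_prime_over hgi E.p'
    have hη : (E.p'.map (algebraMap E.R' E.D)).comap (algebraMap E.R' E.D) = E.p' :=
      le_antisymm ((Ideal.comap_mono (Ideal.map_le_iff_le_comap.2 hQp.ge)).trans hQp.le) Ideal.le_comap_map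
    haveI : Module.Finite E.D E.G := Module.Finite.trans E.C E.G
    obtain ⟨r, α, -, hbij⟩ := exists_baseChange_bijective (D := E.D) E.G (E.p'.map (algebraMap E.R' E.D)).ResidueField
    let L := E.G ⧸ LinearMap.range α
    suffices H : ∃ (R'' S'' : Type u) (_ : CommRing R'') (_ : CommRing S'') (_ : Algebra E.R' R'') (_ : Algebra E.S' S'')
        (_ : Algebra R'' S'') (_ : Algebra E.R' S'') (_ : IsScalarTower E.R' R'' S'') (_ : IsScalarTower E.R' E.S' S'')
        (p'' : Ideal R'') (q'' : Ideal S'') (_ : p''.IsPrime) (_ : q''.IsPrime),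
        FlatCA.IsEtaleNhd E.R' R'' E.p' p'' ∧ FlatCA.IsEtaleNhd E.S' S'' E.q' q'' ∧ q''.LiesOver p'' ∧
        FlatCA.HasCompleteDevissageAt R'' S'' (S'' ⊗[E.S'] E.N') p'' q'' by
      obtain ⟨R'', S'', _, _, _, _, _, _, _, _, p'', q'', _, _, h1, h2, h3, h4⟩ := H
      letI : Algebra R R'' := ((algebraMap E.R' R'').comp (algebraMap R E.R')).toAlgebra
      haveI : IsScalarTower R E.R' R'' := IsScalarTower.of_algebraMap_eq fun _ => rfl
      letI : Algebra S S'' := ((algebraMap E.S' S'').comp (algebraMap S E.S')).toAlgebra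
      haveI : IsScalarTower S E.S' S'' := IsScalarTower.of_algebraMap_eq fun _ => rfl
      letI : Algebra R S'' := ((algebraMap R'' S'').comp (algebraMap R R'')).toAlgebra
      haveI : IsScalarTower R R'' S'' := IsScalarTower.of_algebraMap_eq fun _ => rfl
      haveI : IsScalarTower R S S'' := IsScalarTower.of_algebraMap_eq fun r => by
        show algebraMap R'' S'' (algebraMap E.R' R'' (algebraMap R E.R' r)) =
          algebraMap E.S' S'' (algebraMap S E.S' (algebraMap R S r))
        rw [← IsScalarTower.algebraMap_apply R S E.S', IsScalarTower.algebraMap_apply R E.R' E.S',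
          ← IsScalarTower.algebraMap_apply E.R' R'' S'', ← IsScalarTower.algebraMap_apply E.R' E.S' S'']
      refine ⟨R'', S'', inferInstance, inferInstance, inferInstance, inferInstance, inferInstance, inferInstance,
        inferInstance, inferInstance, p'', q'', inferInstance, inferInstance, isEtaleNhd_trans p E.p' p'' E.etaleR h1,
        isEtaleNhd_trans q E.q' q'' E.etaleS h2, h3, hasCompleteDevissageAt_congr ?_ h4⟩
      exact (LinearEquiv.baseChange E.S' S'' _ _ E.isBaseChange.equiv).symm ≪≫ₗ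
        AlgebraTensorModule.cancelBaseChange S E.S' S'' S'' N
    by_cases hy : Module.annihilator E.D L ≤ E.y
    · -- the cokernel is treated by induction
      obtain ⟨m, hmn, hm⟩ : ∃ m : ℕ, m < n ∧ LocAt E.p' L (⟨E.y, inferInstance⟩ : PrimeSpectrum E.D) m := by
        have hmem : (⟨E.y, inferInstance⟩ : PrimeSpectrum E.D) ∈ suppOver E.D E.p' L := ⟨E.yOver.over.symm, hy⟩
        have hlt : Order.krullDim (suppOver E.D E.p' L) < (n : WithBot ℕ∞) := by
          refine krullDim_lt_of_forall_gt {P : PrimeSpectrum E.D | P.asIdeal.comap (algebraMap E.R' E.D) = E.p'} _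
            ⟨E.p'.map (algebraMap E.R' E.D), inferInstance⟩ hη (fun P hP => hP.1) (fun P hP => ?_) ?_
          · refine lt_of_le_of_ne (Ideal.map_le_iff_le_comap.2 (hP.1.ge : E.p' ≤ P.asIdeal.comap (algebraMap E.R' E.D))) ?_
            rintro rfl
            exact not_annihilator_le_of_bijective _ α hbij hP.2
          · refine le_of_eq_of_le (congrArg (fun F : Set (PrimeSpectrum E.D) => Order.krullDim F) ?_)
              (krullDim_fib_le n E.smooth ⟨E.p', inferInstance⟩)
            exact Set.ext fun P => ⟨fun h => PrimeSpectrum.ext h, fun h => congrArg PrimeSpectrum.asIdeal h⟩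
        have hv := lt_of_le_of_lt (le_krullDim_suppOver E.p' L (Q := ⟨E.y, inferInstance⟩) ⟨hmem, rfl⟩) hlt
        have h0 : (0 : WithBot ℕ∞) ≤ FlatMor.localDim _ (⟨_, hmem⟩ : suppOver E.D E.p' L) :=
          le_iInf fun U => haveI : Nonempty (TopologicalSpace.IrreducibleCloseds U.1) :=
            ⟨⟨closure {⟨_, U.2⟩}, isIrreducible_singleton.closure, isClosed_closure⟩⟩; Order.krullDim_nonneg
        cases hval : FlatMor.localDim _ (⟨_, hmem⟩ : suppOver E.D E.p' L) with
        | bot => rw [hval] at h0; exact absurd h0 (by simp)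
        | coe k =>
          rw [hval] at hv
          obtain ⟨k', rfl⟩ := ENat.ne_top_iff_exists.1 (ne_top_of_lt (WithBot.coe_lt_coe.1 hv))
          exact ⟨k', by exact_mod_cast WithBot.coe_lt_coe.1 hv, hmem, hval⟩
      haveI : Algebra.FiniteType E.R' E.D := inferInstance
      obtain ⟨R', D', _, _, _, _, _, _, _, _, p', y', _, _, hR', hD', hy'p, hdev⟩ := ih m hmn E.R' E.D L E.p' E.y hm
      haveI := hy'p
      refine exists_step_of_tail E.surjC E.fpC E.smooth E.p' E.q' E.z E.y E.uniq E.pureTrans E.iso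
        (hlocD _ E.yOver.over.symm) hη α hbij p' hR' y' hD' fun R₁ _ _ p₁ _ P _ u f _ hR₁ hW hPp hu hf => ?_
      obtain ⟨d, G₁, hd, hG, hud, hfG, hGd, hne, hT⟩ := exists_tail_open p' y' hdev p₁ hR₁ P hW hPp u hu f hf
      refine ⟨d, G₁, hd, hG, hud, hfG, hGd, hne, ?_⟩
      intro _ _ _ _ _ _
      let D'' := Localization.Away d
      have hmk : IsBaseChange D' (TensorProduct.mk E.D D' L 1) := TensorProduct.isBaseChange E.D L D'
      let g₀ : L →ₗ[E.D] D'' ⊗[E.D] L := TensorProduct.mk E.D D'' L 1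
      refine Or.inr (hT (D'' ⊗[E.D] L) (hmk.lift g₀) (IsBaseChange.of_comp hmk ?_))
      rw [hmk.lift_comp g₀]
      exact TensorProduct.isBaseChange E.D L D''
    · -- the map is surjective near the point
      obtain ⟨a, haL, hay⟩ := SetLike.not_le_iff_exists.1 hy
      refine exists_step_of_tail E.surjC E.fpC E.smooth E.p' E.q' E.z E.y E.uniq E.pureTrans E.iso
        (hlocD _ E.yOver.over.symm) hη α hbij E.p' (isEtaleNhd_self E.p') E.y (isEtaleNhd_self E.y)
        fun R₁ _ _ p₁ _ P _ u f _ hR₁ hW hPp hu hf => ?_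
      haveI : P.LiesOver p₁ := ⟨hPp.symm⟩
      have hua : u * algebraMap E.D (R₁ ⊗[E.R'] E.D) a ∉ P := fun hc =>
        (‹P.IsPrime›.mem_or_mem hc).elim hu fun h => hay (hW.2.choose.over.ge h)
      obtain ⟨d, G₁, hd, hG, hud, hfG, hGd, hne⟩ := exists_open_base p₁ P _ hua f hf
      refine ⟨d, G₁, hd, hG, (dvd_mul_right u _).trans hud, hfG, hGd, hne, ?_⟩
      intro _ _ _ _ aD tD
      obtain rfl : aD = (OreLocalization.instAlgebra : Algebra E.D (Localization.Away d)) :=
        Algebra.algebra_ext _ _ fun x => by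
          have h1 := tD.smul_assoc x (1 : E.D) (1 : Localization.Away d)
          rw [smul_eq_mul, mul_one, one_smul] at h1
          exact (@Algebra.algebraMap_eq_smul_one E.D (Localization.Away d) _ _ aD x).trans
            (h1.symm.trans (@Algebra.algebraMap_eq_smul_one E.D (Localization.Away d) _ _ OreLocalization.instAlgebra x).symm)
      refine Or.inl ⟨fun s t => ?_⟩
      have hu' : IsUnit (algebraMap E.D (Localization.Away d) a) := by
        rw [IsScalarTower.algebraMap_apply E.D (R₁ ⊗[E.R'] E.D)]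
        exact IsLocalization.Away.isUnit_of_dvd d ((dvd_mul_left _ u).trans hud)
      have key : ∀ t : Localization.Away d ⊗[E.D] L, t = 0 := fun t => by
        induction t using TensorProduct.induction_on with
        | zero => rfl
        | tmul b l =>
          obtain ⟨v, hv⟩ := hu'
          have hb : b = a • ((↑v⁻¹ : Localization.Away d) * b) := by
            rw [Algebra.smul_def, ← hv, ← mul_assoc, Units.mul_inv, one_mul]
          rw [hb, TensorProduct.smul_tmul, Module.mem_annihilator.1 haL l, TensorProduct.tmul_zero]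
        | add x y hx hy => rw [hx, hy, add_zero]
      rw [key s, key t]

/-- The local dimension of the support of a fibre at a point of it is a natural number. -/
theorem exists_locAt_nat {R S : Type u} [CommRing R] [CommRing S] [Algebra R S] [Algebra.FiniteType R S]
    (N : Type u) [AddCommGroup N] [Module S N] [Module.Finite S N] (p : Ideal R) [p.IsPrime] (q : Ideal S) [q.IsPrime]
    [hqp : q.LiesOver p] (ξ : PrimeSpectrum (p.Fiber S))
    (hξ : ξ ∈ Module.support (p.Fiber S) (FlatCA.fiberMod p S N)) (hξq : ξ.asIdeal = FlatCA.fiberIdeal p q) :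
    ∃ n : ℕ, LocAt p N (⟨q, inferInstance⟩ : PrimeSpectrum S) n := by
  letI : Module R N := Module.compHom N (algebraMap R S)
  haveI : IsScalarTower R S N := IsScalarTower.of_algebraMap_smul fun a (x : N) => rfl
  have h := (locAt_iff p N q hqp.over.symm _).1 ⟨ξ, hξ, hξq, rfl⟩
  obtain ⟨k, f, hf⟩ := Algebra.FiniteType.iff_quotient_mvPolynomial''.1
    (inferInstance : Algebra.FiniteType p.ResidueField (p.Fiber S))
  have hle := le_supportDim_of_locAt p N h
  rw [supportDim_fiberMod_eq_ringKrullDim] at hle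
  have hb := (hle.trans (ringKrullDim_quotient_le _)).trans
    (ringKrullDim_le_of_surjective f.toRingHom hf)
  rw [MvPolynomial.ringKrullDim_of_isNoetherianRing, ringKrullDim_eq_zero_of_field, zero_add, Nat.card_fin] at hb
  obtain ⟨hmem, hdim⟩ := id h
  have h0 : (0 : WithBot ℕ∞) ≤ FlatMor.localDim _ (⟨_, hmem⟩ : suppOver S p N) :=
    le_iInf fun U => haveI : Nonempty (TopologicalSpace.IrreducibleCloseds U.1) :=
      ⟨⟨closure {⟨_, U.2⟩}, isIrreducible_singleton.closure, isClosed_closure⟩⟩; Order.krullDim_nonneg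
  rw [← hdim] at hb
  cases hval : FlatMor.localDim _ (⟨_, hmem⟩ : suppOver S p N) with
  | bot => rw [hval] at h0; exact absurd h0 (by simp)
  | coe c =>
    rw [hval] at hb
    obtain ⟨c', rfl⟩ := ENat.ne_top_iff_exists.1 (ne_top_of_le_ne_top (ENat.coe_ne_top k) (WithBot.coe_le_coe.1 hb))
    exact ⟨c', hmem, hval⟩

end Groth.Agent.H4RG
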