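import Groth.Prelude
import Groth.Agent.H4RG.DevExists
import Mathlib

/-! Complete devissages covering a fibre after one etale localisation of the base. -/

set_option autoImplicit false
set_option linter.style.haveILetI false
set_option backward.isDefEq.respectTransparency.types false
set_option maxHeartbeats 1000000

universe u

open TensorProduct AlgebraicGeometry CategoryTheory CategoryTheory.Limits

namespace Groth.Agent.H4RG

attribute [local instance] Algebra.TensorProduct.rightAlgebra

/-- The identity has geometrically irreducible fibres. -/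
theorem geomIrredFibres_self (A : Type u) [CommRing A] : FlatCA.GeomIrredFibres A A := by
  let f := Spec.map (CommRingCat.ofHom (algebraMap A A))
  have hf : f = 𝟙 _ := by
    show Spec.map (CommRingCat.ofHom (RingHom.id A)) = _
    simp
  haveI : IsIso f := hf ▸ inferInstance
  show GeometricallyIrreducible f
  refine ⟨geometrically_iff_of_isClosedUnderIsomorphisms.mpr fun K _ x => ?_⟩
  rw [(asIso (pullback.snd f x)).hom.homeomorph.irreducibleSpace_iff]
  infer_instance

/-- The zero module has a complete devissage of one step over any point. -/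
theorem nonempty_completeDevissage_of_subsingleton {A B : Type u} [CommRing A] [CommRing B] [Algebra A B] (p : Ideal A)
    [p.IsPrime] (N : Type u) [AddCommGroup N] [Module B N] [Subsingleton N] :
    Nonempty (FlatCA.CompleteDevissage A B N p) := by
  haveI hp' : (p.map (algebraMap A A)).IsPrime := by
    rw [show algebraMap A A = RingHom.id A from rfl, Ideal.map_id]
    infer_instance
  haveI : Subsingleton (B ⧸ (⊤ : Ideal B)) := Ideal.Quotient.subsingleton_iff.2 rfl
  letI : Unique N := uniqueOfSubsingleton 0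
  refine ⟨{ n := 1, pos := Nat.one_pos, A := fun _ => B ⧸ (⊤ : Ideal B), B := fun _ => A, M := fun _ => PUnit.{u+1},
            r := fun _ => 0, hp := fun _ => hp', α := fun _ => 0, surjSA := Ideal.Quotient.mk_surjective,
            fpSA := Algebra.FinitePresentation.quotient ⟨{1}, by simp⟩,
            surjBA' := fun i hi => absurd hi (by omega), fpBA' := fun i hi => absurd hi (by omega),
            finiteBA := fun _ _ => inferInstance, smooth := fun _ _ => inferInstance,
            geomIrred := fun _ _ => geomIrredFibres_self A, finiteM := fun _ _ => inferInstance,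
            isoN := 0, isoCoker := fun i hi => absurd hi (by omega), fibreIso := fun i hi => ?_,
            cokerLast := fun x => ⟨0, Subsingleton.elim _ _⟩ }⟩
  exact ⟨fun a b _ => Subsingleton.elim a b, fun b => ⟨0, Subsingleton.elim _ _⟩⟩

/-- Near each point of the fibre there is an etale algebra with a complete devissage after etale localisation. -/
theorem exists_devissage_at_point {A B : Type u} [CommRing A] [CommRing B] [Algebra A B] [Algebra.FiniteType A B]
    (N : Type u) [AddCommGroup N] [Module B N] [Module.Finite B N] (p : Ideal A) [p.IsPrime]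
    (Q : PrimeSpectrum B) (hQ : Q.asIdeal.comap (algebraMap A B) = p) :
    ∃ (R S : Type u) (_ : CommRing R) (_ : CommRing S) (_ : Algebra A R) (_ : Algebra B S) (_ : Algebra R S) (_ : Algebra A S)
      (_ : IsScalarTower A R S) (_ : IsScalarTower A B S) (pR : Ideal R) (_ : pR.IsPrime) (q' : Ideal S) (_ : q'.IsPrime),
      FlatCA.IsEtaleNhd A R p pR ∧ Algebra.Etale B S ∧ Nonempty (FlatCA.CompleteDevissage R S (S ⊗[B] N) pR) ∧
      q'.comap (algebraMap B S) = Q.asIdeal ∧ q'.comap (algebraMap R S) = pR := by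
  haveI : Q.asIdeal.LiesOver p := ⟨hQ.symm⟩
  by_cases h : Module.annihilator B N ≤ Q.asIdeal
  · obtain ⟨e, he⟩ := exists_support_homeomorph (R := A) (X := B) p N
    obtain ⟨n, hn⟩ := exists_locAt_nat N p Q.asIdeal (e.symm ⟨Q, hQ, h⟩).1 (e.symm ⟨Q, hQ, h⟩).2
      ((eq_fiberIdeal_iff p _ Q.asIdeal hQ).2 (by rw [← he, Homeomorph.apply_symm_apply]))
    obtain ⟨R, S, _, _, _, _, _, _, _, _, pR, q', _, _, h1, h2, h3, ⟨𝒟, -⟩⟩ :=
      exists_hasCompleteDevissageAt n A B N p Q.asIdeal hn
    exact ⟨R, S, inferInstance, inferInstance, inferInstance, inferInstance, inferInstance, inferInstance, inferInstance,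
      inferInstance, pR, inferInstance, q', inferInstance, h1, h2.1, ⟨𝒟⟩, h2.2.choose.over.symm, h3.over.symm⟩
  · obtain ⟨s, hsN, hsQ⟩ := SetLike.not_le_iff_exists.1 h
    let S := Localization.Away s
    obtain ⟨hq, hqc⟩ := isPrime_map_away s Q.asIdeal hsQ
    haveI := hq
    haveI : Subsingleton (S ⊗[B] N) := by
      have key : ∀ t : S ⊗[B] N, t = 0 := fun t => by
        induction t using TensorProduct.induction_on with
        | zero => rfl
        | tmul b l =>
          obtain ⟨v, hv⟩ := IsLocalization.Away.algebraMap_isUnit (S := S) s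
          have hb : b = s • ((↑v⁻¹ : S) * b) := by rw [Algebra.smul_def, ← hv, ← mul_assoc, Units.mul_inv, one_mul]
          rw [hb, TensorProduct.smul_tmul, Module.mem_annihilator.1 hsN l, TensorProduct.tmul_zero]
        | add x y hx hy => rw [hx, hy, add_zero]
      exact ⟨fun a b => (key a).trans (key b).symm⟩
    refine ⟨A, S, inferInstance, inferInstance, inferInstance, inferInstance, inferInstance, inferInstance, inferInstance,
      inferInstance, p, inferInstance, _, hq, isEtaleNhd_self p, Algebra.Etale.of_isLocalizationAway s,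
      nonempty_completeDevissage_of_subsingleton p _, hqc, ?_⟩
    rw [IsScalarTower.algebraMap_eq A B S, ← Ideal.comap_comap, hqc]
    exact hQ

/-- Finitely many etale neighbourhoods of a point of the base are dominated by one. -/
theorem exists_common_nhd {A : Type u} [CommRing A] (p : Ideal A) [p.IsPrime] :
    ∀ (k : ℕ) (R : Fin k → Type u) [∀ i, CommRing (R i)] [∀ i, Algebra A (R i)] (pR : ∀ i, Ideal (R i))
      [∀ i, (pR i).IsPrime], (∀ i, FlatCA.IsEtaleNhd A (R i) p (pR i)) →
    ∃ (A' : Type u) (_ : CommRing A') (_ : Algebra A A') (p' : Ideal A') (_ : p'.IsPrime) (φ : ∀ i, R i →ₐ[A] A'),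
      FlatCA.IsEtaleNhd A A' p p' ∧ ∀ i, p'.comap (φ i).toRingHom = pR i := by
  intro k
  induction k with
  | zero => exact fun R _ _ pR _ _ => ⟨A, inferInstance, inferInstance, p, inferInstance, fun i => i.elim0,
      isEtaleNhd_self p, fun i => i.elim0⟩
  | succ k ih =>
    intro R _ _ pR _ h
    obtain ⟨A₁, _, _, p₁, _, φ, h₁, hφ⟩ := ih (fun i => R i.castSucc) (fun i => pR i.castSucc) (fun i => h i.castSucc)
    let L := R (Fin.last k)
    obtain ⟨hLe, hLo, hLb⟩ := h (Fin.last k)
    obtain ⟨h₁e, h₁o, h₁b⟩ := id h₁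
    haveI := hLe
    haveI := h₁e
    obtain ⟨P, hP, hPl, ⟨hPr, hPb⟩, -⟩ := exists_unique_prime_over_trivial (A := A) (D := A₁) (C := L) p p₁ h₁o h₁b.2
      (pR (Fin.last k)) hLo
    haveI := hP
    haveI : IsScalarTower A L (A₁ ⊗[A] L) := IsScalarTower.of_algebraMap_eq fun a => by
      rw [Algebra.TensorProduct.algebraMap_apply]
      show algebraMap A A₁ a ⊗ₜ[A] (1 : L) = (1 : A₁) ⊗ₜ[A] algebraMap A L a
      rw [Algebra.algebraMap_eq_smul_one, Algebra.algebraMap_eq_smul_one, TensorProduct.smul_tmul]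
    have hL : FlatCA.IsEtaleNhd L (A₁ ⊗[A] L) (pR (Fin.last k)) P := ⟨etale_right A A₁ L, ⟨hPr⟩, hPb⟩
    let ψ : ∀ i, R i →ₐ[A] A₁ ⊗[A] L := Fin.lastCases (motive := fun i => R i →ₐ[A] A₁ ⊗[A] L)
      (Algebra.TensorProduct.includeRight) fun i => (Algebra.TensorProduct.includeLeft (S := A)).comp (φ i)
    refine ⟨A₁ ⊗[A] L, inferInstance, inferInstance, P, inferInstance, ψ,
      isEtaleNhd_trans p (pR (Fin.last k)) P (h (Fin.last k)) hL, Fin.lastCases ?_ fun i => ?_⟩
    · simp only [ψ, Fin.lastCases_last]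
      exact hPr.symm
    · simp only [ψ, Fin.lastCases_castSucc]
      refine Eq.trans ?_ (hφ i)
      rw [← hPl]
      rfl

/-- Changing the module of a complete devissage by an isomorphism. -/
theorem nonempty_completeDevissage_congr {R S : Type u} [CommRing R] [CommRing S] [Algebra R S] {N N' : Type u}
    [AddCommGroup N] [Module S N] [AddCommGroup N'] [Module S N'] {p : Ideal R} [p.IsPrime] (e : N ≃ₗ[S] N')
    (T : FlatCA.CompleteDevissage R S N p) : Nonempty (FlatCA.CompleteDevissage R S N' p) :=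
  ⟨{ n := T.n
     pos := T.pos
     A := T.A
     B := T.B
     M := T.M
     r := T.r
     α := T.α
     surjSA := T.surjSA
     fpSA := T.fpSA
     surjBA' := T.surjBA'
     fpBA' := T.fpBA'
     finiteBA := T.finiteBA
     smooth := T.smooth
     geomIrred := T.geomIrred
     finiteM := T.finiteM
     isoN := e.symm ≪≫ₗ T.isoN
     isoCoker := T.isoCoker
     fibreIso := T.fibreIso
     cokerLast := T.cokerLast }⟩

/-- The open piece of the fibre seen from an etale algebra at a point of an etale neighbourhood of the base. -/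
theorem exists_open_piece {A B R S : Type u} [CommRing A] [CommRing B] [CommRing R] [CommRing S] [Algebra A B] [Algebra A R]
    [Algebra B S] [Algebra R S] [Algebra A S] [IsScalarTower A R S] [IsScalarTower A B S] [Algebra.Etale A R]
    [Algebra.Etale B S] (p : Ideal A) [p.IsPrime] (pR : Ideal R) [pR.IsPrime] [hpR : pR.LiesOver p]
    (q : Ideal S) [q.IsPrime] (hq : q.comap (algebraMap R S) = pR) :
    ∃ O : Set (PrimeSpectrum B), IsOpen O ∧ PrimeSpectrum.comap (algebraMap B S) ⟨q, inferInstance⟩ ∈ O ∧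
      ∀ Q ∈ O, Q.asIdeal.comap (algebraMap A B) = p →
        ∃ q₁ : Ideal S, q₁.IsPrime ∧ q₁.comap (algebraMap B S) = Q.asIdeal ∧ q₁.comap (algebraMap R S) = pR := by
  classical
  have hfin : (p.primesOver R).Finite := Algebra.QuasiFinite.finite_primesOver p
  have hex : ∀ P ∈ hfin.toFinset.erase pR, ∃ x ∈ P, x ∉ pR := fun P hP => by
    obtain ⟨hne, hP⟩ := Finset.mem_erase.1 hP
    obtain ⟨hPp, hPo⟩ := hfin.mem_toFinset.1 hP
    haveI := hPp
    exact SetLike.not_le_iff_exists.1 fun hle =>
      hne (Algebra.QuasiFinite.eq_of_le_of_under_eq (R := A) _ _ hle (hPo.over.symm.trans hpR.over))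
  choose x hxP hx using hex
  let g := ∏ P ∈ (hfin.toFinset.erase pR).attach, x P.1 P.2
  have hg : g ∉ pR := fun hc => by
    obtain ⟨P, -, hP⟩ := (Ideal.IsPrime.prod_mem_iff).1 hc
    exact hx P.1 P.2 hP
  have hgP : ∀ P ∈ hfin.toFinset.erase pR, g ∈ P := fun P hP =>
    P.mem_of_dvd (Finset.dvd_prod_of_mem (fun P => x P.1 P.2) (Finset.mem_attach _ ⟨P, hP⟩)) (hxP P hP)
  haveI : Module.Flat B S := inferInstance
  refine ⟨PrimeSpectrum.comap (algebraMap B S) '' (PrimeSpectrum.basicOpen (algebraMap R S g) : Set (PrimeSpectrum S)),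
    PrimeSpectrum.isOpenMap_comap_of_hasGoingDown_of_finitePresentation _ (PrimeSpectrum.basicOpen _).isOpen,
    ⟨⟨q, inferInstance⟩, fun h => hg (hq.le h), rfl⟩, ?_⟩
  rintro _ ⟨q₁, hq₁, rfl⟩ hQ
  refine ⟨q₁.asIdeal, q₁.2, rfl, by_contra fun hne => hq₁ ?_⟩
  have hover : q₁.asIdeal.comap (algebraMap R S) ∈ p.primesOver R := by
    refine ⟨inferInstance, ⟨?_⟩⟩
    show p = (q₁.asIdeal.comap (algebraMap R S)).comap (algebraMap A R)
    rw [Ideal.comap_comap, ← IsScalarTower.algebraMap_eq, IsScalarTower.algebraMap_eq A B S, ← Ideal.comap_comap]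
    exact hQ.symm
  exact hgP _ (Finset.mem_erase.2 ⟨hne, hfin.mem_toFinset.2 hover⟩)

/-- After one etale localisation of the base, finitely many etale algebras with complete devissages cover the fibre. -/
theorem exists_cover_with_devissage {A B : Type u} [CommRing A] [CommRing B] [Algebra A B] [Algebra.FiniteType A B]
    (N : Type u) [AddCommGroup N] [Module B N] [Module.Finite B N] (p : Ideal A) [p.IsPrime] :
    ∃ (A' : Type u) (_ : CommRing A') (_ : Algebra A A') (p' : Ideal A') (_ : p'.IsPrime), FlatCA.IsEtaleNhd A A' p p' ∧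
      ∀ (BA NA : Type u) [CommRing BA] [Algebra B BA] [Algebra A' BA] [Algebra A BA] [IsScalarTower A B BA] [IsScalarTower A A' BA]
        [Algebra.IsPushout A B A' BA]
        [AddCommGroup NA] [Module BA NA] [Module B NA] [IsScalarTower B BA NA]
        (fA : N →ₗ[B] NA), IsBaseChange BA fA →
        ∃ (k : ℕ) (C : Fin k → Type u) (_ : ∀ i, CommRing (C i)) (_ : ∀ i, Algebra BA (C i)) (_ : ∀ i, Algebra A' (C i))
          (_ : ∀ i, IsScalarTower A' BA (C i))
          (Nc : Fin k → Type u) (_ : ∀ i, AddCommGroup (Nc i)) (_ : ∀ i, Module (C i) (Nc i)) (_ : ∀ i, Module BA (Nc i))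
          (_ : ∀ i, IsScalarTower BA (C i) (Nc i)) (g : ∀ i, NA →ₗ[BA] Nc i),
          (∀ i, Algebra.Etale BA (C i) ∧ IsBaseChange (C i) (g i) ∧ Nonempty (FlatCA.CompleteDevissage A' (C i) (Nc i) p')) ∧
          ∀ (Q : Ideal BA) [Q.IsPrime], Q.LiesOver p' → ∃ (i : Fin k) (Q' : Ideal (C i)), Q'.IsPrime ∧ Q'.comap (algebraMap BA (C i)) = Q := by
  classical
  let F : Set (PrimeSpectrum B) := {Q | Q.asIdeal.comap (algebraMap A B) = p}
  have hcpt : IsCompact F := by
    have hF : F = PrimeSpectrum.comap (algebraMap A B) ⁻¹' {(⟨p, inferInstance⟩ : PrimeSpectrum A)} :=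
      Set.ext fun Q => ⟨fun h => PrimeSpectrum.ext h, fun h => congrArg PrimeSpectrum.asIdeal h⟩
    rw [hF, isCompact_iff_compactSpace]
    exact (PrimeSpectrum.preimageHomeomorphFiber A B ⟨p, inferInstance⟩).symm.compactSpace
  choose R S cR cS aAR aBS aRS aAS tARS tABS pR hpR q' hq' hnhd het hdev hq'B hq'R using
    fun Q : F => exists_devissage_at_point N p Q.1 Q.2
  haveI := fun Q => (hnhd Q).1
  haveI := fun Q => (hnhd Q).2.choose
  choose O hO hmemO hpieceO using fun Q => exists_open_piece (B := B) p (pR Q) (q' Q) (hq'R Q)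
  obtain ⟨t, ht⟩ := hcpt.elim_finite_subcover O hO fun Q hQ => Set.mem_iUnion.2 ⟨⟨Q, hQ⟩, by
    have h := hmemO ⟨Q, hQ⟩
    rwa [show PrimeSpectrum.comap (algebraMap B (S ⟨Q, hQ⟩)) (⟨q' ⟨Q, hQ⟩, inferInstance⟩ : PrimeSpectrum (S ⟨Q, hQ⟩)) = Q from
      PrimeSpectrum.ext (hq'B ⟨Q, hQ⟩)] at h⟩
  let pt : Fin t.card → F := fun i => (t.equivFin.symm i).1
  obtain ⟨A', _, _, p', _, φ, hA', hφ⟩ :=
    exists_common_nhd p t.card (fun i => R (pt i)) (fun i => pR (pt i)) fun i => hnhd (pt i)
  haveI := hA'.1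
  haveI hp'o : p'.LiesOver p := hA'.2.choose
  refine ⟨A', inferInstance, inferInstance, p', inferInstance, hA', ?_⟩
  intro BA NA _ _ _ _ _ _ _ _ _ _ _ fA hfA
  letI aRA : ∀ i, Algebra (R (pt i)) A' := fun i => (φ i).toRingHom.toAlgebra
  haveI tARA : ∀ i, IsScalarTower A (R (pt i)) A' := fun i => IsScalarTower.of_algebraMap_eq fun a => ((φ i).commutes a).symm
  haveI : ∀ i, Algebra.Etale (R (pt i)) A' := fun i => Algebra.Etale.of_restrictScalars A (R (pt i)) A'
  haveI hover : ∀ i, p'.LiesOver (pR (pt i)) := fun i => ⟨(hφ i).symm⟩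
  let C : Fin t.card → Type u := fun i => A' ⊗[R (pt i)] S (pt i)
  letI bC : ∀ i, Algebra B (C i) := fun i =>
    ((algebraMap (S (pt i)) (C i)).comp (algebraMap B (S (pt i)))).toAlgebra
  haveI tBSC : ∀ i, IsScalarTower B (S (pt i)) (C i) := fun i => IsScalarTower.of_algebraMap_eq fun _ => rfl
  haveI tABC : ∀ i, IsScalarTower A B (C i) := fun i => IsScalarTower.of_algebraMap_eq fun a => by
    show algebraMap A (C i) a = algebraMap (S (pt i)) (C i) (algebraMap B (S (pt i)) (algebraMap A B a))
    rw [← IsScalarTower.algebraMap_apply A B (S (pt i)), IsScalarTower.algebraMap_apply A (R (pt i)) (S (pt i)),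
      ← IsScalarTower.algebraMap_apply (R (pt i)) (S (pt i)) (C i), IsScalarTower.algebraMap_apply (R (pt i)) A' (C i),
      ← IsScalarTower.algebraMap_apply A (R (pt i)) A', ← IsScalarTower.algebraMap_apply A A' (C i)]
  let eB : B ⊗[A] A' ≃ₐ[B] BA := Algebra.IsPushout.equiv A B A' BA
  let χ : ∀ i, B ⊗[A] A' →ₐ[A] C i := fun i =>
    Algebra.TensorProduct.productMap (IsScalarTower.toAlgHom A B (C i)) (IsScalarTower.toAlgHom A A' (C i))
  letI bAC : ∀ i, Algebra BA (C i) := fun i => ((χ i).toRingHom.comp eB.symm.toAlgHom.toRingHom).toAlgebra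
  haveI tA'BC : ∀ i, IsScalarTower A' BA (C i) := fun i => IsScalarTower.of_algebraMap_eq fun a => by
    show algebraMap A' (C i) a = χ i (eB.symm (algebraMap A' BA a))
    rw [show eB.symm (algebraMap A' BA a) = (1 : B) ⊗ₜ[A] a from Algebra.IsPushout.equiv_symm_algebraMap_right A B A' BA a]
    simp [χ]
  haveI tBBC : ∀ i, IsScalarTower B BA (C i) := fun i => IsScalarTower.of_algebraMap_eq fun b => by
    show algebraMap B (C i) b = χ i (eB.symm (algebraMap B BA b))
    rw [show eB.symm (algebraMap B BA b) = b ⊗ₜ[A] (1 : A') from Algebra.IsPushout.equiv_symm_algebraMap_left A B A' BA b]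
    simp [χ]
  haveI : Algebra.Etale B BA := Algebra.Etale.of_equiv eB
  haveI : ∀ i, Algebra.Etale (S (pt i)) (C i) := fun i => etale_right (R (pt i)) A' (S (pt i))
  haveI : ∀ i, Algebra.Etale B (S (pt i)) := fun i => het (pt i)
  haveI : ∀ i, Algebra.Etale B (C i) := fun i => Algebra.Etale.comp B (S (pt i)) (C i)
  have hetC : ∀ i, Algebra.Etale BA (C i) := fun i => Algebra.Etale.of_restrictScalars B BA (C i)
  refine ⟨t.card, C, inferInstance, bAC, inferInstance, tA'BC, fun i => C i ⊗[BA] NA, inferInstance, inferInstance,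
    inferInstance, inferInstance, fun i => TensorProduct.mk BA (C i) NA 1, fun i => ⟨hetC i, TensorProduct.isBaseChange BA NA (C i), ?_⟩, ?_⟩
  · obtain ⟨𝒟⟩ := hdev (pt i)
    obtain ⟨T, hT⟩ := exists_devTarget_baseChange (pR (pt i)) 𝒟 A' p' (C i)
    let M := S (pt i) ⊗[B] N
    obtain ⟨𝒟', -⟩ := T.exists_devissage (TensorProduct.mk (S (pt i)) (C i) M 1) (TensorProduct.isBaseChange _ M (C i))
      (fun j X Y _ _ _ _ _ _ _ _ _ _ _ _ =>
        Algebra.IsPushout (R (pt i)) A' (𝒟.A j) X ∧ Algebra.IsPushout (R (pt i)) A' (𝒟.B j) Y) hT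
    exact nonempty_completeDevissage_congr
      (AlgebraTensorModule.cancelBaseChange B (S (pt i)) (C i) (C i) N ≪≫ₗ
        (AlgebraTensorModule.cancelBaseChange B BA (C i) (C i) N).symm ≪≫ₗ
          LinearEquiv.baseChange BA (C i) _ _ hfA.equiv) 𝒟'
  · intro Q hQ hQp'
    let Q₀ : PrimeSpectrum B := PrimeSpectrum.comap (algebraMap B BA) ⟨Q, inferInstance⟩
    have hQ₀ : Q₀.asIdeal.comap (algebraMap A B) = p := by
      show (Q.comap (algebraMap B BA)).comap (algebraMap A B) = p
      rw [Ideal.comap_comap, ← IsScalarTower.algebraMap_eq, IsScalarTower.algebraMap_eq A A' BA, ← Ideal.comap_comap]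
      exact (congrArg (Ideal.comap (algebraMap A A')) hQp'.over.symm).trans hp'o.over.symm
    obtain ⟨F₀, hF₀, hmem⟩ := Set.mem_iUnion₂.1 (ht hQ₀)
    obtain ⟨i, hi⟩ : ∃ i, pt i = F₀ := ⟨t.equivFin ⟨F₀, hF₀⟩, by simp [pt]⟩
    subst hi
    obtain ⟨q₁, hq₁, hq₁B, hq₁R⟩ := hpieceO (pt i) Q₀ hmem hQ₀
    haveI := hq₁
    have hκ' : Function.Bijective (Ideal.ResidueField.mapₐ (pR (pt i)) p' (Algebra.ofId (R (pt i)) A') (hover i).over) := by
      -- the residue field of the common neighbourhood is the one at the point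
      refine ⟨RingHom.injective _, fun y => ?_⟩
      obtain ⟨x, rfl⟩ := hA'.2.choose_spec.2 y
      refine ⟨Ideal.ResidueField.mapₐ p (pR (pt i)) (Algebra.ofId A (R (pt i))) (hnhd (pt i)).2.choose.over x, ?_⟩
      have hcomp : (Ideal.ResidueField.mapₐ (pR (pt i)) p' (Algebra.ofId (R (pt i)) A') (hover i).over).toRingHom.comp
          (Ideal.ResidueField.mapₐ p (pR (pt i)) (Algebra.ofId A (R (pt i))) (hnhd (pt i)).2.choose.over).toRingHom =
          (Ideal.ResidueField.mapₐ p p' (Algebra.ofId A A') hp'o.over).toRingHom := by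
        refine Ideal.ResidueField.ringHom_ext (RingHom.ext fun a => ?_)
        have e1 := (Ideal.ResidueField.mapₐ p (pR (pt i)) (Algebra.ofId A (R (pt i))) (hnhd (pt i)).2.choose.over).commutes a
        have e2 := (Ideal.ResidueField.mapₐ (pR (pt i)) p' (Algebra.ofId (R (pt i)) A') (hover i).over).commutes
          (algebraMap A (R (pt i)) a)
        have e3 := (Ideal.ResidueField.mapₐ p p' (Algebra.ofId A A') hp'o.over).commutes a
        simp only [RingHom.comp_apply]
        refine ((congrArg _ (e1.trans (IsScalarTower.algebraMap_apply A (R (pt i)) _ a))).trans e2).trans (Eq.trans ?_ e3.symm)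
        rw [IsScalarTower.algebraMap_apply A A' p'.ResidueField, IsScalarTower.algebraMap_apply (R (pt i)) A' p'.ResidueField,
          ← IsScalarTower.algebraMap_apply A (R (pt i)) A']
      exact RingHom.congr_fun hcomp x
    obtain ⟨Q', hQ', hQ'p, hQ'q⟩ := exists_prime_of_pushout (R := R (pt i)) (R' := A') (X := S (pt i)) (X' := C i)
      (pR (pt i)) p' hκ' q₁ hq₁R
    haveI := hQ'
    haveI : Algebra.IsPushout A A' B BA := Algebra.IsPushout.symm ‹_›
    refine ⟨i, Q', hQ', prime_unique_of_pushout (R := A) (R' := A') (X := B) (X' := BA) p p' hA'.2.choose_spec _ _ ?_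
      hQp'.over.symm ?_⟩
    · rw [Ideal.comap_comap, ← IsScalarTower.algebraMap_eq]
      exact hQ'p
    · rw [Ideal.comap_comap, ← IsScalarTower.algebraMap_eq, IsScalarTower.algebraMap_eq B (S (pt i)) (C i), ← Ideal.comap_comap,
        hQ'q, hq₁B]
      rfl

end Groth.Agent.H4RG
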