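import Groth.Agent.H4RG.FlatIdealModel
import Mathlib

/-!
# The condition above the closed points, read at primes of a global model
-/

set_option autoImplicit false
set_option linter.style.haveILetI false
set_option backward.isDefEq.respectTransparency.types false

universe u

open TensorProduct IsLocalRing

namespace Groth.Agent.H4RG

attribute [local instance] Algebra.TensorProduct.rightAlgebra

/-- Flatness modulo an ideal passes to larger ideals. -/
theorem flat_quot_mono {A M : Type u} [CommRing A] [AddCommGroup M] [Module A M] {I J : Ideal A} (h : I ≤ J)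
    [Module.Flat (A ⧸ I) ((A ⧸ I) ⊗[A] M)] : Module.Flat (A ⧸ J) ((A ⧸ J) ⊗[A] M) := by
  letI : Algebra (A ⧸ I) (A ⧸ J) := (Ideal.Quotient.factor h).toAlgebra
  haveI : IsScalarTower A (A ⧸ I) (A ⧸ J) := IsScalarTower.of_algebraMap_eq fun _ => rfl
  exact Module.Flat.of_linearEquiv (AlgebraTensorModule.cancelBaseChange A (A ⧸ I) (A ⧸ J) (A ⧸ J) M).symm

/-- Flatness at a prime is unchanged along a flat map of algebras. -/
theorem flatAt_iff_flat_baseChange {R T C : Type u} [CommRing R] [CommRing T] [CommRing C] [Algebra R T] [Algebra R C]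
    [Algebra T C] [IsScalarTower R T C] [Module.Flat T C] (P : Ideal T) [P.IsPrime] (P1 : Ideal C) [P1.IsPrime]
    (hP : P1.comap (algebraMap T C) = P) (N : Type u) [AddCommGroup N] [Module T N] [Module R N] [IsScalarTower R T N] :
    Module.Flat R (LocalizedModule P.primeCompl N) ↔ Module.Flat R (LocalizedModule P1.primeCompl (C ⊗[T] N)) := by
  refine ⟨fun _ => flat_baseChange P P1 hP N, fun _ => ?_⟩
  obtain ⟨alg, hff, htow, ⟨e⟩⟩ := baseChange_aux P P1 hP N
  letI := alg
  let TP := Localization.AtPrime P
  let L := Localization.AtPrime P1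
  haveI : IsScalarTower R TP L := IsScalarTower.of_algebraMap_eq fun x => by
    rw [IsScalarTower.algebraMap_apply R T TP, ← IsScalarTower.algebraMap_apply T TP L,
      IsScalarTower.algebraMap_apply R C L, IsScalarTower.algebraMap_apply R T C,
      ← IsScalarTower.algebraMap_apply T C L]
  haveI : Module.Flat R (L ⊗[TP] LocalizedModule P.primeCompl N) := Module.Flat.of_linearEquiv (e.restrictScalars R)
  exact flat_of_univInjective_map ((TensorProduct.mk TP L (LocalizedModule P.primeCompl N) 1).restrictScalars R)
    fun M _ _ => rTensor_mk_injective M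

/-- An ideal of a local ring at a prime lying over that prime is maximal. -/
theorem eq_maximalIdeal_of_comap_eq {B Bq : Type u} [CommRing B] [CommRing Bq] [Algebra B Bq] [IsLocalRing Bq]
    (q : Ideal B) [q.IsPrime] [IsLocalization.AtPrime Bq q] (I : Ideal Bq) (h : I.comap (algebraMap B Bq) = q) :
    I = maximalIdeal Bq := by
  conv_lhs => rw [← IsLocalization.map_comap q.primeCompl Bq I]
  conv_rhs => rw [← IsLocalization.map_comap q.primeCompl Bq (maximalIdeal Bq)]
  congr 1
  exact h.trans (IsLocalization.AtPrime.under_maximalIdeal Bq q).symm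

/-- Flatness at equal primes. -/
theorem flatAt_congr {R T N : Type u} [CommRing R] [CommRing T] [Algebra R T] [AddCommGroup N] [Module T N] [Module R N]
    [IsScalarTower R T N] {P Q : Ideal T} [P.IsPrime] [Q.IsPrime] (h : P = Q)
    (hP : Module.Flat R (LocalizedModule P.primeCompl N)) : Module.Flat R (LocalizedModule Q.primeCompl N) := by
  subst h
  exact hP

/-- Flatness above a pair of primes of the base change is flatness at the points of the local rings. -/
theorem flatPts_atPrime_iff {A B C Ct B' M M' : Type u} [CommRing A] [CommRing B] [CommRing C] [Algebra A B] [Algebra A C]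
    (q : Ideal B) [q.IsPrime] (t : Ideal C) [t.IsPrime]
    [CommRing Ct] [IsLocalRing Ct] [Algebra C Ct] [Algebra A Ct] [IsScalarTower A C Ct] [IsLocalization.AtPrime Ct t]
    [CommRing B'] [Algebra B B'] [Algebra C B'] [Algebra A B'] [IsScalarTower A B B'] [IsScalarTower A C B']
    [Algebra.IsPushout A B C B'] [AddCommGroup M] [Module B M] [AddCommGroup M'] [Module B' M'] [Module B M']
    [IsScalarTower B B' M'] [Module C M'] [IsScalarTower C B' M'] (f : M →ₗ[B] M') (hf : IsBaseChange B' f) :
    (∀ (Q : Ideal B') [Q.IsPrime], Q.comap (algebraMap B B') = q → Q.comap (algebraMap C B') = t → FlatCA.FlatAt C Q M') ↔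
      FlatPts A Ct (Localization.AtPrime q) (LocalizedModule q.primeCompl M) := by
  classical
  let Bq := Localization.AtPrime q
  let C' := C ⊗[A] B
  let T := Ct ⊗[A] Bq
  haveI : Algebra.IsPushout A C B B' := Algebra.IsPushout.symm ‹_›
  let e : C' ≃ₐ[C] B' := Algebra.IsPushout.equiv A C B B'
  let g : C' →ₐ[A] T := Algebra.TensorProduct.map (IsScalarTower.toAlgHom A C Ct) (IsScalarTower.toAlgHom A B Bq)
  letI : Algebra B' T := (g.toRingHom.comp e.symm.toAlgHom.toRingHom).toAlgebra
  haveI : IsScalarTower C Ct T := inferInstance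
  letI : Algebra B T := ((algebraMap Bq T).comp (algebraMap B Bq)).toAlgebra
  haveI : IsScalarTower B Bq T := IsScalarTower.of_algebraMap_eq fun _ => rfl
  haveI : IsScalarTower C B' T := IsScalarTower.of_algebraMap_eq fun c => by
    show algebraMap Ct T (algebraMap C Ct c) = g (e.symm (algebraMap C B' c))
    rw [e.symm.commutes]
    show _ = g (c ⊗ₜ[A] (1 : B))
    rw [show g (c ⊗ₜ[A] (1 : B)) = algebraMap C Ct c ⊗ₜ[A] algebraMap B Bq 1 from Algebra.TensorProduct.map_tmul _ _ c 1,
      map_one]
    rfl
  haveI : IsScalarTower B B' T := IsScalarTower.of_algebraMap_eq fun b => by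
    show algebraMap Bq T (algebraMap B Bq b) = g (e.symm (algebraMap B B' b))
    have he : e.symm (algebraMap B B' b) = (1 : C) ⊗ₜ[A] b := by
      apply e.injective
      rw [AlgEquiv.apply_symm_apply, Algebra.IsPushout.equiv_tmul, map_one, one_mul]
    rw [he, show g ((1 : C) ⊗ₜ[A] b) = algebraMap C Ct 1 ⊗ₜ[A] algebraMap B Bq b from
      Algebra.TensorProduct.map_tmul _ _ 1 b, map_one]
    exact Algebra.TensorProduct.right_algebraMap_apply _
  haveI hflatT : Module.Flat B' T := by
    have h1 : (IsScalarTower.toAlgHom A C Ct).toRingHom.Flat :=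
      show (algebraMap C Ct).Flat from RingHom.flat_algebraMap_iff.2 (IsLocalization.flat Ct t.primeCompl)
    have h2 : (IsScalarTower.toAlgHom A B Bq).toRingHom.Flat :=
      show (algebraMap B Bq).Flat from RingHom.flat_algebraMap_iff.2 (IsLocalization.flat Bq q.primeCompl)
    have h3 : (e.symm.toAlgHom.toRingHom).Flat := RingHom.Flat.of_bijective e.symm.bijective
    exact h3.comp (RingHom.Flat.tensorProductMap h1 h2)
  let eT : T ⊗[B'] M' ≃ₗ[T] T ⊗[B] M :=
    (AlgebraTensorModule.congr (LinearEquiv.refl T T) hf.equiv.symm).trans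
      (AlgebraTensorModule.cancelBaseChange B B' T T M)
  let eQ : T ⊗[Bq] LocalizedModule q.primeCompl M ≃ₗ[T] T ⊗[B] M :=
    (AlgebraTensorModule.congr (LinearEquiv.refl T T)
      (((isLocalizedModule_iff_isBaseChange q.primeCompl Bq (LocalizedModule.mkLinearMap q.primeCompl M)).1
        inferInstance).equiv.symm)).trans
      (AlgebraTensorModule.cancelBaseChange B Bq T T M)
  let eN : T ⊗[B'] M' ≃ₗ[T] T ⊗[Bq] LocalizedModule q.primeCompl M := eT.trans eQ.symm
  haveI : IsScalarTower C B' (T ⊗[B'] M') := inferInstance
  have hkey : ∀ (q' : Ideal T) [q'.IsPrime],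
      Module.Flat C (LocalizedModule (q'.comap (algebraMap B' T)).primeCompl M') ↔
        Module.Flat Ct (LocalizedModule q'.primeCompl (T ⊗[Bq] LocalizedModule q.primeCompl M)) := by
    intro q' _
    rw [flatAt_iff_flat_baseChange (R := C) (q'.comap (algebraMap B' T)) q' rfl M']
    haveI : IsScalarTower C Ct (LocalizedModule q'.primeCompl (T ⊗[B'] M')) := IsScalarTower.of_algebraMap_smul (R := C) (A := Ct) (M := LocalizedModule q'.primeCompl (T ⊗[B'] M')) fun c x => by
      rw [← algebraMap_smul T (algebraMap C Ct c) x, ← IsScalarTower.algebraMap_apply C Ct T, algebraMap_smul]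
    rw [← Module.flat_iff_of_isLocalization Ct t.primeCompl]
    let eq := IsLocalizedModule.mapEquiv q'.primeCompl (LocalizedModule.mkLinearMap q'.primeCompl _)
      (LocalizedModule.mkLinearMap q'.primeCompl _) (Localization q'.primeCompl) eN
    exact ⟨fun _ => Module.Flat.of_linearEquiv (eq.restrictScalars Ct).symm,
      fun _ => Module.Flat.of_linearEquiv (eq.restrictScalars Ct)⟩
  have hpt : ∀ (q' : Ideal T) [q'.IsPrime], IsPt q' →
      (q'.comap (algebraMap B' T)).comap (algebraMap B B') = q ∧ (q'.comap (algebraMap B' T)).comap (algebraMap C B') = t := by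
    intro q' _ hq'
    constructor
    · rw [Ideal.comap_comap, ← IsScalarTower.algebraMap_eq, IsScalarTower.algebraMap_eq B Bq T, ← Ideal.comap_comap]
      exact (congrArg (Ideal.comap (algebraMap B Bq)) hq'.1).trans (IsLocalization.AtPrime.comap_maximalIdeal Bq q)
    · rw [Ideal.comap_comap, ← IsScalarTower.algebraMap_eq, IsScalarTower.algebraMap_eq C Ct T, ← Ideal.comap_comap,
        hq'.2]
      exact IsLocalization.AtPrime.under_maximalIdeal Ct t
  constructor
  · intro h q' _ hq'
    exact (hkey q').1 (h _ (hpt q' hq').1 (hpt q' hq').2)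
  · intro h Q _ hQq hQt
    let K := Q.ResidueField
    have hne : ∀ x : B', x ∉ Q → IsUnit (algebraMap B' K x) := fun x hx =>
      isUnit_iff_ne_zero.2 fun h0 => hx (Ideal.algebraMap_residueField_eq_zero.1 h0)
    have hB : ∀ y : q.primeCompl, IsUnit (((algebraMap B' K).comp (algebraMap B B')) y) := fun y =>
      hne _ fun h0 => y.2 (hQq.le h0)
    have hC : ∀ y : t.primeCompl, IsUnit (((algebraMap B' K).comp (algebraMap C B')) y) := fun y =>
      hne _ fun h0 => y.2 (hQt.le h0)
    let fB : Bq →ₐ[A] K :=
      { IsLocalization.lift (M := q.primeCompl) (S := Bq) hB with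
        commutes' := fun r => by
          show IsLocalization.lift (M := q.primeCompl) (S := Bq) hB (algebraMap A Bq r) = algebraMap B' K (algebraMap A B' r)
          rw [IsScalarTower.algebraMap_apply A B Bq, IsLocalization.lift_eq hB]
          simp only [RingHom.comp_apply, ← IsScalarTower.algebraMap_apply]
          }
    let fC : Ct →ₐ[A] K :=
      { IsLocalization.lift (M := t.primeCompl) (S := Ct) hC with
        commutes' := fun r => by
          show IsLocalization.lift (M := t.primeCompl) (S := Ct) hC (algebraMap A Ct r) = algebraMap B' K (algebraMap A B' r)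
          rw [IsScalarTower.algebraMap_apply A C Ct, IsLocalization.lift_eq hC]
          simp only [RingHom.comp_apply, ← IsScalarTower.algebraMap_apply]
          }
    let F : T →ₐ[A] K := Algebra.TensorProduct.lift fC fB fun x y => Commute.all (S := K) _ _
    let q' : Ideal T := RingHom.ker F.toRingHom
    haveI : q'.IsPrime := RingHom.ker_isPrime _
    have hF : ∀ x : B', F (algebraMap B' T x) = algebraMap B' K x := fun x => by
      obtain ⟨z, rfl⟩ := e.surjective x
      show F (g (e.symm (e z))) = _
      rw [e.symm_apply_apply]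
      induction z using TensorProduct.induction_on with
      | zero => simp
      | add a b ha hb => rw [map_add, map_add, map_add, map_add, ha, hb]
      | tmul c b =>
        rw [show g (c ⊗ₜ[A] b) = algebraMap C Ct c ⊗ₜ[A] algebraMap B Bq b from Algebra.TensorProduct.map_tmul _ _ c b,
          Algebra.IsPushout.equiv_tmul, map_mul]
        refine (Algebra.TensorProduct.lift_tmul fC fB (fun x y => Commute.all (S := K) _ _) _ _).trans ?_
        exact congrArg₂ (· * ·) (IsLocalization.lift_eq hC c) (IsLocalization.lift_eq hB b)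
    have hcomap : q'.comap (algebraMap B' T) = Q := Ideal.ext fun x => by
      simp only [q', Ideal.mem_comap, RingHom.mem_ker]
      show F (algebraMap B' T x) = 0 ↔ _
      rw [hF, Ideal.algebraMap_residueField_eq_zero]
    have hq' : IsPt q' := by
      constructor
      · refine eq_maximalIdeal_of_comap_eq q _ (Eq.trans ?_ ((congrArg (Ideal.comap (algebraMap B B')) hcomap).trans hQq))
        show (q'.comap (algebraMap Bq T)).comap (algebraMap B Bq) = _
        rw [Ideal.comap_comap, Ideal.comap_comap, ← IsScalarTower.algebraMap_eq, ← IsScalarTower.algebraMap_eq]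
      · refine eq_maximalIdeal_of_comap_eq t _ (Eq.trans ?_ ((congrArg (Ideal.comap (algebraMap C B')) hcomap).trans hQt))
        rw [Ideal.comap_comap, Ideal.comap_comap, ← IsScalarTower.algebraMap_eq, ← IsScalarTower.algebraMap_eq]
    have := (hkey q').2 (h q' hq')
    exact flatAt_congr hcomap this

end Groth.Agent.H4RG
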