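import Groth.Prelude
import Groth.Agent.H4RG.FlatFP
import Mathlib

/-!
# Finite presentation relative to the base near a point of flatness
-/

set_option autoImplicit false
set_option linter.style.haveILetI false
set_option backward.isDefEq.respectTransparency.types false

universe u

open TensorProduct

namespace Groth.Agent.H4RG

/-- Flatness at the primes of a basic open. -/
theorem flatAt_of_powers {R S : Type u} [CommRing R] [CommRing S] [Algebra R S] {N : Type u} [AddCommGroup N] [Module S N]
    [Module R N] [IsScalarTower R S N] (g : S) (h : Module.Flat R (LocalizedModule (Submonoid.powers g) N))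
    (q : Ideal S) [q.IsPrime] (hg : g ∉ q) : Module.Flat R (LocalizedModule q.primeCompl N) := by
  rw [FlatModel.flat_localized_iff q.primeCompl (LocalizedModule.mkLinearMap _ N)]
  intro J y hy
  obtain ⟨_, ⟨i, rfl⟩, hi⟩ := (FlatModel.flat_localized_iff (Submonoid.powers g)
    (LocalizedModule.mkLinearMap (Submonoid.powers g) N)).1 h J y hy
  exact ⟨g ^ i, fun hh => hg (‹q.IsPrime›.mem_of_pow_mem i hh), hi⟩

/-- A basic open of a polynomial presentation gives finite presentation relative to the base. -/
theorem relFP_of_relations {R S : Type u} [CommRing R] [CommRing S] [Algebra R S] {n : ℕ}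
    (φ : MvPolynomial (Fin n) R →ₐ[R] S) (hφ : Function.Surjective φ)
    {N : Type u} [AddCommGroup N] [Module S N] [Module R N] [IsScalarTower R S N]
    (g : MvPolynomial (Fin n) R) {c : ℕ}
    (π : letI := Module.compHom N φ.toRingHom; (Fin c → MvPolynomial (Fin n) R) →ₗ[MvPolynomial (Fin n) R] N)
    (hπ : Function.Surjective π) {G : Finset (Fin c → MvPolynomial (Fin n) R)} (hG : ∀ v ∈ G, π v = 0)
    (hk : ∀ k, π k = 0 → ∃ i : ℕ, g ^ i • k ∈ Submodule.span (MvPolynomial (Fin n) R) (G : Set (Fin c → MvPolynomial (Fin n) R))) :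
    FlatCA.RelFinitePresentation R (Localization.Away (φ g)) (LocalizedModule (Submonoid.powers (φ g)) N) := by
  let A := MvPolynomial (Fin n) R
  letI : Algebra A S := φ.toRingHom.toAlgebra
  haveI : IsScalarTower R A S := IsScalarTower.of_algebraMap_eq fun r => (φ.commutes r).symm
  letI : Module A N := Module.compHom N φ.toRingHom
  haveI : IsScalarTower A S N := ⟨fun x y m => mul_smul (φ x) y m⟩
  let Ag := Localization.Away g
  let Sg := Localization.Away (φ g)
  let M := LocalizedModule (Submonoid.powers (φ g)) N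
  let σ : Ag →ₐ[A] Sg := IsLocalization.liftAlgHom (M := Submonoid.powers g) (f := Algebra.ofId A Sg) (by
    rintro ⟨_, i, rfl⟩
    show IsUnit (algebraMap A Sg (g ^ i))
    rw [IsScalarTower.algebraMap_apply A S Sg]
    exact IsLocalization.map_units Sg (⟨φ (g ^ i), i, (map_pow φ g i).symm⟩ : Submonoid.powers (φ g)))
  have hσ : Function.Surjective σ := by
    intro z
    obtain ⟨⟨s, ⟨_, i, rfl⟩⟩, hz⟩ := IsLocalization.surj (Submonoid.powers (φ g)) z
    obtain ⟨a, rfl⟩ := hφ s
    obtain ⟨u, hu⟩ := IsLocalization.map_units Ag (⟨g ^ i, i, rfl⟩ : Submonoid.powers g)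
    refine ⟨algebraMap A Ag a * ↑u⁻¹, ?_⟩
    have h1 : σ (u : Ag) = algebraMap S Sg ((φ g) ^ i) := by
      rw [hu, σ.commutes, IsScalarTower.algebraMap_apply A S Sg]
      exact congrArg _ (map_pow φ g i)
    have h2 : IsUnit (σ (u : Ag)) := u.isUnit.map _
    refine h2.mul_left_injective ?_
    show σ (algebraMap A Ag a * ↑u⁻¹) * σ (u : Ag) = z * σ (u : Ag)
    rw [← map_mul, mul_assoc, Units.inv_mul, mul_one, h1, σ.commutes, IsScalarTower.algebraMap_apply A S Sg]
    exact hz.symm
  letI : Module Ag M := Module.compHom M σ.toRingHom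
  haveI : IsScalarTower A Ag M := IsScalarTower.of_algebraMap_smul fun a m => by
    show σ (algebraMap A Ag a) • m = a • m
    rw [σ.commutes, algebraMap_smul]
  let f : N →ₗ[A] M := (LocalizedModule.mkLinearMap (Submonoid.powers (φ g)) N).restrictScalars A
  haveI : IsLocalizedModule (Submonoid.powers g) f := by
    refine ⟨fun u => ?_, fun z => ?_, fun {a b} hab => ?_⟩
    · obtain ⟨_, i, rfl⟩ := u
      rw [Module.End.isUnit_iff]
      have := (Module.End.isUnit_iff _).1 (IsLocalizedModule.map_units (LocalizedModule.mkLinearMap (Submonoid.powers (φ g)) N)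
        (⟨φ (g ^ i), i, (map_pow φ g i).symm⟩ : Submonoid.powers (φ g)))
      convert this using 1
      funext m
      exact (algebraMap_smul S (g ^ i) m).symm
    · obtain ⟨⟨m, ⟨_, i, rfl⟩⟩, hm⟩ := IsLocalizedModule.surj (Submonoid.powers (φ g))
        (LocalizedModule.mkLinearMap (Submonoid.powers (φ g)) N) z
      refine ⟨⟨m, ⟨g ^ i, i, rfl⟩⟩, ?_⟩
      show g ^ i • z = _
      rw [← algebraMap_smul S (g ^ i) z, map_pow]
      exact hm
    · obtain ⟨⟨_, i, rfl⟩, hi⟩ := IsLocalizedModule.exists_of_eq (S := Submonoid.powers (φ g))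
        (f := LocalizedModule.mkLinearMap (Submonoid.powers (φ g)) N) hab
      refine ⟨⟨g ^ i, i, rfl⟩, ?_⟩
      show g ^ i • a = g ^ i • b
      rw [← algebraMap_smul S (g ^ i) a, ← algebraMap_smul S (g ^ i) b, map_pow]
      exact hi
  haveI : Module.FinitePresentation Ag (LocalizedModule (Submonoid.powers g) N) :=
    fp_localized_of_relations π hG hπ (Submonoid.powers g) fun k hk' => by
      obtain ⟨i, hi⟩ := hk k hk'
      exact ⟨g ^ i, ⟨i, rfl⟩, hi⟩
  haveI : Module.FinitePresentation Ag M :=
    Module.FinitePresentation.of_equiv ((IsLocalizedModule.iso (Submonoid.powers g) f).extendScalarsOfIsLocalization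
      (Submonoid.powers g) Ag)
  haveI : Algebra.FinitePresentation A Ag := IsLocalization.Away.finitePresentation g
  haveI : Algebra.FinitePresentation R Ag := Algebra.FinitePresentation.trans R A Ag
  obtain ⟨m, ψ, hψ, hψker⟩ := Algebra.FinitePresentation.out (R := R) (A := Ag)
  let B := MvPolynomial (Fin m) R
  letI : Algebra B Ag := ψ.toRingHom.toAlgebra
  haveI : Module.FinitePresentation B Ag :=
    Module.finitePresentation_of_surjective (Algebra.linearMap B Ag) hψ hψker
  refine ⟨m, (σ.restrictScalars R).comp ψ, hσ.comp hψ, ?_⟩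
  letI : Module B M := Module.compHom M ((σ.restrictScalars R).comp ψ).toRingHom
  haveI : IsScalarTower B Ag M := IsScalarTower.of_algebraMap_smul fun b z => rfl
  exact Module.FinitePresentation.trans B M Ag

/-- Near a point of flatness a finite module is flat and finitely presented relative to the base, if the base has
finitely many weakly associated primes. -/
theorem exists_relFP_nhd {R S : Type u} [CommRing R] [CommRing S] [Algebra R S] [Algebra.FiniteType R S]
    (hR : (FlatCA.weakAss R R).Finite)
    (N : Type u) [AddCommGroup N] [Module S N] [Module R N] [IsScalarTower R S N] [Module.Finite S N]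
    (q : Ideal S) [q.IsPrime] (h : Module.Flat R (LocalizedModule q.primeCompl N)) :
    ∃ g : S, g ∉ q ∧ Module.Flat R (LocalizedModule (Submonoid.powers g) N) ∧
      FlatCA.RelFinitePresentation R (Localization.Away g) (LocalizedModule (Submonoid.powers g) N) := by
  obtain ⟨n, φ, hφ⟩ := Algebra.FiniteType.iff_quotient_mvPolynomial''.1 ‹Algebra.FiniteType R S›
  let A := MvPolynomial (Fin n) R
  letI : Algebra A S := φ.toRingHom.toAlgebra
  haveI : IsScalarTower R A S := IsScalarTower.of_algebraMap_eq fun r => (φ.commutes r).symm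
  letI : Module A N := Module.compHom N φ.toRingHom
  haveI : IsScalarTower A S N := ⟨fun x y m => mul_smul (φ x) y m⟩
  haveI : IsScalarTower R A N := IsScalarTower.of_algebraMap_smul fun r m => by
    show φ (algebraMap R A r) • m = r • m
    rw [φ.commutes, algebraMap_smul]
  haveI : Module.Finite A S := Module.Finite.of_surjective (Algebra.linearMap A S) hφ
  haveI : Module.Finite A N := Module.Finite.trans S N
  let P := q.comap (algebraMap A S)
  haveI : P.IsPrime := Ideal.comap_isPrime _ _
  have hdiv : ∀ z ∉ q, ∃ u ∉ P, ∃ z', z * z' = algebraMap A S u := fun z hz => by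
    obtain ⟨u, hu⟩ := hφ z
    exact ⟨u, fun hh => hz (hu ▸ hh), 1, (mul_one z).trans hu.symm⟩
  have hfl : Module.Flat R (LocalizedModule P.primeCompl N) := (flat_restrict_iff P q rfl hdiv).1 h
  obtain ⟨c, π, hπ⟩ := Module.Finite.exists_fin' A N
  obtain ⟨g, hg, G, hG, hk, hflat⟩ := exists_nhd_of_weakAss hR N π hπ P hfl
  refine ⟨φ g, hg, ?_, relFP_of_relations φ hφ g π hπ hG hk⟩
  rw [FlatModel.flat_localized_iff (Submonoid.powers (φ g)) (LocalizedModule.mkLinearMap (Submonoid.powers (φ g)) N)]
  intro J y hy
  obtain ⟨_, ⟨i, rfl⟩, hi⟩ := (FlatModel.flat_localized_iff (Submonoid.powers g)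
    (LocalizedModule.mkLinearMap (Submonoid.powers g) N)).1 hflat J y hy
  refine ⟨φ g ^ i, ⟨i, rfl⟩, ?_⟩
  rw [← map_pow, show φ (g ^ i) • y = g ^ i • y from algebraMap_smul S (g ^ i) y]
  exact hi

/-- A ring finitely presented relative to the base as a module over itself is finitely presented. -/
theorem algebra_fp_of_relFP {R S : Type u} [CommRing R] [CommRing S] [Algebra R S]
    (h : FlatCA.RelFinitePresentation R S S) : Algebra.FinitePresentation R S := by
  obtain ⟨m, φ, hφ, hM⟩ := h
  exact algebra_fp_of_module_fp φ hφ hM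

end Groth.Agent.H4RG
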