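import Groth.Prelude
import Groth.Agent.H4RG.AboveClosed
import Groth.Agent.H4RG.FlatPtsPrime
import Groth.Agent.H4RG.FlatRel
import Groth.Agent.FlatModel.Local
import Mathlib

/-! Moving flatness along an elementary devissage. -/

set_option autoImplicit false
set_option linter.style.haveILetI false
set_option backward.isDefEq.respectTransparency.types false

universe u

open TensorProduct

namespace Groth.Agent.H4RG

/-- Flatness on a basic open is flatness at each of its points. -/
theorem flat_away_iff {R S : Type u} [CommRing R] [CommRing S] [Algebra R S] {N : Type u} [AddCommGroup N] [Module S N]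
    [Module R N] [IsScalarTower R S N] (g : S) :
    Module.Flat R (LocalizedModule (Submonoid.powers g) N) ↔
      ∀ (Q : Ideal S) [Q.IsPrime], g ∉ Q → FlatCA.FlatAt R Q N := by
  refine ⟨fun h Q _ hg => flatAt_of_powers g h Q hg, fun h => ?_⟩
  refine (FlatModel.flat_localized_iff (Submonoid.powers g) (LocalizedModule.mkLinearMap (Submonoid.powers g) N)).2
    fun J y hy => ?_
  suffices hrad : g ∈ (Submodule.span S {y}).annihilator.radical by
    obtain ⟨k, hk⟩ := hrad
    exact ⟨g ^ k, ⟨k, rfl⟩, (Submodule.mem_annihilator_span_singleton _ _).1 hk⟩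
  rw [Ideal.radical_eq_sInf]
  refine Submodule.mem_sInf.2 ?_
  rintro Q ⟨hle, hQ⟩
  by_contra hg
  haveI := hQ
  let Q' : Ideal S := Q
  obtain ⟨s, hs, hsy⟩ :=
    (FlatModel.flat_localized_iff (Ideal.primeCompl (Q : Ideal S)) (LocalizedModule.mkLinearMap (Ideal.primeCompl (Q : Ideal S)) N)).1 (h Q hg) J y hy
  exact hs (hle ((Submodule.mem_annihilator_span_singleton _ _).2 hsy))

/-- Flatness at a point only depends on the module up to isomorphism. -/
theorem flatAt_congr_equiv {R S : Type u} [CommRing R] [CommRing S] [Algebra R S] {M N : Type u} [AddCommGroup M]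
    [Module S M] [Module R M] [IsScalarTower R S M] [AddCommGroup N] [Module S N] [Module R N] [IsScalarTower R S N]
    (e : M ≃ₗ[S] N) (Q : Ideal S) [Q.IsPrime] : FlatCA.FlatAt R Q M ↔ FlatCA.FlatAt R Q N := by
  haveI := IsLocalizedModule.of_linearEquiv_right Q.primeCompl (LocalizedModule.mkLinearMap Q.primeCompl N) e
  let i := (IsLocalizedModule.iso Q.primeCompl
    ((LocalizedModule.mkLinearMap Q.primeCompl N) ∘ₗ e.toLinearMap)).restrictScalars R
  exact ⟨fun h => @Module.Flat.of_linearEquiv _ _ _ _ _ _ _ _ h i.symm,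
    fun h => @Module.Flat.of_linearEquiv _ _ _ _ _ _ _ _ h i⟩

/-- Over an etale algebra flatness may be read on the base. -/
theorem flat_iff_flat_of_etale (R R' : Type u) [CommRing R] [CommRing R'] [Algebra R R'] [Algebra.Etale R R']
    (M : Type u) [AddCommGroup M] [Module R M] [Module R' M] [IsScalarTower R R' M] :
    Module.Flat R M ↔ Module.Flat R' M := by
  refine ⟨fun _ => Algebra.FormallyUnramified.flat_of_restrictScalars R R' M, fun _ => ?_⟩
  haveI : Module.Flat R R' := inferInstance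
  exact Module.Flat.trans R R' M

variable {R S R' S' C G N : Type u} [CommRing R] [CommRing S] [Algebra R S] [CommRing R'] [CommRing S'] [CommRing C]
  [Algebra R R'] [Algebra S S'] [Algebra R' S'] [Algebra R S'] [IsScalarTower R R' S'] [IsScalarTower R S S']
  [Algebra S' C] [Algebra R' C] [IsScalarTower R' S' C]
  [AddCommGroup G] [Module C G] [Module S' G] [IsScalarTower S' C G] [Module R' G] [IsScalarTower R' C G]
  [AddCommGroup N] [Module S N] [Module R N] [IsScalarTower R S N]

/-- The points of `C` see the flatness of `N`. -/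
theorem flatAt_iff_forall_over_etale [Algebra.Etale R R'] [Module.Flat S S'] (e : S' ⊗[S] N ≃ₗ[S'] G)
    (hsurj : Function.Surjective (algebraMap S' C)) (Q' : Ideal S') [Q'.IsPrime] :
    FlatCA.FlatAt R (Q'.comap (algebraMap S S')) N ↔
      ∀ (Z : Ideal C) [Z.IsPrime], Z.comap (algebraMap S' C) = Q' → FlatCA.FlatAt R' Z G := by
  haveI : IsScalarTower R' S' G := IsScalarTower.of_algebraMap_smul fun a x => by
    rw [← algebraMap_smul C (algebraMap R' S' a) x, ← IsScalarTower.algebraMap_apply, algebraMap_smul]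
  haveI : IsScalarTower R R' (S' ⊗[S] N) := IsScalarTower.of_algebraMap_smul fun a x => by
    rw [← algebraMap_smul S' (algebraMap R R' a) x, ← IsScalarTower.algebraMap_apply, algebraMap_smul]
  haveI : Algebra.IsIntegral S' C := by
    haveI : Module.Finite S' C := Module.Finite.of_surjective (Algebra.linearMap S' C) hsurj
    exact Algebra.IsIntegral.of_finite S' C
  let L := LocalizedModule Q'.primeCompl (S' ⊗[S] N)
  haveI : IsScalarTower R R' L := IsScalarTower.of_algebraMap_smul fun a x => by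
    rw [← algebraMap_smul S' (algebraMap R R' a) x, ← IsScalarTower.algebraMap_apply, algebraMap_smul]
  refine (flatAt_iff_flat_baseChange _ Q' rfl N).trans ((flat_iff_flat_of_etale R R' L).trans ?_)
  exact (flatAt_congr_equiv (R := R') e Q').trans (flatAt_iff_forall_over (R := R') (T := S') (C := C) Q')

/-- Holding near a point moves along an elementary devissage. -/
theorem nhd_tfae {S S' C D : Type u} [CommRing S] [CommRing S'] [CommRing C] [CommRing D] [Algebra S S'] [Algebra S' C]
    [Algebra D C] [Module.Finite D C] [Algebra.FinitePresentation S S'] [Module.Flat S S']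
    (hsurj : Function.Surjective (algebraMap S' C))
    (pS : PrimeSpectrum S → Prop) (pC : PrimeSpectrum C → Prop) (pD : PrimeSpectrum D → Prop)
    (q : PrimeSpectrum S) (q' : PrimeSpectrum S') (z : PrimeSpectrum C) (y : PrimeSpectrum D)
    (hq : PrimeSpectrum.comap (algebraMap S S') q' = q) (hzq : PrimeSpectrum.comap (algebraMap S' C) z = q')
    (hzy : PrimeSpectrum.comap (algebraMap D C) z = y)
    (huniq : ∀ Z : PrimeSpectrum C, PrimeSpectrum.comap (algebraMap D C) Z = y → Z = z)
    (hSC : ∀ Q' : PrimeSpectrum S', pS (PrimeSpectrum.comap (algebraMap S S') Q') ↔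
      ∀ Z, PrimeSpectrum.comap (algebraMap S' C) Z = Q' → pC Z)
    (hDC : ∀ Y : PrimeSpectrum D, pD Y ↔ ∀ Z, PrimeSpectrum.comap (algebraMap D C) Z = Y → pC Z) :
    [∃ g : S, g ∉ q.asIdeal ∧ ∀ Q : PrimeSpectrum S, g ∉ Q.asIdeal → pS Q,
     ∃ g : C, g ∉ z.asIdeal ∧ ∀ Z : PrimeSpectrum C, g ∉ Z.asIdeal → pC Z,
     ∃ g : D, g ∉ y.asIdeal ∧ ∀ Y : PrimeSpectrum D, g ∉ Y.asIdeal → pD Y].TFAE := by
  subst hq
  subst hzq
  subst hzy
  tfae_have 1 → 2 := fun ⟨g, hg, h⟩ => ⟨algebraMap S' C (algebraMap S S' g), hg, fun Z hZ =>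
    (hSC (PrimeSpectrum.comap (algebraMap S' C) Z)).1 (h _ hZ) Z rfl⟩
  tfae_have 2 → 3 := fun ⟨g, hg, h⟩ => by
    obtain ⟨d, hd, hdy⟩ : ∃ d : D, algebraMap D C d ∈ Ideal.span {g} ∧ algebraMap D C d ∉ z.asIdeal := by
      by_contra hne
      push Not at hne
      haveI : Algebra.IsIntegral D C := Algebra.IsIntegral.of_finite D C
      obtain ⟨Z, hgZ, hZ, hZy⟩ := Ideal.exists_ideal_over_prime_of_isIntegral (R := D) (S := C)
        (z.asIdeal.comap (algebraMap D C)) (Ideal.span {g}) (fun d hd => hne d hd)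
      have hZz := huniq ⟨Z, hZ⟩ (PrimeSpectrum.ext hZy)
      exact hg (hZz ▸ (hgZ (Ideal.subset_span rfl) : g ∈ Z))
    exact ⟨d, hdy, fun Y hY => (hDC Y).2 fun Z hZ => h Z fun hgZ => hY (by
      rw [← hZ]
      exact (Ideal.span_le.2 (Set.singleton_subset_iff.2 hgZ)) hd)⟩
  tfae_have 3 → 2 := fun ⟨d, hd, h⟩ => ⟨algebraMap D C d, hd, fun Z hZ =>
    (hDC (PrimeSpectrum.comap (algebraMap D C) Z)).1 (h _ hZ) Z rfl⟩
  tfae_have 2 → 1 := fun ⟨g, hg, h⟩ => by
    obtain ⟨g', rfl⟩ := hsurj g
    have hopen := PrimeSpectrum.isOpenMap_comap_of_hasGoingDown_of_finitePresentation (R := S) (S := S') _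
      (PrimeSpectrum.isOpen_basicOpen (a := g'))
    obtain ⟨_, ⟨f, rfl⟩, hf, hsub⟩ := PrimeSpectrum.isTopologicalBasis_basic_opens.exists_subset_of_mem_open
      (show PrimeSpectrum.comap (algebraMap S S') (PrimeSpectrum.comap (algebraMap S' C) z) ∈
          PrimeSpectrum.comap (algebraMap S S') '' (PrimeSpectrum.basicOpen g' : Set _) from
        ⟨PrimeSpectrum.comap (algebraMap S' C) z, hg, rfl⟩) hopen
    refine ⟨f, hf, fun Q hQ => ?_⟩
    obtain ⟨Q', hgQ', rfl⟩ := hsub (show Q ∈ _ from hQ)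
    exact (hSC Q').2 fun Z hZ => h Z fun hm => hgQ' (by rw [← hZ]; exact hm)
  tfae_finish

end Groth.Agent.H4RG
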