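import Groth.Prelude
import Groth.Agent.H4RG.LocalTransfer
import Groth.Agent.H4RG.FreeNhd
import Mathlib

/-! Moving finite presentation along an elementary devissage. -/

set_option autoImplicit false
set_option linter.style.haveILetI false
set_option backward.isDefEq.respectTransparency.types false

universe u

open TensorProduct

namespace Groth.Agent.H4RG

section generic

variable {T M : Type u} [CommRing T] [AddCommGroup M] [Module T M]

/-- Finite presentation on a basic open, as a base change. -/
theorem fp_away_iff_tensor (g : T) :
    Module.FinitePresentation (Localization.Away g) (LocalizedModule (Submonoid.powers g) M) ↔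
      Module.FinitePresentation (Localization.Away g) (Localization.Away g ⊗[T] M) := by
  let e := (IsLocalizedModule.isBaseChange (Submonoid.powers g) (Localization.Away g)
    (LocalizedModule.mkLinearMap (Submonoid.powers g) M)).equiv
  exact ⟨fun _ => Module.FinitePresentation.of_equiv e.symm, fun _ => Module.FinitePresentation.of_equiv e⟩

/-- Finite presentation goes up. -/
theorem fp_tensor_up (T₁ T₂ : Type u) [CommRing T₁] [CommRing T₂] [Algebra T T₁] [Algebra T T₂] [Algebra T₁ T₂]
    [IsScalarTower T T₁ T₂] [Module.FinitePresentation T₁ (T₁ ⊗[T] M)] :
    Module.FinitePresentation T₂ (T₂ ⊗[T] M) :=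
  Module.FinitePresentation.of_equiv (M := T₂ ⊗[T₁] (T₁ ⊗[T] M))
    (AlgebraTensorModule.cancelBaseChange T T₁ T₂ T₂ M)

/-- Finite presentation descends along faithfully flat extensions. -/
theorem fp_tensor_down (T₁ T₂ : Type u) [CommRing T₁] [CommRing T₂] [Algebra T T₁] [Algebra T T₂] [Algebra T₁ T₂]
    [IsScalarTower T T₁ T₂] [Module.FaithfullyFlat T₁ T₂] [Module.FinitePresentation T₂ (T₂ ⊗[T] M)] :
    Module.FinitePresentation T₁ (T₁ ⊗[T] M) := by
  haveI : Module.FinitePresentation T₂ (T₂ ⊗[T₁] (T₁ ⊗[T] M)) :=
    Module.FinitePresentation.of_equiv (M := T₂ ⊗[T] M) (AlgebraTensorModule.cancelBaseChange T T₁ T₂ T₂ M).symm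
  exact Pi1X.finitePresentation_descends (S := T₂) DescLib.ModDesc.univInjective_of_faithfullyFlat _

/-- Finite presentation passes to a smaller basic open. -/
theorem fp_away_mul (g a : T) (h : Module.FinitePresentation (Localization.Away g) (LocalizedModule (Submonoid.powers g) M)) :
    Module.FinitePresentation (Localization.Away (g * a)) (LocalizedModule (Submonoid.powers (g * a)) M) := by
  haveI := (fp_away_iff_tensor g).1 h
  letI : Algebra (Localization.Away g) (Localization.Away (g * a)) :=
    (IsLocalization.Away.awayToAwayRight (S := Localization.Away g) (P := Localization.Away (g * a)) g a).toAlgebra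
  haveI : IsScalarTower T (Localization.Away g) (Localization.Away (g * a)) := IsScalarTower.of_algebraMap_eq fun x =>
    (IsLocalization.Away.awayToAwayRight_eq g a x).symm
  exact (fp_away_iff_tensor _).2 (fp_tensor_up (Localization.Away g) (Localization.Away (g * a)))

end generic

section restrict

variable {E C M : Type u} [CommRing E] [CommRing C] [Algebra E C] [AddCommGroup M] [Module C M] [Module E M]
  [IsScalarTower E C M]

/-- Finite presentation on a basic open and on its preimage in a finite algebra. -/
theorem fp_away_restrict [Module.Finite E C] (g : E) :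
    (Module.FinitePresentation (Localization.Away g) (LocalizedModule (Submonoid.powers g) M) →
      Module.FinitePresentation (Localization.Away (algebraMap E C g))
        (LocalizedModule (Submonoid.powers (algebraMap E C g)) M)) ∧
    (Module.FinitePresentation E C → Module.FinitePresentation (Localization.Away (algebraMap E C g))
        (LocalizedModule (Submonoid.powers (algebraMap E C g)) M) →
      Module.FinitePresentation (Localization.Away g) (LocalizedModule (Submonoid.powers g) M)) := by
  let EP := Localization.Away g
  let CP := Localization.Away (algebraMap E C g)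
  letI : Algebra EP CP := (IsLocalization.Away.lift g (g := (algebraMap C CP).comp (algebraMap E C))
    (IsLocalization.Away.algebraMap_isUnit (algebraMap E C g))).toAlgebra
  haveI : IsScalarTower E EP CP := IsScalarTower.of_algebraMap_eq fun x => (IsLocalization.lift_eq _ x).symm
  let M' := LocalizedModule (Submonoid.powers (algebraMap E C g)) M
  letI : Module EP M' := Module.compHom M' (algebraMap EP CP)
  haveI : IsScalarTower EP CP M' := ⟨fun x y m => mul_smul (algebraMap EP CP x) y m⟩
  haveI : IsScalarTower E EP M' := IsScalarTower.of_algebraMap_smul fun x m => by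
    show algebraMap EP CP (algebraMap E EP x) • m = x • m
    rw [← IsScalarTower.algebraMap_apply, algebraMap_smul]
  haveI := isLocalizedModule_powers_image (S := C) (M := M) g
  haveI := isLocalizedModule_powers_image (S := C) (M := C) g
  let e := (IsLocalizedModule.linearEquiv (Submonoid.powers g) (LocalizedModule.mkLinearMap (Submonoid.powers g) M)
    ((LocalizedModule.mkLinearMap (Submonoid.powers (algebraMap E C g)) M).restrictScalars E)).extendScalarsOfIsLocalization
    (Submonoid.powers g) EP
  haveI : IsLocalizedModule (Submonoid.powers g) ((Algebra.linearMap C CP).restrictScalars E) := by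
    haveI : IsLocalization (Algebra.algebraMapSubmonoid C (Submonoid.powers g)) CP := by
      rw [Algebra.algebraMapSubmonoid_powers]
      infer_instance
    exact (isLocalizedModule_iff_isLocalization (S := Submonoid.powers g)).2 ‹_›
  constructor
  · intro h
    haveI : Module.FinitePresentation EP M' := Module.FinitePresentation.of_equiv e
    haveI : Module.Finite EP CP :=
      Module.Finite.of_isLocalizedModule (Submonoid.powers g) ((Algebra.linearMap C CP).restrictScalars E)
    exact fp_of_fp_of_finite (B := EP)
  · intro hC h
    haveI : Module.FinitePresentation EP CP :=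
      FinitePresentation.of_isBaseChange ((Algebra.linearMap C CP).restrictScalars E)
        (IsLocalizedModule.isBaseChange (Submonoid.powers g) EP _)
    haveI : Module.FinitePresentation EP M' := Module.FinitePresentation.trans EP M' CP
    exact Module.FinitePresentation.of_equiv e.symm

end restrict

section etale

variable {S S' N : Type u} [CommRing S] [CommRing S'] [Algebra S S'] [AddCommGroup N] [Module S N]

/-- Finite presentation on a basic open, pulled back. -/
theorem fp_away_baseChange (g : S)
    (h : Module.FinitePresentation (Localization.Away g) (LocalizedModule (Submonoid.powers g) N)) :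
    Module.FinitePresentation (Localization.Away (algebraMap S S' g))
      (LocalizedModule (Submonoid.powers (algebraMap S S' g)) (S' ⊗[S] N)) := by
  haveI := (fp_away_iff_tensor g).1 h
  let T := Localization.Away (algebraMap S S' g)
  letI : Algebra (Localization.Away g) T := (IsLocalization.Away.lift g (g := algebraMap S T) (by
    rw [IsScalarTower.algebraMap_apply S S' T]
    exact IsLocalization.Away.algebraMap_isUnit _)).toAlgebra
  haveI : IsScalarTower S (Localization.Away g) T := IsScalarTower.of_algebraMap_eq fun x => (IsLocalization.lift_eq _ x).symm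
  haveI : Module.FinitePresentation T (T ⊗[S] N) := fp_tensor_up (Localization.Away g) T
  exact (fp_away_iff_tensor _).2 (Module.FinitePresentation.of_equiv (M := T ⊗[S] N)
    (AlgebraTensorModule.cancelBaseChange S S' T T N).symm)

/-- Finite presentation descends to a basic open covered by a flat one. -/
theorem fp_away_descend [Module.Flat S S'] (g' : S') (f : S)
    (hcov : ∀ Q : PrimeSpectrum S, f ∉ Q.asIdeal → ∃ Q' : PrimeSpectrum S', g' ∉ Q'.asIdeal ∧
      PrimeSpectrum.comap (algebraMap S S') Q' = Q)
    (h : Module.FinitePresentation (Localization.Away g') (LocalizedModule (Submonoid.powers g') (S' ⊗[S] N))) :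
    Module.FinitePresentation (Localization.Away f) (LocalizedModule (Submonoid.powers f) N) := by
  let a := g' * algebraMap S S' f
  let T := Localization.Away a
  haveI := (fp_away_iff_tensor a).1 (fp_away_mul g' _ h)
  haveI : Module.FinitePresentation T (T ⊗[S] N) :=
    Module.FinitePresentation.of_equiv (M := T ⊗[S'] (S' ⊗[S] N)) (AlgebraTensorModule.cancelBaseChange S S' T T N)
  have hu : IsUnit (algebraMap S T f) := by
    rw [IsScalarTower.algebraMap_apply S S' T]
    exact isUnit_of_dvd_unit (map_dvd _ (dvd_mul_left _ _)) (IsLocalization.Away.algebraMap_isUnit a)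
  letI : Algebra (Localization.Away f) T := (IsLocalization.Away.lift f (g := algebraMap S T) hu).toAlgebra
  haveI : IsScalarTower S (Localization.Away f) T := IsScalarTower.of_algebraMap_eq fun x => (IsLocalization.lift_eq _ x).symm
  haveI : Module.Flat S T := Module.Flat.trans S S' T
  haveI : Module.Flat (Localization.Away f) T :=
    (Module.flat_iff_of_isLocalization (Localization.Away f) (Submonoid.powers f) T).2 ‹_›
  haveI : Module.FaithfullyFlat (Localization.Away f) T := Module.FaithfullyFlat.of_comap_surjective fun Q => by
    obtain ⟨Q', hg', hQ'⟩ := hcov (PrimeSpectrum.comap (algebraMap S (Localization.Away f)) Q) fun hf =>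
      Q.2.ne_top (Ideal.eq_top_of_isUnit_mem _ hf (IsLocalization.Away.algebraMap_isUnit f))
    have ha : a ∉ Q'.asIdeal := fun hm => (Q'.2.mem_or_mem hm).elim hg' fun hf => by
      have hf' : f ∈ (PrimeSpectrum.comap (algebraMap S (Localization.Away f)) Q).asIdeal := hQ' ▸ hf
      exact Q.2.ne_top (Ideal.eq_top_of_isUnit_mem _ hf' (IsLocalization.Away.algebraMap_isUnit f))
    obtain ⟨Z, hZ⟩ : Q' ∈ Set.range (PrimeSpectrum.comap (algebraMap S' T)) := by
      rw [PrimeSpectrum.localization_away_comap_range T a]; exact ha
    refine ⟨Z, PrimeSpectrum.localization_comap_injective (Localization.Away f) (Submonoid.powers f) ?_⟩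
    rw [← hQ', ← hZ, ← PrimeSpectrum.comap_comp_apply, ← PrimeSpectrum.comap_comp_apply,
      ← IsScalarTower.algebraMap_eq, ← IsScalarTower.algebraMap_eq]
  exact (fp_away_iff_tensor f).2 (fp_tensor_down (Localization.Away f) T)

end etale

end Groth.Agent.H4RG
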