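import Groth.Prelude
import Groth.Agent.H4RG.ElemDevExists
import Groth.Agent.FibDim.LocDim
import Groth.Agent.FibDim.RingLoc
import Mathlib

/-! Local structure of a morphism locally of finite type: finite over smooth after etale localisation. -/

set_option autoImplicit false
set_option linter.style.haveILetI false
set_option backward.isDefEq.respectTransparency false
set_option backward.isDefEq.respectTransparency.types false

universe u

open CategoryTheory CategoryTheory.Limits AlgebraicGeometry TensorProduct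

namespace Groth.Agent.H4RG

attribute [local instance] Algebra.TensorProduct.rightAlgebra

/-- An algebra seen as a module over itself has elementary devissages with an etale quotient. -/
theorem exists_ring_local_structure {R S : Type u} [CommRing R] [CommRing S] [Algebra R S] [Algebra.FiniteType R S]
    (p : Ideal R) [p.IsPrime] (q : Ideal S) [q.IsPrime] [hqp : q.LiesOver p] (n : ℕ)
    (Q : PrimeSpectrum (p.Fiber S))
    (hQ : Q.asIdeal.comap (Algebra.TensorProduct.includeRight (R := R) (A := p.ResidueField) (B := S)).toRingHom = q)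
    (hn : FlatMor.localDim (PrimeSpectrum (p.Fiber S)) Q = n) :
    ∃ (D : FlatCA.ElemDevissage R S S p q n), RingHom.ker (algebraMap D.S' D.C) = ⊥ := by
  let incl : S →+* p.Fiber S := (Algebra.TensorProduct.includeRight (R := R) (A := p.ResidueField) (B := S)).toRingHom
  let ep := PrimeSpectrum.preimageHomeomorphFiber R S ⟨p, inferInstance⟩
  have hxq : Q.asIdeal = FlatCA.fiberIdeal p q := by
    refine le_antisymm (fun a ha => ?_) (Ideal.map_le_iff_le_comap.2 hQ.ge)
    obtain ⟨r, hr, s, hs⟩ := Ideal.Fiber.exists_smul_eq_one_tmul p a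
    have hu : IsUnit (algebraMap R (p.Fiber S) r) := by
      rw [IsScalarTower.algebraMap_apply R p.ResidueField (p.Fiber S)]
      exact (Ne.isUnit (by simpa using hr)).map _
    have h1 : incl s ∈ Q.asIdeal := by
      show (1 : p.ResidueField) ⊗ₜ[R] s ∈ Q.asIdeal
      rw [← hs, Algebra.smul_def]
      exact Ideal.mul_mem_left _ _ ha
    have h2 : incl s ∈ FlatCA.fiberIdeal p q := Ideal.mem_map_of_mem _ (hQ.le h1)
    rw [show incl s = (1 : p.ResidueField) ⊗ₜ[R] s from rfl, ← hs, Algebra.smul_def, Ideal.unit_mul_mem_iff_mem _ hu] at h2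
    exact h2
  have hsupp : Module.support (p.Fiber S) (FlatCA.fiberMod p S S) = Set.univ := by
    refine Set.eq_univ_of_forall fun P => ?_
    show P ∈ Module.support (p.Fiber S) ((p.Fiber S) ⊗[S] S)
    rw [(AlgebraTensorModule.rid S (p.Fiber S) (p.Fiber S)).support_eq, Module.support_eq_zeroLocus]
    intro a ha
    have h1 := Module.mem_annihilator.1 ha 1
    rw [smul_eq_mul, mul_one] at h1
    rw [h1]
    exact zero_mem _
  have hloc : FlatMor.localDim (Module.support (p.Fiber S) (FlatCA.fiberMod p S S)) ⟨Q, hsupp ▸ Set.mem_univ Q⟩ = n := by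
    rw [← hn]
    exact (FibDim.localDim_homeomorph ((Homeomorph.setCongr hsupp).trans (Homeomorph.Set.univ _)) _).symm
  obtain ⟨D⟩ := nonempty_elemDevissage S p q n Q hxq (hsupp ▸ Set.mem_univ Q) hloc
  refine ⟨D, eq_bot_iff.2 fun a ha => ?_⟩
  have hG : ∀ w : D.G, a • w = 0 := fun w => by rw [← algebraMap_smul D.C a w, RingHom.mem_ker.1 ha, zero_smul]
  let e := D.isBaseChange.equiv
  have h0 : a • (e ((1 : D.S') ⊗ₜ[S] (1 : S))) = 0 := D.iso.injective (by rw [map_smul, hG, map_zero])
  rw [← map_smul, LinearEquiv.map_eq_zero_iff, TensorProduct.smul_tmul', smul_eq_mul, mul_one] at h0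
  have := congrArg (AlgebraTensorModule.rid S D.S' D.S') h0
  simpa using this

/-- An elementary etale neighbourhood of rings gives one of schemes. -/
theorem isEtaleNbhd_of_isEtaleNhd {R R' : Type u} [CommRing R] [CommRing R'] [Algebra R R'] (p : PrimeSpectrum R)
    (p' : PrimeSpectrum R') (h : FlatCA.IsEtaleNhd R R' p.asIdeal p'.asIdeal) {S : Scheme.{u}}
    (j : Spec (CommRingCat.of R) ⟶ S) [IsOpenImmersion j] (s : S) (hs : j p = s) :
    Hens2.IsEtaleNbhd (Spec.map (CommRingCat.ofHom (algebraMap R R')) ≫ j) p' s := by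
  obtain ⟨he, ho, hb⟩ := h
  haveI : AlgebraicGeometry.Etale (Spec.map (CommRingCat.ofHom (algebraMap R R'))) :=
    HasRingHomProperty.Spec_iff.2 (RingHom.etale_algebraMap.2 he)
  have hb' : Function.Bijective (Ideal.ResidueField.map p.asIdeal p'.asIdeal (algebraMap R R') ho.over) := hb
  have hb'' : Function.Bijective (Ideal.ResidueField.map (p'.comap (algebraMap R R')).asIdeal p'.asIdeal (algebraMap R R') rfl) :=
    MorLib.EEF.bijective_map_congr (algebraMap R R') (p := p.asIdeal) (p' := (p'.comap (algebraMap R R')).asIdeal)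
      ho.over ho.over hb'
  have h1 : Function.Bijective ((Spec.map (CommRingCat.ofHom (algebraMap R R'))).residueFieldMap p') :=
    MorLib.EEF.bijective_rfm_SpecMap (CommRingCat.ofHom (algebraMap R R')) p' hb''
  refine ⟨inferInstance, ?_, MorLib.EEF.bijective_rfm_comp (Spec.map (CommRingCat.ofHom (algebraMap R R'))) j p' h1
    (MorLib.EEF.bijective_rfm_isOpenImmersion j _)⟩
  show (Spec.map (CommRingCat.ofHom (algebraMap R R')) ≫ j) p' = s
  rw [Scheme.Hom.comp_apply, show Spec.map (CommRingCat.ofHom (algebraMap R R')) p' = p from PrimeSpectrum.ext ho.over.symm, hs]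

/-- The scheme form. -/
theorem exists_local_structure {X S : Scheme.{u}} (f : X ⟶ S) [LocallyOfFiniteType f] (x : X) (n : ℕ)
    (hn : FlatMor.fibreDimAt f x = n) :
    ∃ (S' Y' X' : Scheme.{u}) (e : S' ⟶ S) (h : Y' ⟶ S') (π : X' ⟶ Y') (g : X' ⟶ X) (s' : S') (x' : X'),
      IsAffine S' ∧ IsAffine Y' ∧ IsAffine X' ∧ Hens2.IsEtaleNbhd e s' (f x) ∧ Hens2.IsEtaleNbhd g x' x ∧
      g ≫ f = π ≫ h ≫ e ∧ SmoothOfRelativeDimension n h ∧ GeometricallyIntegral h ∧ IsFinite π ∧ h (π x') = s' ∧
      ∀ z : X', π z = π x' → z = x' := by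
  obtain ⟨V, hV, hxV, -⟩ := exists_isAffineOpen_mem_and_subset (x := f x) (U := (⊤ : S.Opens)) trivial
  obtain ⟨U, hU, hxU, hUV'⟩ := exists_isAffineOpen_mem_and_subset (x := x) (U := f ⁻¹ᵁ V) hxV
  have hUV : U ≤ f ⁻¹ᵁ V := hUV'
  let φ := f.appLE V U hUV
  have hft : φ.hom.FiniteType := f.finiteType_appLE hV hU hUV
  let R : Type u := Γ(S, V)
  let B : Type u := Γ(X, U)
  letI : Algebra R B := φ.hom.toAlgebra
  haveI : Algebra.FiniteType R B := hft
  let q : PrimeSpectrum B := hU.primeIdealOf ⟨x, hxU⟩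
  have hsq : Spec.map φ ≫ hV.fromSpec = hU.fromSpec ≫ f := IsAffineOpen.SpecMap_appLE_fromSpec f hV hU hUV
  have hqx : hU.fromSpec q = x := hU.fromSpec_primeIdealOf ⟨x, hxU⟩
  haveI : LocallyOfFiniteType (Spec.map φ) := (HasRingHomProperty.Spec_iff (P := @LocallyOfFiniteType)).2 hft
  have hdim : FlatMor.fibreDimAt (Spec.map φ) q = n := by
    rw [← hn, ← hqx, ← FibDim.fibreDimAt_openImmersion_comp hU.fromSpec f q, ← FibDim.fibreDimAt_comp_mono (Spec.map φ) hV.fromSpec q]
    simp only [hsq]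
  obtain ⟨Q, hQ⟩ := FibDim.exists_fiber_point (A := R) q
  have hQn : FlatMor.localDim (PrimeSpectrum ((q.asIdeal.under R).Fiber B)) Q = n :=
    (FibDim.localDim_fiber_eq_fibreDimAt q Q hQ).trans hdim
  obtain ⟨D, hD⟩ := exists_ring_local_structure (R := R) (S := B) (q.asIdeal.under R) q.asIdeal n Q hQ hQn
  have hbij : Function.Bijective (algebraMap D.S' D.C) := ⟨(RingHom.injective_iff_ker_eq_bot _).2 hD, D.surjC⟩
  let Y' : Scheme.{u} := Spec (CommRingCat.of D.D)
  let X' : Scheme.{u} := Spec (CommRingCat.of D.C)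
  let e0 : Spec (CommRingCat.of D.R') ⟶ Spec (CommRingCat.of R) := Spec.map (CommRingCat.ofHom (algebraMap R D.R'))
  let j : X' ⟶ Spec (CommRingCat.of D.S') := Spec.map (CommRingCat.ofHom (algebraMap D.S' D.C))
  haveI : IsIso (CommRingCat.ofHom (algebraMap D.S' D.C)) := (ConcreteCategory.isIso_iff_bijective _).2 hbij
  haveI : IsIso j := inferInstance
  let gS : Spec (CommRingCat.of D.S') ⟶ Spec (CommRingCat.of B) := Spec.map (CommRingCat.ofHom (algebraMap B D.S'))
  haveI : AlgebraicGeometry.Etale gS := HasRingHomProperty.Spec_iff.2 (RingHom.etale_algebraMap.2 D.etaleS.1)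
  haveI : AlgebraicGeometry.Etale e0 := HasRingHomProperty.Spec_iff.2 (RingHom.etale_algebraMap.2 D.etaleR.1)
  let h : Y' ⟶ Spec (CommRingCat.of D.R') := Spec.map (CommRingCat.ofHom (algebraMap D.R' D.D))
  let π : X' ⟶ Y' := Spec.map (CommRingCat.ofHom (algebraMap D.D D.C))
  let z : PrimeSpectrum D.C := ⟨D.z, inferInstance⟩
  let y : PrimeSpectrum D.D := ⟨D.y, inferInstance⟩
  let q' : PrimeSpectrum D.S' := ⟨D.q', inferInstance⟩
  let p' : PrimeSpectrum D.R' := ⟨D.p', inferInstance⟩
  have hπz : π z = y := PrimeSpectrum.ext D.zOverY.over.symm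
  have hjz : j z = q' := PrimeSpectrum.ext D.zOver.over.symm
  have hpV : hV.fromSpec (PrimeSpectrum.comap (algebraMap R B) q) = f x := by
    refine (congrArg f hqx).symm.trans ?_ |>.symm
    exact congr($(hsq) q).symm
  have hgq : Hens2.IsEtaleNbhd (gS ≫ hU.fromSpec) q' x := isEtaleNbhd_of_isEtaleNhd q q' D.etaleS hU.fromSpec x hqx
  have hgN : Hens2.IsEtaleNbhd (j ≫ gS ≫ hU.fromSpec) z x := by
    haveI := hgq.etale
    refine ⟨inferInstance, ?_, MorLib.EEF.bijective_rfm_comp _ _ _ (MorLib.EEF.bijective_rfm_isOpenImmersion j z)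
      (hjz.symm ▸ hgq.residue_bijective)⟩
    show (j ≫ gS ≫ hU.fromSpec) z = x
    rw [Scheme.Hom.comp_apply, hjz]
    exact hgq.base_eq
  refine ⟨Spec (CommRingCat.of D.R'), Y', X', e0 ≫ hV.fromSpec, h, π, j ≫ gS ≫ hU.fromSpec, p', z, inferInstance,
    inferInstance, inferInstance, isEtaleNbhd_of_isEtaleNhd (PrimeSpectrum.comap (algebraMap R B) q) p' D.etaleR hV.fromSpec (f x) hpV, ?_, ?_,
    D.smooth, D.geomInt, (IsFinite.SpecMap_iff _).2 (RingHom.finite_algebraMap.2 D.finiteDC), ?_, fun w hw => ?_⟩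
  · exact hgN
  · simp only [Category.assoc, ← hsq]
    simp only [j, gS, π, h, e0, ← Spec.map_comp_assoc]
    congr 2
    ext r
    show algebraMap D.S' D.C (algebraMap B D.S' (algebraMap R B r)) =
      algebraMap D.D D.C (algebraMap D.R' D.D (algebraMap R D.R' r))
    rw [← IsScalarTower.algebraMap_apply R B D.S', IsScalarTower.algebraMap_apply R D.R' D.S',
      ← IsScalarTower.algebraMap_apply D.R' D.S' D.C, ← IsScalarTower.algebraMap_apply D.R' D.D D.C]
  · rw [hπz]
    exact PrimeSpectrum.ext D.yOver.over.symm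
  · rw [hπz] at hw
    exact PrimeSpectrum.ext (D.uniq w.asIdeal ⟨(congrArg PrimeSpectrum.asIdeal hw).symm⟩)

end Groth.Agent.H4RG
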