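import Groth.Prelude
import Groth.Agent.FittX.Free
import Groth.Agent.FittX.Prod
import Mathlib

/-! Pushing an ideal of an etale algebra down to the base through a Fitting ideal. -/

set_option autoImplicit false
set_option linter.style.haveILetI false
set_option backward.isDefEq.respectTransparency.types false

universe u

open TensorProduct

namespace Groth.Agent.H4RG

variable {A C B : Type u} [CommRing A] [CommRing C] [CommRing B] [Algebra A C] [Algebra A B] [Algebra C B]
  [IsScalarTower A C B]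

variable (A C B) in
/-- The multiplication of `B ⊗ C` into `B`. -/
noncomputable def mulTo : B ⊗[A] C →ₐ[B] B :=
  Algebra.TensorProduct.lift (AlgHom.id B B) (IsScalarTower.toAlgHom A C B) fun _ _ => Commute.all _ _

theorem mulTo_tmul (b : B) (c : C) : mulTo A C B (b ⊗ₜ c) = b * algebraMap C B c :=
  Algebra.TensorProduct.lift_tmul _ _ _ _ _

/-- An unramified localisation of `C` is a direct factor of its own base change of `C`. -/
theorem exists_idem [Algebra.FiniteType A C] (h : C) [IsLocalization.Away h B] [Algebra.FormallyUnramified A B] :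
    ∃ ε : B ⊗[A] C, mulTo A C B ε = 1 ∧ ∀ x, x * ε = (mulTo A C B x ⊗ₜ[A] (1 : C)) * ε := by
  classical
  haveI := IsLocalization.Away.finitePresentation (S := B) h
  haveI : Algebra.FiniteType C B := inferInstance
  haveI : Algebra.FiniteType A B := Algebra.FiniteType.trans ‹Algebra.FiniteType A C› ‹_›
  let g : C →ₗ[C] B := Algebra.linearMap C B
  haveI : IsLocalizedModule (Submonoid.powers h) g :=
    (isLocalizedModule_iff_isLocalization' (Submonoid.powers h) B).2 ‹_›
  let G : C ⊗[A] B →ₗ[C] B ⊗[A] B := AlgebraTensorModule.rTensor A B g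
  let ν : B ⊗[A] C →ₐ[B] B ⊗[A] B :=
    Algebra.TensorProduct.map (AlgHom.id B B) (IsScalarTower.toAlgHom A C B)
  have hν : ∀ d, ν d = Algebra.TensorProduct.comm A B B (G (Algebra.TensorProduct.comm A B C d)) := fun d => by
    induction d using TensorProduct.induction_on with
    | zero => simp only [map_zero]
    | tmul b c => rfl
    | add a b ha hb => simp only [map_add, ha, hb]
  have hsmul : ∀ (c : C) (d : C ⊗[A] B),
      Algebra.TensorProduct.comm A C B (c • d) = ((1 : B) ⊗ₜ[A] c) * Algebra.TensorProduct.comm A C B d := fun c d => by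
    induction d using TensorProduct.induction_on with
    | zero => simp only [smul_zero, map_zero, mul_zero]
    | tmul x b =>
      rw [TensorProduct.smul_tmul', Algebra.TensorProduct.comm_tmul, Algebra.TensorProduct.comm_tmul,
        Algebra.TensorProduct.tmul_mul_tmul, one_mul, smul_eq_mul]
    | add a b ha hb => simp only [smul_add, map_add, ha, hb, mul_add]
  have hker : ∀ d, ν d = 0 → ∃ n : ℕ, ((1 : B) ⊗ₜ[A] (h ^ n)) * d = 0 := fun d hd => by
    rw [hν, map_eq_zero_iff _ (AlgEquiv.injective _)] at hd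
    obtain ⟨⟨_, n, rfl⟩, hs⟩ := (IsLocalizedModule.eq_zero_iff (Submonoid.powers h) G).1 hd
    refine ⟨n, ?_⟩
    have h1 := congrArg (Algebra.TensorProduct.comm A C B) hs
    rw [Submonoid.smul_def, hsmul, map_zero] at h1
    rwa [show Algebra.TensorProduct.comm A C B (Algebra.TensorProduct.comm A B C d) = d from
      (Algebra.TensorProduct.comm A B C).symm_apply_apply d] at h1
  have hsurj : ∀ z, ∃ (n : ℕ) (d : B ⊗[A] C), ((1 : B) ⊗ₜ[A] algebraMap C B (h ^ n)) * z = ν d := fun z => by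
    obtain ⟨⟨d, ⟨_, n, rfl⟩⟩, hs⟩ := IsLocalizedModule.surj (Submonoid.powers h) G (Algebra.TensorProduct.comm A B B z)
    refine ⟨n, Algebra.TensorProduct.comm A C B d, ?_⟩
    rw [hν, show Algebra.TensorProduct.comm A B C (Algebra.TensorProduct.comm A C B d) = d from
      (Algebra.TensorProduct.comm A C B).symm_apply_apply d, ← hs, Submonoid.smul_def]
    clear hs
    induction z using TensorProduct.induction_on with
    | zero => simp only [mul_zero, map_zero, smul_zero]
    | tmul x y =>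
      rw [Algebra.TensorProduct.comm_tmul, TensorProduct.smul_tmul', Algebra.TensorProduct.comm_tmul,
        Algebra.TensorProduct.tmul_mul_tmul, one_mul, Algebra.smul_def]
    | add a b ha hb => simp only [mul_add, map_add, smul_add, ha, hb]
  let μ := mulTo A C B
  let E := Algebra.FormallyUnramified.elem A B
  obtain ⟨n, d, hd⟩ := hsurj E
  obtain ⟨u, hu⟩ := IsLocalization.Away.algebraMap_isUnit (S := B) h
  let d₁ : B ⊗[A] C := ((((u⁻¹ : Bˣ) : B) ^ n) ⊗ₜ[A] (1 : C)) * d
  have hswap : ∀ b : B, ((1 : B) ⊗ₜ[A] b) * E = (b ⊗ₜ[A] (1 : B)) * E :=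
    Algebra.FormallyUnramified.one_tmul_mul_elem
  have hd₁ : ν d₁ = E := by
    show ν (((((u⁻¹ : Bˣ) : B) ^ n) ⊗ₜ[A] (1 : C)) * d) = E
    rw [map_mul, ← hd, map_pow, hswap, show ν ((((u⁻¹ : Bˣ) : B) ^ n) ⊗ₜ[A] (1 : C)) =
      ((((u⁻¹ : Bˣ) : B) ^ n) ⊗ₜ[A] (1 : B)) from by rw [Algebra.TensorProduct.map_tmul, map_one]; rfl,
      ← mul_assoc, Algebra.TensorProduct.tmul_mul_tmul, one_mul, ← mul_pow, ← hu, Units.inv_mul, one_pow,
      ← Algebra.TensorProduct.one_def, one_mul]
  obtain ⟨gens, hgens⟩ := ‹Algebra.FiniteType A C›.out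
  have hann : ∀ c, ∃ m : ℕ, ((1 : B) ⊗ₜ[A] (h ^ m)) * (((1 : B) ⊗ₜ[A] c - algebraMap C B c ⊗ₜ[A] (1 : C)) * d₁) = 0 :=
    fun c => hker _ (by
      rw [map_mul, map_sub, show ν ((1 : B) ⊗ₜ[A] c) = (1 : B) ⊗ₜ[A] algebraMap C B c from rfl,
        show ν (algebraMap C B c ⊗ₜ[A] (1 : C)) = algebraMap C B c ⊗ₜ[A] algebraMap C B 1 from rfl, hd₁, map_one,
        sub_mul, sub_eq_zero]
      exact hswap _)
  choose m hm using hann
  let M := gens.sup m
  let ε : B ⊗[A] C := ((((u⁻¹ : Bˣ) : B) ^ M) ⊗ₜ[A] (h ^ M)) * d₁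
  have hε : ∀ c : C, ((1 : B) ⊗ₜ[A] c) * ε = (algebraMap C B c ⊗ₜ[A] (1 : C)) * ε := fun c => by
    have hc : c ∈ Algebra.adjoin A (gens : Set C) := by rw [hgens]; exact Algebra.mem_top
    induction hc using Algebra.adjoin_induction with
    | mem c hc =>
      rw [← sub_eq_zero, ← sub_mul]
      obtain ⟨k, hk⟩ := Nat.exists_eq_add_of_le (Finset.le_sup (f := m) hc : m c ≤ M)
      rw [show ((1 : B) ⊗ₜ[A] c - algebraMap C B c ⊗ₜ[A] (1 : C)) * ε =
        ((((u⁻¹ : Bˣ) : B) ^ M) ⊗ₜ[A] (h ^ k)) *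
          (((1 : B) ⊗ₜ[A] (h ^ m c)) * (((1 : B) ⊗ₜ[A] c - algebraMap C B c ⊗ₜ[A] (1 : C)) * d₁)) from by
        simp only [ε]
        rw [show ((((u⁻¹ : Bˣ) : B) ^ M) ⊗ₜ[A] (h ^ M) : B ⊗[A] C) =
          ((((u⁻¹ : Bˣ) : B) ^ M) ⊗ₜ[A] (h ^ k)) * ((1 : B) ⊗ₜ[A] (h ^ m c)) from by
          rw [Algebra.TensorProduct.tmul_mul_tmul, mul_one, ← pow_add, add_comm k, ← hk]]
        ring, hm c, mul_zero]
    | algebraMap a =>
      rw [← IsScalarTower.algebraMap_apply, Algebra.algebraMap_eq_smul_one (A := C),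
        Algebra.algebraMap_eq_smul_one (A := B), TensorProduct.tmul_smul, TensorProduct.smul_tmul']
    | add x y _ _ hx hy => rw [tmul_add, add_mul, hx, hy, map_add, add_tmul, add_mul]
    | mul x y _ _ hx hy =>
      rw [show ((1 : B) ⊗ₜ[A] (x * y) : B ⊗[A] C) = ((1 : B) ⊗ₜ[A] x) * ((1 : B) ⊗ₜ[A] y) by
          rw [Algebra.TensorProduct.tmul_mul_tmul, one_mul],
        mul_assoc, hy, mul_left_comm, hx, ← mul_assoc, Algebra.TensorProduct.tmul_mul_tmul, mul_one, map_mul,
        mul_comm (algebraMap C B x)]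
  refine ⟨ε, ?_, fun x => ?_⟩
  · have hμd : μ d₁ = 1 := by
      have hlm : ∀ x, Algebra.TensorProduct.lmul' A (ν x) = μ x := fun x => by
        induction x using TensorProduct.induction_on with
        | zero => simp only [map_zero]
        | tmul b c => rfl
        | add a b ha hb => simp only [map_add, ha, hb]
      rw [← hlm, hd₁]
      exact Algebra.FormallyUnramified.lmul_elem
    rw [map_mul, show mulTo A C B d₁ = 1 from hμd, mulTo_tmul, mul_one, map_pow, ← mul_pow, ← hu, Units.inv_mul,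
      one_pow]
  · induction x using TensorProduct.induction_on with
    | zero => rw [map_zero, TensorProduct.zero_tmul]
    | tmul b c =>
      rw [show (b ⊗ₜ[A] c : B ⊗[A] C) = (b ⊗ₜ[A] (1 : C)) * ((1 : B) ⊗ₜ[A] c) by
          rw [Algebra.TensorProduct.tmul_mul_tmul, mul_one, one_mul],
        mul_assoc, hε, ← mul_assoc, map_mul, mulTo_tmul, mulTo_tmul, map_one, mul_one, one_mul,
        Algebra.TensorProduct.tmul_mul_tmul, mul_one]
    | add a b ha hb => rw [add_mul, ha, hb, map_add, TensorProduct.add_tmul, add_mul]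

/-- The zeroth Fitting ideal of a cyclic module. -/
theorem fitting_quotient {R : Type u} [CommRing R] (J : Ideal R) : Fitt.ideal R (R ⧸ J) 0 = J := by
  refine le_antisymm ((FittX.ideal_annihilator).trans (Ideal.annihilator_quotient).le) fun j hj => ?_
  refine Ideal.subset_span ⟨1, fun _ => 1, Matrix.of fun _ _ => j, ?_, fun i _ => ?_, ?_⟩
  · rw [eq_top_iff]
    intro x _
    obtain ⟨r, rfl⟩ := Ideal.Quotient.mk_surjective x
    rw [show Ideal.Quotient.mk J r = r • (1 : R ⧸ J) by rw [Algebra.smul_def, mul_one]; rfl]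
    exact Submodule.smul_mem _ _ (Submodule.subset_span ⟨0, rfl⟩)
  · simp [Algebra.smul_def, Ideal.Quotient.eq_zero_iff_mem.2 hj]
  · simp

/-- An element killing a module has a power in its zeroth Fitting ideal. -/
theorem mem_radical_fitting {R M : Type u} [CommRing R] [AddCommGroup M] [Module R M] [Module.Finite R M] (a : R)
    (h : ∀ x : M, a • x = 0) : a ∈ (Fitt.ideal R M 0).radical := by
  classical
  obtain ⟨n, x, hx⟩ := FittX.exists_gen R M
  refine ⟨n, Ideal.subset_span ⟨n, x, Matrix.diagonal fun _ => a, hx, fun i _ => ?_, ?_⟩⟩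
  · refine Finset.sum_eq_zero fun j _ => ?_
    by_cases hij : i = j
    · rw [hij, Matrix.diagonal_apply_eq, h]
    · rw [Matrix.diagonal_apply_ne _ hij, zero_smul]
  · rw [Matrix.det_diagonal, Finset.prod_const, Finset.card_univ, Fintype.card_fin]

/-- The zeroth Fitting ideal over the base of `C ⧸ JC` extends to a multiple of the extension of `JC`. -/
theorem exists_fitting_mul [Module.Finite A C] [Module.FinitePresentation A C] (h : C) [IsLocalization.Away h B]
    [Algebra.FormallyUnramified A B] (JC : Ideal C) :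
    ∃ J' : Ideal B, (Fitt.ideal A (C ⧸ JC) 0).map (algebraMap A B) = JC.map (algebraMap C B) * J' ∧
      (JC.FG → (Fitt.ideal A (C ⧸ JC) 0).FG ∧ J'.FG) := by
  classical
  obtain ⟨ε, hε1, hεx⟩ := exists_idem (A := A) (C := C) (B := B) h
  let J := JC.map (algebraMap C B)
  have hJC : JC.map (algebraMap C B) = J := rfl
  let M := C ⧸ JC
  haveI : Module.Finite A M := Module.Finite.of_surjective (Ideal.Quotient.mkₐ A JC).toLinearMap Ideal.Quotient.mk_surjective
  have hMfp : JC.FG → Module.FinitePresentation A M := fun hJCfg =>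
    Module.finitePresentation_of_surjective (Ideal.Quotient.mkₐ A JC).toLinearMap Ideal.Quotient.mk_surjective (by
      rw [show LinearMap.ker (Ideal.Quotient.mkₐ A JC).toLinearMap = JC.restrictScalars A from
        Submodule.ext fun x => Ideal.Quotient.eq_zero_iff_mem]
      exact Submodule.FG.restrictScalars hJCfg)
  let JD : Ideal (B ⊗[A] C) := JC.map (Algebra.TensorProduct.includeRight (R := A) (A := B) (B := C))
  let P : Ideal (B ⊗[A] C) := JD ⊔ Ideal.span {ε}
  haveI : Module.Finite B ((B ⊗[A] C) ⧸ P) :=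
    Module.Finite.of_surjective (Ideal.Quotient.mkₐ B P).toLinearMap Ideal.Quotient.mk_surjective
  have hPfp : JC.FG → Module.FinitePresentation B ((B ⊗[A] C) ⧸ P) := fun hJCfg =>
    Module.finitePresentation_of_surjective (Ideal.Quotient.mkₐ B P).toLinearMap Ideal.Quotient.mk_surjective (by
      rw [show LinearMap.ker (Ideal.Quotient.mkₐ B P).toLinearMap = P.restrictScalars B from
        Submodule.ext fun x => Ideal.Quotient.eq_zero_iff_mem]
      exact Submodule.FG.restrictScalars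
        (Submodule.FG.sup (hJCfg.map _) (Submodule.fg_span_singleton ε)))
  have hμJ : JD.map (mulTo A C B) = J := by
    show (JC.map (Algebra.TensorProduct.includeRight (R := A) (A := B) (B := C)).toRingHom).map (mulTo A C B).toRingHom = J
    rw [Ideal.map_map, ← hJC]
    refine congrArg (fun f => Ideal.map f JC) (RingHom.ext fun c => ?_)
    show mulTo A C B ((1 : B) ⊗ₜ[A] c) = _
    rw [mulTo_tmul, one_mul]
  refine ⟨Fitt.ideal B ((B ⊗[A] C) ⧸ P) 0, ?_, fun hfg => ?_⟩
  swap
  · haveI := hMfp hfg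
    haveI := hPfp hfg
    exact ⟨FittX.ideal_fg 0, FittX.ideal_fg 0⟩
  let q : B ⊗[A] C →ₐ[B] (B ⊗[A] C) ⧸ JD := Ideal.Quotient.mkₐ B JD
  let e : (B ⊗[A] M) ≃ₗ[B] ((B ⊗[A] C) ⧸ JD) := (Algebra.TensorProduct.tensorQuotientEquiv (R := A) B C B JC).toLinearEquiv
  let f₁ : B ⊗[A] C →ₐ[B] B ⧸ J := (Ideal.Quotient.mkₐ B J).comp (mulTo A C B)
  let f₂ : B ⊗[A] C →ₐ[B] (B ⊗[A] C) ⧸ P := Ideal.Quotient.mkₐ B P
  let f := f₁.prod f₂
  have hsup : ∀ x, x - x * ε - (mulTo A C B x - mulTo A C B x * 1) ⊗ₜ[A] (1 : C) = x * (1 - ε) := fun x => by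
    rw [mul_one, sub_self, TensorProduct.zero_tmul, sub_zero, mul_sub, mul_one]
  have hεP : ε ∈ P := Ideal.mem_sup_right (Ideal.subset_span rfl)
  have hf : Function.Surjective f := by
    rintro ⟨y, z⟩
    obtain ⟨b, rfl⟩ := Ideal.Quotient.mk_surjective y
    obtain ⟨x, rfl⟩ := Ideal.Quotient.mk_surjective z
    refine ⟨(b ⊗ₜ[A] 1) * ε + x * (1 - ε), Prod.ext ?_ ?_⟩
    · show Ideal.Quotient.mk J (mulTo A C B _) = _
      rw [map_add, map_mul, map_mul, map_sub, map_one, hε1, sub_self, mul_zero, add_zero, mul_one, mulTo_tmul,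
        map_one, mul_one]
    · show Ideal.Quotient.mk P _ = _
      rw [Ideal.Quotient.eq]
      rw [show (b ⊗ₜ[A] 1) * ε + x * (1 - ε) - x = ((b ⊗ₜ[A] 1) - x) * ε by ring]
      exact P.mul_mem_left _ hεP
  have hker : RingHom.ker f = JD := by
    refine le_antisymm (fun x hx => ?_) fun x hx => Prod.ext ?_ ?_
    · have hx1 : mulTo A C B x ∈ J := Ideal.Quotient.eq_zero_iff_mem.1 (congrArg Prod.fst hx)
      obtain ⟨j, hj, t, ht, hx2⟩ := Submodule.mem_sup.1 (Ideal.Quotient.eq_zero_iff_mem.1 (congrArg Prod.snd hx) : x ∈ P)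
      obtain ⟨t, rfl⟩ := Ideal.mem_span_singleton'.1 ht
      rw [← hx2]
      refine add_mem hj ?_
      have h2 : mulTo A C B t ∈ J := by
        rw [← hx2, map_add, map_mul, hε1, mul_one] at hx1
        exact (add_mem_cancel_left (hμJ ▸ Ideal.mem_map_of_mem _ hj)).1 hx1
      rw [← hμJ] at h2
      obtain ⟨s, hs, hst⟩ := (Ideal.mem_map_iff_of_surjective _
        (fun b => ⟨b ⊗ₜ[A] 1, by rw [mulTo_tmul, map_one, mul_one]⟩)).1 h2
      rw [hεx, ← hst, ← hεx]
      exact JD.mul_mem_right _ hs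
    · exact Ideal.Quotient.eq_zero_iff_mem.2 (hμJ ▸ Ideal.mem_map_of_mem _ hx)
    · exact Ideal.Quotient.eq_zero_iff_mem.2 (Ideal.mem_sup_left hx)
  let e₂ : ((B ⊗[A] C) ⧸ JD) ≃ₗ[B] (B ⧸ J) × ((B ⊗[A] C) ⧸ P) :=
    ((Ideal.quotientEquivAlgOfEq B hker.symm).trans (Ideal.quotientKerAlgEquivOfSurjective hf)).toLinearEquiv
  haveI : Module.Finite B (B ⧸ J) := Module.Finite.of_surjective (Ideal.Quotient.mkₐ B J).toLinearMap Ideal.Quotient.mk_surjective
  rw [← FittX.ideal_baseChange (TensorProduct.isBaseChange A M B) 0, FittX.ideal_congr (e.trans e₂) 0,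
    FittX.ideal_prod, Finset.sum_range_one, Nat.sub_zero, fitting_quotient]


/-- An ideal of an unramified localisation of a finite algebra divides the extension of an ideal of the base. -/
theorem exists_ideal_mul_eq [Module.Finite A C] [Module.FinitePresentation A C] (h : C) [IsLocalization.Away h B]
    [Algebra.FormallyUnramified A B] (a : A) (J : Ideal B) (hJ : J.FG) (haJ : algebraMap A B a ∈ J.radical) :
    ∃ (I : Ideal A) (J' : Ideal B), I.FG ∧ a ∈ I.radical ∧ J'.FG ∧ I.map (algebraMap A B) = J * J' := by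
  classical
  obtain ⟨gens, hgens⟩ := hJ
  obtain ⟨n, hn⟩ := haJ
  choose w hw using fun j : B => IsLocalization.surj (Submonoid.powers h) j
  let JC : Ideal C := Ideal.span (↑(insert (algebraMap A C (a ^ n)) (gens.image fun j => (w j).1)) : Set C)
  have hJC : JC.map (algebraMap C B) = J := by
    refine le_antisymm (Ideal.map_le_iff_le_comap.2 (Ideal.span_le.2 ?_)) ?_
    · intro c hc
      rcases Finset.mem_insert.1 hc with rfl | hc
      · show algebraMap C B (algebraMap A C (a ^ n)) ∈ J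
        rwa [← IsScalarTower.algebraMap_apply, map_pow]
      · obtain ⟨j, hj, rfl⟩ := Finset.mem_image.1 hc
        show algebraMap C B (w j).1 ∈ J
        rw [← hw j]
        exact J.mul_mem_right _ (hgens ▸ Ideal.subset_span hj)
    · rw [← hgens, Ideal.span_le]
      intro j hj
      have h1 : algebraMap C B (w j).1 ∈ JC.map (algebraMap C B) := Ideal.mem_map_of_mem _
        (Ideal.subset_span (Finset.mem_insert_of_mem (Finset.mem_image.2 ⟨j, hj, rfl⟩)))
      rw [← hw j] at h1
      exact (Ideal.mul_unit_mem_iff_mem _ (IsLocalization.map_units B (w j).2)).1 h1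
  have hJCfg : JC.FG := ⟨_, rfl⟩
  obtain ⟨J', heq, hfg⟩ := exists_fitting_mul (A := A) (B := B) h JC
  obtain ⟨hI, hJ'⟩ := hfg hJCfg
  let M := C ⧸ JC
  haveI : Module.Finite A M := Module.Finite.of_surjective (Ideal.Quotient.mkₐ A JC).toLinearMap Ideal.Quotient.mk_surjective
  refine ⟨Fitt.ideal A M 0, J', hI, ?_, hJ', heq.trans (congrArg (· * J') hJC)⟩
  have h1 : a ^ n ∈ (Fitt.ideal A M 0).radical := mem_radical_fitting (a ^ n) fun x => by
    obtain ⟨c, rfl⟩ := Ideal.Quotient.mk_surjective x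
    rw [show (a ^ n) • Ideal.Quotient.mk JC c = Ideal.Quotient.mk JC (algebraMap A C (a ^ n) * c) by
      rw [Algebra.smul_def, map_mul]; rfl, Ideal.Quotient.eq_zero_iff_mem]
    exact JC.mul_mem_right _ (Ideal.subset_span (Finset.mem_insert_self _ _))
  obtain ⟨k, hk⟩ := h1
  exact ⟨n * k, by rwa [pow_mul]⟩

end Groth.Agent.H4RG
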