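import Groth.Prelude
import Groth.Agent.H4RG.DevExists
import Groth.Agent.H4RG.ElemDev
import Groth.Agent.S1254
import Mathlib

/-! A flat algebra of finite presentation is projective after etale localisation. -/

set_option autoImplicit false
set_option linter.style.haveILetI false
set_option backward.isDefEq.respectTransparency.types false

universe u

open TensorProduct

namespace Groth.Agent.H4RG

/-- A flat algebra of finite presentation is projective after etale localisation at a point. -/
theorem exists_etale_projective {R S : Type u} [CommRing R] [CommRing S] [Algebra R S] [Algebra.FinitePresentation R S]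
    [Module.Flat R S] (p : Ideal R) [p.IsPrime] (q : Ideal S) [q.IsPrime] [hqp : q.LiesOver p] :
    ∃ (R₁ S₁ : Type u) (_ : CommRing R₁) (_ : CommRing S₁) (_ : Algebra R R₁) (_ : Algebra S S₁) (_ : Algebra R₁ S₁)
      (_ : Algebra R S₁) (_ : IsScalarTower R R₁ S₁) (_ : IsScalarTower R S S₁)
      (p₁ : Ideal R₁) (q₁ : Ideal S₁) (_ : p₁.IsPrime) (_ : q₁.IsPrime),
      FlatCA.IsEtaleNhd R R₁ p p₁ ∧ FlatCA.IsEtaleNhd S S₁ q q₁ ∧ q₁.LiesOver p₁ ∧ Module.Projective R₁ S₁ := by
  obtain ⟨e, he⟩ := exists_support_homeomorph (R := R) (X := S) p S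
  have hQ : (⟨q, inferInstance⟩ : PrimeSpectrum S) ∈ suppOver S p S := ⟨hqp.over.symm, fun a ha => by
    have h := Module.mem_annihilator.1 ha (1 : S)
    rw [smul_eq_mul, mul_one] at h
    rw [h]
    exact q.zero_mem⟩
  obtain ⟨n, hn⟩ := exists_locAt_nat S p q (e.symm ⟨_, hQ⟩).1 (e.symm ⟨_, hQ⟩).2
    ((eq_fiberIdeal_iff p _ q hqp.over.symm).2 (by rw [← he, Homeomorph.apply_symm_apply]))
  obtain ⟨R', S', _, _, _, _, _, _, _, _, p', q', _, _, hR, hS, hq'p, hdev⟩ := exists_hasCompleteDevissageAt n R S S p q hn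
  obtain ⟨T, -⟩ := hasCompleteDevissageAt_congr (AlgebraTensorModule.rid S S' S') hdev
  haveI := hR.1
  haveI := hS.1
  haveI : Algebra.FinitePresentation R S' := Algebra.FinitePresentation.trans R S S'
  haveI : Algebra.FinitePresentation R' S' := Algebra.FinitePresentation.of_restrict_scalars_finitePresentation R R' S'
  haveI : Module.Flat R S' := Module.Flat.trans R S S'
  haveI : Module.Flat R' S' := (flat_iff_flat_of_etale R R' S').1 inferInstance
  obtain ⟨f, hf, hproj, -⟩ := Groth.Agent.S1254.result (R := R') (S := S') S' p' T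
  let R₁ := Localization.Away f
  let S₁ := Localization.Away (algebraMap R' S' f)
  have hfq : algebraMap R' S' f ∉ q' := fun h => hf (hq'p.over.ge h)
  obtain ⟨hpp, hpc⟩ := isPrime_map_away f p' hf
  obtain ⟨hqq, hqc⟩ := isPrime_map_away (algebraMap R' S' f) q' hfq
  have hu : IsUnit (algebraMap R' S₁ f) := by
    rw [IsScalarTower.algebraMap_apply R' S' S₁]
    exact IsLocalization.Away.algebraMap_isUnit _
  letI : Algebra R₁ S₁ := (IsLocalization.Away.lift f hu).toAlgebra
  haveI : IsScalarTower R' R₁ S₁ := IsScalarTower.of_algebraMap_eq fun x => (IsLocalization.Away.lift_eq f hu x).symm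
  haveI : IsScalarTower R R' S₁ := IsScalarTower.of_algebraMap_eq fun x => by
    rw [IsScalarTower.algebraMap_apply R S' S₁, IsScalarTower.algebraMap_apply R R' S', ← IsScalarTower.algebraMap_apply R' S' S₁]
  haveI : IsScalarTower R R₁ S₁ := IsScalarTower.of_algebraMap_eq fun x => by
    rw [IsScalarTower.algebraMap_apply R R' R₁, ← IsScalarTower.algebraMap_apply R' R₁ S₁, ← IsScalarTower.algebraMap_apply R R' S₁]
  haveI : IsScalarTower R S S₁ := IsScalarTower.of_algebraMap_eq fun x => by
    rw [IsScalarTower.algebraMap_apply R S' S₁, IsScalarTower.algebraMap_apply R S S', ← IsScalarTower.algebraMap_apply S S' S₁]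
  haveI : IsLocalizedModule (Submonoid.powers f) (IsScalarTower.toAlgHom R' S' S₁).toLinearMap := by
    rw [isLocalizedModule_iff_isLocalization, Algebra.algebraMapSubmonoid, Submonoid.map_powers]
    exact inferInstanceAs (IsLocalization.Away (algebraMap R' S' f) S₁)
  have hproj₁ : Module.Projective R₁ S₁ := Module.Projective.of_equiv
    ((IsLocalizedModule.iso (Submonoid.powers f) (IsScalarTower.toAlgHom R' S' S₁).toLinearMap).extendScalarsOfIsLocalization
      (Submonoid.powers f) R₁)
  refine ⟨R₁, S₁, inferInstance, inferInstance, inferInstance, inferInstance, inferInstance, inferInstance, inferInstance,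
    inferInstance, p'.map (algebraMap R' R₁), q'.map (algebraMap S' S₁), hpp, hqq,
    isEtaleNhd_trans p p' _ hR (isEtaleNhd_away f ⟨_, hpp⟩ p' hpc),
    isEtaleNhd_trans q q' _ hS (isEtaleNhd_away (algebraMap R' S' f) ⟨_, hqq⟩ q' hqc), ⟨?_⟩, hproj₁⟩
  refine (map_comap_away f _ p' ?_).symm
  rw [Ideal.comap_comap, ← IsScalarTower.algebraMap_eq, IsScalarTower.algebraMap_eq R' S' S₁, ← Ideal.comap_comap, hqc]
  exact hq'p.over.symm

/-- Projectivity of an algebra seen through isomorphisms of rings. -/
theorem projective_of_square {A B A' B' : Type u} [CommRing A] [CommRing B] [CommRing A'] [CommRing B']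
    (φ : A →+* B) (ψ : A' →+* B') (eA : A ≃+* A') (eB : B ≃+* B') (h : ∀ a, eB (φ a) = ψ (eA a))
    (hp : @Module.Projective A _ B _ φ.toAlgebra.toModule) : @Module.Projective A' _ B' _ ψ.toAlgebra.toModule := by
  letI := φ.toAlgebra
  letI := ψ.toAlgebra
  letI : RingHomInvPair (eA : A →+* A') (eA.symm : A' →+* A) := RingHomInvPair.of_ringEquiv eA
  letI : RingHomInvPair (eA.symm : A' →+* A) (eA : A →+* A') := RingHomInvPair.of_ringEquiv eA.symm
  let l : B ≃ₛₗ[(eA : A →+* A')] B' :=
    { eB.toAddEquiv with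
      map_smul' := fun a x => by
        show eB (φ a * x) = ψ (eA a) * eB x
        rw [map_mul, h] }
  exact Module.Projective.of_equiv l

end Groth.Agent.H4RG
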