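import Mathlib.RingTheory.Etale.Kaehler
import Mathlib.RingTheory.Smooth.Basic
import Mathlib.RingTheory.Unramified.Basic
import Mathlib.Algebra.MvPolynomial.PDeriv
import Mathlib.RingTheory.Finiteness.Basic

/-! Relations between the Jacobian matrix and a presentation, where a localization is etale. -/

universe u

open MvPolynomial KaehlerDifferential

namespace Groth.Agent.H4RG

variable {A : Type u} [CommRing A]

theorem aeval_sub_mem_span {S : Type u} [CommRing S] [Algebra A S] {n : ℕ} (x d : Fin n → S)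
    (g : MvPolynomial (Fin n) A) :
    aeval (x + d) g - aeval x g ∈ Ideal.span (Set.range d) := by
  induction g using MvPolynomial.induction_on with
  | C r => simp
  | add p q hp hq =>
    rw [map_add, map_add, add_sub_add_comm]
    exact Ideal.add_mem _ hp hq
  | mul_X p i hp =>
    rw [map_mul, map_mul, aeval_X, aeval_X, Pi.add_apply, mul_add, add_sub_right_comm, ← sub_mul]
    exact Ideal.add_mem _ (Ideal.mul_mem_right _ _ hp)
      (Ideal.mul_mem_left _ _ (Ideal.subset_span ⟨i, rfl⟩))

/-- Taylor's formula to the first order. -/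
theorem taylor_mem_sq {S : Type u} [CommRing S] [Algebra A S] {n : ℕ} (x d : Fin n → S)
    (g : MvPolynomial (Fin n) A) :
    aeval (x + d) g - aeval x g - ∑ j, aeval x (pderiv j g) * d j ∈ Ideal.span (Set.range d) ^ 2 := by
  classical
  induction g using MvPolynomial.induction_on with
  | C r => simp
  | add p q hp hq =>
    have e : aeval (x + d) (p + q) - aeval x (p + q) - ∑ j, aeval x (pderiv j (p + q)) * d j =
        (aeval (x + d) p - aeval x p - ∑ j, aeval x (pderiv j p) * d j) +
        (aeval (x + d) q - aeval x q - ∑ j, aeval x (pderiv j q) * d j) := by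
      simp only [map_add, add_mul, Finset.sum_add_distrib]
      ring
    rw [e]
    exact Ideal.add_mem _ hp hq
  | mul_X p i hp =>
    have e : aeval (x + d) (p * X i) - aeval x (p * X i) - ∑ j, aeval x (pderiv j (p * X i)) * d j =
        (aeval (x + d) p - aeval x p - ∑ j, aeval x (pderiv j p) * d j) * x i +
        (aeval (x + d) p - aeval x p) * d i := by
      have h1 : ∀ j, aeval x (pderiv j (p * X i)) * d j =
          aeval x (pderiv j p) * d j * x i + (if j = i then aeval x p * d j else 0) := by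
        intro j
        rw [Derivation.leibniz, pderiv_X, smul_eq_mul, smul_eq_mul, map_add, map_mul, map_mul, aeval_X]
        by_cases h : j = i
        · subst h; simp only [Pi.single_eq_same, map_one, if_true]; ring
        · simp only [Pi.single_eq_of_ne' h, map_zero, if_neg h]; ring
      simp only [map_mul, aeval_X, Pi.add_apply, Finset.sum_congr rfl fun j _ => h1 j, Finset.sum_add_distrib,
        Finset.sum_ite_eq', Finset.mem_univ, if_true, ← Finset.sum_mul]
      ring
    rw [e]
    refine Ideal.add_mem _ (Ideal.mul_mem_right _ _ hp) ?_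
    rw [pow_two]
    exact Ideal.mul_mem_mul (aeval_sub_mem_span x d p) (Ideal.subset_span ⟨i, rfl⟩)

theorem exists_pow_kaehler {B : Type u} [CommRing B] [Algebra A B] [Algebra.FiniteType A B] (a : A)
    [Algebra.Etale A (Localization.Away (algebraMap A B a))] :
    ∃ k : ℕ, ∀ ω : Ω[B⁄A], algebraMap A B a ^ k • ω = 0 := by
  classical
  let b := algebraMap A B a
  have hloc : ∀ ω : Ω[B⁄A], ∃ k : ℕ, b ^ k • ω = 0 := fun ω => by
    have h1 : KaehlerDifferential.map A A B (Localization.Away b) ω =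
        KaehlerDifferential.map A A B (Localization.Away b) 0 := Subsingleton.elim _ _
    obtain ⟨⟨_, k, rfl⟩, hk⟩ := (IsLocalizedModule.eq_iff_exists (Submonoid.powers b) _).1 h1
    exact ⟨k, by simpa [Submonoid.smul_def] using hk⟩
  choose k hk using hloc
  obtain ⟨s, hs⟩ := (Module.Finite.fg_top : (⊤ : Submodule B Ω[B⁄A]).FG)
  refine ⟨s.sup k, fun ω => ?_⟩
  have hω : ω ∈ Submodule.span B (s : Set Ω[B⁄A]) := hs ▸ Submodule.mem_top
  induction hω using Submodule.span_induction with
  | mem w hw =>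
    obtain ⟨e, he⟩ := Nat.exists_eq_add_of_le (Finset.le_sup (f := k) hw)
    rw [he, add_comm, pow_add, mul_smul, hk, smul_zero]
  | zero => simp
  | add x y _ _ hx hy => rw [smul_add, hx, hy, add_zero]
  | smul c x _ hx => rw [smul_comm, hx, smul_zero]

theorem exists_smooth_rel {n m : ℕ} {B : Type u} [CommRing B] [Algebra A B]
    (φ : MvPolynomial (Fin n) A →ₐ[A] B) (hφ : Function.Surjective φ)
    (f : Fin m → MvPolynomial (Fin n) A) (hker : RingHom.ker φ = Ideal.span (Set.range f)) (a : A)
    [Algebra.Etale A (Localization.Away (algebraMap A B a))] :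
    ∃ (k : ℕ) (H : Fin n → Fin m → MvPolynomial (Fin n) A), ∀ l,
      C a ^ k * f l - ∑ j, pderiv j (f l) * ∑ p, H j p * f p ∈ Ideal.span (Set.range f) ^ 2 := by
  classical
  let P := MvPolynomial (Fin n) A
  let K : Ideal P := Ideal.span (Set.range f)
  let Q := P ⧸ K ^ 2
  let a' : Q := Ideal.Quotient.mk (K ^ 2) (C a)
  let Qa := Localization.Away a'
  let π : P →ₐ[A] Qa := (IsScalarTower.toAlgHom A Q Qa).comp (Ideal.Quotient.mkₐ A (K ^ 2))
  let I : Ideal Qa := K.map π
  have hIK : ∀ g ∈ K, Ideal.Quotient.mkₐ A I (π g) = 0 := fun g hg =>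
    Ideal.Quotient.eq_zero_iff_mem.2 (Ideal.mem_map_of_mem _ hg)
  have hI : I ^ 2 = ⊥ := by
    rw [← Ideal.map_pow, eq_bot_iff, Ideal.map_le_iff_le_comap]
    intro g hg
    rw [Ideal.mem_comap, Ideal.mem_bot]
    show algebraMap Q Qa (Ideal.Quotient.mk (K ^ 2) g) = 0
    rw [Ideal.Quotient.eq_zero_iff_mem.2 hg, map_zero]
  let eB : (P ⧸ RingHom.ker φ) ≃ₐ[A] B := Ideal.quotientKerAlgEquivOfSurjective hφ
  let g0 : B →ₐ[A] Qa ⧸ I :=
    (Ideal.Quotient.liftₐ (RingHom.ker φ) ((Ideal.Quotient.mkₐ A I).comp π)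
      (fun g hg => hIK g (show g ∈ Ideal.span (Set.range f) from hker ▸ hg))).comp eB.symm.toAlgHom
  have hg0 : ∀ g, g0 (φ g) = Ideal.Quotient.mkₐ A I (π g) := fun g => by
    have : eB.symm (φ g) = Ideal.Quotient.mk _ g := by
      apply eB.injective
      rw [AlgEquiv.apply_symm_apply]
      rfl
    simp only [g0, AlgHom.comp_apply, AlgEquiv.toAlgHom_eq_coe, AlgHom.coe_coe]
    erw [this]
    rfl
  have hunit : IsUnit (g0 (algebraMap A B a)) := by
    rw [← φ.commutes, hg0]
    exact ((IsLocalization.Away.algebraMap_isUnit a' : IsUnit (algebraMap Q Qa a'))).map (Ideal.Quotient.mk I)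
  let g1 : Localization.Away (algebraMap A B a) →ₐ[A] Qa ⧸ I :=
    IsLocalization.liftAlgHom (M := Submonoid.powers (algebraMap A B a)) (f := g0) fun y => by
      obtain ⟨_, j, rfl⟩ := y
      show IsUnit (g0 (algebraMap A B a ^ j))
      rw [map_pow]
      exact hunit.pow j
  obtain ⟨σ, hσ⟩ := Algebra.FormallySmooth.exists_lift I ⟨2, hI⟩ g1
  let τ : P →ₐ[A] Qa := σ.comp ((IsScalarTower.toAlgHom A B _).comp φ)
  have hτ : ∀ g, π g - τ g ∈ I := fun g => by
    rw [← Ideal.Quotient.eq]
    show _ = Ideal.Quotient.mkₐ A I (σ (algebraMap B _ (φ g)))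
    rw [← AlgHom.comp_apply, hσ]
    exact ((IsLocalization.lift_eq _ (φ g)).trans (hg0 g)).symm
  let d : Fin n → Qa := fun i => π (X i) - τ (X i)
  have hd : ∀ i, ∃ u ∈ K, ∃ e : ℕ, π (C a) ^ e * d i = π u := by
    intro i
    have h1 : d i ∈ (K.map (Ideal.Quotient.mk (K ^ 2))).map (algebraMap Q Qa) := by
      rw [Ideal.map_map]
      exact hτ (X i)
    obtain ⟨⟨⟨q, hq⟩, ⟨_, e, rfl⟩⟩, he⟩ := (IsLocalization.mem_map_algebraMap_iff (Submonoid.powers a') Qa).1 h1
    obtain ⟨u, hu, rfl⟩ := (Ideal.mem_map_iff_of_surjective _ Ideal.Quotient.mk_surjective).1 hq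
    refine ⟨u, hu, e, ?_⟩
    change d i * algebraMap Q Qa (a' ^ e) = π u at he
    rw [← he, map_pow, mul_comm]
    rfl
  choose u hu e he using hd
  let E := ∑ i, e i
  have hHex : ∀ j, ∃ c : Fin m → P, ∑ p, c p * f p = C a ^ (E - e j) * u j := fun j =>
    (Submodule.mem_span_range_iff_exists_fun P).1 (K.mul_mem_left _ (hu j))
  choose H hH using hHex
  have hdE : ∀ j, π (∑ p, H j p * f p) = π (C a) ^ E * d j := fun j => by
    rw [hH, map_mul, map_pow, ← he j, ← mul_assoc, ← pow_add,
      Nat.sub_add_cancel (Finset.single_le_sum (fun i _ => Nat.zero_le (e i)) (Finset.mem_univ j))]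
  have hzero : ∀ l, π (C a ^ E * f l - ∑ j, pderiv j (f l) * ∑ p, H j p * f p) = 0 := by
    intro l
    have ht := taylor_mem_sq (fun i => π (X i)) (-d) (f l)
    have h2 : Ideal.span (Set.range (-d)) ^ 2 ≤ (⊥ : Ideal Qa) := by
      rw [← hI]
      refine Ideal.pow_right_mono (Ideal.span_le.2 ?_) 2
      rintro _ ⟨i, rfl⟩
      exact I.neg_mem (hτ (X i))
    have h3 := Ideal.mem_bot.1 (h2 ht)
    have hx : (fun i => π (X i)) + -d = fun i => τ (X i) := funext fun i => by simp [d]
    have hτe : ∀ g, aeval (fun i => τ (X i)) g = τ g := fun g => (DFunLike.congr_fun (aeval_unique τ) g).symm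
    have hπe : ∀ g, aeval (fun i => π (X i)) g = π g := fun g => (DFunLike.congr_fun (aeval_unique π) g).symm
    simp only [hx, hτe, hπe] at h3
    have hτ0 : τ (f l) = 0 := by
      have : φ (f l) = 0 := RingHom.mem_ker.1 (hker.symm ▸ Ideal.subset_span ⟨l, rfl⟩)
      show σ (algebraMap B _ (φ (f l))) = 0
      rw [this, map_zero, map_zero]
    rw [hτ0] at h3
    simp only [map_sub, map_mul, map_pow, map_sum, Pi.neg_apply, mul_neg, Finset.sum_neg_distrib,
      zero_sub, sub_neg_eq_add] at h3 ⊢
    have hdE' : ∀ j, ∑ p, π (H j p) * π (f p) = π (C a) ^ E * d j := fun j => by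
      rw [← hdE j, map_sum]
      simp only [map_mul]
    simp only [hdE', ← mul_left_comm (π (C a) ^ E), ← Finset.mul_sum]
    rw [show (∑ x, π (pderiv x (f l)) * -d x) = -∑ x, π (pderiv x (f l)) * d x by
      rw [← Finset.sum_neg_distrib]; exact Finset.sum_congr rfl fun x _ => mul_neg _ _] at h3
    linear_combination (-(π (C a) ^ E)) * h3
  have hK2 : ∀ l, ∃ e' : ℕ,
      C a ^ e' * (C a ^ E * f l - ∑ j, pderiv j (f l) * ∑ p, H j p * f p) ∈ K ^ 2 := fun l => by
    have h1 : algebraMap Q Qa (Ideal.Quotient.mk (K ^ 2)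
        (C a ^ E * f l - ∑ j, pderiv j (f l) * ∑ p, H j p * f p)) = 0 := hzero l
    obtain ⟨⟨_, e', rfl⟩, he'⟩ := (IsLocalization.map_eq_zero_iff (Submonoid.powers a') Qa _).1 h1
    exact ⟨e', Ideal.Quotient.eq_zero_iff_mem.1 (by rw [map_mul, map_pow]; exact he')⟩
  choose e' he' using hK2
  let E' := ∑ l, e' l
  refine ⟨E' + E, fun j p => C a ^ E' * H j p, fun l => ?_⟩
  obtain ⟨c, hc⟩ := Nat.exists_eq_add_of_le (Finset.single_le_sum (fun i _ => Nat.zero_le (e' i)) (Finset.mem_univ l))
  have : C a ^ (E' + E) * f l - ∑ j, pderiv j (f l) * ∑ p, C a ^ E' * H j p * f p =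
      C a ^ c * (C a ^ e' l * (C a ^ E * f l - ∑ j, pderiv j (f l) * ∑ p, H j p * f p)) := by
    rw [← mul_assoc (C a ^ c), ← pow_add, add_comm c, ← hc, pow_add, mul_sub, mul_assoc, Finset.mul_sum]
    congr 1
    refine Finset.sum_congr rfl fun j _ => ?_
    simp only [Finset.mul_sum]
    exact Finset.sum_congr rfl fun p _ => by ring
  rw [this]
  exact Ideal.mul_mem_left _ _ (he' l)

theorem mem_of_mem_sq {n : ℕ} (K : Ideal (MvPolynomial (Fin n) A)) (i : Fin n)
    {g : MvPolynomial (Fin n) A} (hg : g ∈ K ^ 2) : pderiv i g ∈ K := by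
  rw [pow_two] at hg
  refine Submodule.mul_induction_on hg (fun p hp q hq => ?_) (fun x y hx hy => ?_)
  · rw [Derivation.leibniz, smul_eq_mul, smul_eq_mul]
    exact K.add_mem (K.mul_mem_right _ hp) (K.mul_mem_right _ hq)
  · rw [map_add]
    exact K.add_mem hx hy

theorem unramified_rel {n m : ℕ} {B : Type u} [CommRing B] [Algebra A B]
    (φ : MvPolynomial (Fin n) A →ₐ[A] B) (hφ : Function.Surjective φ)
    (f : Fin m → MvPolynomial (Fin n) A) (hker : RingHom.ker φ = Ideal.span (Set.range f)) (a : A)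
    (k k' : ℕ) (H : Fin n → Fin m → MvPolynomial (Fin n) A)
    (hH : ∀ l, C a ^ k * f l - ∑ j, pderiv j (f l) * ∑ p, H j p * f p ∈ Ideal.span (Set.range f) ^ 2)
    (hk' : ∀ ω : Ω[B⁄A], algebraMap A B a ^ k' • ω = 0) (i j : Fin n) :
    C a ^ k' * ((∑ l, H i l * pderiv j (f l)) - (if i = j then C a ^ k else 0)) ∈ Ideal.span (Set.range f) := by
  classical
  let K : Ideal (MvPolynomial (Fin n) A) := Ideal.span (Set.range f)
  let J : Fin n → Fin n → MvPolynomial (Fin n) A := fun j i => ∑ l, H j l * pderiv i (f l)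
  change C a ^ k' * (J i j - (if i = j then C a ^ k else 0)) ∈ K
  let D0 : Derivation A (MvPolynomial (Fin n) A) (MvPolynomial (Fin n) A) :=
    ∑ i', J i' j • pderiv (R := A) i' - (C a : MvPolynomial (Fin n) A) ^ k • pderiv (R := A) j
  have hD : ∀ g, D0 g = ∑ i', J i' j * pderiv i' g - C a ^ k * pderiv j g := fun g => by
    have hs : ∀ s : Finset (Fin n), (∑ i' ∈ s, J i' j • pderiv (R := A) i') g = ∑ i' ∈ s, J i' j * pderiv i' g := by
      intro s
      induction s using Finset.induction_on with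
      | empty => simp
      | insert x s hx ih => rw [Finset.sum_insert hx, Finset.sum_insert hx, Derivation.add_apply, ih]; rfl
    simp [D0, hs]
  have hDf : ∀ l, D0 (f l) ∈ K := fun l => by
    have h2 := mem_of_mem_sq K j (hH l)
    have h3 : pderiv j (C a ^ k * f l - ∑ i', pderiv i' (f l) * ∑ p, H i' p * f p) + D0 (f l) ∈ K := by
      have e : pderiv j (C a ^ k * f l - ∑ i', pderiv i' (f l) * ∑ p, H i' p * f p) + D0 (f l) =
          - ∑ i', ((pderiv j (pderiv i' (f l))) * (∑ p, H i' p * f p) +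
            pderiv i' (f l) * ∑ p, pderiv j (H i' p) * f p) := by
        rw [hD]
        simp only [map_sub, map_sum, Derivation.leibniz, smul_eq_mul, Derivation.leibniz_pow, pderiv_C,
          mul_zero, smul_zero, add_zero, Finset.sum_add_distrib, J, Finset.sum_mul,
          Finset.mul_sum, mul_add]
        have e1 : ∀ x : Fin n, ∑ y, H x y * pderiv j (f y) * pderiv x (f l) =
            ∑ y, pderiv x (f l) * (H x y * pderiv j (f y)) := fun x =>
          Finset.sum_congr rfl fun y _ => by ring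
        simp only [e1]
        ring_nf
        simp only [mul_comm, mul_left_comm, mul_assoc]
        abel
      rw [e]
      exact K.neg_mem (K.sum_mem fun i' _ => K.add_mem
        (K.mul_mem_left _ (K.sum_mem fun p _ => K.mul_mem_left _ (Ideal.subset_span ⟨p, rfl⟩)))
        (K.mul_mem_left _ (K.sum_mem fun p _ => K.mul_mem_left _ (Ideal.subset_span ⟨p, rfl⟩))))
    exact (K.add_mem_iff_right h2).1 h3
  have hD0 : ∀ g, φ g = 0 → φ (D0 g) = 0 := fun g hg => by
    rw [← RingHom.mem_ker, hker] at hg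
    show φ (D0 g) = 0
    rw [← RingHom.mem_ker, hker]
    induction hg using Submodule.span_induction with
    | mem w hw => obtain ⟨l, rfl⟩ := hw; exact hDf l
    | zero => rw [map_zero]; exact zero_mem _
    | add x y _ _ hx hy => rw [map_add]; exact add_mem hx hy
    | smul c x hxK hx =>
      rw [smul_eq_mul, Derivation.leibniz, smul_eq_mul, smul_eq_mul]
      exact K.add_mem (K.mul_mem_left _ hx) (K.mul_mem_right _ hxK)
  let δ := Derivation.liftOfSurjective hφ hD0
  have h4 : algebraMap A B a ^ k' * δ (φ (X i)) = 0 := by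
    rw [← Derivation.liftKaehlerDifferential_comp_D δ, ← smul_eq_mul, ← map_smul, hk', map_zero]
  rw [Derivation.liftOfSurjective_apply, hD] at h4
  have h5 : φ (C a ^ k' * (J i j - if i = j then C a ^ k else 0)) = 0 := by
    rw [map_mul, map_pow, show φ (C a) = algebraMap A B a from φ.commutes a]
    refine Eq.trans ?_ h4
    congr 2
    simp [pderiv_X, Pi.single_apply, mul_ite, eq_comm]
  show _ ∈ Ideal.span _
  rw [← hker, RingHom.mem_ker]
  exact h5

/-- The two identities of the Jacobian at a localization where the algebra is etale. -/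
theorem exists_etale_rel {n m : ℕ} {B : Type u} [CommRing B] [Algebra A B]
    (φ : MvPolynomial (Fin n) A →ₐ[A] B) (hφ : Function.Surjective φ)
    (f : Fin m → MvPolynomial (Fin n) A) (hker : RingHom.ker φ = Ideal.span (Set.range f)) (a : A)
    [Algebra.Etale A (Localization.Away (algebraMap A B a))] :
    ∃ (k : ℕ) (H : Fin n → Fin m → MvPolynomial (Fin n) A), 1 ≤ k ∧
      (∀ i j, ∑ l, H i l * pderiv j (f l) - (if i = j then C a ^ k else 0) ∈ Ideal.span (Set.range f)) ∧
      ∀ l, C a ^ k * f l - ∑ j, pderiv j (f l) * ∑ p, H j p * f p ∈ Ideal.span (Set.range f) ^ 2 := by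
  classical
  haveI : Algebra.FiniteType A B := Algebra.FiniteType.of_surjective φ hφ
  obtain ⟨k, H, hH⟩ := exists_smooth_rel φ hφ f hker a
  obtain ⟨k', hk'⟩ := exists_pow_kaehler (A := A) (B := B) a
  let K : Ideal (MvPolynomial (Fin n) A) := Ideal.span (Set.range f)
  let J : Fin n → Fin n → MvPolynomial (Fin n) A := fun j i => ∑ l, H j l * pderiv i (f l)
  have h1 := unramified_rel φ hφ f hker a k k' H hH hk'
  refine ⟨k' + k + 1, fun j p => C a ^ (k' + 1) * H j p, by omega, fun i j => ?_, fun l => ?_⟩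
  · have : ∑ l, C a ^ (k' + 1) * H i l * pderiv j (f l) - (if i = j then C a ^ (k' + k + 1) else 0) =
        C a * (C a ^ k' * (J i j - (if i = j then C a ^ k else 0))) := by
      simp only [J, mul_sub, Finset.mul_sum, mul_ite, mul_zero]
      congr 1
      · exact Finset.sum_congr rfl fun l _ => by ring
      · split_ifs <;> ring
    rw [this]
    exact K.mul_mem_left _ (h1 i j)
  · have : C a ^ (k' + k + 1) * f l - ∑ j, pderiv j (f l) * ∑ p, C a ^ (k' + 1) * H j p * f p =
        C a ^ (k' + 1) * (C a ^ k * f l - ∑ j, pderiv j (f l) * ∑ p, H j p * f p) := by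
      simp only [mul_sub, Finset.mul_sum]
      congr 1
      · ring
      · exact Finset.sum_congr rfl fun j _ => Finset.sum_congr rfl fun p _ => by ring
    rw [this]
    exact Ideal.mul_mem_left _ _ (hH l)

end Groth.Agent.H4RG
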