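import Groth.Prelude
import Groth.Agent.H4RG.UISpread
import Groth.Agent.H4RG.GoodSpread
import Groth.Agent.CAlgUI.Projective
import Mathlib

/-!
# Stages of the base: change of coefficients, torsion on a fibre, detection on products
-/

set_option autoImplicit false
set_option linter.style.haveILetI false
set_option backward.isDefEq.respectTransparency.types false

universe u

open TensorProduct

namespace Groth.Agent.H4RG

attribute [local instance] Algebra.TensorProduct.rightAlgebra

section coeff

variable {A R' S : Type u} [CommRing A] [CommRing R'] [CommRing S] [Algebra A R'] [Algebra A S]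
  (N1 : Type u) [AddCommGroup N1] [Module S N1] [Module A N1] [IsScalarTower A S N1]
  (X : Type u) [AddCommGroup X] [Module R' X] [Module A X] [IsScalarTower A R' X]

/-- Coefficients over a stage are coefficients over the base. -/
theorem exists_stage_coeff_equiv : ∃ Φ : ((R' ⊗[A] S) ⊗[S] N1) ⊗[R'] X ≃ₗ[A] N1 ⊗[A] X,
    (∀ (n : N1) (x : X), Φ (((1 : R' ⊗[A] S) ⊗ₜ[S] n) ⊗ₜ[R'] x) = n ⊗ₜ[A] x) ∧
    (∀ (s : S) (z : ((R' ⊗[A] S) ⊗[S] N1) ⊗[R'] X), Φ (((1 : R') ⊗ₜ[A] s : R' ⊗[A] S) • z) = s • Φ z) ∧
    (∀ (r : R') (z : ((R' ⊗[A] S) ⊗[S] N1) ⊗[R'] X),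
      Φ (r • z) = (DistribSMul.toLinearMap A X r).lTensor N1 (Φ z)) := by
  let SA := R' ⊗[A] S
  let L2 := SA ⊗[S] N1
  let e := Algebra.IsPushout.cancelBaseChange A R' S SA N1
  let Φ : L2 ⊗[R'] X ≃ₗ[A] N1 ⊗[A] X :=
    ((((TensorProduct.comm R' L2 X).trans (AlgebraTensorModule.congr (LinearEquiv.refl R' X) e)).trans
      (AlgebraTensorModule.cancelBaseChange A R' R' X N1)).restrictScalars A).trans (TensorProduct.comm A X N1)
  have he : ∀ n, e ((1 : SA) ⊗ₜ[S] n) = (1 : R') ⊗ₜ[A] n := fun n => by
    apply e.symm.injective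
    rw [LinearEquiv.symm_apply_apply, Algebra.IsPushout.cancelBaseChange_symm_tmul, map_one]
  have hΦ : ∀ (n : N1) (x : X), Φ (((1 : SA) ⊗ₜ[S] n) ⊗ₜ[R'] x) = n ⊗ₜ[A] x := fun n x => by simp [Φ, he]
  have hgen : ∀ (r : R') (s : S) (n : N1) (x : X),
      Φ ((((r ⊗ₜ[A] s : SA)) ⊗ₜ[S] n) ⊗ₜ[R'] x) = (s • n) ⊗ₜ[A] (r • x) := fun r s n x => by
    have h1 : ((r ⊗ₜ[A] s : SA) ⊗ₜ[S] n : L2) = r • ((1 : SA) ⊗ₜ[S] (s • n)) := by
      rw [tmul_smul, smul_tmul', smul_tmul']
      congr 1
      simp [Algebra.smul_def, Algebra.TensorProduct.right_algebraMap_apply, SA]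
    rw [h1, smul_tmul, hΦ]
  refine ⟨Φ, hΦ, fun s z => ?_, fun r z => ?_⟩
  · induction z using TensorProduct.induction_on with
    | zero => simp
    | add a b ha hb => simp only [smul_add, map_add, ha, hb]
    | tmul l x =>
      induction l using TensorProduct.induction_on with
      | zero => simp
      | add a b ha hb => simp only [add_tmul, smul_add, map_add, ha, hb]
      | tmul q n =>
        induction q using TensorProduct.induction_on with
        | zero => simp
        | add a b ha hb => simp only [add_tmul, smul_add, map_add, ha, hb]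
        | tmul r s' =>
          rw [smul_tmul', smul_tmul', smul_eq_mul, Algebra.TensorProduct.tmul_mul_tmul, one_mul, hgen, hgen,
            smul_tmul', smul_smul]
  · induction z using TensorProduct.induction_on with
    | zero => simp
    | add a b ha hb => simp only [smul_add, map_add, ha, hb]
    | tmul l x =>
      induction l using TensorProduct.induction_on with
      | zero => simp
      | add a b ha hb => simp only [add_tmul, smul_add, map_add, ha, hb]
      | tmul q n =>
        induction q using TensorProduct.induction_on with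
        | zero => simp
        | add a b ha hb => simp only [add_tmul, smul_add, map_add, ha, hb]
        | tmul r' s' =>
          rw [← tmul_smul r, hgen, hgen, LinearMap.lTensor_tmul, DistribSMul.toLinearMap_apply, smul_comm r' r]

end coeff

/-- The torsion of a fibre away from a prime is killed by one function off the prime. -/
theorem exists_kill_fibre_torsion {A E : Type u} [CommRing A] [CommRing E] [Algebra A E] [Algebra.FiniteType A E]
    (P : Ideal E) [P.IsPrime] (N0 : Type u) [AddCommGroup N0] [Module E N0] [Module A N0] [IsScalarTower A E N0]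
    [Module.Finite E N0] (K : Type u) [Field K] [Algebra A K] :
    ∃ s0 ∉ P, ∀ (e : E) (y : N0 ⊗[A] K), e ∉ P → e • y = 0 → s0 • y = 0 := by
  classical
  haveI : IsNoetherianRing (K ⊗[A] E) := Algebra.FiniteType.isNoetherianRing K _
  let NK := (K ⊗[A] E) ⊗[E] N0
  let Tor : Submodule (K ⊗[A] E) NK :=
    { carrier := {z | ∃ s ∉ P, algebraMap E (K ⊗[A] E) s • z = 0}
      add_mem' := by
        rintro a b ⟨s, hs, ha⟩ ⟨t, ht, hb⟩
        exact ⟨s * t, fun h => (‹P.IsPrime›.mem_or_mem h).elim hs ht, by
          rw [smul_add, map_mul, mul_smul, mul_smul, hb, smul_zero, add_zero, smul_comm, ha, smul_zero]⟩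
      zero_mem' := ⟨1, fun h => ‹P.IsPrime›.ne_top ((Ideal.eq_top_iff_one P).2 h), smul_zero _⟩
      smul_mem' := by
        rintro r z ⟨s, hs, hz⟩
        exact ⟨s, hs, by rw [smul_comm, hz, smul_zero]⟩ }
  haveI : IsNoetherian (K ⊗[A] E) NK := inferInstance
  obtain ⟨G, hG⟩ := IsNoetherian.noetherian Tor
  have hGs : ∀ z ∈ G, ∃ s ∉ P, algebraMap E (K ⊗[A] E) s • z = 0 := fun z hz => hG.le (Submodule.subset_span hz)
  choose! sf hsfW hsf using hGs
  refine ⟨∏ z ∈ G, sf z, fun h => ?_, fun e y he hy => ?_⟩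
  · obtain ⟨z, hz, hzP⟩ := ‹P.IsPrime›.prod_mem_iff.1 h
    exact hsfW z hz hzP
  let Ψ : N0 ⊗[A] K ≃ₗ[A] NK :=
    (TensorProduct.comm A N0 K).trans ((Algebra.IsPushout.cancelBaseChange A K E (K ⊗[A] E) N0).symm.restrictScalars A)
  have hΨ : ∀ (x : E) w, Ψ (x • w) = algebraMap E (K ⊗[A] E) x • Ψ w := fun x w => by
    induction w using TensorProduct.induction_on with
    | zero => simp
    | add a b ha hb => simp only [smul_add, map_add, ha, hb]
    | tmul n k =>
      have hk : ∀ n', Ψ (n' ⊗ₜ[A] k) = algebraMap K (K ⊗[A] E) k ⊗ₜ[E] n' := fun n' => by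
        simp [Ψ, Algebra.IsPushout.cancelBaseChange_symm_tmul]
      rw [smul_tmul', hk, hk, algebraMap_smul, ← tmul_smul]
  apply Ψ.injective
  rw [hΨ, map_zero]
  have hmem : Ψ y ∈ Tor := ⟨e, he, by rw [← hΨ, hy, map_zero]⟩
  rw [← hG] at hmem
  generalize Ψ y = z at hmem ⊢
  induction hmem using Submodule.span_induction with
  | mem z hz => rw [← Finset.prod_erase_mul _ _ hz, map_mul, mul_smul, hsf z hz, smul_zero]
  | zero => exact smul_zero _
  | add a b _ _ ha hb => rw [smul_add, ha, hb, add_zero]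
  | smul r a _ ha => rw [smul_comm, ha, smul_zero]

/-- A function acting as the identity off which the module vanishes. -/
theorem smul_eq_self_of_kill {SA M : Type u} [CommRing SA] [AddCommMonoid M] [Module SA M] (t : SA) (z : M)
    (h : (t - 1) • z = 0) (j : ℕ) : t ^ j • z = z := by
  replace h : t • z = z := by
    conv_lhs => rw [← sub_add_cancel t 1, add_smul, h, one_smul, zero_add]
  induction j with
  | zero => rw [pow_zero, one_smul]
  | succ j ih => rw [pow_succ, mul_smul, h, ih]

/-- An element of a projective module is zero when all its images are killed by endomorphisms injective there. -/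
theorem eq_zero_of_projective_detect {R' A' : Type u} [CommRing R'] [CommRing A'] [Algebra R' A'] {Pm : Type u}
    [AddCommGroup Pm] [Module R' Pm] [Module.Projective R' Pm] (Q : Type u) [AddCommGroup Q] [Module A' Q] [Module R' Q]
    [IsScalarTower R' A' Q] (w : Pm ⊗[R'] Q)
    (hw : ∀ Y : Submodule A' Q, Y ≠ ⊥ → (Y.mkQ.restrictScalars R').lTensor Pm w = 0)
    (hC : (⨅ Y : {Y : Submodule A' Q // Y ≠ ⊥}, Y.1) = ⊥) : w = 0 := by
  have hml := CAlgUI.ml_of_projective (R := R') (M := Pm)
  let e : Q →ₗ[R'] ∀ Y : {Y : Submodule A' Q // Y ≠ ⊥}, Q ⧸ Y.1 :=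
    LinearMap.pi fun Y => Y.1.mkQ.restrictScalars R'
  have he : Function.Injective e := by
    rw [← LinearMap.ker_eq_bot, Submodule.eq_bot_iff]
    intro x hx
    have h1 : x ∈ ⨅ Y : {Y : Submodule A' Q // Y ≠ ⊥}, Y.1 := (Submodule.mem_iInf _).2 fun Y =>
      (Submodule.Quotient.mk_eq_zero _).1 (congrFun hx Y)
    rwa [hC, Submodule.mem_bot] at h1
  refine Module.Flat.lTensor_preserves_injective_linearMap (M := Pm) e he ?_
  rw [map_zero]
  refine CAlgUI.ml_iff.1 hml _ _ _ fun Y => ?_
  have hc : ∀ z, TensorProduct.piRightHom R' R' Pm (fun Y : {Y : Submodule A' Q // Y ≠ ⊥} => Q ⧸ Y.1)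
      (e.lTensor Pm z) Y = (Y.1.mkQ.restrictScalars R').lTensor Pm z := fun z => by
    induction z using TensorProduct.induction_on with
    | zero => simp
    | add a b ha hb => simp only [map_add, Pi.add_apply, ha, hb]
    | tmul n x => simp [e]
  rw [hc]
  exact hw Y.1 Y.2

/-- An endomorphism of a projective stage injective at the point is injective on modules over the local ring there. -/
theorem eq_zero_of_endo {R' A' : Type u} [CommRing R'] [CommRing A'] [Algebra R' A'] (K : Type u) [Field K] [Algebra R' K]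
    (hK : FracPoint R' K) (hunit : ∀ r : R', algebraMap R' K r ≠ 0 → IsUnit (algebraMap R' A' r))
    {Pm : Type u} [AddCommGroup Pm] [Module R' Pm] [Module.Projective R' Pm] (σ : Pm →ₗ[R'] Pm)
    (hσ : Function.Injective (σ.rTensor K)) (X : Type u) [AddCommGroup X] [Module A' X] [Module R' X]
    [IsScalarTower R' A' X] (z : Pm ⊗[R'] X) (hz : σ.rTensor X z = 0) : z = 0 := by
  obtain ⟨r, hr, hrz⟩ := exists_smul_eq_zero_of_projective hK σ hσ X z hz
  have h1 : algebraMap R' A' r • (TensorProduct.comm R' Pm X z) = 0 := by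
    rw [algebraMap_smul, ← map_smul, hrz, map_zero]
  exact (TensorProduct.comm R' Pm X).map_eq_zero_iff.1 ((hunit r hr).smul_eq_zero.1 h1)

end Groth.Agent.H4RG
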