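import Groth.Prelude
import Groth.Agent.H4RG.StageCover
import Groth.Agent.H4RG.FibStage
import Groth.Agent.H4RG.FibreInjFlat
import Groth.Agent.H4RG.FlatModIdeal
import Mathlib

/-!
# Injectivity on fibres spreads out along chains of primes

If a map from a flat stalk of a finitely presented module is injective on the fibre over the union of a chain of
primes, it is injective on the fibre over a member of the chain: after an etale localisation of the base the module
becomes projective near that fibre, and every denominator of the stalk acts universally injectively there.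
-/

set_option autoImplicit false
set_option linter.style.haveILetI false
set_option backward.isDefEq.respectTransparency.types false

universe u

open TensorProduct IsLocalRing

namespace Groth.Agent.H4RG

attribute [local instance] Algebra.TensorProduct.rightAlgebra

/-- A map on a flat extension of scalars tensored over it is the map tensored over the base. -/
theorem injective_baseChange_iff {A A' N M : Type u} [CommRing A] [CommRing A'] [Algebra A A'] [AddCommGroup N]
    [Module A N] [AddCommGroup M] [Module A M] (u : N →ₗ[A] M) (X : Type u) [AddCommGroup X] [Module A' X] [Module A X]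
    [IsScalarTower A A' X] :
    Function.Injective ((u.baseChange A').rTensor X) ↔ Function.Injective (u.lTensor X) := by
  let e1 : (A' ⊗[A] N) ⊗[A'] X ≃ₗ[A'] X ⊗[A] N :=
    (TensorProduct.comm A' (A' ⊗[A] N) X).trans (AlgebraTensorModule.cancelBaseChange A A' A' X N)
  let e2 : (A' ⊗[A] M) ⊗[A'] X ≃ₗ[A'] X ⊗[A] M :=
    (TensorProduct.comm A' (A' ⊗[A] M) X).trans (AlgebraTensorModule.cancelBaseChange A A' A' X M)
  have hc : ∀ z, e2 ((u.baseChange A').rTensor X z) = u.lTensor X (e1 z) := fun z => by
    induction z using TensorProduct.induction_on with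
    | zero => simp
    | add a b ha hb => simp only [map_add, ha, hb]
    | tmul m x =>
      induction m using TensorProduct.induction_on with
      | zero => simp
      | add a b ha hb => simp only [map_add, add_tmul, ha, hb]
      | tmul a n => simp [e1, e2]
  constructor
  · intro h x y hxy
    obtain ⟨x, rfl⟩ := e1.surjective x
    obtain ⟨y, rfl⟩ := e1.surjective y
    rw [← hc, ← hc] at hxy
    rw [h (e2.injective hxy)]
  · intro h x y hxy
    exact e1.injective (h (by rw [← hc, ← hc, hxy]))

/-- Injectivity on a fibre descends from a field extension. -/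
theorem injective_of_field_extension {A N M : Type u} [CommRing A] [AddCommGroup N] [Module A N] [Module.Flat A N]
    [AddCommGroup M] [Module A M] (u : N →ₗ[A] M) (K L : Type u) [Field K] [Field L] [Algebra A K] [Algebra A L]
    [Algebra K L] [IsScalarTower A K L] (h : Function.Injective (u.lTensor L)) : Function.Injective (u.lTensor K) := by
  let i : K →ₗ[A] L := (IsScalarTower.toAlgHom A K L).toLinearMap
  have hi : Function.Injective i := (algebraMap K L).injective
  have hiN : Function.Injective (i.rTensor N) := Module.Flat.rTensor_preserves_injective_linearMap i hi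
  intro x y hxy
  refine hiN (h ?_)
  rw [← LinearMap.comp_apply, ← LinearMap.comp_apply, LinearMap.lTensor_comp_rTensor, ← LinearMap.rTensor_comp_lTensor,
    LinearMap.comp_apply, LinearMap.comp_apply, hxy]

/-- Injectivity on the fibre over the union of a chain of primes gives injectivity on a fibre over a member. -/
theorem exists_fibre_injective_of_chain {A E : Type u} [CommRing A] [CommRing E] [Algebra A E]
    [Algebra.FinitePresentation A E] (P : Ideal E) [P.IsPrime]
    (N0 : Type u) [AddCommGroup N0] [Module E N0] [Module A N0] [IsScalarTower A E N0] [Module.FinitePresentation E N0]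
    [Module.Flat A (LocalizedModule P.primeCompl N0)]
    {M : Type u} [AddCommGroup M] [Module A M] [Module.Flat A M] (u : LocalizedModule P.primeCompl N0 →ₗ[A] M)
    (c : Set (Ideal A)) (hc : IsChain (· ≤ ·) c) (hne : c.Nonempty) (hcp : ∀ q ∈ c, q.IsPrime)
    (p : Ideal A) [p.IsPrime] (hp : p = sSup c) (h : Function.Injective (u.lTensor p.ResidueField)) :
    ∃ q ∈ c, ∀ (_ : q.IsPrime), Function.Injective (u.lTensor q.ResidueField) := by
  classical
  let K := p.ResidueField
  let W := P.primeCompl
  let N := LocalizedModule W N0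
  let fN : N0 →ₗ[E] N := LocalizedModule.mkLinearMap W N0
  -- a flat neighbourhood free of torsion on the fibre
  obtain ⟨s0, hs0W, hs0⟩ := exists_kill_fibre_torsion (A := A) P N0 K
  obtain ⟨g0, hg0, hflat0⟩ := FlatModel.exists_flat_nhd (R := A) N0 P inferInstance
  let g := g0 * s0
  have hgW : g ∈ W := mul_mem hg0 hs0W
  let S := Localization.Away g
  let N1 := LocalizedModule (Submonoid.powers g) N0
  let i1 : N0 →ₗ[E] N1 := LocalizedModule.mkLinearMap (Submonoid.powers g) N0
  haveI : Module.FinitePresentation S N1 :=
    inferInstanceAs (Module.FinitePresentation (Localization (Submonoid.powers g)) (LocalizedModule (Submonoid.powers g) N0))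
  haveI : Algebra.FinitePresentation E S := IsLocalization.Away.finitePresentation g
  haveI : Algebra.FinitePresentation A S := Algebra.FinitePresentation.trans A E S
  have hN1 : Module.Flat A N1 := by
    haveI := hflat0 (Submonoid.powers g0) (Submonoid.mem_powers g0)
    refine (FlatModel.flat_localized_iff (Submonoid.powers g) i1).2 fun J y hy => ?_
    obtain ⟨_, ⟨k, rfl⟩, hk⟩ := (FlatModel.flat_localized_iff (Submonoid.powers g0)
      (LocalizedModule.mkLinearMap (Submonoid.powers g0) N0)).1 inferInstance J y hy
    exact ⟨g ^ k, ⟨k, rfl⟩, by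
      show (g0 * s0) ^ k • y = 0
      rw [mul_pow, mul_comm, mul_smul, hk, smul_zero]⟩
  haveI := hN1
  have hflatS : ∀ (q : Ideal S) [q.IsPrime], q.LiesOver p → FlatCA.FlatAt A q N1 := fun q _ _ =>
    flat_localized_of_flat (R := A) (S := S) N1 q
  obtain ⟨R', _, _, _, ε, t, ht1, hproj⟩ := exists_stage_cover N1 p hflatS
  haveI := hproj
  let SA := R' ⊗[A] S
  let L2 := SA ⊗[S] N1
  let Pm := LocalizedModule (Submonoid.powers t) L2
  let ι : L2 →ₗ[SA] Pm := LocalizedModule.mkLinearMap (Submonoid.powers t) L2
  letI : AddCommGroup Pm := Module.addCommMonoidToAddCommGroup SA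
  -- the local stage
  let p' := RingHom.ker ε
  haveI : p'.IsPrime := RingHom.ker_isPrime _
  let A' := Localization.AtPrime p'
  haveI : Module.Flat A R' := inferInstance
  haveI : Module.Flat R' A' := IsLocalization.flat A' p'.primeCompl
  haveI : Module.Flat A A' := Module.Flat.trans A R' A'
  have hp'p : p'.comap (algebraMap A R') = p := by
    ext a
    rw [Ideal.mem_comap, RingHom.mem_ker, ε.commutes, Ideal.algebraMap_residueField_eq_zero]
  let Ap := Localization.AtPrime p
  letI : Algebra Ap A' := (Localization.localRingHom p p' (algebraMap A R') hp'p.symm).toAlgebra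
  haveI : IsScalarTower A Ap A' := IsScalarTower.of_algebraMap_eq fun a => by
    show _ = Localization.localRingHom p p' (algebraMap A R') hp'p.symm (algebraMap A Ap a)
    rw [Localization.localRingHom_to_map, ← IsScalarTower.algebraMap_apply]
  haveI : IsLocalHom (algebraMap Ap A') := Localization.isLocalHom_localRingHom p p' (algebraMap A R') hp'p.symm
  haveI : Algebra.FormallyUnramified A A' := Algebra.FormallyUnramified.comp A R' A'
  haveI : Algebra.FormallyUnramified Ap A' := Algebra.FormallyUnramified.of_restrictScalars A Ap A'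
  haveI : Algebra.EssFiniteType A A' := Algebra.EssFiniteType.comp A R' A'
  haveI : Algebra.EssFiniteType Ap A' := Algebra.EssFiniteType.of_comp A Ap A'
  have hmax : p.map (algebraMap A A') = maximalIdeal A' := by
    rw [← Algebra.FormallyUnramified.map_maximalIdeal (R := Ap) (S := A'), ← Localization.AtPrime.map_eq_maximalIdeal,
      Ideal.map_map, ← IsScalarTower.algebraMap_eq]
  -- a finitely generated ideal over which the cover is everything
  obtain ⟨T0, hT0, hT0m⟩ := Submodule.mem_span_finite_of_mem_span
    (show t - 1 ∈ Submodule.span SA ((algebraMap R' SA) '' (p' : Set R')) from ht1)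
  have hfin : ∀ (T : Finset A'), ↑T ⊆ (maximalIdeal A' : Set A') → ∃ q ∈ c, ↑T ⊆ (q.map (algebraMap A A') : Set A') := by
    intro T
    induction T using Finset.induction with
    | empty => exact fun _ => ⟨hne.choose, hne.choose_spec, by simp⟩
    | insert x T _ ih =>
      intro hT
      obtain ⟨q1, hq1, hT1⟩ := ih fun y hy => hT (Finset.mem_insert_of_mem hy)
      have hx : x ∈ Submodule.span A' ((algebraMap A A') '' (p : Set A)) := hmax.ge (hT (Finset.mem_insert_self _ _))
      obtain ⟨Z, hZ, hxZ⟩ := Submodule.mem_span_finite_of_mem_span hx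
      have hsub : ∀ (Z : Finset A'), ↑Z ⊆ (algebraMap A A') '' (p : Set A) → ∃ q ∈ c, ↑Z ⊆ (q.map (algebraMap A A') : Set A') := by
        intro Z
        induction Z using Finset.induction with
        | empty => exact fun _ => ⟨hne.choose, hne.choose_spec, by simp⟩
        | insert z Z _ ihZ =>
          intro hZ
          obtain ⟨q2, hq2, hZ2⟩ := ihZ fun y hy => hZ (Finset.mem_insert_of_mem hy)
          obtain ⟨a, ha, rfl⟩ := hZ (Finset.mem_insert_self _ _)
          rw [SetLike.mem_coe, hp, Submodule.mem_sSup_of_directed hne hc.directedOn] at ha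
          obtain ⟨q3, hq3, ha⟩ := ha
          obtain ⟨q, hq, h2, h3⟩ := hc.directedOn q2 hq2 q3 hq3
          refine ⟨q, hq, fun y hy => ?_⟩
          rcases Finset.mem_insert.1 hy with rfl | hy
          · exact Ideal.mem_map_of_mem _ (h3 ha)
          · exact Ideal.map_mono h2 (hZ2 hy)
      obtain ⟨q2, hq2, hZ2⟩ := hsub Z hZ
      obtain ⟨q, hq, h1, h2⟩ := hc.directedOn q1 hq1 q2 hq2
      refine ⟨q, hq, fun y hy => ?_⟩
      rcases Finset.mem_insert.1 hy with rfl | hy
      · exact Ideal.map_mono h2 (Submodule.span_le.2 hZ2 hxZ)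
      · exact Ideal.map_mono h1 (hT1 hy)
  choose! rT hrT hrT' using fun y (hy : y ∈ T0) => hT0 hy
  let T : Finset A' := T0.image fun y => algebraMap R' A' (rT y)
  obtain ⟨q, hqc, hTq⟩ := hfin T (by
    intro y hy
    obtain ⟨z, hz, rfl⟩ := Finset.mem_image.1 hy
    exact (IsLocalization.AtPrime.to_map_mem_maximal_iff A' p' _).2 (hrT z hz))
  refine ⟨q, hqc, fun _ => ?_⟩
  haveI := hcp q hqc
  haveI : (maximalIdeal A').LiesOver p := ⟨by
    rw [Ideal.under_def, IsScalarTower.algebraMap_eq A R' A', ← Ideal.comap_comap,
      show (maximalIdeal A').comap (algebraMap R' A') = p' from IsLocalization.AtPrime.under_maximalIdeal A' p', hp'p]⟩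
  obtain ⟨q', -, hq', hq'q⟩ := Ideal.exists_ideal_le_liesOver_of_le (p := q) (q := p) (maximalIdeal A')
    (hp ▸ le_sSup hqc)
  haveI := hq'
  haveI := hq'q
  let L := q'.ResidueField
  let ιq : q.ResidueField →ₐ[A] L := Ideal.ResidueField.mapₐ q q' (Algebra.ofId A A') hq'q.over
  letI : Algebra q.ResidueField L := ιq.toRingHom.toAlgebra
  haveI : IsScalarTower A q.ResidueField L := IsScalarTower.of_algebraMap_eq fun a => (ιq.commutes a).symm
  refine injective_of_field_extension u q.ResidueField L ((injective_baseChange_iff (A' := A') u L).1 ?_)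
  -- closed fibre
  let u' := u.baseChange A'
  let k := ResidueField A'
  have hunder : (maximalIdeal A').comap (algebraMap A A') = p := (Ideal.over_def (maximalIdeal A') p).symm
  have hk0 : ∀ a, algebraMap A k a = 0 ↔ a ∈ p := fun a => by
    rw [IsScalarTower.algebraMap_apply A A' k, IsLocalRing.ResidueField.algebraMap_eq, IsLocalRing.residue_eq_zero_iff,
      ← hunder, Ideal.mem_comap]
  let ιk : K →ₐ[A] k := Ideal.ResidueField.liftₐ p (Algebra.ofId A k) (fun a ha => RingHom.mem_ker.2 ((hk0 a).2 ha))
    fun a ha => isUnit_iff_ne_zero.2 fun h0 => ha ((hk0 a).1 h0)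
  letI : Algebra K k := ιk.toRingHom.toAlgebra
  haveI : IsScalarTower A K k := IsScalarTower.of_algebraMap_eq fun a => (ιk.commutes a).symm
  have hfib : Function.Injective (u'.rTensor k) :=
    (injective_baseChange_iff u k).2 (injective_field_extension u K k h)
  -- elements killed by the ideal
  let Kills : ∀ (Q : Type u) [AddCommGroup Q] [Module A' Q], (A' ⊗[A] N) ⊗[A'] Q → Prop :=
    fun Q _ _ w => ∀ a ∈ T, a • w = 0
  have hdet : ∀ (Q : Type u) [AddCommGroup Q] [Module A' Q] (w : (A' ⊗[A] N) ⊗[A'] Q), Kills Q w →
      (∀ Y : Submodule A' Q, Y ≠ ⊥ → Y.mkQ.lTensor (A' ⊗[A] N) w = 0) →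
      (⨅ Y : {Y : Submodule A' Q // Y ≠ ⊥}, Y.1) = ⊥ → w = 0 := by
    intro Q _ _ w hw hmin hC
    letI : Module A Q := Module.compHom Q (algebraMap A A')
    haveI : IsScalarTower A A' Q := IsScalarTower.of_algebraMap_smul fun _ _ => rfl
    letI : Module R' Q := Module.compHom Q (algebraMap R' A')
    haveI : IsScalarTower R' A' Q := IsScalarTower.of_algebraMap_smul fun _ _ => rfl
    haveI : IsScalarTower A R' Q := IsScalarTower.of_algebraMap_smul fun a x => by
      show algebraMap R' A' (algebraMap A R' a) • x = algebraMap A A' a • x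
      rw [← IsScalarTower.algebraMap_apply]
    let eX : ∀ (X : Type u) [AddCommGroup X] [Module A' X] [Module A X] [IsScalarTower A A' X],
        (A' ⊗[A] N) ⊗[A'] X ≃ₗ[A'] X ⊗[A] N := fun X _ _ _ _ =>
      (TensorProduct.comm A' (A' ⊗[A] N) X).trans (AlgebraTensorModule.cancelBaseChange A A' A' X N)
    -- numerators
    let jQ : ∀ (X : Type u) [AddCommGroup X] [Module A X], N0 ⊗[A] X →ₗ[E] N ⊗[A] X := fun X _ _ =>
      AlgebraTensorModule.rTensor A X fN
    let w0 : N ⊗[A] Q := TensorProduct.comm A Q N (eX Q w)
    obtain ⟨⟨v0, sv⟩, hv0⟩ := IsLocalizedModule.surj W (jQ Q) w0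
    -- killed numerators
    have hkill0 : ∀ a ∈ T, ∃ s ∈ W, s • (DistribSMul.toLinearMap A Q a).lTensor N0 v0 = 0 := by
      intro a ha
      have hc : ∀ v, jQ Q ((DistribSMul.toLinearMap A Q a).lTensor N0 v) =
          (DistribSMul.toLinearMap A Q a).lTensor N (jQ Q v) := fun v => by
        induction v using TensorProduct.induction_on with
        | zero => simp
        | add x y hx hy => simp only [map_add, hx, hy]
        | tmul n x => rfl
      have h0 : (DistribSMul.toLinearMap A Q a).lTensor N w0 = 0 := by
        have hc2 : ∀ z, (DistribSMul.toLinearMap A Q a).lTensor N (TensorProduct.comm A Q N (eX Q z)) =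
            TensorProduct.comm A Q N (eX Q (a • z)) := fun z => by
          rw [map_smul]
          generalize eX Q z = y
          induction y using TensorProduct.induction_on with
          | zero => simp
          | add x y hx hy => simp only [map_add, smul_add, hx, hy]
          | tmul x n => rw [smul_tmul']; rfl
        rw [hc2, hw a ha, map_zero, map_zero]
      obtain ⟨s, hs⟩ := (IsLocalizedModule.eq_zero_iff W (jQ Q)).1 (show jQ Q ((DistribSMul.toLinearMap A Q a).lTensor N0 v0) = 0 by
        rw [hc, ← hv0]
        exact ((AlgebraTensorModule.lTensor E N (DistribSMul.toLinearMap A Q a)).map_smul (sv : E) w0).trans (by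
          show (sv : E) • (DistribSMul.toLinearMap A Q a).lTensor N w0 = 0
          rw [h0, smul_zero]))
      exact ⟨s, s.2, hs⟩
    choose! sa hsaW hsa using hkill0
    let sP := ∏ a ∈ T, sa a
    have hsPW : sP ∈ W := prod_mem fun a ha => hsaW a ha
    let v1 := sP • v0
    have hv1 : ∀ a ∈ T, (DistribSMul.toLinearMap A Q a).lTensor N0 v1 = 0 := fun a ha => by
      refine ((AlgebraTensorModule.lTensor E N0 (DistribSMul.toLinearMap A Q a)).map_smul sP v0).trans ?_
      show (∏ b ∈ T, sa b) • (DistribSMul.toLinearMap A Q a).lTensor N0 v0 = 0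
      rw [← Finset.prod_erase_mul _ _ ha, mul_smul, hsa a ha, smul_zero]
    -- moving to the projective stage
    let iX : ∀ (X : Type u) [AddCommGroup X] [Module A X], N0 ⊗[A] X →ₗ[E] N1 ⊗[A] X := fun X _ _ =>
      AlgebraTensorModule.rTensor A X i1
    let ιX : ∀ (X : Type u) [AddCommGroup X] [Module R' X], L2 ⊗[R'] X →ₗ[SA] Pm ⊗[R'] X := fun X _ _ =>
      AlgebraTensorModule.rTensor R' X ι
    letI : Algebra R' K := ε.toRingHom.toAlgebra
    haveI : IsScalarTower A R' K := IsScalarTower.of_algebraMap_eq fun a => (ε.commutes a).symm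
    -- the denominators are injective on the fibre
    obtain ⟨ΦK, -, hΦKs, -⟩ := exists_stage_coeff_equiv (A := A) (R' := R') (S := S) N1 K
    have hkerK : ∀ z : L2 ⊗[R'] K, (t - 1) • z = 0 := fun z => by
      have hle : p'.map (algebraMap R' SA) ≤ (LinearMap.ker (LinearMap.toSpanSingleton SA _ z)) := by
        rw [Ideal.map_le_iff_le_comap]
        intro r hr
        show algebraMap R' SA r • z = 0
        rw [algebraMap_smul]
        induction z using TensorProduct.induction_on with
        | zero => simp
        | add a b ha hb => rw [smul_add, ha, hb, add_zero]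
        | tmul l x =>
          rw [← tmul_smul, Algebra.smul_def, show algebraMap R' K r = 0 from RingHom.mem_ker.1 hr, zero_mul, tmul_zero]
      exact hle ht1
    let σ : E → (Pm →ₗ[R'] Pm) := fun e =>
      (LinearMap.lsmul SA Pm ((1 : R') ⊗ₜ[A] algebraMap E S e)).restrictScalars R'
    have hσ : ∀ (X : Type u) [AddCommGroup X] [Module R' X] (e : E) (z : Pm ⊗[R'] X),
        (σ e).rTensor X z = ((1 : R') ⊗ₜ[A] algebraMap E S e : SA) • z := fun X _ _ e z => by
      induction z using TensorProduct.induction_on with
      | zero => simp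
      | add a b ha hb => simp only [smul_add, map_add, ha, hb]
      | tmul l x => rfl
    have hσK : ∀ e ∈ W, Function.Injective ((σ e).rTensor K) := by
      intro e he
      rw [injective_iff_map_eq_zero]
      intro z hz
      rw [hσ] at hz
      obtain ⟨⟨z0, tk⟩, hz0⟩ := IsLocalizedModule.surj (Submonoid.powers t) (ιX K) z
      have h1 : ιX K (((1 : R') ⊗ₜ[A] algebraMap E S e : SA) • z0) = 0 := by
        rw [map_smul, ← hz0, Submonoid.smul_def, smul_comm, hz, smul_zero]
      obtain ⟨⟨_, j, rfl⟩, hj⟩ := (IsLocalizedModule.eq_zero_iff (Submonoid.powers t) (ιX K)).1 h1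
      replace hj : (((1 : R') ⊗ₜ[A] algebraMap E S e : SA) • z0) = 0 :=
        ((smul_eq_self_of_kill (M := L2 ⊗[R'] K) t _ (hkerK _) j).symm).trans hj
      have h2 := congrArg ΦK hj
      rw [hΦKs, map_zero, algebraMap_smul] at h2
      obtain ⟨⟨y, gk⟩, hy⟩ := IsLocalizedModule.surj (Submonoid.powers g) (iX K) (ΦK z0)
      have h3 : iX K (e • y) = 0 := by
        rw [map_smul, ← hy, Submonoid.smul_def, smul_comm, h2, smul_zero]
      obtain ⟨⟨_, m, rfl⟩, hm⟩ := (IsLocalizedModule.eq_zero_iff (Submonoid.powers g) (iX K)).1 h3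
      rw [Submonoid.smul_def, smul_smul] at hm
      have h4 : iX K y = 0 := (IsLocalizedModule.eq_zero_iff (Submonoid.powers g) (iX K)).2
        ⟨⟨g, Submonoid.mem_powers g⟩, by
          show (g0 * s0) • y = 0
          rw [mul_smul, hs0 (g ^ m * e) y (mul_mem (pow_mem hgW m) he) hm, smul_zero]⟩
      have h5 : ΦK z0 = 0 := ((Module.End.isUnit_iff _).1 (IsLocalizedModule.map_units (iX K) gk)).1
        (show (gk : E) • ΦK z0 = (gk : E) • (0 : N1 ⊗[A] K) by
          rw [smul_zero, ← h4, ← hy]
          rfl)
      rw [ΦK.map_eq_zero_iff.1 h5, map_zero] at hz0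
      exact ((Module.End.isUnit_iff _).1 (IsLocalizedModule.map_units (ιX K) tk)).1
        (show (tk : SA) • z = (tk : SA) • (0 : Pm ⊗[R'] K) by rw [smul_zero]; exact hz0)
    -- detection
    obtain ⟨ΦQ, hΦQ, hΦQs, hΦQr⟩ := exists_stage_coeff_equiv (A := A) (R' := R') (S := S) N1 Q
    set z1 := ΦQ.symm (iX Q v1) with hz1
    have hrT0 : ∀ y ∈ T0, (y : SA) • z1 = 0 := by
      intro y hy
      rw [← hrT' y hy, algebraMap_smul]
      let a := algebraMap R' A' (rT y)
      have ha : a ∈ T := Finset.mem_image_of_mem _ hy
      apply ΦQ.injective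
      rw [hΦQr, hz1, LinearEquiv.apply_symm_apply, map_zero,
        show DistribSMul.toLinearMap A Q (rT y) = DistribSMul.toLinearMap A Q a from
          LinearMap.ext fun x => (algebraMap_smul A' (rT y) x).symm]
      show (DistribSMul.toLinearMap A Q a).lTensor N1 ((i1.restrictScalars A).rTensor Q v1) = 0
      rw [← LinearMap.comp_apply, LinearMap.lTensor_comp_rTensor, ← LinearMap.rTensor_comp_lTensor,
        LinearMap.comp_apply, hv1 a ha, map_zero]
    have ht : (t - 1) • z1 = 0 := by
      have hle : Submodule.span SA (T0 : Set SA) ≤ LinearMap.ker (LinearMap.toSpanSingleton SA _ z1) :=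
        Submodule.span_le.2 fun y hy => hrT0 y hy
      exact hle hT0m
    have hzero : ιX Q z1 = 0 := by
      refine eq_zero_of_projective_detect (A' := A') Q _ (fun Y hY => ?_) hC
      let X := Q ⧸ Y
      letI : Module A X := Module.compHom X (algebraMap A A')
      haveI : IsScalarTower A A' X := IsScalarTower.of_algebraMap_smul fun _ _ => rfl
      haveI : IsScalarTower A R' X := IsScalarTower.of_algebraMap_smul fun a x => by
        rw [← algebraMap_smul A' (algebraMap A R' a) x, ← IsScalarTower.algebraMap_apply, algebraMap_smul]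
      let π : Q →ₗ[A] X := Y.mkQ.restrictScalars A
      obtain ⟨ΦX, hΦX, hΦXs, -⟩ := exists_stage_coeff_equiv (A := A) (R' := R') (S := S) N1 X
      have hnat : ∀ z : L2 ⊗[R'] Q,
          ΦX ((Y.mkQ.restrictScalars R').lTensor L2 z) = π.lTensor N1 (ΦQ z) := fun z => by
        obtain ⟨z, rfl⟩ := ΦQ.symm.surjective z
        rw [LinearEquiv.apply_symm_apply]
        induction z using TensorProduct.induction_on with
        | zero => simp
        | add a b ha hb => simp only [map_add, ha, hb]
        | tmul n x =>
          rw [show ΦQ.symm (n ⊗ₜ[A] x) = ((1 : SA) ⊗ₜ[S] n) ⊗ₜ[R'] x from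
            ΦQ.injective (by rw [LinearEquiv.apply_symm_apply, hΦQ]), LinearMap.lTensor_tmul, hΦX, LinearMap.lTensor_tmul]
          rfl
      have h0 : π.lTensor N w0 = 0 := by
        have hc3 : ∀ z, π.lTensor N (TensorProduct.comm A Q N (eX Q z)) =
            TensorProduct.comm A X N (eX X (Y.mkQ.lTensor (A' ⊗[A] N) z)) := fun z => by
          induction z using TensorProduct.induction_on with
          | zero => simp
          | add a b ha hb => simp only [map_add, ha, hb]
          | tmul m x =>
            induction m using TensorProduct.induction_on with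
            | zero => simp
            | add a b ha hb => simp only [map_add, add_tmul, ha, hb]
            | tmul a n => simp [eX, π]
        rw [hc3, hmin Y hY, map_zero, map_zero]
      have h1 : jQ X (π.lTensor N0 v1) = 0 := by
        have hc4 : ∀ v, jQ X (π.lTensor N0 v) = π.lTensor N (jQ Q v) := fun v => by
          induction v using TensorProduct.induction_on with
          | zero => simp
          | add x y hx hy => simp only [map_add, hx, hy]
          | tmul n x => rfl
        rw [hc4, map_smul, ← hv0, Submonoid.smul_def, smul_smul]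
        refine ((AlgebraTensorModule.lTensor E N π).map_smul _ w0).trans ?_
        show (sP * (sv : E)) • π.lTensor N w0 = 0
        rw [h0, smul_zero]
      obtain ⟨s, hs⟩ := (IsLocalizedModule.eq_zero_iff W (jQ X)).1 h1
      have hnι : ∀ z, (Y.mkQ.restrictScalars R').lTensor Pm (ιX Q z) = ιX X ((Y.mkQ.restrictScalars R').lTensor L2 z) :=
        fun z => by
          induction z using TensorProduct.induction_on with
          | zero => simp
          | add a b ha hb => simp only [map_add, ha, hb]
          | tmul l x => rfl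
      refine eq_zero_of_endo K ((fracPoint_residueField p).trans (A := R')) (fun r hr =>
        IsLocalization.map_units A' (⟨r, fun h0 => hr h0⟩ : p'.primeCompl)) (σ s) (hσK s s.2) X _ ?_
      rw [hσ, hnι, ← map_smul]
      convert map_zero (ιX X) using 2
      apply ΦX.injective
      rw [hΦXs, hnat, hz1, LinearEquiv.apply_symm_apply, map_zero, algebraMap_smul]
      show (s : E) • π.lTensor N1 ((i1.restrictScalars A).rTensor Q v1) = 0
      rw [← LinearMap.comp_apply, LinearMap.lTensor_comp_rTensor, ← LinearMap.rTensor_comp_lTensor, LinearMap.comp_apply]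
      show (s : E) • iX X (π.lTensor N0 v1) = 0
      rw [← map_smul, ← Submonoid.smul_def, hs, map_zero]
    obtain ⟨⟨_, j, rfl⟩, hj⟩ := (IsLocalizedModule.eq_zero_iff (Submonoid.powers t) (ιX Q)).1 hzero
    replace hj : z1 = 0 := ((smul_eq_self_of_kill (M := L2 ⊗[R'] Q) t z1 ht j).symm).trans hj
    have h5 : iX Q v1 = 0 := ΦQ.symm.map_eq_zero_iff.1 hj
    have h6 : jQ Q v1 = 0 := by
      obtain ⟨⟨_, k, rfl⟩, hk⟩ := (IsLocalizedModule.eq_zero_iff (Submonoid.powers g) (iX Q)).1 h5
      exact (IsLocalizedModule.eq_zero_iff W (jQ Q)).2 ⟨⟨g ^ k, pow_mem hgW k⟩, hk⟩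
    rw [map_smul, ← hv0, Submonoid.smul_def, smul_smul] at h6
    have h7 : w0 = 0 := ((Module.End.isUnit_iff _).1 (IsLocalizedModule.map_units (jQ Q)
      (⟨sP * sv, mul_mem hsPW sv.2⟩ : W))).1 (h6.trans (map_zero _).symm)
    exact (eX Q).map_eq_zero_iff.1 ((TensorProduct.comm A Q N).map_eq_zero_iff.1 h7)
  rw [injective_iff_map_eq_zero]
  intro w hw
  refine eq_zero_of_injective_fibre u' hfib Kills (fun Q Q' _ _ _ _ f w hw a ha => by rw [← map_smul, hw a ha, map_zero])
    hdet L w (fun a ha => ?_) hw
  have haq : a ∈ q' := by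
    have hle : q.map (algebraMap A A') ≤ q' := Ideal.map_le_iff_le_comap.2 hq'q.over.le
    exact hle (hTq ha)
  clear hw
  induction w using TensorProduct.induction_on with
  | zero => simp
  | add x y hx hy => rw [smul_add, hx, hy, add_zero]
  | tmul m x =>
    rw [← tmul_smul, Algebra.smul_def, Ideal.algebraMap_residueField_eq_zero.2 haq, zero_mul, tmul_zero]

end Groth.Agent.H4RG
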