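import Groth.Prelude
import Groth.Agent.H4RG.FibOpen
import Groth.Agent.H4RG.InjSep
import Mathlib

/-!
# A flat stalk injective on the closed fibre is universally injective

The primes with a non-injective fibre have no maximal element: at a maximal one the kernel would be divisible modulo
the prime by everything outside it.
-/

set_option autoImplicit false
set_option linter.style.haveILetI false
set_option backward.isDefEq.respectTransparency.types false

universe u

open TensorProduct IsLocalRing

namespace Groth.Agent.H4RG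

/-- A map from a flat stalk of a finitely presented module to a flat module, injective on the closed fibre, is universally
injective. -/
theorem ui_of_flat_stalk {A E : Type u} [CommRing A] [IsLocalRing A] [CommRing E] [Algebra A E]
    [Algebra.FinitePresentation A E] (P : Ideal E) [P.IsPrime] (hP : P.comap (algebraMap A E) = maximalIdeal A)
    (N0 : Type u) [AddCommGroup N0] [Module E N0] [Module A N0] [IsScalarTower A E N0] [Module.FinitePresentation E N0]
    [Module.Flat A (LocalizedModule P.primeCompl N0)]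
    {M : Type u} [AddCommGroup M] [Module A M] [Module.Flat A M] (u : LocalizedModule P.primeCompl N0 →ₗ[A] M)
    (h : Function.Injective (u.lTensor (ResidueField A))) (Q : Type u) [AddCommGroup Q] [Module A Q] :
    Function.Injective (u.rTensor Q) := by
  classical
  let B := Localization.AtPrime P
  let N := LocalizedModule P.primeCompl N0
  haveI : Algebra.EssFiniteType A B := Algebra.EssFiniteType.comp A E B
  haveI : IsLocalHom (algebraMap A B) := ⟨fun r hr => by
    by_contra h0
    rw [IsScalarTower.algebraMap_apply A E B, IsLocalization.AtPrime.isUnit_to_map_iff B P] at hr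
    exact hr (show r ∈ P.comap (algebraMap A E) from hP.ge ((IsLocalRing.mem_maximalIdeal r).2 h0))⟩
  haveI : Module.Finite B N :=
    Module.Finite.of_isLocalizedModule P.primeCompl (LocalizedModule.mkLinearMap P.primeCompl N0)
  let Bad : Set (Ideal A) := {q | ∃ _ : q.IsPrime, ¬ Function.Injective (u.lTensor q.ResidueField)}
  suffices hbad : ∀ q, q ∉ Bad from
    ui_of_fibre_inj (B := B) N M u (fun q _ => by_contra fun h0 => hbad q ⟨inferInstance, h0⟩) Q
  intro q0 hq0
  obtain ⟨p, -, hp⟩ := zorn_le_nonempty₀ Bad (fun c hcS hc y hy => by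
    have hprime : (sSup c).IsPrime := by
      refine ⟨fun htop => ?_, fun {x y'} hxy => ?_⟩
      · have h1 : (1 : A) ∈ sSup c := htop ▸ Submodule.mem_top
        obtain ⟨q, hq, hq1⟩ := (Submodule.mem_sSup_of_directed ⟨y, hy⟩ hc.directedOn).1 h1
        exact (hcS hq).1.ne_top ((Ideal.eq_top_iff_one q).2 hq1)
      · obtain ⟨q, hq, hq1⟩ := (Submodule.mem_sSup_of_directed ⟨y, hy⟩ hc.directedOn).1 hxy
        exact ((hcS hq).1.mem_or_mem hq1).imp (fun h' => le_sSup hq h') (fun h' => le_sSup hq h')
    refine ⟨sSup c, ⟨hprime, fun hinj => ?_⟩, fun z hz => le_sSup hz⟩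
    obtain ⟨q, hq, hqi⟩ := exists_fibre_injective_of_chain P N0 u c hc ⟨y, hy⟩ (fun q hq => (hcS hq).1) (sSup c) rfl hinj
    obtain ⟨hq', hq''⟩ := hcS hq
    exact hq'' (hqi hq')) q0 hq0
  obtain ⟨hpP, hpbad⟩ := hp.prop
  haveI := hpP
  let K := p.ResidueField
  by_cases hpm : p = maximalIdeal A
  · subst hpm
    refine hpbad (injective_field_extension u (ResidueField A) _ h)
  apply hpbad
  rw [injective_iff_map_eq_zero]
  intro z hz
  obtain ⟨d, hd, n, hn⟩ : ∃ d ∉ p, ∃ n : N, d • z = (1 : K) ⊗ₜ[A] n := by
    clear hz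
    induction z using TensorProduct.induction_on with
    | zero => exact ⟨1, fun h1 => hpP.ne_top ((Ideal.eq_top_iff_one p).2 h1), 0, by simp⟩
    | tmul x n =>
      obtain ⟨r, c, hc, hcr⟩ := fracPoint_residueField p x
      refine ⟨c, fun h1 => hc (Ideal.algebraMap_residueField_eq_zero.2 h1), r • n, ?_⟩
      rw [tmul_smul, smul_tmul', smul_tmul' r]
      simp only [Algebra.smul_def, mul_one]
      rw [hcr]
    | add s t hs ht =>
      obtain ⟨a, ha, b, hb⟩ := hs
      obtain ⟨a', ha', b', hb'⟩ := ht
      refine ⟨a * a', fun h1 => (hpP.mem_or_mem h1).elim ha ha', a' • b + a • b', ?_⟩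
      rw [smul_add, tmul_add, tmul_smul, tmul_smul, ← hb, ← hb', smul_smul, smul_smul, mul_comm a' a]
  have hpN : n ∈ p • (⊤ : Submodule A N) := by
    refine mem_smul_of_forall_notMem (B := B) N p hpm n fun d' hd' => (tmul_one_eq_zero_iff _ n).1 ?_
    let I := p ⊔ Ideal.span {d'}
    have hun : (1 : K) ⊗ₜ[A] u n = 0 := by rw [← LinearMap.lTensor_tmul, ← hn, map_smul, hz, smul_zero]
    have hunI : u n ⊗ₜ[A] (1 : A ⧸ I) = 0 := by
      let γ : A ⧸ p →ₗ[A] K := (Algebra.linearMap (A ⧸ p) K).restrictScalars A
      have hγ : Function.Injective γ := (IsFractionRing.injective (A ⧸ p) K : _)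
      have h1 : u n ⊗ₜ[A] (1 : A ⧸ p) = 0 := by
        refine Module.Flat.lTensor_preserves_injective_linearMap (M := M) γ hγ ((TensorProduct.comm A M K).injective ?_)
        rw [map_zero, map_zero, LinearMap.lTensor_tmul, TensorProduct.comm_tmul,
          show γ 1 = (1 : K) from map_one (algebraMap (A ⧸ p) K), hun]
      have h2 := congrArg ((Submodule.mapQ p I LinearMap.id (le_sup_left : p ≤ I)).lTensor M) h1
      rw [map_zero, LinearMap.lTensor_tmul] at h2
      exact h2
    refine eq_zero_of_fibres (B := B) N M u (A ⧸ I) (n ⊗ₜ[A] 1) (fun q _ hq => ?_) ?_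
    · have hIq : I ≤ q := fun a ha => hq ((Submodule.mem_annihilator_span_singleton _ _).2 (by
        rw [← tmul_smul, Algebra.smul_def, mul_one, Ideal.Quotient.algebraMap_eq, Ideal.Quotient.eq_zero_iff_mem.2 ha,
          tmul_zero]))
      by_contra hq0'
      have := hp.le_of_ge ⟨inferInstance, hq0'⟩ (le_sup_left.trans hIq)
      exact hd' (this (hIq (Ideal.mem_sup_right (Ideal.mem_span_singleton_self d'))))
    · rw [LinearMap.rTensor_tmul, hunI]
  have hn0 : (1 : K) ⊗ₜ[A] n = 0 := by
    let γ : A ⧸ p →ₗ[A] K := (Algebra.linearMap (A ⧸ p) K).restrictScalars A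
    have h1 := congrArg (TensorProduct.comm A N K ∘ γ.lTensor N) ((tmul_one_eq_zero_iff p n).2 hpN)
    simp only [Function.comp_apply, LinearMap.lTensor_tmul, map_zero, TensorProduct.comm_tmul] at h1
    rwa [show γ 1 = (1 : K) from map_one (algebraMap (A ⧸ p) K)] at h1
  rw [hn0, ← algebraMap_smul K] at hn
  exact (isUnit_iff_ne_zero.2 (mt Ideal.algebraMap_residueField_eq_zero.1 hd)).smul_eq_zero.1 hn

end Groth.Agent.H4RG
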