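import Groth.Agent.H4RG.FlatIdealModel
import Groth.Agent.IsoNatLib.SmoothCrit
import Mathlib

/-!
# The least ideal making a finite module flat over a henselian local base
-/

set_option autoImplicit false
set_option linter.style.haveILetI false
set_option backward.isDefEq.respectTransparency.types false

universe u

open TensorProduct IsLocalRing MvPolynomial

namespace Groth.Agent.H4RG

attribute [local instance] Algebra.TensorProduct.rightAlgebra

/-- Flatness descends from enough local extensions, over algebras essentially of finite type. -/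
theorem flat_of_hasFlatExt {A B : Type u} [CommRing A] [HenselianLocalRing A] [CommRing B] [IsLocalRing B] [Algebra A B]
    [IsLocalHom (algebraMap A B)] [Algebra.EssFiniteType A B] (M : Type u) [AddCommGroup M] [Module B M] [Module A M]
    [IsScalarTower A B M] [Module.Finite B M] (hext : HasFlatExt A B M) : Module.Flat A M := by
  classical
  let T := Algebra.EssFiniteType.subalgebra A B
  let S := Algebra.EssFiniteType.submonoid A B
  obtain ⟨n, ψ, hψ⟩ := Algebra.FiniteType.iff_quotient_mvPolynomial''.1 (inferInstance : Algebra.FiniteType A T)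
  let E := MvPolynomial (Fin n) A
  let φ : E →ₐ[A] B := T.val.comp ψ
  let P : Ideal E := (maximalIdeal B).comap φ
  haveI : P.IsPrime := Ideal.IsPrime.comap _
  letI : Algebra E B := φ.toRingHom.toAlgebra
  haveI : IsScalarTower A E B := IsScalarTower.of_algebraMap_eq fun r => (φ.commutes r).symm
  have hu : ∀ s : P.primeCompl, IsUnit (algebraMap E B s) := fun s => by
    by_contra h'
    exact s.2 ((IsLocalRing.mem_maximalIdeal _).2 h')
  have hsurj : ∀ r : B, ∃ (e : E) (s : P.primeCompl), r * algebraMap E B s = algebraMap E B e := fun r => by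
    obtain ⟨⟨r0, s⟩, hr⟩ := IsLocalization.surj S r
    obtain ⟨e, he⟩ := hψ r0
    obtain ⟨e', he'⟩ := hψ s
    refine ⟨e, ⟨e', fun hmem => (IsLocalRing.mem_maximalIdeal _).1 hmem ?_⟩, ?_⟩
    · show IsUnit (φ e')
      exact (show φ e' = algebraMap T B s from congrArg T.val he').symm ▸ IsLocalization.map_units B s
    · show r * φ e' = φ e
      rw [show φ e' = algebraMap T B s from congrArg T.val he', show φ e = algebraMap T B r0 from congrArg T.val he]
      exact hr
  have hP : P.comap (algebraMap A E) = maximalIdeal A := by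
    have hloc : (maximalIdeal B).comap (algebraMap A B) = maximalIdeal A :=
      ((IsLocalRing.local_hom_TFAE (algebraMap A B)).out 0 4).mp ‹_›
    rw [← hloc, IsScalarTower.algebraMap_eq A E B, ← Ideal.comap_comap]
    rfl
  letI : Module E M := Module.compHom M (algebraMap E B)
  haveI : IsScalarTower E B M := IsScalarTower.of_algebraMap_smul fun _ _ => rfl
  haveI : IsScalarTower A E M := IsScalarTower.of_algebraMap_smul fun r z => by
    show algebraMap E B (algebraMap A E r) • z = r • z
    rw [← IsScalarTower.algebraMap_apply, algebraMap_smul]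
  obtain ⟨c, g, hg⟩ := Module.Finite.exists_fin (R := B) (M := M)
  let N0 : Submodule E M := Submodule.span E (Set.range g)
  haveI : Module.Finite E N0 := Module.Finite.span_of_finite E (Set.finite_range g)
  haveI : IsLocalizedModule P.primeCompl N0.subtype := by
    refine ⟨fun t => ?_, fun z => ?_, fun {a b} h => ⟨1, by rw [Submodule.injective_subtype N0 h]⟩⟩
    · refine (Module.End.isUnit_iff _).2 ⟨fun a b hab => ?_, fun z => ?_⟩
      · exact (hu t).smul_left_cancel.1 hab
      · refine ⟨(↑(hu t).unit⁻¹ : B) • z, ?_⟩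
        show algebraMap E B t • ((↑(hu t).unit⁻¹ : B) • z) = z
        rw [smul_smul, (hu t).mul_val_inv, one_smul]
    · have hz : z ∈ Submodule.span B (Set.range g) := hg ▸ Submodule.mem_top
      suffices ∃ y : N0, ∃ t : P.primeCompl, t • z = N0.subtype y from
        let ⟨y, t, h⟩ := this
        ⟨⟨y, t⟩, h⟩
      induction hz using Submodule.span_induction with
      | mem v hv => exact ⟨⟨v, Submodule.subset_span hv⟩, 1, one_smul _ _⟩
      | zero => exact ⟨0, 1, by simp⟩
      | add v w _ _ hv hw =>
        obtain ⟨y, t, h⟩ := hv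
        obtain ⟨y', t', h'⟩ := hw
        refine ⟨(t' : E) • y + (t : E) • y', t * t', ?_⟩
        simp only [Submonoid.smul_def, Submonoid.coe_mul, map_add, map_smul] at h h' ⊢
        rw [← h, ← h', smul_add, smul_smul, smul_smul, mul_comm (t' : E) (t : E)]
      | smul r v _ hv =>
        obtain ⟨y, t, h⟩ := hv
        obtain ⟨e, s, hes⟩ := hsurj r
        refine ⟨e • y, s * t, ?_⟩
        simp only [Submonoid.smul_def, Submonoid.coe_mul, map_smul] at h ⊢
        rw [← h, ← algebraMap_smul B ((s : E) * t), ← algebraMap_smul B e, ← algebraMap_smul B (t : E), smul_smul,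
          smul_smul, map_mul, ← hes]
        congr 1
        ring
  let EP := Localization.AtPrime P
  letI : Algebra EP B := (IsLocalization.lift (M := P.primeCompl) (S := EP) (g := algebraMap E B) hu).toAlgebra
  haveI : IsScalarTower E EP B := IsScalarTower.of_algebraMap_eq fun x => (IsLocalization.lift_eq hu x).symm
  haveI : IsScalarTower A EP B := IsScalarTower.of_algebraMap_eq fun x => by
    rw [IsScalarTower.algebraMap_apply A E EP, ← IsScalarTower.algebraMap_apply E EP B,
      ← IsScalarTower.algebraMap_apply A E B]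
  have hEPs : Function.Surjective (algebraMap EP B) := fun r => by
    obtain ⟨e, s, hes⟩ := hsurj r
    refine ⟨IsLocalization.mk' EP e s, (hu s).mul_left_inj.1 ?_⟩
    rw [IsScalarTower.algebraMap_apply E EP B (s : E), ← map_mul, IsLocalization.mk'_spec,
      ← IsScalarTower.algebraMap_apply, ← hes, ← IsScalarTower.algebraMap_apply]
  haveI : IsLocalHom (algebraMap EP B) := IsLocalHom.of_surjective _ hEPs
  haveI : Module.Finite EP B := Module.Finite.of_surjective (Algebra.linearMap EP B) hEPs
  letI : Module EP M := Module.compHom M (algebraMap EP B)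
  haveI : IsScalarTower EP B M := IsScalarTower.of_algebraMap_smul fun _ _ => rfl
  haveI : IsScalarTower E EP M := IsScalarTower.of_algebraMap_smul fun x z => by
    show algebraMap EP B (algebraMap E EP x) • z = algebraMap E B x • z
    rw [← IsScalarTower.algebraMap_apply E EP B]
  let eM := IsLocalizedModule.iso P.primeCompl N0.subtype
  let eEP : LocalizedModule P.primeCompl N0 ≃ₗ[EP] M := eM.extendScalarsOfIsLocalization P.primeCompl EP
  have hext' : HasFlatExt A EP (LocalizedModule P.primeCompl N0) := fun a ha => by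
    obtain ⟨R', _, _, _, hloc, hne, hpts⟩ := hext a ha
    exact ⟨R', _, _, _, hloc, hne, FlatPts.congr (N := M) (N' := LocalizedModule P.primeCompl N0) eEP.symm
      (hpts.restrict (B := EP))⟩
  haveI : Algebra.Etale (MvPolynomial (Fin n) A) E := inferInstance
  haveI := descAt n A E P hP N0 hext'
  exact Module.Flat.of_linearEquiv (eM.restrictScalars A).symm

/-- The least ideal modulo which a module is flat, over a henselian local ring. -/
theorem exists_flattening_ideal {A B : Type u} [CommRing A] [HenselianLocalRing A] [CommRing B] [IsLocalRing B]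
    [Algebra A B] [IsLocalHom (algebraMap A B)] [Algebra.EssFiniteType A B]
    (M : Type u) [AddCommGroup M] [Module B M] [Module A M] [IsScalarTower A B M] [Module.Finite B M] :
    ∃ I : Ideal A, I ≤ maximalIdeal A ∧ Module.Flat (A ⧸ I) ((A ⧸ I) ⊗[A] M) ∧
      ∀ (A' : Type u) [CommRing A'] [IsLocalRing A'] [Algebra A A'] [IsLocalHom (algebraMap A A')],
        FlatPts A A' B M → I ≤ RingHom.ker (algebraMap A A') := by
  classical
  let S : Set (Ideal A) := {J | ∃ (A' : Type u) (_ : CommRing A') (_ : IsLocalRing A') (_ : Algebra A A'),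
    IsLocalHom (algebraMap A A') ∧ RingHom.ker (algebraMap A A') = J ∧ FlatPts A A' B M}
  let I := sInf S
  have hmin : ∀ (A' : Type u) [CommRing A'] [IsLocalRing A'] [Algebra A A'] [IsLocalHom (algebraMap A A')],
      FlatPts A A' B M → I ≤ RingHom.ker (algebraMap A A') :=
    fun A' _ _ _ h hp => sInf_le ⟨A', _, _, _, h, rfl, hp⟩
  have hIm : I ≤ maximalIdeal A := by
    haveI : IsLocalHom (algebraMap A (ResidueField A)) := by
      rw [ResidueField.algebraMap_eq]; exact IsLocalHom.of_surjective _ Ideal.Quotient.mk_surjective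
    refine (hmin (ResidueField A) (FlatPts.of_flat M)).trans fun a ha => ?_
    rw [RingHom.mem_ker, ResidueField.algebraMap_eq, IsLocalRing.residue_eq_zero_iff] at ha
    exact ha
  refine ⟨I, hIm, ?_, hmin⟩
  have hItop : I ≠ ⊤ := fun h => (maximalIdeal.isMaximal A).ne_top (top_le_iff.1 (h ▸ hIm))
  let R := A ⧸ I
  haveI : HenselianLocalRing R := IsoNatLib.henselianLocalRing_quotient I hItop
  let Bq := R ⊗[A] B
  have hBs : Function.Surjective (algebraMap B Bq) := fun z => by
    induction z using TensorProduct.induction_on with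
    | zero => exact ⟨0, map_zero _⟩
    | add a b ha hb =>
      obtain ⟨a', rfl⟩ := ha
      obtain ⟨b', rfl⟩ := hb
      exact ⟨a' + b', map_add _ _ _⟩
    | tmul r b =>
      obtain ⟨a, rfl⟩ := Ideal.Quotient.mk_surjective r
      exact ⟨a • b, by rw [Algebra.TensorProduct.right_algebraMap_apply, ← smul_tmul, Algebra.smul_def, mul_one]; rfl⟩
  haveI : Nontrivial Bq := by
    let f : R →ₐ[A] ResidueField B :=
      Ideal.Quotient.liftₐ I (Algebra.ofId A (ResidueField B)) fun a ha => by
        show algebraMap A (ResidueField B) a = 0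
        rw [IsScalarTower.algebraMap_apply A B (ResidueField B), ResidueField.algebraMap_eq,
          IsLocalRing.residue_eq_zero_iff]
        exact (IsLocalRing.mem_maximalIdeal _).2 fun hu =>
          (IsLocalRing.mem_maximalIdeal _).1 (hIm ha) ((isUnit_map_iff (algebraMap A B) a).1 hu)
    exact (Algebra.TensorProduct.lift f (IsScalarTower.toAlgHom A B (ResidueField B))
      fun _ _ => .all _ _).toRingHom.domain_nontrivial
  haveI : IsLocalRing Bq := IsLocalRing.of_surjective' _ hBs
  haveI : IsLocalHom (algebraMap B Bq) := IsLocalHom.of_surjective _ hBs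
  haveI : IsLocalHom (algebraMap R Bq) := ⟨fun r hr => by
    obtain ⟨a, rfl⟩ := Ideal.Quotient.mk_surjective r
    have h1 : algebraMap R Bq (Ideal.Quotient.mk I a) = algebraMap B Bq (algebraMap A B a) := by
      rw [← IsScalarTower.algebraMap_apply A B Bq, IsScalarTower.algebraMap_apply A R Bq]
      rfl
    rw [h1] at hr
    exact ((isUnit_map_iff (algebraMap A B) a).1 ((isUnit_map_iff (algebraMap B Bq) _).1 hr)).map _⟩
  let Mq := Bq ⊗[B] M
  haveI : Module.Finite Bq Mq := Module.Finite.base_change B Bq M
  haveI : Algebra.EssFiniteType R Bq := inferInstance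
  haveI : Module.Flat R Mq := by
    refine flat_of_hasFlatExt (B := Bq) Mq fun r hr => ?_
    obtain ⟨a, rfl⟩ := Ideal.Quotient.mk_surjective r
    have haI : a ∉ I := fun h => hr (Ideal.Quotient.eq_zero_iff_mem.2 h)
    simp only [I, Submodule.mem_sInf, not_forall] at haI
    obtain ⟨_, ⟨A', _, _, _, hloc, rfl, hpts⟩, haJ⟩ := haI
    have hker : I ≤ RingHom.ker (algebraMap A A') := hmin A' hpts
    letI : Algebra R A' := (Ideal.Quotient.lift I (algebraMap A A') fun x hx => hker hx).toAlgebra
    haveI : IsScalarTower A R A' := IsScalarTower.of_algebraMap_eq fun x => rfl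
    haveI : IsLocalHom (algebraMap R A') := ⟨fun x hx => by
      obtain ⟨x, rfl⟩ := Ideal.Quotient.mk_surjective x
      exact ((isUnit_map_iff (algebraMap A A') x).1 hx).map _⟩
    refine ⟨A', inferInstance, inferInstance, inferInstance, inferInstance, fun h0 => haJ (RingHom.mem_ker.2 h0), ?_⟩
    let T := A' ⊗[A] B
    let g : Bq →ₐ[A] T := Algebra.TensorProduct.map (IsScalarTower.toAlgHom A R A') (AlgHom.id A B)
    letI : Algebra Bq T := g.toRingHom.toAlgebra
    haveI : IsScalarTower B Bq T := IsScalarTower.of_algebraMap_eq fun b => by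
      show _ = g (algebraMap B Bq b)
      rw [Algebra.TensorProduct.right_algebraMap_apply, Algebra.TensorProduct.right_algebraMap_apply]
      rw [show g ((1 : R) ⊗ₜ[A] b) = algebraMap R A' 1 ⊗ₜ[A] b from Algebra.TensorProduct.map_tmul _ _ _ b, map_one]
    haveI : IsScalarTower R A' T := inferInstance
    haveI : IsScalarTower A R T := IsScalarTower.of_algebraMap_eq fun x => by
      rw [IsScalarTower.algebraMap_apply R A' T, ← IsScalarTower.algebraMap_apply A R A',
        ← IsScalarTower.algebraMap_apply A A' T]
    haveI : IsScalarTower R Bq T := IsScalarTower.of_algebraMap_eq fun x => by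
      show algebraMap R T x = g (x ⊗ₜ[A] (1 : B))
      rw [show g (x ⊗ₜ[A] (1 : B)) = algebraMap R A' x ⊗ₜ[A] (1 : B) from Algebra.TensorProduct.map_tmul _ _ x 1,
        IsScalarTower.algebraMap_apply R A' T]
      rfl
    haveI : Algebra.IsPushout A R B Bq := inferInstance
    haveI : Algebra.IsPushout A B R Bq := Algebra.IsPushout.symm ‹_›
    haveI : Algebra.IsPushout A B A' T := Algebra.IsPushout.symm inferInstance
    haveI hAA : Algebra.IsPushout A A' B T := inferInstance
    haveI : Algebra.IsPushout R Bq A' T :=
      Algebra.IsPushout.symm ((Algebra.IsPushout.comp_iff A R B Bq (T := A') (T' := T)).1 hAA)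
    let f1 : M →ₗ[B] T ⊗[B] M := TensorProduct.mk B T M 1
    have hf1 : IsBaseChange T f1 := TensorProduct.isBaseChange B M T
    let h : Mq →ₗ[Bq] T ⊗[B] M := LinearMap.liftBaseChange Bq f1
    have hh : IsBaseChange T h := by
      refine (TensorProduct.isBaseChange B M Bq).comp_iff.1 ?_
      have : (h : Mq →ₗ[B] T ⊗[B] M) ∘ₗ TensorProduct.mk B Bq M 1 = f1 := LinearMap.ext fun m => by
        show LinearMap.liftBaseChange Bq (TensorProduct.mk B T M 1) ((1 : Bq) ⊗ₜ[B] m) = (1 : T) ⊗ₜ[B] m
        rw [LinearMap.liftBaseChange_tmul, one_smul]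
        rfl
      rwa [this]
    refine (flatAbove_iff_flatPts h hh).1 fun q _ hq => ?_
    refine (flatAbove_iff_flatPts (A := A) f1 hf1).2 hpts q (le_trans ?_ hq)
    refine sup_le_sup le_rfl ?_
    rw [IsScalarTower.algebraMap_eq B Bq T, ← Ideal.map_map]
    have hc : (maximalIdeal Bq).comap (algebraMap B Bq) = maximalIdeal B :=
      ((IsLocalRing.local_hom_TFAE (algebraMap B Bq)).out 0 4).mp ‹_›
    exact Ideal.map_mono (Ideal.map_le_iff_le_comap.2 hc.ge)
  exact Module.Flat.of_linearEquiv ((Algebra.IsPushout.cancelBaseChange A R B Bq M).symm)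

/-- Flatness modulo the ideal gives the condition wherever the ideal dies. -/
theorem flatPts_of_flat_quot {A B : Type u} [CommRing A] [CommRing B] [IsLocalRing B] [Algebra A B]
    (M : Type u) [AddCommGroup M] [Module B M] [Module A M] [IsScalarTower A B M] (I : Ideal A)
    [Module.Flat (A ⧸ I) ((A ⧸ I) ⊗[A] M)] (A' : Type u) [CommRing A'] [IsLocalRing A'] [Algebra A A']
    (hA' : I ≤ RingHom.ker (algebraMap A A')) : FlatPts A A' B M := by
  letI : Algebra (A ⧸ I) A' := (Ideal.Quotient.lift I (algebraMap A A') fun x hx => hA' hx).toAlgebra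
  haveI : IsScalarTower A (A ⧸ I) A' := IsScalarTower.of_algebraMap_eq fun _ => rfl
  haveI : Module.Flat A' (A' ⊗[A] M) :=
    Module.Flat.of_linearEquiv (AlgebraTensorModule.cancelBaseChange A (A ⧸ I) A' A' M).symm
  exact FlatPts.of_flat M

end Groth.Agent.H4RG
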