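import Groth.Agent.FlatModel.Local

/-!
# Flatness over a multiplicative set from finitely many witnesses
-/

namespace Groth.Agent.FlatModel

open MvPolynomial TensorProduct

universe u

section vec

variable {a n : ℕ} {R₀ : Type u} [CommRing R₀] (K₀ : Submodule (MvPolynomial (Fin n) R₀) (V a n R₀))

/-- Finitely many memberships decide flatness over a multiplicative set, uniformly in the base. -/
theorem exists_witnesses [IsNoetherianRing R₀] :
    ∃ W₀ : Finset (Ideal R₀ × V a n R₀), (∀ w ∈ W₀, w.2 ∈ K₀ ⊓ CJ a n w.1) ∧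
      ∀ (R : Type u) [CommRing R] [Algebra R₀ R] (M₀ : Submonoid (MvPolynomial (Fin n) R)),
        (∀ w ∈ W₀, ∃ s ∈ M₀, s • mapV (algebraMap R₀ R) w.2 ∈
          (((w.1.map (algebraMap R₀ R)).map C : Ideal (MvPolynomial (Fin n) R))) • KK K₀ R) →
        ∃ g ∈ M₀, PtFlat K₀ R (Submonoid.powers g) := by
  classical
  obtain ⟨S, hS, hcover⟩ := exists_cover K₀ ⊥
  choose G hG using fun p : Ideal R₀ => (IsNoetherian.noetherian (K₀ ⊓ CJ a n p) : (K₀ ⊓ CJ a n p).FG)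
  let W₀ := S.biUnion fun x => (G x.1).image fun t => (x.1, t)
  refine ⟨W₀, fun w hw => ?_, ?_⟩
  · simp only [W₀, Finset.mem_biUnion, Finset.mem_image] at hw
    obtain ⟨x, -, t, ht, rfl⟩ := hw
    exact (hG x.1).le (Submodule.subset_span ht)
  intro R _ _ M₀ h
  let T : Ideal R₀ → (R₁ : Subalgebra R₀ R) → MvPolynomial (Fin n) R₁ → Set (V a n R₀) := fun p R₁ g =>
    {t | g • mapV (algebraMap R₀ R₁) t ∈
      ((((p.map (algebraMap R₀ R₁)).map C : Ideal (MvPolynomial (Fin n) R₁))) • KK K₀ R₁)}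
  have hmono : ∀ p (R₁ R₂ : Subalgebra R₀ R) (hle : R₁ ≤ R₂) (g : MvPolynomial (Fin n) R₁)
      (g' : MvPolynomial (Fin n) R₂), T p R₁ g ⊆ T p R₂ (g' * MvPolynomial.map (Subalgebra.inclusion hle).toRingHom g) := by
    intro p R₁ R₂ hle g g' t ht
    simp only [T, Set.mem_setOf_eq, map_smul_KK_eq_span] at ht ⊢
    have := span_mono_subalgebra hle ht
    rw [mapV_smul, mapV_algebraMap] at this
    rw [mul_smul]
    exact Submodule.smul_mem _ _ this
  have hone : ∀ p, ∀ t : V a n R₀, (p, t) ∈ W₀ → ∃ R₁ : Subalgebra R₀ R, R₁.FG ∧ ∃ g : MvPolynomial (Fin n) R₁,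
      MvPolynomial.map R₁.val.toRingHom g ∈ M₀ ∧ t ∈ T p R₁ g := by
    intro p t hW'
    obtain ⟨s, hs, h2⟩ := h (p, t) hW'
    rw [map_smul_KK_eq_span] at h2
    obtain ⟨R₁, hR₁, x₁, hx₁, hx₁t⟩ := exists_fg_span_descent h2
    let R₂ := R₁ ⊔ Algebra.adjoin R₀ (s.coeffs : Set R)
    obtain ⟨g, hg⟩ : s ∈ Set.range (MvPolynomial.map R₂.val.toRingHom) :=
      MvPolynomial.mem_range_map_iff_coeffs_subset.2 fun c hc =>
        ⟨⟨c, (le_sup_right : _ ≤ R₂) (Algebra.subset_adjoin hc)⟩, rfl⟩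
    refine ⟨R₂, hR₁.sup (Subalgebra.fg_adjoin_finset _), g, hg.symm ▸ hs, ?_⟩
    have hx₂ := span_mono_subalgebra (le_sup_left : R₁ ≤ R₂) hx₁
    have : mapV (Subalgebra.inclusion le_sup_left).toRingHom x₁ = g • mapV (algebraMap R₀ R₂) t :=
      mapV_injective (g := R₂.val.toRingHom) Subtype.val_injective (by
        rw [mapV_val_inclusion, hx₁t, mapV_smul, hg, mapV_algebraMap])
    simp only [T, Set.mem_setOf_eq, map_smul_KK_eq_span]
    exact this ▸ hx₂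
  have hfin : ∀ W : Finset (Ideal R₀ × V a n R₀), W ⊆ W₀ →
      ∃ R₁ : Subalgebra R₀ R, R₁.FG ∧ ∃ g : MvPolynomial (Fin n) R₁,
        MvPolynomial.map R₁.val.toRingHom g ∈ M₀ ∧ ∀ w ∈ W, w.2 ∈ T w.1 R₁ g := by
    intro W
    induction W using Finset.induction with
    | empty =>
      exact fun _ => ⟨⊥, Subalgebra.fg_bot, 1, by
        rw [map_one]; exact one_mem M₀, by simp⟩
    | insert w W _ ih =>
      intro hW
      obtain ⟨R₁, h₁, g₁, hg₁, h₁'⟩ := ih fun z hz => hW (Finset.mem_insert_of_mem hz)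
      obtain ⟨R₂, h₂, g₂, hg₂, h₂'⟩ := hone w.1 w.2 (hW (Finset.mem_insert_self _ _))
      let i₁ := MvPolynomial.map (σ := Fin n) (Subalgebra.inclusion (le_sup_left : R₁ ≤ R₁ ⊔ R₂)).toRingHom
      let i₂ := MvPolynomial.map (σ := Fin n) (Subalgebra.inclusion (le_sup_right : R₂ ≤ R₁ ⊔ R₂)).toRingHom
      refine ⟨R₁ ⊔ R₂, h₁.sup h₂, i₁ g₁ * i₂ g₂, ?_, fun z hz => ?_⟩
      · rw [map_mul]
        refine M₀.mul_mem ?_ ?_
        · simp only [i₁, MvPolynomial.map_map]; exact hg₁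
        · simp only [i₂, MvPolynomial.map_map]; exact hg₂
      rcases Finset.mem_insert.1 hz with rfl | hz
      · exact hmono _ _ _ le_sup_right g₂ (i₁ g₁) h₂'
      · rw [mul_comm]
        exact hmono _ _ _ le_sup_left g₁ (i₂ g₂) (h₁' z hz)
  obtain ⟨R₁, hR₁, g₁, hg₁, hW⟩ := hfin W₀ (Finset.Subset.refl _)
  refine ⟨_, hg₁, fun J x hx hxJ => ?_⟩
  obtain ⟨R₂, hR₂, x₂, hx₂, hx₂x⟩ := exists_fg_span_descent hx
  let R₃ := R₁ ⊔ R₂
  let i₁ := Subalgebra.inclusion (le_sup_left : R₁ ≤ R₃)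
  let g := MvPolynomial.map i₁.toRingHom g₁
  let x₃ := mapV (Subalgebra.inclusion (le_sup_right : R₂ ≤ R₃)).toRingHom x₂
  have hx₃ : x₃ ∈ KK K₀ R₃ := span_mono_subalgebra le_sup_right hx₂
  have hx₃x : mapV R₃.val.toRingHom x₃ = x := by rw [mapV_val_inclusion, hx₂x]
  let J₃ : Ideal R₃ := J.comap R₃.val.toRingHom
  have hx₃J : x₃ ∈ CJ a n J₃ := mem_CJ.2 fun i => MvPolynomial.mem_map_C_iff.2 fun d => by
    have := MvPolynomial.mem_map_C_iff.1 (mem_CJ.1 hxJ i) d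
    rw [← hx₃x, mapV_apply, MvPolynomial.coeff_map] at this
    exact this
  have : Algebra.FiniteType R₀ R₃ := (Subalgebra.fg_iff_finiteType R₃).1 (hR₁.sup hR₂)
  have : IsNoetherianRing R₃ := Algebra.FiniteType.isNoetherianRing R₀ R₃
  let c : Ideal (MvPolynomial (Fin n) R₃) :=
    ((J₃.map C : Ideal (MvPolynomial (Fin n) R₃)) • KK K₀ R₃).comap (LinearMap.toSpanSingleton _ _ x₃)
  have hgc : g ∈ c.radical := by
    rw [Ideal.radical_eq_sInf, Ideal.mem_sInf]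
    rintro P ⟨hcP, hP⟩
    by_contra hgP
    obtain ⟨⟨p, f⟩, hpf, hpP, hfP⟩ :=
      hcover (P.comap ((C : R₃ →+* MvPolynomial (Fin n) R₃).comp (algebraMap R₀ R₃))) (Ideal.IsPrime.comap _) bot_le
    have hT : ∀ t ∈ K₀, t ∈ CJ a n p → g • mapV (algebraMap R₀ R₃) t ∈
        (((p.map (algebraMap R₀ R₃)).map C : Ideal (MvPolynomial (Fin n) R₃))) • KK K₀ R₃ := by
      intro t ht htp
      have hmem : t ∈ Submodule.span (MvPolynomial (Fin n) R₀) (G p : Set (V a n R₀)) := (hG p).ge ⟨ht, htp⟩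
      have hle : Submodule.span (MvPolynomial (Fin n) R₃) (mapV (algebraMap R₀ R₃) '' (G p : Set (V a n R₀))) ≤
          (((p.map (algebraMap R₀ R₃)).map C : Ideal (MvPolynomial (Fin n) R₃)) • KK K₀ R₃).comap
            (LinearMap.lsmul (MvPolynomial (Fin n) R₃) (V a n R₃) g) := by
        rw [Submodule.span_le]
        rintro _ ⟨t, ht, rfl⟩
        have h1 := hmono p R₁ R₃ le_sup_left g₁ 1 (hW (p, t) (Finset.mem_biUnion.2 ⟨(p, f), hpf, Finset.mem_image_of_mem _ ht⟩))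
        rw [one_mul] at h1
        exact h1
      exact hle (mapV_mem_span (algebraMap R₀ R₃) hmem)
    obtain ⟨s, hs, hsx⟩ := exists_smul_mem K₀ (hS _ hpf) g hT J₃ hx₃ hx₃J P hpP hfP hgP
    exact hs (hcP hsx)
  obtain ⟨m, hm⟩ := hgc
  refine ⟨_, ⟨m, rfl⟩, ?_⟩
  have hm' : g ^ m • x₃ ∈ (J₃.map C : Ideal (MvPolynomial (Fin n) R₃)) • KK K₀ R₃ := hm
  have hg : MvPolynomial.map R₃.val.toRingHom g = MvPolynomial.map R₁.val.toRingHom g₁ := by
    simp only [g, i₁, MvPolynomial.map_map]; rfl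
  have := smul_KK_le_closure K₀ J₃ hm'
  show (MvPolynomial.map R₁.val.toRingHom g₁) ^ m • x ∈ _
  rw [← hx₃x, ← hg, ← map_pow, ← mapV_smul]
  clear hm hm'
  generalize g ^ m • x₃ = y at this ⊢
  induction this using AddSubmonoid.closure_induction with
  | mem y hy =>
    obtain ⟨r, hr, w, hw, rfl⟩ := hy
    rw [← C_smul, mapV_smul, MvPolynomial.map_C]
    exact Submodule.smul_mem_smul (Ideal.mem_map_of_mem _ hr)
      (show mapV _ (mapV _ w) ∈ _ from (mapV_algebraMap R₃.val w).symm ▸ mapL_mem_KK K₀ hw)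
  | zero => rw [mapV_zero]; exact zero_mem _
  | add y z _ _ hy hz => rw [mapV_add]; exact add_mem hy hz

end vec

end Groth.Agent.FlatModel
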