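import Groth.Agent.H4RG.QuotModel
import Groth.Agent.H4RG.FlatWitness
import Groth.Agent.H4RG.PsiFlat
import Groth.Agent.H4RG.FibAll
import Mathlib

/-!
# A presented stalk injective on the closed fibre into a flat module is universally injective

The ideals modulo which universal injectivity fails have no maximal element: over a quotient where it holds modulo
every nonzero ideal the stalk is flat, and flatness is decided by finitely many memberships.
-/

set_option autoImplicit false
set_option linter.style.haveILetI false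
set_option backward.isDefEq.respectTransparency.types false

universe u

open TensorProduct IsLocalRing MvPolynomial Groth.Agent.FlatModel

namespace Groth.Agent.H4RG

variable {a n : ℕ} {R₀ : Type u} [CommRing R₀] [IsNoetherianRing R₀]
  (K₀ : Submodule (MvPolynomial (Fin n) R₀) (V a n R₀))

/-- A module presented over a Noetherian ring of coefficients is finitely presented. -/
instance finitePresentation_presented (R : Type u) [CommRing R] [Algebra R₀ R] :
    Module.FinitePresentation (MvPolynomial (Fin n) R) (Presented K₀ R) := by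
  classical
  refine Module.finitePresentation_of_surjective (KK K₀ R).mkQ (Submodule.mkQ_surjective _) ?_
  rw [Submodule.ker_mkQ]
  obtain ⟨s, hs⟩ := IsNoetherian.noetherian K₀
  refine ⟨s.image (mapV (algebraMap R₀ R)), le_antisymm ?_ ?_⟩
  · rw [Submodule.span_le, Finset.coe_image]
    rintro _ ⟨w, hw, rfl⟩
    exact mapL_mem_KK K₀ (hs.le (Submodule.subset_span hw))
  · rw [KK, Submodule.span_le, Finset.coe_image]
    rintro _ ⟨w, hw, rfl⟩
    exact mapV_mem_span _ (hs.ge hw)

/-- Universal injectivity modulo every nonzero ideal gives universal injectivity. -/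
theorem gi_step {R : Type u} [CommRing R] [IsLocalRing R] [Algebra R₀ R] (P : Ideal (MvPolynomial (Fin n) R))
    [P.IsPrime] (hP : P.comap C = maximalIdeal R) {M : Type u} [AddCommGroup M] [Module R M] [Module.Flat R M]
    (u : Stalk K₀ P →ₗ[R] M) (h : Function.Injective (u.lTensor (ResidueField R)))
    (hI : ∀ K : Ideal R, K ≠ ⊥ → ∀ (X : Type u) [AddCommGroup X] [Module R X],
      (∀ a ∈ K, ∀ x : X, a • x = 0) → Function.Injective (u.rTensor X))
    (X : Type u) [AddCommGroup X] [Module R X] : Function.Injective (u.rTensor X) := by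
  by_cases hdom : ∀ a b : R, a * b = 0 → a = 0 ∨ b = 0
  · haveI : NoZeroDivisors R := ⟨fun {a b} => hdom a b⟩
    haveI : IsDomain R := NoZeroDivisors.to_isDomain R
    have hflat : Module.Flat R (Stalk K₀ P) → Function.Injective (u.rTensor X) := fun hF => by
      haveI := hF
      exact ui_of_flat_stalk P (by rw [MvPolynomial.algebraMap_eq]; exact hP) (Presented K₀ R) u h X
    by_cases hm : maximalIdeal R = ⊥
    · have hf := IsLocalRing.isField_iff_maximalIdeal_eq.2 hm
      letI := hf.toField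
      exact hflat inferInstance
    refine hflat (psiAt n R (MvPolynomial (Fin n) R) hm P
      (by rw [MvPolynomial.algebraMap_eq]; exact hP) (Presented K₀ R) fun J hJ Y => ?_)
    rw [injective_iff_map_eq_zero]
    intro z hz
    have hk : ∀ a ∈ J, ∀ y : Y, a • y = 0 := fun a ha y => Subtype.ext <| by
      obtain ⟨r, hr⟩ := Ideal.Quotient.mk_surjective (y : R ⧸ J)
      show a • (y : R ⧸ J) = 0
      rw [← hr, Algebra.smul_def, Ideal.Quotient.algebraMap_eq, Ideal.Quotient.eq_zero_iff_mem.2 ha, zero_mul]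
    refine hI J hJ Y hk ?_
    rw [map_zero]
    refine Module.Flat.lTensor_preserves_injective_linearMap (M := M) Y.subtype Subtype.val_injective ?_
    rw [map_zero, ← LinearMap.comp_apply, LinearMap.lTensor_comp_rTensor, ← LinearMap.rTensor_comp_lTensor,
      LinearMap.comp_apply, hz, map_zero]
  push Not at hdom
  obtain ⟨a, b, hab, ha, hb⟩ := hdom
  let Y : Submodule R X := LinearMap.range (LinearMap.lsmul R X a)
  have hY : ∀ c ∈ Ideal.span ({b} : Set R), ∀ y : Y, c • y = 0 := fun c hc y => Subtype.ext <| by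
    obtain ⟨d, rfl⟩ := Ideal.mem_span_singleton'.1 hc
    obtain ⟨x, hx⟩ := y.2
    show (d * b) • (y : X) = 0
    rw [← hx, LinearMap.lsmul_apply, smul_smul, mul_assoc, mul_comm b a, hab, mul_zero, zero_smul]
  have hQ : ∀ c ∈ Ideal.span ({a} : Set R), ∀ q : X ⧸ Y, c • q = 0 := fun c hc q => by
    obtain ⟨d, rfl⟩ := Ideal.mem_span_singleton'.1 hc
    obtain ⟨x, rfl⟩ := Submodule.Quotient.mk_surjective _ q
    rw [← Submodule.Quotient.mk_smul, Submodule.Quotient.mk_eq_zero]
    exact ⟨d • x, by rw [LinearMap.lsmul_apply, smul_smul, mul_comm]⟩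
  rw [injective_iff_map_eq_zero]
  intro z hz
  have hq : Y.mkQ.lTensor _ z = 0 := by
    refine hI _ (by rwa [Ne, Ideal.span_singleton_eq_bot]) (X ⧸ Y) hQ ?_
    rw [map_zero, ← LinearMap.comp_apply, LinearMap.rTensor_comp_lTensor, ← LinearMap.lTensor_comp_rTensor,
      LinearMap.comp_apply, hz, map_zero]
  obtain ⟨y, rfl⟩ := (lTensor_exact (Stalk K₀ P) (LinearMap.exact_subtype_mkQ Y) Y.mkQ_surjective z).1 hq
  rw [hI _ (by rwa [Ne, Ideal.span_singleton_eq_bot]) Y hY (a₁ := y) (a₂ := 0) ?_, map_zero]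
  rw [map_zero]
  refine Module.Flat.lTensor_preserves_injective_linearMap (M := M) Y.subtype Subtype.val_injective ?_
  rw [map_zero, ← LinearMap.comp_apply, LinearMap.lTensor_comp_rTensor, ← LinearMap.rTensor_comp_lTensor,
    LinearMap.comp_apply, hz]

variable {A : Type u} [CommRing A] [IsLocalRing A] [Algebra R₀ A] (P : Ideal (MvPolynomial (Fin n) A)) [P.IsPrime]

/-- Universal injectivity on modules killed by an ideal, read over the quotient. -/
theorem exists_quot_map (hP : P.comap C = maximalIdeal A) {M : Type u} [AddCommGroup M] [Module A M]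
    (u : Stalk K₀ P →ₗ[A] M) (J : Ideal A) (hJ : J ≤ maximalIdeal A) :
    ∃ (_ : IsLocalRing (A ⧸ J)) (_ : (quotPrime J P).IsPrime),
      (quotPrime J P).comap C = maximalIdeal (A ⧸ J) ∧
      ∃ v : Stalk K₀ (quotPrime J P) →ₗ[A ⧸ J] (A ⧸ J) ⊗[A] M,
        ∀ (X : Type u) [AddCommGroup X] [Module (A ⧸ J) X] [Module A X] [IsScalarTower A (A ⧸ J) X],
          Function.Injective (v.rTensor X) ↔ Function.Injective (u.lTensor X) := by
  have hJP : J.map C ≤ P := Ideal.map_le_iff_le_comap.2 (hJ.trans hP.ge)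
  haveI : Nontrivial (A ⧸ J) :=
    Ideal.Quotient.nontrivial_iff.2 fun h => (maximalIdeal.isMaximal A).ne_top (top_le_iff.1 (h ▸ hJ))
  haveI := IsLocalRing.of_surjective' (Ideal.Quotient.mk J) Ideal.Quotient.mk_surjective
  haveI := isPrime_quotPrime J P hJP
  refine ⟨inferInstance, inferInstance, ?_, ?_⟩
  · apply Ideal.comap_injective_of_surjective (Ideal.Quotient.mk J) Ideal.Quotient.mk_surjective
    rw [Ideal.comap_comap, show (C : A ⧸ J →+* MvPolynomial (Fin n) (A ⧸ J)).comp (Ideal.Quotient.mk J) =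
      (MvPolynomial.map (Ideal.Quotient.mk J)).comp C from RingHom.ext fun r => by simp,
      ← Ideal.comap_comap, comap_quotPrime J P hJP, hP]
    haveI := IsLocalHom.of_surjective (Ideal.Quotient.mk J) Ideal.Quotient.mk_surjective
    have hloc : (maximalIdeal (A ⧸ J)).comap (Ideal.Quotient.mk J) = maximalIdeal A :=
      ((IsLocalRing.local_hom_TFAE (Ideal.Quotient.mk J)).out 0 4).mp ‹_›
    exact hloc.symm
  obtain ⟨e⟩ := exists_stalk_quot_equiv K₀ J P hJP
  refine ⟨(u.baseChange (A ⧸ J)).comp e.symm.toLinearMap, fun X => ?_⟩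
  intro _ _ _ _
  rw [← injective_baseChange_iff (A' := A ⧸ J) u X, LinearMap.rTensor_comp, LinearMap.coe_comp]
  exact ⟨fun h => Function.Injective.of_comp_right h (LinearEquiv.rTensor X e.symm).surjective,
    fun h => h.comp (LinearEquiv.rTensor X e.symm).injective⟩

omit [IsNoetherianRing R₀] in
/-- Injectivity on the closed fibre is injectivity on modules killed by the maximal ideal. -/
theorem injective_of_killed_maximal {N M : Type u} [AddCommGroup N] [Module A N] [AddCommGroup M] [Module A M]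
    (u : N →ₗ[A] M) (h : Function.Injective (u.lTensor (ResidueField A))) (X : Type u) [AddCommGroup X]
    [Module A X] (hX : ∀ a ∈ maximalIdeal A, ∀ x : X, a • x = 0) : Function.Injective (u.lTensor X) := by
  have hk : Module.IsTorsionBySet A X (maximalIdeal A : Set A) := fun x a => hX a a.2 x
  letI : Module (ResidueField A) X := hk.module
  haveI : IsScalarTower A (ResidueField A) X := hk.isScalarTower
  rw [← injective_baseChange_iff (A' := ResidueField A) u X]
  exact Module.Flat.rTensor_preserves_injective_linearMap (u.baseChange (ResidueField A)) h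

/-- Memberships over a quotient lift to vectors of coefficients in the ideal. -/
theorem exists_lift_membership (J : Ideal A) (p : Ideal R₀) (t : V a n R₀) (s : MvPolynomial (Fin n) A)
    (h : MvPolynomial.map (Ideal.Quotient.mk J) s • mapV (algebraMap R₀ (A ⧸ J)) t ∈
      (((p.map (algebraMap R₀ (A ⧸ J))).map C : Ideal (MvPolynomial (Fin n) (A ⧸ J)))) • KK K₀ (A ⧸ J)) :
    ∃ d ∈ CJ a n J, s • mapV (algebraMap R₀ A) t - d ∈
      (((p.map (algebraMap R₀ A)).map C : Ideal (MvPolynomial (Fin n) A))) • KK K₀ A := by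
  rw [map_smul_KK_eq_span] at h
  rw [map_smul_KK_eq_span]
  obtain ⟨w, hw, hwe⟩ := mem_image_of_mem_span Ideal.Quotient.mk_surjective
    (Submodule.span (MvPolynomial (Fin n) A) (mapV (algebraMap R₀ A) '' _)) (Submodule.span_mono (by
      rintro _ ⟨y, hy, rfl⟩
      exact ⟨mapV (algebraMap R₀ A) y, Submodule.subset_span ⟨y, hy, rfl⟩, mapV_mapV _ _ y⟩) h)
  refine ⟨_, mem_CJ_of_mapV_eq_zero J ?_, by rwa [sub_sub_cancel]⟩
  rw [mapV_sub, hwe, mapV_smul, mapV_mapV]
  exact sub_self _

/-- Coefficients in a union of a chain lie in a member. -/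
theorem exists_mem_of_chain {c : Set (Ideal A)} (hc : IsChain (· ≤ ·) c) (hne : c.Nonempty) (F : Finset A)
    (hF : ∀ x ∈ F, x ∈ sSup c) : ∃ J ∈ c, ∀ x ∈ F, x ∈ J := by
  classical
  induction F using Finset.induction with
  | empty => exact ⟨hne.some, hne.some_mem, by simp⟩
  | insert x F _ ih =>
    obtain ⟨J, hJ, hJF⟩ := ih fun y hy => hF y (Finset.mem_insert_of_mem hy)
    obtain ⟨J', hJ', hxJ'⟩ :=
      (Submodule.mem_sSup_of_directed hne hc.directedOn).1 (hF x (Finset.mem_insert_self _ _))
    obtain ⟨J'', hJ'', h1, h2⟩ := hc.directedOn J hJ J' hJ'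
    refine ⟨J'', hJ'', fun y hy => ?_⟩
    rcases Finset.mem_insert.1 hy with rfl | hy
    · exact h2 hxJ'
    · exact h1 (hJF y hy)

/-- Flatness of the stalk on memberships. -/
theorem flat_stalk_iff {R : Type u} [CommRing R] [Algebra R₀ R] (Q : Ideal (MvPolynomial (Fin n) R)) [Q.IsPrime] :
    Module.Flat R (Stalk K₀ Q) ↔ PtFlat K₀ R Q.primeCompl :=
  (flat_localized_iff Q.primeCompl (LocalizedModule.mkLinearMap Q.primeCompl (Presented K₀ R))).trans
    (ptFlat_iff K₀ Q.primeCompl (KK K₀ R).mkQ (Submodule.mkQ_surjective _) (Submodule.ker_mkQ _)).symm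

omit [IsNoetherianRing R₀] in
/-- Injectivity on the closed fibre passes to the closed fibre of a quotient. -/
theorem injective_residueField_quot {N M : Type u} [AddCommGroup N] [Module A N] [AddCommGroup M] [Module A M]
    (u : N →ₗ[A] M) (h : Function.Injective (u.lTensor (ResidueField A))) (J : Ideal A) [IsLocalRing (A ⧸ J)] :
    Function.Injective (u.lTensor (ResidueField (A ⧸ J))) := by
  refine injective_of_killed_maximal u h _ fun a ha x => ?_
  rw [← algebraMap_smul (A ⧸ J) a x, ← algebraMap_smul (ResidueField (A ⧸ J)) (algebraMap A (A ⧸ J) a) x,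
    ResidueField.algebraMap_eq, Ideal.Quotient.algebraMap_eq]
  have hmem : Ideal.Quotient.mk J a ∈ maximalIdeal (A ⧸ J) := by
    haveI := IsLocalHom.of_surjective (Ideal.Quotient.mk J) Ideal.Quotient.mk_surjective
    exact (IsLocalRing.mem_maximalIdeal _).2 fun hu =>
      (IsLocalRing.mem_maximalIdeal _).1 ha ((isUnit_map_iff (Ideal.Quotient.mk J) a).1 hu)
  rw [(IsLocalRing.residue_eq_zero_iff _).2 hmem, zero_smul]

/-- A presented stalk mapping to a flat module, injectively on the closed fibre, does so universally. -/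
theorem ui_presented (hP : P.comap C = maximalIdeal A) {M : Type u} [AddCommGroup M] [Module A M] [Module.Flat A M]
    (u : Stalk K₀ P →ₗ[A] M) (h : Function.Injective (u.lTensor (ResidueField A)))
    (X : Type u) [AddCommGroup X] [Module A X] : Function.Injective (u.lTensor X) := by
  classical
  let GI : Ideal A → Prop := fun J => ∀ (X : Type u) [AddCommGroup X] [Module A X],
    (∀ a ∈ J, ∀ x : X, a • x = 0) → Function.Injective (u.lTensor X)
  suffices hgi : GI ⊥ from hgi X fun a ha x => by rw [(Submodule.mem_bot A).1 ha, zero_smul]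
  -- a flat stalk over a quotient gives the claim
  have hflat : ∀ J : Ideal A, J ≤ maximalIdeal A →
      (∀ [(quotPrime J P).IsPrime], Module.Flat (A ⧸ J) (Stalk K₀ (quotPrime J P))) → GI J := by
    intro J hJ hF X _ _ hX
    obtain ⟨_, _, hP', v, hv⟩ := exists_quot_map K₀ P hP u J hJ
    haveI := hF
    have hk : Module.IsTorsionBySet A X (J : Set A) := fun x a => hX a a.2 x
    letI : Module (A ⧸ J) X := hk.module
    haveI : IsScalarTower A (A ⧸ J) X := hk.isScalarTower
    refine (hv X).1 (ui_of_flat_stalk (quotPrime J P) (by rw [MvPolynomial.algebraMap_eq]; exact hP')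
      (Presented K₀ (A ⧸ J)) v ?_ X)
    exact (LinearMap.lTensor_inj_iff_rTensor_inj _ v).2 ((hv _).2 (injective_residueField_quot u h J))
  let S : Set (Ideal A) := {J | J ≤ maximalIdeal A ∧ ¬ GI J}
  by_contra hbot
  obtain ⟨J, -, hJ⟩ := zorn_le_nonempty₀ S (fun c hcS hc J₀ hJ₀ => by
    refine ⟨sSup c, ⟨sSup_le fun y hy => (hcS hy).1, fun hgi => ?_⟩, fun z hz => le_sSup hz⟩
    have hJm : sSup c ≤ maximalIdeal A := sSup_le fun y hy => (hcS hy).1
    set Jc := sSup c with hJc
    obtain ⟨_, _, -, v, hv⟩ := exists_quot_map K₀ P hP u Jc hJm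
    have hvi : ∀ (Z : Type u) [AddCommGroup Z] [Module (A ⧸ Jc) Z], Function.Injective (v.rTensor Z) := by
      intro Z _ _
      letI : Module A Z := Module.compHom Z (Ideal.Quotient.mk Jc)
      haveI : IsScalarTower A (A ⧸ Jc) Z := IsScalarTower.of_algebraMap_smul fun _ _ => rfl
      exact (hv Z).2 (hgi Z fun a ha z => by
        show Ideal.Quotient.mk Jc a • z = 0
        rw [Ideal.Quotient.eq_zero_iff_mem.2 ha, zero_smul])
    have hpt : PtFlat K₀ (A ⧸ Jc) (quotPrime Jc P).primeCompl :=
      (flat_stalk_iff K₀ _).1 (flat_of_univInjective_map v fun Z _ _ => hvi Z)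
    obtain ⟨W₀, hW₀, hW⟩ := exists_witnesses K₀
    have hg : Function.Surjective (MvPolynomial.map (σ := Fin n) (Ideal.Quotient.mk Jc)) :=
      MvPolynomial.map_surjective _ Ideal.Quotient.mk_surjective
    have hJP : Jc.map C ≤ P := Ideal.map_le_iff_le_comap.2 (hJm.trans hP.ge)
    have hlift : ∀ w ∈ W₀, ∃ s ∈ P.primeCompl, ∃ d ∈ CJ a n Jc, s • mapV (algebraMap R₀ A) w.2 - d ∈
        (((w.1.map (algebraMap R₀ A)).map C : Ideal (MvPolynomial (Fin n) A))) • KK K₀ A := by
      intro w hw
      obtain ⟨ht, htp⟩ := hW₀ w hw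
      have h1 : mapV (algebraMap R₀ (A ⧸ Jc)) w.2 ∈ CJ a n (w.1.map (algebraMap R₀ (A ⧸ Jc))) :=
        mem_CJ.2 fun i => MvPolynomial.mem_map_C_iff.2 fun e => by
          rw [mapV_apply, MvPolynomial.coeff_map]
          exact Ideal.mem_map_of_mem _ (MvPolynomial.mem_map_C_iff.1 (mem_CJ.1 htp i) e)
      obtain ⟨sb, hsb, h2⟩ := hpt _ _ (mapL_mem_KK K₀ ht) h1
      obtain ⟨s, rfl⟩ := hg sb
      refine ⟨s, fun hs => hsb (Ideal.mem_map_of_mem _ hs), exists_lift_membership K₀ Jc w.1 w.2 s h2⟩
    choose! s hs d hd hsd using hlift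
    obtain ⟨J₁, hJ₁c, hJ₁⟩ := exists_mem_of_chain hc ⟨J₀, hJ₀⟩
      (W₀.biUnion fun w => Finset.univ.biUnion fun i => (d w i).coeffs) (fun x hx => by
        simp only [Finset.mem_biUnion, Finset.mem_univ, true_and] at hx
        obtain ⟨w, hw, i, hx⟩ := hx
        obtain ⟨e, -, rfl⟩ := MvPolynomial.mem_coeffs_iff.1 hx
        exact MvPolynomial.mem_map_C_iff.1 (mem_CJ.1 (hd w hw) i) e)
    obtain ⟨hJ₁m, hJ₁gi⟩ := hcS hJ₁c
    refine hJ₁gi (hflat J₁ hJ₁m ?_)
    intro _
    rw [flat_stalk_iff]
    obtain ⟨g, hgM, hgflat⟩ := hW (A ⧸ J₁) (quotPrime J₁ P).primeCompl fun w hw => by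
      refine ⟨MvPolynomial.map (Ideal.Quotient.mk J₁) (s w), fun hmem => hs w hw ?_, ?_⟩
      · rw [← comap_quotPrime J₁ P (Ideal.map_le_iff_le_comap.2 (hJ₁m.trans hP.ge))]
        exact hmem
      · have hd0 : mapV (Ideal.Quotient.mk J₁) (d w) = 0 := by
          ext i e
          rw [mapV_apply, MvPolynomial.coeff_map, Pi.zero_apply, MvPolynomial.coeff_zero,
            Ideal.Quotient.eq_zero_iff_mem]
          by_cases he : (d w i).coeff e = 0
          · rw [he]; exact zero_mem _
          · exact hJ₁ _ (Finset.mem_biUnion.2 ⟨w, hw, Finset.mem_biUnion.2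
              ⟨i, Finset.mem_univ i, MvPolynomial.coeff_mem_coeffs _ he⟩⟩)
        have h3 := hsd w hw
        rw [map_smul_KK_eq_span] at h3 ⊢
        have h4 := mapV_mem_span (Ideal.Quotient.mk J₁) h3
        rw [Set.image_image, Set.image_congr fun v _ => mapV_mapV (algebraMap R₀ A) (Ideal.Quotient.mk J₁) v,
          mapV_sub, hd0, sub_zero, mapV_smul, mapV_mapV] at h4
        exact h4
    exact hgflat.mono K₀ (Submonoid.powers_le.2 hgM)) ⊥ ⟨bot_le, hbot⟩
  obtain ⟨hJm, hJgi⟩ := hJ.prop
  apply hJgi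
  intro Z _ _ hZ
  obtain ⟨_, _, hP', v, hv⟩ := exists_quot_map K₀ P hP u J hJm
  have hk : Module.IsTorsionBySet A Z (J : Set A) := fun x a => hZ a a.2 x
  letI : Module (A ⧸ J) Z := hk.module
  haveI : IsScalarTower A (A ⧸ J) Z := hk.isScalarTower
  refine (hv Z).1 (gi_step K₀ (quotPrime J P) hP' v
    ((LinearMap.lTensor_inj_iff_rTensor_inj _ v).2 ((hv _).2 (injective_residueField_quot u h J))) (fun K hK Y _ _ hY => ?_) Z)
  letI : Module A Y := Module.compHom Y (Ideal.Quotient.mk J)
  haveI : IsScalarTower A (A ⧸ J) Y := IsScalarTower.of_algebraMap_smul fun _ _ => rfl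
  refine (hv Y).2 ?_
  have hYA : ∀ a ∈ K.comap (Ideal.Quotient.mk J), ∀ y : Y, a • y = 0 := fun a ha y => hY _ ha y
  by_cases htop : K.comap (Ideal.Quotient.mk J) = ⊤
  · haveI : Subsingleton Y := ⟨fun y y' => by
      rw [← one_smul A y, ← one_smul A y', hYA 1 (htop ▸ Submodule.mem_top), hYA 1 (htop ▸ Submodule.mem_top)]⟩
    haveI : Subsingleton (Y ⊗[A] Stalk K₀ P) := inferInstance
    exact Function.injective_of_subsingleton _
  have hle : J ≤ K.comap (Ideal.Quotient.mk J) := fun x hx => by
    rw [Ideal.mem_comap, Ideal.Quotient.eq_zero_iff_mem.2 hx]; exact zero_mem _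
  by_contra hK'
  have := hJ.le_of_ge ⟨IsLocalRing.le_maximalIdeal htop, fun hgi => hK' (hgi Y hYA)⟩ hle
  refine hK (eq_bot_iff.2 fun y hy => ?_)
  obtain ⟨x, rfl⟩ := Ideal.Quotient.mk_surjective y
  exact (Submodule.mem_bot _).2 (Ideal.Quotient.eq_zero_iff_mem.2 (this hy))

end Groth.Agent.H4RG
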