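import Groth.Agent.H4RG.FlatIdeal
import Groth.Agent.H4RG.UiCore
import Mathlib

/-!
# The flattening ideal of a finitely presented module is finitely generated
-/

set_option autoImplicit false
set_option linter.style.haveILetI false
set_option backward.isDefEq.respectTransparency.types false

universe u

open TensorProduct IsLocalRing MvPolynomial Groth.Agent.FlatModel

namespace Groth.Agent.H4RG

/-- A finitely presented module over an algebra essentially of finite presentation is a presented stalk. -/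
theorem exists_presented_model {A B : Type u} [CommRing A] [IsLocalRing A] [CommRing B] [IsLocalRing B] [Algebra A B]
    [IsLocalHom (algebraMap A B)] (hB : FlatCA.EssFinitePresentation A B)
    (M : Type u) [AddCommGroup M] [Module B M] [Module A M] [IsScalarTower A B M] [Module.FinitePresentation B M] :
    ∃ (n a : ℕ) (R₀ : Type u) (_ : CommRing R₀) (_ : IsNoetherianRing R₀) (_ : Algebra R₀ A)
      (K₀ : Submodule (MvPolynomial (Fin n) R₀) (V a n R₀)) (P : Ideal (MvPolynomial (Fin n) A)) (_ : P.IsPrime),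
      P.comap C = maximalIdeal A ∧ Nonempty (Stalk K₀ P ≃ₗ[A] M) := by
  classical
  obtain ⟨S₀, _, _, _, _, W, hfp, hloc⟩ := hB
  haveI := hfp
  haveI := hloc
  obtain ⟨n, ψ, hψ, hkfg⟩ := Algebra.FinitePresentation.out (R := A) (A := S₀)
  obtain ⟨Hk, hHk⟩ := hkfg
  let φ : MvPolynomial (Fin n) A →ₐ[A] B := (IsScalarTower.toAlgHom A S₀ B).comp ψ
  let P : Ideal (MvPolynomial (Fin n) A) := (maximalIdeal B).comap φ
  haveI : P.IsPrime := Ideal.IsPrime.comap _
  have hu : ∀ s : P.primeCompl, IsUnit (φ s) := fun s => by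
    by_contra h'
    exact s.2 ((IsLocalRing.mem_maximalIdeal _).2 h')
  have hsurj : ∀ r : B, ∃ (e : MvPolynomial (Fin n) A) (s : P.primeCompl), r * φ s = φ e := fun r => by
    obtain ⟨⟨r0, s⟩, hr⟩ := IsLocalization.surj W r
    obtain ⟨e, he⟩ := hψ r0
    obtain ⟨e', he'⟩ := hψ s
    refine ⟨e, ⟨e', fun hmem => (IsLocalRing.mem_maximalIdeal _).1 hmem ?_⟩, ?_⟩
    · show IsUnit (algebraMap S₀ B (ψ e'))
      rw [he']; exact IsLocalization.map_units B s
    · show r * algebraMap S₀ B (ψ e') = algebraMap S₀ B (ψ e)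
      rw [he', he]
      exact hr
  have hkill : ∀ e, φ e = 0 → ∃ s : P.primeCompl, ψ (s * e) = 0 := fun e he => by
    obtain ⟨m, hm⟩ := (IsLocalization.map_eq_zero_iff W B (ψ e)).1 he
    obtain ⟨e', he'⟩ := hψ m
    refine ⟨⟨e', fun hmem => (IsLocalRing.mem_maximalIdeal _).1 hmem ?_⟩, ?_⟩
    · show IsUnit (algebraMap S₀ B (ψ e'))
      rw [he']; exact IsLocalization.map_units B m
    · rw [map_mul]
      show ψ e' * ψ e = 0
      rw [he']; exact hm
  have hP : P.comap C = maximalIdeal A := by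
    have hl : (maximalIdeal B).comap (algebraMap A B) = maximalIdeal A :=
      ((IsLocalRing.local_hom_TFAE (algebraMap A B)).out 0 4).mp ‹_›
    rw [← hl]
    exact Ideal.ext fun r => by simp [P, Ideal.mem_comap, ← MvPolynomial.algebraMap_eq]
  letI : Module (MvPolynomial (Fin n) A) M := Module.compHom M φ.toRingHom
  have hsm : ∀ (p : MvPolynomial (Fin n) A) (z : M), p • z = φ p • z := fun _ _ => rfl
  haveI : IsScalarTower A (MvPolynomial (Fin n) A) M := IsScalarTower.of_algebraMap_smul fun r z => by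
    rw [hsm, φ.commutes, algebraMap_smul]
  obtain ⟨a, g, hg⟩ := Module.Finite.exists_fin (R := B) (M := M)
  let π0 : V a n A →ₗ[MvPolynomial (Fin n) A] M := Fintype.linearCombination (MvPolynomial (Fin n) A) g
  let πB : (Fin a → B) →ₗ[B] M := Fintype.linearCombination B g
  have hπB : Function.Surjective πB := by
    rw [← LinearMap.range_eq_top, Fintype.range_linearCombination]
    exact hg
  let Φ : V a n A → (Fin a → B) := fun v i => φ (v i)
  have hφv : ∀ v : V a n A, πB (Φ v) = π0 v := fun v => by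
    simp only [πB, π0, Φ, Fintype.linearCombination_apply, hsm]
  have hclear : ∀ y : Fin a → B, ∃ (p : V a n A) (σ : P.primeCompl), Φ p = φ σ • y := fun y => by
    choose e s hes using fun i => hsurj (y i)
    refine ⟨fun i => e i * ∏ j ∈ Finset.univ.erase i, (s j : MvPolynomial (Fin n) A), ∏ j, s j, funext fun i => ?_⟩
    simp only [Φ, Pi.smul_apply, smul_eq_mul, map_mul, ← hes i, Submonoid.coe_finsetProd]
    rw [← Finset.mul_prod_erase Finset.univ (fun j => (s j : MvPolynomial (Fin n) A)) (Finset.mem_univ i), map_mul]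
    ring
  obtain ⟨Y, hY⟩ := Module.FinitePresentation.fg_ker πB hπB
  choose p σp hp using hclear
  let G : Finset (V a n A) := Y.image p ∪ (Hk ×ˢ (Finset.univ : Finset (Fin a))).image fun hi => Pi.single hi.2 hi.1
  have hGK : ∀ v ∈ G, π0 v = 0 := by
    intro v hv
    rw [← hφv]
    rcases Finset.mem_union.1 hv with hv | hv
    · obtain ⟨y, hy, rfl⟩ := Finset.mem_image.1 hv
      rw [hp, map_smul, LinearMap.mem_ker.1 (hY.le (Submodule.subset_span hy)), smul_zero]
    · obtain ⟨⟨h, i⟩, hhi, rfl⟩ := Finset.mem_image.1 hv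
      have h0 : φ h = 0 := by
        show algebraMap S₀ B (ψ h) = 0
        rw [show ψ h = 0 from RingHom.mem_ker.1 (hHk.le (Submodule.subset_span (Finset.mem_product.1 hhi).1)), map_zero]
      rw [show Φ (Pi.single i h) = 0 from funext fun j => by
        rcases eq_or_ne j i with rfl | hj
        · simp [Φ, h0]
        · simp [Φ, hj], map_zero]
  have hGspan : ∀ v, π0 v = 0 → ∃ s : P.primeCompl,
      (s : MvPolynomial (Fin n) A) • v ∈ Submodule.span (MvPolynomial (Fin n) A) (G : Set (V a n A)) := by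
    intro v hv
    let S : Submodule (MvPolynomial (Fin n) A) (V a n A) := Submodule.span _ (G : Set (V a n A))
    suffices key : ∀ b ∈ Submodule.span B (Y : Set (Fin a → B)),
        ∃ w ∈ S, ∃ τ : P.primeCompl, Φ w = φ τ • b by
      obtain ⟨w, hw, τ, hτ⟩ := key (Φ v) (hY.ge (LinearMap.mem_ker.2 ((hφv v).trans hv)))
      have hd : ∀ i, φ (((τ : MvPolynomial (Fin n) A) • v - w) i) = 0 := fun i => by
        have := congrFun hτ i
        simp only [Φ, Pi.smul_apply, smul_eq_mul] at this
        rw [Pi.sub_apply, Pi.smul_apply, smul_eq_mul, map_sub, map_mul, this, sub_self]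
      choose m hm using fun i => hkill _ (hd i)
      refine ⟨(∏ i, m i) * τ, ?_⟩
      rw [Submonoid.coe_mul, mul_smul]
      have h1 : ((∏ i, m i : P.primeCompl) : MvPolynomial (Fin n) A) • ((τ : MvPolynomial (Fin n) A) • v - w) ∈ S := by
        rw [← Finset.univ_sum_single (((∏ i, m i : P.primeCompl) : MvPolynomial (Fin n) A) • _)]
        refine sum_mem fun i _ => ?_
        have hi : ((∏ j, m j : P.primeCompl) : MvPolynomial (Fin n) A) * ((τ : MvPolynomial (Fin n) A) • v - w) i ∈
            Ideal.span (Hk : Set (MvPolynomial (Fin n) A)) := by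
          rw [Submonoid.coe_finsetProd, ← Finset.prod_erase_mul _ _ (Finset.mem_univ i), mul_assoc]
          exact Ideal.mul_mem_left _ _ (hHk.ge (RingHom.mem_ker.2 (hm i)))
        rw [Pi.smul_apply, smul_eq_mul]
        refine Submodule.span_induction (p := fun x _ => (Pi.single i x : V a n A) ∈ S) (fun x hx => ?_) ?_
          (fun x y _ _ hx hy => ?_) (fun r x _ hx => ?_) hi
        · exact Submodule.subset_span (Finset.mem_coe.2 (Finset.mem_union_right _ (Finset.mem_image.2
            ⟨(x, i), Finset.mem_product.2 ⟨hx, Finset.mem_univ i⟩, rfl⟩)))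
        · rw [Pi.single_zero]; exact zero_mem _
        · rw [Pi.single_add]; exact add_mem hx hy
        · rw [Pi.single_smul]; exact Submodule.smul_mem _ _ hx
      have h2 := add_mem h1 (S.smul_mem ((∏ i, m i : P.primeCompl) : MvPolynomial (Fin n) A) hw)
      rwa [← smul_add, sub_add_cancel] at h2
    intro b hb
    induction hb using Submodule.span_induction with
    | mem y hy => exact ⟨p y, Submodule.subset_span (Finset.mem_coe.2 (Finset.mem_union_left _
        (Finset.mem_image_of_mem p hy))), σp y, hp y⟩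
    | zero => exact ⟨0, zero_mem _, 1, funext fun i => by simp [Φ]⟩
    | add x y _ _ hx hy =>
      obtain ⟨w, hw, τ, hτ⟩ := hx
      obtain ⟨w', hw', τ', hτ'⟩ := hy
      refine ⟨(τ' : MvPolynomial (Fin n) A) • w + (τ : MvPolynomial (Fin n) A) • w',
        add_mem (S.smul_mem _ hw) (S.smul_mem _ hw'), τ * τ', funext fun i => ?_⟩
      have e1 := congrFun hτ i
      have e2 := congrFun hτ' i
      simp only [Φ, Pi.smul_apply, smul_eq_mul] at e1 e2
      simp only [Φ, Pi.smul_apply, Pi.add_apply, smul_eq_mul, map_add, map_mul, Submonoid.coe_mul, e1, e2]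
      ring
    | smul r x _ hx =>
      obtain ⟨w, hw, τ, hτ⟩ := hx
      obtain ⟨e, t, het⟩ := hsurj r
      refine ⟨e • w, S.smul_mem _ hw, τ * t, funext fun i => ?_⟩
      have e1 := congrFun hτ i
      simp only [Φ, Pi.smul_apply, smul_eq_mul] at e1
      simp only [Φ, Pi.smul_apply, smul_eq_mul, map_mul, Submonoid.coe_mul, e1, ← het]
      ring
  let F : Finset A := G.biUnion fun v => Finset.univ.biUnion fun i => (v i).coeffs
  let R₀ := Algebra.adjoin ℤ (F : Set A)
  haveI : Algebra.FiniteType ℤ R₀ := (Subalgebra.fg_iff_finiteType R₀).1 (Subalgebra.fg_adjoin_finset F)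
  haveI : IsNoetherianRing R₀ := Algebra.FiniteType.isNoetherianRing ℤ R₀
  have hlift : ∀ v ∈ G, ∃ v₀ : V a n R₀, mapV (algebraMap R₀ A) v₀ = v := fun v hv => by
    have : ∀ i, v i ∈ Set.range (MvPolynomial.map (algebraMap R₀ A)) := fun i =>
      MvPolynomial.mem_range_map_iff_coeffs_subset.2 fun c hc => ⟨⟨c, Algebra.subset_adjoin (Finset.mem_coe.2
        (Finset.mem_biUnion.2 ⟨v, hv, Finset.mem_biUnion.2 ⟨i, Finset.mem_univ i, hc⟩⟩))⟩, rfl⟩
    choose v₀ hv₀ using this
    exact ⟨v₀, funext hv₀⟩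
  choose! l hl using hlift
  let K₀ : Submodule (MvPolynomial (Fin n) R₀) (V a n R₀) := Submodule.span _ (l '' (G : Set (V a n A)))
  have hKK : KK K₀ A ≤ LinearMap.ker π0 := by
    rw [KK, Submodule.span_le]
    rintro _ ⟨w, hw, rfl⟩
    refine Submodule.span_le.2 ?_ (mapV_mem_span (algebraMap R₀ A) hw)
    rintro _ ⟨_, ⟨v, hv, rfl⟩, rfl⟩
    rw [hl v hv]
    exact hGK v hv
  have hGKK : Submodule.span (MvPolynomial (Fin n) A) (G : Set (V a n A)) ≤ KK K₀ A :=
    Submodule.span_le.2 fun v hv => by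
      rw [← hl v hv]
      exact mapL_mem_KK K₀ (Submodule.subset_span ⟨v, hv, rfl⟩)
  let π1 : Presented K₀ A →ₗ[MvPolynomial (Fin n) A] M := (KK K₀ A).liftQ π0 hKK
  have hiso : IsLocalizedModule P.primeCompl π1 := by
    refine ⟨fun s => ?_, fun z => ?_, fun {x y} hxy => ?_⟩
    · refine (Module.End.isUnit_iff _).2 ⟨fun x y hxy => ?_, fun z => ⟨(↑(hu s).unit⁻¹ : B) • z, ?_⟩⟩
      · exact (hu s).smul_left_cancel.1 hxy
      · show φ s • ((↑(hu s).unit⁻¹ : B) • z) = z
        rw [smul_smul, (hu s).mul_val_inv, one_smul]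
    · obtain ⟨y, rfl⟩ := hπB z
      refine ⟨⟨Submodule.Quotient.mk (p y), σp y⟩, ?_⟩
      show φ (σp y) • πB y = π0 (p y)
      rw [← hφv, hp, map_smul]
    · obtain ⟨v, rfl⟩ := Submodule.Quotient.mk_surjective _ x
      obtain ⟨w, rfl⟩ := Submodule.Quotient.mk_surjective _ y
      obtain ⟨s, hs⟩ := hGspan (v - w) (by rw [map_sub]; exact sub_eq_zero.2 hxy)
      refine ⟨s, ?_⟩
      rw [Submonoid.smul_def, Submonoid.smul_def, ← Submodule.Quotient.mk_smul, ← Submodule.Quotient.mk_smul,
        Submodule.Quotient.eq, ← smul_sub]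
      exact hGKK hs
  haveI := hiso
  exact ⟨n, a, R₀, inferInstance, inferInstance, inferInstance, K₀, P, inferInstance, hP,
    ⟨(IsLocalizedModule.iso P.primeCompl π1).restrictScalars A⟩⟩

/-- For a presented stalk, flatness modulo an ideal already holds modulo a finitely generated one. -/
theorem exists_fg_flat_quot {A : Type u} [CommRing A] [IsLocalRing A] {a n : ℕ} {R₀ : Type u} [CommRing R₀]
    [IsNoetherianRing R₀] [Algebra R₀ A] (K₀ : Submodule (MvPolynomial (Fin n) R₀) (V a n R₀))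
    (P : Ideal (MvPolynomial (Fin n) A)) [P.IsPrime] (hP : P.comap C = maximalIdeal A) {M : Type u} [AddCommGroup M]
    [Module A M] (e : Stalk K₀ P ≃ₗ[A] M) (I : Ideal A) (hI : I ≤ maximalIdeal A)
    (hflat : Module.Flat (A ⧸ I) ((A ⧸ I) ⊗[A] M)) :
    ∃ J : Ideal A, J.FG ∧ J ≤ I ∧ Module.Flat (A ⧸ J) ((A ⧸ J) ⊗[A] M) := by
  classical
  have hJP : ∀ J : Ideal A, J ≤ maximalIdeal A → J.map C ≤ P := fun J hJ =>
    Ideal.map_le_iff_le_comap.2 (hJ.trans hP.ge)
  haveI := isPrime_quotPrime I P (hJP I hI)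
  obtain ⟨eI⟩ := exists_stalk_quot_equiv K₀ I P (hJP I hI)
  haveI := hflat
  haveI : Module.Flat (A ⧸ I) ((A ⧸ I) ⊗[A] Stalk K₀ P) := Module.Flat.of_linearEquiv (e.baseChange A (A ⧸ I) _ _)
  have hflatI : Module.Flat (A ⧸ I) (Stalk K₀ (quotPrime I P)) := Module.Flat.of_linearEquiv eI.symm
  have hpt : PtFlat K₀ (A ⧸ I) (quotPrime I P).primeCompl := (flat_stalk_iff K₀ _).1 hflatI
  obtain ⟨W₀, hW₀, hW⟩ := exists_witnesses K₀
  have hg : Function.Surjective (MvPolynomial.map (σ := Fin n) (Ideal.Quotient.mk I)) :=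
    MvPolynomial.map_surjective _ Ideal.Quotient.mk_surjective
  have hlift : ∀ w ∈ W₀, ∃ s ∈ P.primeCompl, ∃ d ∈ CJ a n I, s • mapV (algebraMap R₀ A) w.2 - d ∈
      (((w.1.map (algebraMap R₀ A)).map C : Ideal (MvPolynomial (Fin n) A))) • KK K₀ A := by
    intro w hw
    obtain ⟨ht, htp⟩ := hW₀ w hw
    have h1 : mapV (algebraMap R₀ (A ⧸ I)) w.2 ∈ CJ a n (w.1.map (algebraMap R₀ (A ⧸ I))) :=
      mem_CJ.2 fun i => MvPolynomial.mem_map_C_iff.2 fun e => by
        rw [mapV_apply, MvPolynomial.coeff_map]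
        exact Ideal.mem_map_of_mem _ (MvPolynomial.mem_map_C_iff.1 (mem_CJ.1 htp i) e)
    obtain ⟨sb, hsb, h2⟩ := hpt _ _ (mapL_mem_KK K₀ ht) h1
    obtain ⟨s, rfl⟩ := hg sb
    exact ⟨s, fun hs => hsb (Ideal.mem_map_of_mem _ hs), exists_lift_membership K₀ I w.1 w.2 s h2⟩
  choose! s hs d hd hsd using hlift
  let F := W₀.biUnion fun w => Finset.univ.biUnion fun i => (d w i).coeffs
  let J : Ideal A := Ideal.span (F : Set A)
  have hJI : J ≤ I := Ideal.span_le.2 fun x hx => by
    simp only [F, Finset.mem_coe, Finset.mem_biUnion, Finset.mem_univ, true_and] at hx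
    obtain ⟨w, hw, i, hx⟩ := hx
    obtain ⟨m, -, rfl⟩ := MvPolynomial.mem_coeffs_iff.1 hx
    exact MvPolynomial.mem_map_C_iff.1 (mem_CJ.1 (hd w hw) i) m
  refine ⟨J, ⟨F, rfl⟩, hJI, ?_⟩
  haveI := isPrime_quotPrime J P (hJP J (hJI.trans hI))
  haveI : Module.Flat (A ⧸ J) (Stalk K₀ (quotPrime J P)) := by
    rw [flat_stalk_iff]
    obtain ⟨g, hgM, hgflat⟩ := hW (A ⧸ J) (quotPrime J P).primeCompl fun w hw => by
      refine ⟨MvPolynomial.map (Ideal.Quotient.mk J) (s w), fun hmem => hs w hw ?_, ?_⟩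
      · rw [← comap_quotPrime J P (hJP J (hJI.trans hI))]
        exact hmem
      · have hd0 : mapV (Ideal.Quotient.mk J) (d w) = 0 := by
          ext i m
          rw [mapV_apply, MvPolynomial.coeff_map, Pi.zero_apply, MvPolynomial.coeff_zero,
            Ideal.Quotient.eq_zero_iff_mem]
          by_cases hm : (d w i).coeff m = 0
          · rw [hm]; exact zero_mem _
          · exact Ideal.subset_span (Finset.mem_biUnion.2 ⟨w, hw, Finset.mem_biUnion.2
              ⟨i, Finset.mem_univ i, MvPolynomial.coeff_mem_coeffs _ hm⟩⟩)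
        have h3 := hsd w hw
        rw [map_smul_KK_eq_span] at h3 ⊢
        have h4 := mapV_mem_span (Ideal.Quotient.mk J) h3
        rw [Set.image_image, Set.image_congr fun v _ => mapV_mapV (algebraMap R₀ A) (Ideal.Quotient.mk J) v,
          mapV_sub, hd0, sub_zero, mapV_smul, mapV_mapV] at h4
        exact h4
    exact hgflat.mono K₀ (Submonoid.powers_le.2 hgM)
  obtain ⟨eJ⟩ := exists_stalk_quot_equiv K₀ J P (hJP J (hJI.trans hI))
  exact Module.Flat.of_linearEquiv ((e.symm.baseChange A (A ⧸ J) _ _).trans eJ)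

end Groth.Agent.H4RG
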