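import Groth.Prelude
import Groth.Agent.H4RG.DescFlat
import Mathlib

/-!
# The flatness condition above the closed points, on any model of the base change
-/

set_option autoImplicit false
set_option linter.style.haveILetI false
set_option backward.isDefEq.respectTransparency.types false

universe u

open TensorProduct IsLocalRing

namespace Groth.Agent.H4RG

attribute [local instance] Algebra.TensorProduct.rightAlgebra

variable {A A' B : Type u} [CommRing A] [CommRing A'] [IsLocalRing A'] [Algebra A A'] [CommRing B] [IsLocalRing B]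
  [Algebra A B]

/-- A flat extension of scalars is flat at every point. -/
theorem FlatPts.of_flat (M : Type u) [AddCommGroup M] [Module B M] [Module A M] [IsScalarTower A B M]
    [Module.Flat A' (A' ⊗[A] M)] : FlatPts A A' B M := fun q _ _ => by
  let T := A' ⊗[A] B
  haveI : Module.Flat A' (T ⊗[B] M) :=
    Module.Flat.of_linearEquiv (Algebra.IsPushout.cancelBaseChange A A' B T M)
  exact flat_localized_of_flat (T ⊗[B] M) q

/-- The condition does not depend on the model of the base change. -/
theorem flatAbove_iff_flatPts {B' M M' : Type u} [CommRing B'] [Algebra B B'] [Algebra A' B'] [Algebra A B']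
    [IsScalarTower A B B'] [IsScalarTower A A' B'] [Algebra.IsPushout A B A' B']
    [AddCommGroup M] [Module B M] [AddCommGroup M'] [Module B' M'] [Module B M'] [IsScalarTower B B' M']
    [Module A' M'] [IsScalarTower A' B' M'] (f : M →ₗ[B] M') (hf : IsBaseChange B' f) :
    (∀ (q : Ideal B') [q.IsPrime], (maximalIdeal A').map (algebraMap A' B') ⊔
      (maximalIdeal B).map (algebraMap B B') ≤ q → FlatCA.FlatAt A' q M') ↔ FlatPts A A' B M := by
  let T := A' ⊗[A] B
  haveI : Algebra.IsPushout A A' B B' := Algebra.IsPushout.symm ‹_›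
  let e : T ≃ₐ[A'] B' := Algebra.IsPushout.equiv A A' B B'
  have hright : ∀ b, e ((1 : A') ⊗ₜ[A] b) = algebraMap B B' b := fun b => by
    rw [Algebra.IsPushout.equiv_tmul, map_one, one_mul]
  letI : Algebra T B' := e.toAlgHom.toRingHom.toAlgebra
  haveI : IsScalarTower A' T B' := IsScalarTower.of_algebraMap_eq fun r => (e.commutes r).symm
  haveI : IsScalarTower B T B' := IsScalarTower.of_algebraMap_eq fun b => by
    show _ = e (algebraMap B T b)
    rw [Algebra.TensorProduct.right_algebraMap_apply, hright]
  letI : Module T M' := Module.compHom M' e.toAlgHom.toRingHom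
  haveI : IsScalarTower T B' M' := IsScalarTower.of_algebraMap_smul fun _ _ => rfl
  haveI : IsScalarTower A' T M' := IsScalarTower.of_algebraMap_smul fun r m => by
    rw [← algebraMap_smul B' (algebraMap A' T r), ← IsScalarTower.algebraMap_apply, algebraMap_smul]
  haveI : IsScalarTower B T M' := IsScalarTower.of_algebraMap_smul fun b m => by
    rw [← algebraMap_smul B' (algebraMap B T b), ← IsScalarTower.algebraMap_apply, algebraMap_smul]
  let eB : T ≃ₗ[B] B' := LinearEquiv.ofBijective (IsScalarTower.toAlgHom B T B').toLinearMap e.bijective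
  let ψ : T ⊗[B] M →ₗ[T] M' := LinearMap.liftBaseChange T f
  have hψ : Function.Bijective ψ := by
    have hcomp : ∀ w, ψ w = hf.equiv (eB.rTensor M w) := fun w => by
      induction w using TensorProduct.induction_on with
      | zero => simp
      | add a b ha hb => simp only [map_add, ha, hb]
      | tmul t m =>
        rw [LinearMap.liftBaseChange_tmul, LinearEquiv.rTensor_tmul, IsBaseChange.equiv_tmul]
        rfl
    rw [show (ψ : T ⊗[B] M → M') = hf.equiv ∘ eB.rTensor M from funext hcomp]
    exact hf.equiv.bijective.comp (eB.rTensor M).bijective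
  have key : ∀ (q : Ideal B') [q.IsPrime],
      (FlatCA.FlatAt A' q M' ↔ Module.Flat A' (LocalizedModule (q.comap (algebraMap T B')).primeCompl (T ⊗[B] M))) := by
    intro q _
    let q0 := q.comap (algebraMap T B')
    have hdiv : ∀ c ∉ q, ∃ u ∉ q0, ∃ c', c * c' = algebraMap T B' u := fun c hc => by
      obtain ⟨u, rfl⟩ := e.surjective c
      exact ⟨u, hc, 1, mul_one _⟩
    let eq := IsLocalizedModule.mapEquiv q0.primeCompl (LocalizedModule.mkLinearMap q0.primeCompl _)
      (LocalizedModule.mkLinearMap q0.primeCompl _) (Localization q0.primeCompl) (LinearEquiv.ofBijective ψ hψ)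
    refine (flat_restrict_iff (M := M') q0 q rfl hdiv).trans ⟨fun _ => ?_, fun _ => ?_⟩
    · exact Module.Flat.of_linearEquiv (eq.restrictScalars A')
    · exact Module.Flat.of_linearEquiv (eq.restrictScalars A').symm
  have hrange : ∀ (q : Ideal B') [q.IsPrime], IsPt (q.comap (algebraMap T B')) ↔
      (maximalIdeal A').map (algebraMap A' B') ⊔ (maximalIdeal B).map (algebraMap B B') ≤ q := by
    intro q _
    have h1 : (q.comap (algebraMap T B')).comap (algebraMap A' T) = q.comap (algebraMap A' B') := by
      rw [Ideal.comap_comap, ← IsScalarTower.algebraMap_eq]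
    have h2 : (q.comap (algebraMap T B')).comap (Algebra.TensorProduct.includeRight : B →ₐ[A] T) =
        q.comap (algebraMap B B') := Ideal.ext fun b => by
      simp only [Ideal.mem_comap]
      show e ((1 : A') ⊗ₜ[A] b) ∈ q ↔ _
      rw [hright]
    rw [IsPt, h1, h2, sup_le_iff, Ideal.map_le_iff_le_comap, Ideal.map_le_iff_le_comap]
    refine ⟨fun h => ⟨h.2.ge, h.1.ge⟩, fun h => ⟨?_, ?_⟩⟩
    · exact ((maximalIdeal.isMaximal B).eq_of_le (Ideal.IsPrime.comap _).ne_top h.2).symm
    · exact ((maximalIdeal.isMaximal A').eq_of_le (Ideal.IsPrime.comap _).ne_top h.1).symm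
  constructor
  · intro h q0 _ hq0
    obtain ⟨q, hq, rfl⟩ : ∃ q : Ideal B', q.IsPrime ∧ q.comap (algebraMap T B') = q0 :=
      ⟨q0.comap e.symm.toAlgHom.toRingHom, Ideal.IsPrime.comap _, Ideal.ext fun t => by
        simp only [Ideal.mem_comap]
        show e.symm (e t) ∈ q0 ↔ _
        rw [e.symm_apply_apply]⟩
    haveI := hq
    exact (key q).1 (h q ((hrange q).1 hq0))
  · intro h q _ hle
    exact (key q).2 (h _ ((hrange q).2 hle))

end Groth.Agent.H4RG
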