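import Groth.Agent.H4RG.FlatIdeal
import Groth.Agent.H4RG.FlatPtsPrime
import Groth.Agent.FlatModel.Open
import Mathlib

/-!
# The primes of the closed fibre where a module is flat modulo an ideal form an open set
-/

set_option autoImplicit false
set_option linter.style.haveILetI false
set_option backward.isDefEq.respectTransparency.types false

universe u

open TensorProduct IsLocalRing

namespace Groth.Agent.H4RG

attribute [local instance] Algebra.TensorProduct.rightAlgebra

/-- A base change to a quotient of the base is a quotient of the algebra. -/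
theorem surjective_quot_tensor {A B : Type u} [CommRing A] [CommRing B] [Algebra A B] (I : Ideal A) :
    Function.Surjective (algebraMap B ((A ⧸ I) ⊗[A] B)) := fun z => by
  induction z using TensorProduct.induction_on with
  | zero => exact ⟨0, map_zero _⟩
  | add a b ha hb =>
    obtain ⟨a', rfl⟩ := ha
    obtain ⟨b', rfl⟩ := hb
    exact ⟨a' + b', map_add _ _ _⟩
  | tmul r b =>
    obtain ⟨a, rfl⟩ := Ideal.Quotient.mk_surjective r
    exact ⟨a • b, by rw [Algebra.TensorProduct.right_algebraMap_apply, ← smul_tmul, Algebra.smul_def, mul_one]; rfl⟩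

/-- The kernel of the quotient lies in the primes over the maximal ideal. -/
theorem ker_quot_tensor_le {A B : Type u} [CommRing A] [IsLocalRing A] [CommRing B] [Algebra A B] (I : Ideal A)
    [IsLocalRing (A ⧸ I)] (q : Ideal B) [q.IsPrime] (hq : q.comap (algebraMap A B) = maximalIdeal A) :
    RingHom.ker (algebraMap B ((A ⧸ I) ⊗[A] B)) ≤ q := by
  let ev : (A ⧸ I) →ₐ[A] q.ResidueField := Ideal.Quotient.liftₐ I (Algebra.ofId A q.ResidueField) fun a ha => by
    show algebraMap A q.ResidueField a = 0
    rw [IsScalarTower.algebraMap_apply A B q.ResidueField, Ideal.algebraMap_residueField_eq_zero]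
    refine hq.ge ((IsLocalRing.mem_maximalIdeal _).2 fun hu => not_isUnit_zero (M₀ := A ⧸ I) ?_ : a ∈ maximalIdeal A)
    rw [← Ideal.Quotient.eq_zero_iff_mem.2 ha]
    exact hu.map (Ideal.Quotient.mk I)
  let F : (A ⧸ I) ⊗[A] B →ₐ[A] q.ResidueField := Algebra.TensorProduct.lift ev (IsScalarTower.toAlgHom A B q.ResidueField)
    fun x y => Commute.all (S := q.ResidueField) _ _
  intro b hb
  rw [← Ideal.algebraMap_residueField_eq_zero]
  have : F (algebraMap B ((A ⧸ I) ⊗[A] B) b) = algebraMap B q.ResidueField b := by
    rw [Algebra.TensorProduct.right_algebraMap_apply]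
    refine (Algebra.TensorProduct.lift_tmul ev (IsScalarTower.toAlgHom A B q.ResidueField)
      (fun x y => Commute.all (S := q.ResidueField) _ _) _ _).trans ?_
    rw [map_one, one_mul]
    rfl
  rw [← this, RingHom.mem_ker.1 hb, map_zero]

/-- Near a prime where the module is flat modulo an ideal it stays so, on any model. -/
theorem exists_nhd_flatPts_aux {A B R S M M' : Type u} [CommRing A] [IsLocalRing A] [CommRing B] [Algebra A B]
    [Algebra.FinitePresentation A B] [CommRing R] [IsLocalRing R] [Algebra A R] [IsLocalHom (algebraMap A R)]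
    [IsLocalization.AtPrime R (maximalIdeal R)] (hR : Function.Surjective (algebraMap A R))
    [CommRing S] [Algebra B S] [Algebra R S] [Algebra A S] [IsScalarTower A B S] [IsScalarTower A R S]
    [Algebra.IsPushout A B R S] [Algebra.FinitePresentation R S] (hBs : Function.Surjective (algebraMap B S))
    [AddCommGroup M] [Module B M] [AddCommGroup M'] [Module S M'] [Module B M'] [IsScalarTower B S M'] [Module R M']
    [IsScalarTower R S M'] [Module.FinitePresentation S M'] (f : M →ₗ[B] M') (hf : IsBaseChange S f)
    (q : Ideal B) [q.IsPrime] (hq : q.comap (algebraMap A B) = maximalIdeal A) (hker : RingHom.ker (algebraMap B S) ≤ q)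
    (h : FlatPts A R (Localization.AtPrime q) (LocalizedModule q.primeCompl M)) :
    ∃ b ∉ q, ∀ (z : Ideal B) [z.IsPrime], b ∉ z →
      FlatPts A R (Localization.AtPrime z) (LocalizedModule z.primeCompl M) := by
  have hm : ∀ (z : Ideal S), z.comap (algebraMap B S) = q → z.IsPrime → z.comap (algebraMap R S) = maximalIdeal R := by
    intro z hz _
    refine ((maximalIdeal.isMaximal R).eq_of_le (Ideal.IsPrime.comap _).ne_top fun r hr => ?_).symm
    obtain ⟨a, rfl⟩ := hR r
    have ha : a ∈ maximalIdeal A := (IsLocalRing.mem_maximalIdeal _).2 fun hu =>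
      (IsLocalRing.mem_maximalIdeal _).1 hr (hu.map (algebraMap A R))
    have h1 : algebraMap A B a ∈ z.comap (algebraMap B S) := hz.ge (hq.ge ha)
    rw [Ideal.mem_comap, ← IsScalarTower.algebraMap_apply, IsScalarTower.algebraMap_apply A R S] at h1
    exact h1
  let Q := q.map (algebraMap B S)
  haveI : Q.IsPrime := Ideal.map_isPrime_of_surjective hBs hker
  have hQ : Q.comap (algebraMap B S) = q := by
    rw [Ideal.comap_map_of_surjective _ hBs, ← RingHom.ker_eq_comap_bot]
    exact sup_eq_left.2 hker
  have hflatQ : Module.Flat R (LocalizedModule Q.primeCompl M') :=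
    (flatPts_atPrime_iff (A := A) (C := R) (Ct := R) q (maximalIdeal R) f hf).2 h Q hQ (hm Q hQ inferInstance)
  obtain ⟨g, hg, hW⟩ := FlatModel.exists_flat_nhd M' Q hflatQ
  obtain ⟨b, rfl⟩ := hBs g
  refine ⟨b, fun hb => hg (Ideal.mem_map_of_mem _ hb), fun z _ hbz => ?_⟩
  refine (flatPts_atPrime_iff (A := A) (C := R) (Ct := R) z (maximalIdeal R) f hf).1 fun Z _ hZ _ => ?_
  exact hW Z.primeCompl fun hgz => hbz (hZ.le hgz)

/-- A model of the base change of a finitely presented module. -/
theorem exists_baseChange_model {A : Type u} [CommRing A] (B S M : Type u) [CommRing B] [CommRing S] [Algebra B S]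
    [Algebra A S] [AddCommGroup M] [Module B M] [Module.FinitePresentation B M] :
    ∃ (M' : Type u) (_ : AddCommGroup M') (_ : Module S M') (_ : Module B M') (_ : IsScalarTower B S M')
      (_ : Module A M') (_ : IsScalarTower A S M') (f : M →ₗ[B] M'), IsBaseChange S f ∧ Module.FinitePresentation S M' := by
  exact ⟨S ⊗[B] M, inferInstance, inferInstance, inferInstance, inferInstance, inferInstance,
    inferInstance, TensorProduct.mk B S M 1, TensorProduct.isBaseChange B M S,
    inferInstance⟩

/-- Near a prime where the module is flat modulo an ideal it stays so. -/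
theorem exists_nhd_flatPts {A B : Type u} [CommRing A] [IsLocalRing A] [CommRing B] [Algebra A B]
    [Algebra.FinitePresentation A B] (M : Type u) [AddCommGroup M] [Module B M] [Module A M] [IsScalarTower A B M]
    [Module.FinitePresentation B M] (I : Ideal A) (q : Ideal B) [q.IsPrime]
    (hq : q.comap (algebraMap A B) = maximalIdeal A) [IsLocalRing (A ⧸ I)]
    (h : FlatPts A (A ⧸ I) (Localization.AtPrime q) (LocalizedModule q.primeCompl M)) :
    ∃ b ∉ q, ∀ (z : Ideal B) [z.IsPrime], b ∉ z →
      FlatPts A (A ⧸ I) (Localization.AtPrime z) (LocalizedModule z.primeCompl M) := by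
  let R := A ⧸ I
  haveI : Algebra.IsPushout A B R (R ⊗[A] B) := Algebra.IsPushout.symm inferInstance
  haveI : IsLocalization.AtPrime R (maximalIdeal R) :=
    IsLocalization.of_le_isUnit_of_bijective (fun x hx => by
      obtain ⟨y, hy, rfl⟩ := hx; exact IsLocalRing.notMem_maximalIdeal.1 hy) Function.bijective_id
  haveI : IsLocalHom (algebraMap A R) := IsLocalHom.of_surjective _ Ideal.Quotient.mk_surjective
  let S := R ⊗[A] B
  obtain ⟨M', _, _, _, _, _, _, f, hf, hfp⟩ := exists_baseChange_model (A := R) B S M
  haveI := hfp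
  exact exists_nhd_flatPts_aux (R := R) (S := S) (M := M) (M' := M') Ideal.Quotient.mk_surjective
    (surjective_quot_tensor I) f hf q hq (ker_quot_tensor_le I q hq) h

end Groth.Agent.H4RG
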