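import Groth.Agent.H4RG.FlatIdealFG
import Groth.Agent.H4RG.FlatPtsOpen
import Groth.Agent.H4RG.RelAssAffine
import Groth.Agent.FibFlatMod.StageScheme
import Groth.Agent.GrFlat5.FlatAtArtin
import Groth.Agent.AnLocal.Henselian
import Groth.Agent.QCoh.FT
import Groth.Agent.QCoh.Support

/-!
# Flatness above the closed point at a point of a scheme over a local ring
-/

set_option autoImplicit false
set_option linter.style.haveILetI false
set_option backward.isDefEq.respectTransparency.types false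

universe u

open CategoryTheory Limits AlgebraicGeometry TensorProduct IsLocalRing

namespace Groth.Agent.H4RG

variable {X S : Scheme.{u}} (f : X ⟶ S) (F : X.Modules)

/-- The base change is flat at the points over a pair of points. -/
def FlatOverPair (x : X) {T : Scheme.{u}} (g : T ⟶ S) (t : T) : Prop :=
  ∀ x' : ↑(pullback f g), (pullback.snd f g).base x' = t → (pullback.fst f g).base x' = x →
    FlatMod.IsFlatOverAt (pullback.snd f g) ((Scheme.Modules.pullback (pullback.fst f g)).obj F) x'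

variable {f F}

/-- Flatness over a pair of points, on sections. -/
theorem flatOverPair_iff [IsAffine S] (hF : Coh.IsQCoh F) {U : X.Opens} (hU : IsAffineOpen U) {x : X} (hx : x ∈ U)
    {T : Scheme.{u}} (g : T ⟶ S) (t : T) :
    letI : Algebra Γ(S, ⊤) Γ(X, U) := (f.appLE ⊤ U le_top).hom.toAlgebra
    letI : Algebra Γ(S, ⊤) (T.presheaf.stalk t) := (g.appTop ≫ T.presheaf.germ ⊤ t trivial).hom.toAlgebra
    FlatOverPair f F x g t ↔
      FlatPts Γ(S, ⊤) (T.presheaf.stalk t) (Localization.AtPrime (hU.primeIdealOf ⟨x, hx⟩).asIdeal)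
        (LocalizedModule (hU.primeIdealOf ⟨x, hx⟩).asIdeal.primeCompl Γ(F, U)) := by
  obtain ⟨V, hV, htV, -⟩ := exists_isAffineOpen_mem_and_subset (x := t) (U := (⊤ : T.Opens)) trivial
  let p1 := pullback.fst f g
  let p2 := pullback.snd f g
  let W : (pullback f g).Opens := p1 ⁻¹ᵁ U ⊓ p2 ⁻¹ᵁ V
  obtain ⟨hW, i1, i2, hpo⟩ := FibFlatMod.isPushout_sections (g' := p1) (u' := p2) (IsPullback.of_hasPullback f g)
    (isAffineOpen_top S) hU le_top hV le_top (W := W) rfl inf_le_left inf_le_right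
  let F' := (Scheme.Modules.pullback p1).obj F
  have hF' : Coh.IsQCoh F' := QCoh.isQCoh_pullback p1 hF
  letI : Algebra Γ(S, ⊤) Γ(X, U) := (f.appLE ⊤ U le_top).hom.toAlgebra
  letI : Algebra Γ(S, ⊤) Γ(T, V) := (g.appLE ⊤ V le_top).hom.toAlgebra
  letI : Algebra Γ(X, U) Γ(pullback f g, W) := (p1.appLE U W inf_le_left).hom.toAlgebra
  letI : Algebra Γ(T, V) Γ(pullback f g, W) := (p2.appLE V W inf_le_right).hom.toAlgebra
  letI : Algebra Γ(S, ⊤) Γ(pullback f g, W) := (f.appLE ⊤ U le_top ≫ p1.appLE U W inf_le_left).hom.toAlgebra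
  haveI := i1; haveI := i2; haveI := hpo
  haveI : Algebra.IsPushout Γ(S, ⊤) Γ(X, U) Γ(T, V) Γ(pullback f g, W) := Algebra.IsPushout.symm hpo
  letI : Module Γ(X, U) Γ(F', W) := Module.compHom _ (p1.appLE U W inf_le_left).hom
  haveI : IsScalarTower Γ(X, U) Γ(pullback f g, W) Γ(F', W) :=
    ⟨fun a b c => mul_smul ((p1.appLE U W inf_le_left).hom a) b c⟩
  obtain ⟨l, -, hl⟩ := ExistEasy.exists_pullSec_baseChange p1 hF hW hU inf_le_left
  letI : Module Γ(T, V) Γ(F', W) := Module.compHom _ (p2.appLE V W inf_le_right).hom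
  haveI : IsScalarTower Γ(T, V) Γ(pullback f g, W) Γ(F', W) := IsScalarTower.of_algebraMap_smul fun _ _ => rfl
  letI : Algebra Γ(S, ⊤) (T.presheaf.stalk t) := (g.appTop ≫ T.presheaf.germ ⊤ t trivial).hom.toAlgebra
  letI : Algebra Γ(T, V) (T.presheaf.stalk t) := (T.presheaf.germ V t htV).hom.toAlgebra
  haveI : IsScalarTower Γ(S, ⊤) Γ(T, V) (T.presheaf.stalk t) := IsScalarTower.of_algebraMap_eq fun a => by
    show T.presheaf.germ ⊤ t trivial (g.appTop a) = T.presheaf.germ V t htV (g.appLE ⊤ V le_top a)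
    exact (TopCat.Presheaf.germ_res_apply T.presheaf _ t htV _).symm
  haveI : IsLocalization.AtPrime (T.presheaf.stalk t) (hV.primeIdealOf ⟨t, htV⟩).asIdeal :=
    hV.isLocalization_stalk ⟨t, htV⟩
  refine Iff.trans ?_ (flatPts_atPrime_iff (A := Γ(S, ⊤)) (Ct := T.presheaf.stalk t)
    (hU.primeIdealOf ⟨x, hx⟩).asIdeal (hV.primeIdealOf ⟨t, htV⟩).asIdeal l hl)
  constructor
  · intro h Q _ hQq hQt
    let x' : ↑(pullback f g) := hW.fromSpec ⟨Q, ‹_›⟩
    have hx' : x' ∈ W := by
      have : x' ∈ Set.range hW.fromSpec := ⟨_, rfl⟩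
      rwa [hW.range_fromSpec] at this
    have hp : hW.primeIdealOf ⟨x', hx'⟩ = ⟨Q, ‹_›⟩ := hW.fromSpec.injective (hW.fromSpec_primeIdealOf _)
    have h1 : p1.base x' = x := by
      have e1 := IsAffineOpen.comap_primeIdealOf_appLE (f := p1) U hU W hW inf_le_left hx'
      rw [hp] at e1
      have e2 : hU.primeIdealOf ⟨p1.base x', hx'.1⟩ = hU.primeIdealOf ⟨x, hx⟩ :=
        e1.symm.trans (PrimeSpectrum.ext hQq)
      have e3 := congrArg hU.fromSpec e2
      rwa [hU.fromSpec_primeIdealOf, hU.fromSpec_primeIdealOf] at e3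
    have h2 : p2.base x' = t := by
      have e1 := IsAffineOpen.comap_primeIdealOf_appLE (f := p2) V hV W hW inf_le_right hx'
      rw [hp] at e1
      have e2 : hV.primeIdealOf ⟨p2.base x', hx'.2⟩ = hV.primeIdealOf ⟨t, htV⟩ :=
        e1.symm.trans (PrimeSpectrum.ext hQt)
      have e3 := congrArg hV.fromSpec e2
      rwa [hV.fromSpec_primeIdealOf, hV.fromSpec_primeIdealOf] at e3
    exact flatAt_congr (congrArg PrimeSpectrum.asIdeal hp)
      ((isFlatOverAt_iff_localized p2 hF' hW hV inf_le_right hx').1 (h x' h2 h1))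
  · intro h x' h2 h1
    have hx' : x' ∈ W := ⟨show p1.base x' ∈ U from h1 ▸ hx, show p2.base x' ∈ V from h2 ▸ htV⟩
    refine (isFlatOverAt_iff_localized p2 hF' hW hV inf_le_right hx').2 (h _ ?_ ?_)
    · refine (congrArg PrimeSpectrum.asIdeal
        (IsAffineOpen.comap_primeIdealOf_appLE (f := p1) U hU W hW inf_le_left hx')).trans ?_
      congr 2
      exact Subtype.ext h1
    · refine (congrArg PrimeSpectrum.asIdeal
        (IsAffineOpen.comap_primeIdealOf_appLE (f := p2) V hV W hW inf_le_right hx')).trans ?_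
      congr 2
      exact Subtype.ext h2

/-- The prime of a point over the closed point. -/
theorem comap_prime_of_closedPoint {A : Type u} [CommRing A] [IsLocalRing A] [IsLocalRing Γ(Spec (CommRingCat.of A), ⊤)]
    {Y : Scheme.{u}} (h : Y ⟶ Spec (CommRingCat.of A)) {U : Y.Opens} (hU : IsAffineOpen U) {y : Y} (hy : y ∈ U)
    (hcl : h.base y = IsLocalRing.closedPoint A) :
    (hU.primeIdealOf ⟨y, hy⟩).asIdeal.comap (h.appLE ⊤ U le_top).hom = maximalIdeal Γ(Spec (CommRingCat.of A), ⊤) := by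
  have e1 := congrArg PrimeSpectrum.asIdeal
    (IsAffineOpen.comap_primeIdealOf_appLE (f := h) ⊤ (isAffineOpen_top _) U hU le_top hy)
  refine e1.trans ?_
  have hs : Function.Bijective (Scheme.ΓSpecIso (CommRingCat.of A)).inv.hom :=
    (ConcreteCategory.isIso_iff_bijective _).1 inferInstance
  apply Ideal.comap_injective_of_surjective _ hs.2
  rw [GrFlat5.comap_primeIdealOf_top, hcl]
  haveI := IsLocalHom.of_surjective _ hs.2
  have hm : (maximalIdeal Γ(Spec (CommRingCat.of A), ⊤)).comap (Scheme.ΓSpecIso (CommRingCat.of A)).inv.hom =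
      maximalIdeal A :=
    ((IsLocalRing.local_hom_TFAE (Scheme.ΓSpecIso (CommRingCat.of A)).inv.hom).out 0 4).mp ‹_›
  exact hm.symm

/-- The structure map to a stalk over the closed point is local. -/
theorem isLocalHom_germ {A : Type u} [CommRing A] [IsLocalRing A] [IsLocalRing Γ(Spec (CommRingCat.of A), ⊤)]
    {T : Scheme.{u}} (g : T ⟶ Spec (CommRingCat.of A)) (t : T) (ht : g.base t = IsLocalRing.closedPoint A) :
    IsLocalHom (g.appTop ≫ T.presheaf.germ ⊤ t trivial).hom := by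
  obtain ⟨V, hV, htV, -⟩ := exists_isAffineOpen_mem_and_subset (x := t) (U := (⊤ : T.Opens)) trivial
  letI : Algebra Γ(T, V) (T.presheaf.stalk t) := (T.presheaf.germ V t htV).hom.toAlgebra
  haveI : IsLocalization.AtPrime (T.presheaf.stalk t) (hV.primeIdealOf ⟨t, htV⟩).asIdeal :=
    hV.isLocalization_stalk ⟨t, htV⟩
  refine ⟨fun a ha => by_contra fun hna => ?_⟩
  have h1 : (g.appTop ≫ T.presheaf.germ ⊤ t trivial).hom a =
      algebraMap Γ(T, V) (T.presheaf.stalk t) (g.appLE ⊤ V le_top a) :=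
    (TopCat.Presheaf.germ_res_apply T.presheaf _ t htV _).symm
  rw [h1, IsLocalization.AtPrime.isUnit_to_map_iff (T.presheaf.stalk t) (hV.primeIdealOf ⟨t, htV⟩).asIdeal] at ha
  exact ha (show a ∈ (hV.primeIdealOf ⟨t, htV⟩).asIdeal.comap (g.appLE ⊤ V le_top).hom from
    (comap_prime_of_closedPoint g hV htV ht).ge ((IsLocalRing.mem_maximalIdeal a).2 hna))

end Groth.Agent.H4RG
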