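import Groth.Prelude
import Groth.Agent.H4RG.FreeCover
import Mathlib

/-!
# Étale covers of a fibre carrying a free module
-/

set_option autoImplicit false
set_option linter.style.haveILetI false
set_option backward.isDefEq.respectTransparency.types false

universe u

open TensorProduct IsLocalRing

namespace Groth.Agent.H4RG

/-- The module over a product is the product of the modules, freely and with finite presentation. -/
theorem free_fp_pi {A S N : Type u} [CommRing A] [CommRing S] [AddCommGroup N] [Module S N] {m : ℕ}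
    (T : Fin m → Type u) [∀ i, CommRing (T i)] [∀ i, Algebra S (T i)] [∀ i, Algebra A (T i)]
    (hfree : ∀ i, Module.Free A (T i ⊗[S] N)) (hfp : ∀ i, Module.FinitePresentation (T i) (T i ⊗[S] N)) :
    Module.Free A ((∀ i, T i) ⊗[S] N) ∧ Module.FinitePresentation (∀ i, T i) ((∀ i, T i) ⊗[S] N) := by
  classical
  let C := ∀ i, T i
  let M := fun i => T i ⊗[S] N
  letI : ∀ i, Algebra C (T i) := fun i => (Pi.evalRingHom T i).toAlgebra
  haveI : ∀ i, IsScalarTower S C (T i) := fun i => IsScalarTower.of_algebraMap_eq fun _ => rfl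
  haveI : ∀ i, IsScalarTower A C (T i) := fun i => IsScalarTower.of_algebraMap_eq fun _ => rfl
  haveI : ∀ i, Module.FinitePresentation C (T i) := fun i => by
    refine Module.finitePresentation_of_surjective (Algebra.linearMap C (T i))
      (fun y => ⟨Pi.single i y, Pi.single_eq_same i y⟩) ⟨{1 - Pi.single i 1}, ?_⟩
    apply le_antisymm
    · rw [Finset.coe_singleton, Submodule.span_singleton_le_iff_mem, LinearMap.mem_ker]
      show (1 - Pi.single i 1 : C) i = 0
      rw [Pi.sub_apply, Pi.one_apply, Pi.single_eq_same, sub_self]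
    · intro y hy
      rw [Finset.coe_singleton, Submodule.mem_span_singleton]
      refine ⟨y, funext fun j => ?_⟩
      show y j * (1 - Pi.single i 1 : C) j = y j
      rcases eq_or_ne j i with rfl | hj
      · rw [show y j = 0 from LinearMap.mem_ker.1 hy, zero_mul]
      · rw [Pi.sub_apply, Pi.single_eq_of_ne hj, sub_zero, Pi.one_apply, mul_one]
  haveI : ∀ i, IsScalarTower C (T i) (M i) := fun i => inferInstance
  haveI : ∀ i, Module.FinitePresentation C (M i) := fun i =>
    haveI := hfp i
    Module.FinitePresentation.trans C (M i) (T i)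
  letI iMod : Module C (∀ i, M i) := Pi.module _ _ _
  haveI : Module.FinitePresentation C (∀ i, M i) := Module.FinitePresentation.pi M
  let φ : C ⊗[S] N →ₗ[C] (∀ i, M i) := LinearMap.pi fun i =>
    AlgebraTensorModule.map (Algebra.linearMap C (T i)) (LinearMap.id : N →ₗ[S] N)
  have hφ : Function.Bijective φ := by
    let e : C ⊗[S] N ≃ₗ[S] (∀ i, M i) := (TensorProduct.comm S C N).trans
      ((TensorProduct.piRight S S N T).trans (LinearEquiv.piCongrRight fun i => TensorProduct.comm S N (T i)))
    have he : ∀ w, φ w = e w := fun w => by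
      induction w using TensorProduct.induction_on with
      | zero => simp
      | add a b ha hb => simp only [map_add, ha, hb]
      | tmul c n =>
        funext i
        simp [φ, e]
        rfl
    rw [show (φ : C ⊗[S] N → ∀ i, M i) = e from funext he]
    exact e.bijective
  let eφ := LinearEquiv.ofBijective φ hφ
  haveI : ∀ i, IsScalarTower A C (M i) := fun i => IsScalarTower.of_algebraMap_smul fun a z => by
    rw [← algebraMap_smul (T i) (algebraMap A C a), ← IsScalarTower.algebraMap_apply, algebraMap_smul]
  haveI := fun i => hfree i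
  exact ⟨Module.Free.of_equiv (eφ.restrictScalars A).symm, Module.FinitePresentation.of_equiv eφ.symm⟩

/-- Freeness does not see the type synonym of restriction of scalars. -/
theorem free_restrictScalars {A C M : Type u} [CommRing A] [CommRing C] [Algebra A C] [AddCommGroup M] [Module C M]
    [Module A M] [IsScalarTower A C M] [Module.Free A M] : Module.Free A (RestrictScalars A C M) := by
  let r : M ≃ₗ[A] RestrictScalars A C M :=
    { (RestrictScalars.addEquiv A C M).symm with
      map_smul' := fun a x => by
        apply (RestrictScalars.addEquiv A C M).injective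
        simp [algebraMap_smul] }
  exact Module.Free.of_equiv r

variable {R S : Type u} [CommRing R] [CommRing S] [Algebra R S]

/-- After an étale neighbourhood the module becomes free on an étale cover of the fibre. -/
theorem exists_free_cover [Algebra.FiniteType R S]
    (N : Type u) [AddCommGroup N] [Module S N] [Module R N] [IsScalarTower R S N] [Module.Finite S N]
    (p : Ideal R) [p.IsPrime] (hflat : ∀ (q : Ideal S) [q.IsPrime], q.LiesOver p → FlatCA.FlatAt R q N) :
    ∃ (R' : Type u) (_ : CommRing R') (_ : Algebra R R') (p' : Ideal R') (_ : p'.IsPrime), FlatCA.IsEtaleNhd R R' p p' ∧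
      ∀ (SA NA : Type u) [CommRing SA] [Algebra R SA] [Algebra S SA] [Algebra (Localization.AtPrime p') SA]
        [IsScalarTower R S SA] [IsScalarTower R (Localization.AtPrime p') SA]
        [Algebra.IsPushout R S (Localization.AtPrime p') SA]
        [AddCommGroup NA] [Module SA NA] [Module S NA] [IsScalarTower S SA NA]
        (f : N →ₗ[S] NA), IsBaseChange SA f →
        ∃ (m : ℕ) (g : Fin m → SA),
          (∀ (Q : Ideal SA) [Q.IsPrime], Q.LiesOver (maximalIdeal (Localization.AtPrime p')) → ∃ i, g i ∉ Q) ∧
          (∀ i, Module.Free (Localization.AtPrime p') (Localization.Away (g i) ⊗[S] N) ∧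
            Module.FinitePresentation (Localization.Away (g i)) (Localization.Away (g i) ⊗[S] N)) ∧
          ∃ (C : Type u) (_ : CommRing C) (_ : Algebra SA C) (_ : Algebra (Localization.AtPrime p') C)
            (_ : IsScalarTower (Localization.AtPrime p') SA C) (_ : Algebra S C) (_ : IsScalarTower S SA C),
            Algebra.Etale SA C ∧
            (∀ (q : Ideal S) [q.IsPrime], q.LiesOver p → ∃ x' : Ideal C, x'.IsPrime ∧ x'.comap (algebraMap S C) = q ∧
              x'.LiesOver (maximalIdeal (Localization.AtPrime p'))) ∧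
            Module.FinitePresentation C (C ⊗[SA] NA) ∧
            Module.Free (Localization.AtPrime p') (RestrictScalars (Localization.AtPrime p') C (C ⊗[SA] NA)) := by
  obtain ⟨R', _, _, _, ε, P, _, hP, hm⟩ := freeOver_univ N p hflat
  refine ⟨R', inferInstance, inferInstance, P, inferInstance, isEtaleNhd_of_point p ε P hP, ?_⟩
  intro SA NA _ _ _ _ _ _ _ _ _ _ _ f hf
  let A := Localization.AtPrime P
  obtain ⟨m, g, hcov, hpc⟩ := hm SA
  obtain ⟨τ, -, hτ2⟩ := exists_localPoint ε P hP
  have hAp : (maximalIdeal A).comap (algebraMap R A) = p := by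
    ext r
    rw [Ideal.mem_comap, ← hτ2, AlgHom.commutes, Ideal.algebraMap_residueField_eq_zero]
  have hq : ∀ (q : Ideal S) [q.IsPrime], q.LiesOver p → ∀ (Q : Ideal SA) [Q.IsPrime], Q.LiesOver q →
      Q.LiesOver (maximalIdeal A) → ∃ i, g i ∉ Q := by
    intro q _ hqp Q _ hQq hQm
    let e := PrimeSpectrum.preimageEquivFiber R S ⟨p, inferInstance⟩
    let x := e ⟨⟨q, inferInstance⟩, PrimeSpectrum.ext hqp.over.symm⟩
    have hx : x.asIdeal.comap (Algebra.TensorProduct.includeRight (R := R) (A := p.ResidueField) (B := S)).toRingHom = q :=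
      congrArg (fun z => z.1.asIdeal) (e.symm_apply_apply ⟨⟨q, inferInstance⟩, PrimeSpectrum.ext hqp.over.symm⟩)
    exact hcov x (Set.mem_univ x) Q ⟨hx.trans hQq.over⟩ hQm
  refine ⟨m, g, fun Q _ hQm => ?_, hpc, ?_⟩
  · haveI : (Q.comap (algebraMap S SA)).IsPrime := Ideal.comap_isPrime _ _
    refine hq (Q.comap (algebraMap S SA)) ⟨?_⟩ Q ⟨rfl⟩ hQm
    rw [Ideal.under_def, Ideal.comap_comap, ← IsScalarTower.algebraMap_eq, IsScalarTower.algebraMap_eq R A SA,
      ← Ideal.comap_comap, show Q.comap (algebraMap A SA) = maximalIdeal A from hQm.over.symm, hAp]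
  let T := fun i => Localization.Away (g i)
  let C := ∀ i, T i
  haveI : IsScalarTower A SA C := IsScalarTower.of_algebraMap_eq fun a => funext fun i =>
    IsScalarTower.algebraMap_apply A SA (T i) a
  haveI : IsScalarTower S SA C := IsScalarTower.of_algebraMap_eq fun a => funext fun i =>
    IsScalarTower.algebraMap_apply S SA (T i) a
  haveI : ∀ i, Algebra.Etale SA (T i) := fun i => Algebra.Etale.of_isLocalizationAway (g i)
  obtain ⟨hfree, hfp⟩ := free_fp_pi (A := A) (S := S) (N := N) T (fun i => (hpc i).1) (fun i => (hpc i).2)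
  let e2 : C ⊗[SA] NA ≃ₗ[C] C ⊗[S] N :=
    (AlgebraTensorModule.congr (LinearEquiv.refl C C) hf.equiv.symm).trans
      (AlgebraTensorModule.cancelBaseChange S SA C C N)
  haveI := hfree
  haveI := hfp
  haveI : Module.Free A (C ⊗[SA] NA) := Module.Free.of_equiv (e2.restrictScalars A).symm
  refine ⟨C, inferInstance, inferInstance, inferInstance, inferInstance, inferInstance, inferInstance,
    { }, fun q _ hqp => ?_, Module.FinitePresentation.of_equiv e2.symm, free_restrictScalars⟩
  obtain ⟨Q, hQ, hQS, hQA⟩ := exists_prime_pushout (D := SA) q (maximalIdeal A) (hqp.over.symm.trans hAp.symm)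
  obtain ⟨i, hi⟩ := hq q hqp Q ⟨hQS.symm⟩ ⟨hQA.symm⟩
  obtain ⟨x, hx⟩ : (⟨Q, hQ⟩ : PrimeSpectrum SA) ∈ Set.range (PrimeSpectrum.comap (algebraMap SA (T i))) := by
    rw [PrimeSpectrum.localization_away_comap_range _ (g i)]
    exact hi
  have hx' : x.asIdeal.comap (algebraMap SA (T i)) = Q := congrArg PrimeSpectrum.asIdeal hx
  refine ⟨x.asIdeal.comap (Pi.evalRingHom T i), Ideal.comap_isPrime _ _, ?_, ⟨?_⟩⟩
  · rw [Ideal.comap_comap, show (Pi.evalRingHom T i).comp (algebraMap S C) = (algebraMap SA (T i)).comp (algebraMap S SA)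
      from RingHom.ext fun z => IsScalarTower.algebraMap_apply S SA (T i) z, ← Ideal.comap_comap, hx']
    exact hQS
  · rw [Ideal.under_def, Ideal.comap_comap,
      show (Pi.evalRingHom T i).comp (algebraMap A C) = (algebraMap SA (T i)).comp (algebraMap A SA)
      from RingHom.ext fun z => IsScalarTower.algebraMap_apply A SA (T i) z, ← Ideal.comap_comap, hx']
    exact hQA.symm

end Groth.Agent.H4RG
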