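import Groth.Agent.FlatLoc6.GenFlat
import Mathlib

/-! Generic freeness of a finite module modulo a finite submodule over a smaller algebra. -/

set_option autoImplicit false
set_option linter.style.haveILetI false

universe u

namespace Groth.Agent.H4RG

open Groth.Agent.GenFree

variable {R : Type u} [CommRing R]

/-- Generic freeness moves along isomorphisms. -/
theorem gfree_congr {f : R} {M M' : Type u} [AddCommGroup M] [Module R M] [AddCommGroup M'] [Module R M']
    (e : M ≃ₗ[R] M') (h : GFree R f M) : GFree R f M' := by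
  obtain ⟨ι, φ, hφ, hr⟩ := h
  refine ⟨ι, e.toLinearMap ∘ₗ φ, e.injective.comp hφ, fun m => ?_⟩
  obtain ⟨k, c, hc⟩ := hr (e.symm m)
  exact ⟨k, c, show e (φ c) = f ^ k • m by rw [hc, map_smul, e.apply_symm_apply]⟩

/-- One more variable, acting as `x`, over a submodule `U` defined over the small algebra. -/
theorem exists_gfree_quot_step [IsDomain R] {A S N : Type u} [CommRing A] [Algebra R A] [CommRing S] [Algebra R S]
    [Algebra A S] [IsNoetherianRing S] [AddCommGroup N] [Module R N] [Module A N] [Module S N] [IsScalarTower R S N]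
    [IsScalarTower R A N] [IsScalarTower A S N] (x : N →ₗ[S] N) (M0 : Submodule S N) (hM0 : M0.FG)
    (htop : ∀ m : N, ∃ d, m ∈ ⨆ i ∈ Finset.range d, M0.map (x ^ i)) (U : Submodule A N) (hU : ∀ y ∈ U, y ∈ M0)
    (hS : ∀ (Q : Type u) [AddCommGroup Q] [Module S Q] [Module R Q] [IsScalarTower R S Q] [Module.Finite S Q],
      ∃ f : R, f ≠ 0 ∧ GFree R f Q)
    (h0 : ∃ f : R, f ≠ 0 ∧ GFree R f (M0 ⧸ (U.comap (M0.subtype.restrictScalars A)).restrictScalars R)) :
    ∃ f : R, f ≠ 0 ∧ GFree R f (N ⧸ U.restrictScalars R) := by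
  classical
  haveI : Module.Finite S M0 := Module.Finite.iff_fg.2 hM0
  let F : ℕ → Submodule S N := fun d => ⨆ i ∈ Finset.range d, M0.map (x ^ i)
  let e : ℕ → M0 →ₗ[S] N := fun d => (x ^ d) ∘ₗ M0.subtype
  let K : ℕ → Submodule S M0 := fun d => (F d).comap (e d)
  have hFsucc : ∀ d, F (d + 1) = F d ⊔ LinearMap.range (e d) := fun d => by
    simp only [F, e, LinearMap.range_comp, Submodule.range_subtype]
    rw [Finset.range_add_one, Finset.iSup_insert, sup_comm]
  have hFle : Monotone F := monotone_nat_of_le_succ fun d => by rw [hFsucc]; exact le_sup_left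
  have hU1 : ∀ d, 1 ≤ d → ∀ y ∈ U, y ∈ F d := fun d hd y hy =>
    hFle hd (le_iSup₂ (f := fun i _ => M0.map (x ^ i)) 0 (by simp) ⟨y, hU y hy, rfl⟩)
  have hxF : ∀ d, (F d).map x ≤ F (d + 1) := by
    intro d
    simp only [F, Submodule.map_iSup]
    refine iSup₂_le fun i hi => ?_
    rw [← Submodule.map_comp]
    exact le_iSup₂_of_le (i + 1) (by simpa using hi) (le_of_eq (by rw [pow_succ']; rfl))
  have hKmono : Monotone K := monotone_nat_of_le_succ fun d y hy => by
    have := hxF d (Submodule.mem_map_of_mem hy)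
    simpa [K, e, pow_succ'] using this
  obtain ⟨D, hD⟩ := monotone_stabilizes_iff_noetherian.2 (inferInstance : IsNoetherian S M0) ⟨K, hKmono⟩
  choose g hg0 hg using fun d => hS (M0 ⧸ K d)
  obtain ⟨g', hg'0, hg'⟩ := h0
  let f : R := g' * ∏ d ∈ Finset.range (D + 1), g d
  refine ⟨f, mul_ne_zero hg'0 (Finset.prod_ne_zero_iff.2 fun d _ => hg0 d), ?_⟩
  let q : N →ₗ[R] N ⧸ U.restrictScalars R := (U.restrictScalars R).mkQ
  let F' : ℕ → Submodule R (N ⧸ U.restrictScalars R) := fun d => ((F d).restrictScalars R).map q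
  let e' : ℕ → M0 →ₗ[R] N ⧸ U.restrictScalars R := fun d => q ∘ₗ (e d).restrictScalars R
  let K' : ℕ → Submodule R M0 := fun d => (F' d).comap (e' d)
  have hK0 : K' 0 = (U.comap (M0.subtype.restrictScalars A)).restrictScalars R := by
    ext y
    show q (e 0 y) ∈ ((F 0).restrictScalars R).map q ↔ (y : N) ∈ U
    have hF0 : F 0 = ⊥ := by simp [F]
    rw [hF0, Submodule.restrictScalars_bot, Submodule.map_bot, Submodule.mem_bot, Submodule.mkQ_apply,
      Submodule.Quotient.mk_eq_zero]
    rfl
  have hKd : ∀ d, 1 ≤ d → K' d = (K d).restrictScalars R := fun d hd => by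
    ext y
    show q (e d y) ∈ ((F d).restrictScalars R).map q ↔ e d y ∈ F d
    refine ⟨fun hy => ?_, fun hy => Submodule.mem_map_of_mem hy⟩
    obtain ⟨w, hw, hwy⟩ := hy
    have h := (Submodule.Quotient.eq _).1 hwy
    have h2 := Submodule.sub_mem _ hw (hU1 d hd _ h)
    simpa using h2
  have hall : ∀ d, GFree R f (M0 ⧸ K' d) := fun d => by
    rcases Nat.eq_zero_or_pos d with rfl | hd
    · exact gfree_congr (Submodule.quotEquivOfEq _ _ hK0.symm) (hg'.of_dvd (dvd_mul_right _ _))
    · have hle : ∀ j ≤ D, GFree R f (M0 ⧸ (K j).restrictScalars R) := fun j hj =>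
        (hg j).of_dvd ((Finset.dvd_prod_of_mem g (by simpa using Nat.lt_succ_of_le hj)).trans (dvd_mul_left _ _))
      refine gfree_congr (Submodule.quotEquivOfEq _ _ (hKd d hd).symm) ?_
      rcases le_or_gt d D with h | h
      · exact hle d h
      · have hK : K D = K d := hD d h.le
        exact hK ▸ hle D le_rfl
  refine gfree_of_filtration F' ?_ (fun d => Submodule.map_mono (hFle d.le_succ)) (fun m => ?_) e' (fun d => ?_) K'
    (fun _ _ => Iff.rfl) hall
  · simp [F', F]
  · obtain ⟨m, rfl⟩ := Submodule.mkQ_surjective _ m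
    obtain ⟨d, hd⟩ := htop m
    exact ⟨d, Submodule.mem_map_of_mem hd⟩
  · show ((F (d + 1)).restrictScalars R).map q = _
    simp only [hFsucc, F', e', e, Submodule.restrictScalars_sup, Submodule.map_sup, LinearMap.range_comp, LinearMap.range_restrictScalars]

/-- Modules over polynomial rings over the small algebra. -/
theorem exists_gfree_quot_mvPolynomial [IsDomain R] [IsNoetherianRing R] (A : Type u) [CommRing A] [Algebra R A]
    [Algebra.FiniteType R A] (n : ℕ) :
    ∀ (N : Type u) [AddCommGroup N] [Module (MvPolynomial (Fin n) A) N] [Module A N] [Module R N]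
      [IsScalarTower A (MvPolynomial (Fin n) A) N] [IsScalarTower R A N] [Module.Finite (MvPolynomial (Fin n) A) N]
      (U : Submodule A N), U.FG → ∃ f : R, f ≠ 0 ∧ GFree R f (N ⧸ U.restrictScalars R) := by
  haveI : IsNoetherianRing A := Algebra.FiniteType.isNoetherianRing R A
  induction n with
  | zero =>
    intro N _ _ _ _ _ _ _ U _
    haveI : Module.Finite A (MvPolynomial (Fin 0) A) :=
      Module.Finite.equiv (MvPolynomial.isEmptyAlgEquiv A (Fin 0)).toLinearEquiv.symm
    haveI : Module.Finite A N := Module.Finite.trans (MvPolynomial (Fin 0) A) N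
    obtain ⟨f, hf, h⟩ := exists_gfree (R := R) (M := N ⧸ U) A
    exact ⟨f, hf, gfree_congr (Submodule.Quotient.restrictScalarsEquiv R U).symm h⟩
  | succ n ih =>
    intro N _ _ _ _ _ _ _ U hUfg
    let S := MvPolynomial (Fin n) A
    let T := MvPolynomial (Fin (n + 1)) A
    let ρ : S →ₐ[A] T := MvPolynomial.rename Fin.succ
    letI : Algebra S T := ρ.toRingHom.toAlgebra
    letI : Module S N := Module.compHom N ρ.toRingHom
    haveI : IsScalarTower A S N := IsScalarTower.of_algebraMap_smul fun a m => by
      show ρ (algebraMap A S a) • m = a • m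
      rw [ρ.commutes, algebraMap_smul]
    haveI : IsScalarTower R S N := IsScalarTower.of_algebraMap_smul fun r m => by
      rw [IsScalarTower.algebraMap_apply R A S, algebraMap_smul S, algebraMap_smul A]
    let x : N →ₗ[S] N :=
      { toFun := fun m => (MvPolynomial.X 0 : T) • m
        map_add' := smul_add _
        map_smul' := fun p m => smul_comm _ (ρ p) m }
    obtain ⟨s, hs⟩ := Module.Finite.fg_top (R := T) (M := N)
    obtain ⟨t, ht⟩ := hUfg
    classical
    let M0 : Submodule S N := Submodule.span S ((s ∪ t : Finset N) : Set N)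
    have hUM : ∀ y ∈ U, y ∈ M0 := fun y hy => by
      rw [← ht] at hy
      refine (Submodule.span_le (p := M0.restrictScalars A)).2 (fun z hz => ?_) hy
      exact Submodule.subset_span (by simp [Finset.mem_coe.1 hz])
    let F : Submodule S N := ⨆ i, M0.map (x ^ i)
    have hx : ∀ m ∈ F, x m ∈ F := by
      intro m hm
      refine (show F.map x ≤ F from ?_) (Submodule.mem_map_of_mem hm)
      rw [Submodule.map_iSup]
      refine iSup_le fun i => ?_
      rw [← Submodule.map_comp]
      exact le_iSup_of_le (i + 1) (le_of_eq (by rw [pow_succ']; rfl))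
    have hmul : ∀ (p : T), ∀ m ∈ F, p • m ∈ F := by
      intro p
      induction p using MvPolynomial.induction_on with
      | C r =>
        intro m hm
        have : (MvPolynomial.C r : T) • m = (MvPolynomial.C r : S) • m :=
          congrArg (· • m) (MvPolynomial.rename_C _ r).symm
        exact this ▸ Submodule.smul_mem _ _ hm
      | add p q hp hq => intro m hm; rw [add_smul]; exact add_mem (hp m hm) (hq m hm)
      | mul_X p i hp =>
        intro m hm
        rw [mul_smul]
        refine hp _ ?_
        induction i using Fin.cases with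
        | zero => exact hx m hm
        | succ i =>
          have : (MvPolynomial.X i.succ : T) • m = (MvPolynomial.X i : S) • m :=
            congrArg (· • m) (MvPolynomial.rename_X _ i).symm
          exact this ▸ Submodule.smul_mem _ _ hm
    have htop : ∀ m : N, ∃ d, m ∈ ⨆ i ∈ Finset.range d, M0.map (x ^ i) := by
      intro m
      let F' : Submodule T N := { F.toAddSubmonoid with smul_mem' := hmul }
      have hm : m ∈ F := (show (⊤ : Submodule T N) ≤ F' from hs ▸ Submodule.span_le.2 fun y hy =>
        le_iSup (fun i => M0.map (x ^ i)) 0 ⟨y, Submodule.subset_span (by simp [Finset.mem_coe.1 hy]), rfl⟩)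
        (Submodule.mem_top (x := m))
      obtain ⟨w, hw⟩ := Submodule.mem_iSup_iff_exists_finset.1 hm
      refine ⟨w.sup id + 1, ?_⟩
      exact (show (⨆ i ∈ w, M0.map (x ^ i)) ≤ ⨆ i ∈ Finset.range (w.sup id + 1), M0.map (x ^ i) from
        biSup_mono fun i hi => Finset.mem_range.2 (Nat.lt_succ_of_le (Finset.le_sup (f := id) hi))) hw
    haveI : Algebra.FiniteType R S := Algebra.FiniteType.trans (S := A) inferInstance inferInstance
    refine exists_gfree_quot_step x M0 ⟨s ∪ t, rfl⟩ htop U hUM (fun Q _ _ _ _ _ => exists_gfree (R := R) (M := Q) S) ?_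
    haveI : Module.Finite S M0 := Module.Finite.iff_fg.2 ⟨s ∪ t, rfl⟩
    refine ih M0 (U.comap (M0.subtype.restrictScalars A)) (Submodule.FG.of_le
      (T := Submodule.span A ((M0.subtype.restrictScalars A) ⁻¹' (t : Set N))) ?_ ?_)
    · exact Submodule.fg_span (t.finite_toSet.preimage Subtype.val_injective.injOn)
    · intro y hy
      have hy' : (y : N) ∈ Submodule.span A (t : Set N) := by rw [ht]; exact hy
      have himage : (t : Set N) = (M0.subtype.restrictScalars A) '' ((M0.subtype.restrictScalars A) ⁻¹' (t : Set N)) := by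
        refine (Set.image_preimage_eq_of_subset fun z hz => ?_).symm
        exact ⟨⟨z, Submodule.subset_span (by simp [Finset.mem_coe.1 hz])⟩, rfl⟩
      rw [himage, Submodule.span_image] at hy'
      obtain ⟨y', hy'1, hy'2⟩ := hy'
      exact (Subtype.ext hy'2 : y' = y) ▸ hy'1

/-- Generic flatness of a cokernel of a map linear over a smaller algebra. -/
theorem exists_flat_away_coker [IsDomain R] [IsNoetherianRing R] {A B : Type u} [CommRing A] [CommRing B]
    [Algebra R A] [Algebra A B] [Algebra.FiniteType R A] [Algebra.FiniteType A B]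
    {N : Type u} [AddCommGroup N] [Module B N] [Module A N] [Module R N] [IsScalarTower A B N] [IsScalarTower R A N]
    [Module.Finite B N] (U : Submodule A N) (hU : U.FG) :
    ∃ f : R, f ≠ 0 ∧ Module.Flat (Localization.Away f)
      (LocalizedModule (Submonoid.powers f) (N ⧸ U.restrictScalars R)) := by
  obtain ⟨n, φ, hφ⟩ := Algebra.FiniteType.iff_quotient_mvPolynomial''.1 (‹Algebra.FiniteType A B›)
  letI := φ.toRingHom.toAlgebra
  letI := Module.compHom N φ.toRingHom
  haveI : IsScalarTower A (MvPolynomial (Fin n) A) N := IsScalarTower.of_algebraMap_smul fun a m => by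
    show φ (algebraMap A _ a) • m = a • m
    rw [φ.commutes, algebraMap_smul]
  haveI : IsScalarTower (MvPolynomial (Fin n) A) B N := ⟨fun p s m => mul_smul (φ p) s m⟩
  haveI : Module.Finite (MvPolynomial (Fin n) A) B :=
    Module.Finite.of_surjective (Algebra.linearMap (MvPolynomial (Fin n) A) B) hφ
  haveI : Module.Finite (MvPolynomial (Fin n) A) N := Module.Finite.trans B N
  obtain ⟨f, hf, h⟩ := exists_gfree_quot_mvPolynomial (R := R) A n N U hU
  refine ⟨f, hf, ?_⟩
  haveI : Module.Flat R (LocalizedModule (Submonoid.powers f) (N ⧸ U.restrictScalars R)) :=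
    Groth.Agent.FlatLoc6.flat_of_gfree (R := R) (S := R) (Submonoid.powers f)
      (LocalizedModule.mkLinearMap (Submonoid.powers f) (N ⧸ U.restrictScalars R)) (Submonoid.mem_powers f) h
  exact (Module.flat_iff_of_isLocalization _ (Submonoid.powers f) _).2 inferInstance

end Groth.Agent.H4RG
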