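import Groth.Agent.H4RG.SectConn
import Mathlib

/-! Descending an open with geometrically connected fibres along a finite etale morphism. -/

set_option autoImplicit false
set_option linter.style.haveILetI false
set_option backward.isDefEq.respectTransparency.types false

universe u

open CategoryTheory CategoryTheory.Limits AlgebraicGeometry Topology TopologicalSpace

namespace Groth.Agent.H4RG

/-- A connected clopen subset through a point is the component of that point. -/
theorem eq_connectedComponent_of_isClopen {Z : Type u} [TopologicalSpace Z] {P : Set Z} (hP : IsClopen P)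
    (hc : IsPreconnected P) {z : Z} (hz : z ∈ P) : P = connectedComponent z :=
  Set.Subset.antisymm (hc.subset_connectedComponent hz) (hP.connectedComponent_subset hz)

variable {X S T : Scheme.{u}} (f : X ⟶ S) (π : T ⟶ S) {Ω : Type u} [Field Ω] [IsAlgClosed Ω]
  (x : Spec (CommRingCat.of Ω) ⟶ S)

/-- The geometric fibre over a base change point, inside the base change. -/
noncomputable def liftPt (e : Spec (CommRingCat.of Ω) ⟶ T) (he : e ≫ π = x) : pullback f x ⟶ pullback f π :=
  pullback.lift (pullback.fst f x) (pullback.snd f x ≫ e) (by rw [Category.assoc, he, pullback.condition])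

theorem isPullback_liftPt (e : Spec (CommRingCat.of Ω) ⟶ T) (he : e ≫ π = x) :
    IsPullback (liftPt f π x e he) (pullback.snd f x) (pullback.snd f π) e := by
  refine IsPullback.of_right (h₁₂ := pullback.fst f π) (h₂₂ := π) (v₁₃ := f) ?_ (pullback.lift_snd _ _ _)
    (IsPullback.of_hasPullback f π)
  rw [he, liftPt, pullback.lift_fst]
  exact IsPullback.of_hasPullback f x

variable (W : (pullback f π).Opens) [GeometricallyConnected (W.ι ≫ pullback.snd f π)]
  (hcl : ∀ t : T, IsClosed (Subtype.val ⁻¹' (W : Set ↑(pullback f π)) : Set ↥((pullback.snd f π) ⁻¹' {t})))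

include hcl in
/-- The trace of the open on a geometric fibre is a connected clopen set. -/
theorem isClopen_and_isConnected_trace (e : Spec (CommRingCat.of Ω) ⟶ T) (he : e ≫ π = x) :
    IsClopen ((liftPt f π x e he) ⁻¹' (W : Set ↑(pullback f π))) ∧
      _root_.IsConnected ((liftPt f π x e he) ⁻¹' (W : Set ↑(pullback f π))) := by
  let ψ := liftPt f π x e he
  refine ⟨⟨?_, W.isOpen.preimage ψ.continuous⟩, ?_⟩
  · let t := e (IsLocalRing.closedPoint Ω)
    have hψ : ∀ z, pullback.snd f π (ψ z) = t := fun z => by
      rw [← Scheme.Hom.comp_apply, show ψ ≫ pullback.snd f π = pullback.snd f x ≫ e from pullback.lift_snd _ _ _,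
        Scheme.Hom.comp_apply,
        @Subsingleton.elim _ (inferInstanceAs (Subsingleton (PrimeSpectrum Ω))) (pullback.snd f x z) (IsLocalRing.closedPoint Ω)]
    let ψ' : ↑(pullback f x) → ↥((pullback.snd f π) ⁻¹' {t}) := fun z => ⟨ψ z, hψ z⟩
    exact (hcl t).preimage (ψ.continuous.subtype_mk hψ : Continuous ψ')
  · have hsq : IsPullback (pullback.fst W.ι ψ) (pullback.snd W.ι ψ ≫ pullback.snd f x) (W.ι ≫ pullback.snd f π) e :=
      (IsPullback.of_hasPullback W.ι ψ).paste_vert (isPullback_liftPt f π x e he)
    haveI : ConnectedSpace ↥(pullback W.ι ψ) :=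
      GeometricallyConnected.geometrically_connectedSpace (f := W.ι ≫ pullback.snd f π) _ _ _ hsq
    have hr : Set.range (pullback.snd W.ι ψ) = ψ ⁻¹' (W : Set ↑(pullback f π)) := by
      rw [Scheme.Pullback.range_snd, Scheme.Opens.range_ι]
    rw [← hr]
    exact isConnected_range (pullback.snd W.ι ψ).continuous

variable [IsFinite π]

/-- Every point of the base change over a point of the geometric fibre is reached from some lift of the point. -/
theorem exists_liftPt_eq (z : ↑(pullback f x)) (w : ↑(pullback f π)) (h : pullback.fst f π w = pullback.fst f x z) :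
    ∃ (e : Spec (CommRingCat.of Ω) ⟶ T) (he : e ≫ π = x), liftPt f π x e he z = w := by
  let a := pullback.fst f x
  let b := pullback.snd f x
  obtain ⟨ζ, hζz, hζw⟩ := Scheme.Pullback.exists_preimage_pullback (f := a) (g := pullback.fst f π) z w h.symm
  let T' := pullback x π
  let Φ : pullback a (pullback.fst f π) ⟶ T' := pullback.lift (pullback.fst _ _ ≫ b) (pullback.snd _ _ ≫ pullback.snd f π) (by
    have e1 : b ≫ x = a ≫ f := pullback.condition.symm
    have e2 : pullback.snd f π ≫ π = pullback.fst f π ≫ f := pullback.condition.symm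
    rw [Category.assoc, Category.assoc, e1, e2]
    exact pullback.condition_assoc f)
  have hout : IsPullback (pullback.fst a (pullback.fst f π)) (pullback.snd _ _ ≫ pullback.snd f π) (b ≫ x) π := by
    rw [show b ≫ x = a ≫ f from pullback.condition.symm]
    exact ((IsPullback.of_hasPullback a (pullback.fst f π)).flip.paste_horiz (IsPullback.of_hasPullback f π).flip).flip.flip.flip
  have hΦ : IsPullback Φ (pullback.fst a (pullback.fst f π)) (pullback.fst x π) b := by
    refine IsPullback.of_right (h₁₂ := pullback.snd x π) (h₂₂ := x) (v₁₃ := π) ?_ (pullback.lift_fst _ _ _).symm.symm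
      (IsPullback.of_hasPullback x π).flip
    rw [pullback.lift_snd]
    exact hout.flip
  haveI : IsFinite (pullback.fst x π) := MorphismProperty.pullback_fst x π inferInstance
  obtain ⟨e', he', het⟩ := exists_section_through (pullback.fst x π) (Φ ζ)
  let e := e' ≫ pullback.snd x π
  have he : e ≫ π = x := by
    rw [Category.assoc, ← pullback.condition, ← Category.assoc, he', Category.id_comp]
  refine ⟨e, he, ?_⟩
  let Ψ : pullback f x ⟶ pullback a (pullback.fst f π) := pullback.lift (𝟙 _) (liftPt f π x e he) (by
    rw [Category.id_comp, liftPt, pullback.lift_fst])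
  have hΨ : IsPullback Ψ b Φ e' := by
    refine IsPullback.of_right (h₁₂ := pullback.fst a (pullback.fst f π)) (h₂₂ := pullback.fst x π) (v₁₃ := b) ?_ ?_ hΦ.flip
    · rw [pullback.lift_fst, he']
      exact IsPullback.of_horiz_isIso ⟨by rw [Category.id_comp, Category.comp_id]⟩
    · apply pullback.hom_ext
      · rw [Category.assoc, Category.assoc, pullback.lift_fst, pullback.lift_fst_assoc, Category.id_comp, he',
          Category.comp_id]
      · rw [Category.assoc, Category.assoc, pullback.lift_snd, pullback.lift_snd_assoc]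
        exact pullback.lift_snd _ _ _
  have hζ : ζ ∈ Set.range Ψ := by
    rw [← hΨ.isoPullback_hom_fst, Scheme.Hom.comp_base, TopCat.coe_comp,
      Function.Surjective.range_comp hΨ.isoPullback.hom.surjective, Scheme.Pullback.range_fst]
    exact ⟨_, het⟩
  obtain ⟨z', rfl⟩ := hζ
  obtain rfl : z' = z := by
    rw [← Scheme.Hom.comp_apply, pullback.lift_fst] at hζz
    exact hζz
  rw [← hζw, ← Scheme.Hom.comp_apply, pullback.lift_snd]

include hcl in
/-- The set of points all of whose preimages lie in the open meets each geometric fibre in a connected set, if at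
all. -/
theorem isConnected_preimage_descent
    (hne : ((pullback.fst f x) ⁻¹' (pullback.fst f π '' (W : Set ↑(pullback f π))ᶜ)ᶜ).Nonempty)
    (hx : Set.range x ⊆ Set.range π) :
    _root_.IsConnected ((pullback.fst f x) ⁻¹' (pullback.fst f π '' (W : Set ↑(pullback f π))ᶜ)ᶜ) := by
  obtain ⟨t, ht⟩ := hx ⟨IsLocalRing.closedPoint Ω, rfl⟩
  haveI : IsFinite (pullback.fst x π) := MorphismProperty.pullback_fst x π inferInstance
  obtain ⟨τ, -, -⟩ := Scheme.Pullback.exists_preimage_pullback (f := x) (g := π) (IsLocalRing.closedPoint Ω) t ht.symm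
  obtain ⟨e', he', -⟩ := exists_section_through (pullback.fst x π) τ
  have he₀ : (e' ≫ pullback.snd x π) ≫ π = x := by
    rw [Category.assoc, ← pullback.condition, ← Category.assoc, he', Category.id_comp]
  obtain ⟨z₀, hz₀⟩ := hne
  have key : ∀ z, z ∈ (pullback.fst f x) ⁻¹' (pullback.fst f π '' (W : Set ↑(pullback f π))ᶜ)ᶜ ↔
      ∀ (e : Spec (CommRingCat.of Ω) ⟶ T) (he : e ≫ π = x), z ∈ (liftPt f π x e he) ⁻¹' (W : Set ↑(pullback f π)) := by
    refine fun z => ⟨fun hz e he => ?_, fun hz => ?_⟩
    · by_contra hW
      refine hz ⟨_, hW, ?_⟩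
      rw [← Scheme.Hom.comp_apply, liftPt, pullback.lift_fst]
    · rintro ⟨w, hw, hwz⟩
      obtain ⟨e, he, rfl⟩ := exists_liftPt_eq f π x z w hwz
      exact hw (hz e he)
  have hall : ∀ (e : Spec (CommRingCat.of Ω) ⟶ T) (he : e ≫ π = x),
      (liftPt f π x e he) ⁻¹' (W : Set ↑(pullback f π)) = connectedComponent z₀ := fun e he =>
    eq_connectedComponent_of_isClopen (isClopen_and_isConnected_trace f π x W hcl e he).1
      (isClopen_and_isConnected_trace f π x W hcl e he).2.isPreconnected ((key z₀).1 hz₀ e he)
  rw [show (pullback.fst f x) ⁻¹' (pullback.fst f π '' (W : Set ↑(pullback f π))ᶜ)ᶜ = connectedComponent z₀ from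
    Set.ext fun z => ⟨fun hz => hall _ he₀ ▸ (key z).1 hz _ he₀, fun hz => (key z).2 fun e he => (hall e he).symm ▸ hz⟩]
  exact isConnected_connectedComponent

end Groth.Agent.H4RG
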