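import Groth.Agent.H4RG.GeomConnDescent
import Groth.Agent.H4RG.GeomConnFP
import Groth.Agent.MorLib.ElemEtaleFinite
import Mathlib

/-! Spreading a geometrically connected fibre to an open with geometrically connected fibres over an elementary etale
neighbourhood. -/

set_option autoImplicit false
set_option linter.style.haveILetI false
set_option backward.isDefEq.respectTransparency false
set_option backward.isDefEq.respectTransparency.types false

universe u

open CategoryTheory CategoryTheory.Limits AlgebraicGeometry Topology TopologicalSpace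

namespace Groth.Agent.H4RG

/-- The fibre of a base change over a point above a geometrically connected fibre is connected. -/
theorem connectedSpace_fiber_baseChange {X S T X' : Scheme.{u}} (f : X ⟶ S) (b : T ⟶ S) (a : X' ⟶ X) (f' : X' ⟶ T)
    (h : IsPullback a f' f b) (s : S) [hc : GeometricallyConnected (f.fiberToSpecResidueField s)] (t : T) (ht : b t = s) :
    ConnectedSpace ↥(f'.fiber t) := by
  subst ht
  exact hc.geometrically_connectedSpace _ _ _ (isPullback_fiberToSpecResidueField_of_isPullback h t)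

/-- Composing both legs with a monomorphism keeps a pullback square. -/
theorem isPullback_comp_mono {P X Y Z Z' : Scheme.{u}} {fst : P ⟶ X} {snd : P ⟶ Y} {h : X ⟶ Z} {k : Y ⟶ Z} (m : Z ⟶ Z')
    [Mono m] (H : IsPullback fst snd h k) : IsPullback fst snd (h ≫ m) (k ≫ m) :=
  IsPullback.of_isLimit' ⟨by rw [reassoc_of% H.w]⟩ (PullbackCone.IsLimit.mk _
    (fun c => H.lift c.fst c.snd ((cancel_mono m).1 (by rw [Category.assoc, Category.assoc, c.condition])))
    (fun c => H.lift_fst _ _ _) (fun c => H.lift_snd _ _ _)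
    fun c l h1 h2 => H.hom_ext (by rw [h1, H.lift_fst]) (by rw [h2, H.lift_snd]))

/-- A geometrically connected fibre of a flat finitely presented family with geometrically reduced fibres over an affine
base spreads, after an elementary etale neighbourhood, to an open with geometrically connected fibres. -/
theorem exists_geomConnected_spread {X S : Scheme.{u}} [IsAffine S] (f : X ⟶ S) [Flat f] [LocallyOfFinitePresentation f]
    [QuasiCompact f] [QuasiSeparated f] [GeometricallyReduced f] (s : S)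
    [GeometricallyConnected (f.fiberToSpecResidueField s)] :
    ∃ (S' : Scheme.{u}) (g : S' ⟶ S) (s' : S'), IsAffine S' ∧ Hens2.IsEtaleNbhd g s' s ∧
      ∃ V : (pullback f g).Opens, IsCompact (V : Set ↑(pullback f g)) ∧ GeometricallyConnected (V.ι ≫ pullback.snd f g) ∧
        ∀ y : ↑(pullback f g), pullback.snd f g y = s' → y ∈ V := by
  classical
  let p := f.fiberToSpecResidueField s
  haveI : LocallyOfFinitePresentation p := MorphismProperty.pullback_snd f (S.fromSpecResidueField s) inferInstance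
  haveI : QuasiCompact p := MorphismProperty.pullback_snd f (S.fromSpecResidueField s) inferInstance
  haveI : CompactSpace (f.fiber s) := QuasiCompact.compactSpace_of_compactSpace p
  haveI : IsLocallyNoetherian (f.fiber s) := LocallyOfFiniteType.isLocallyNoetherian p
  haveI : IsNoetherian (f.fiber s) := { }
  haveI : ConnectedSpace (f.fiber s) :=
    GeometricallyConnected.connectedSpace_of_subsingleton (f := p) (S := Spec (S.residueField s))
  obtain ⟨w, -, hw⟩ := Groth.Agent.H0FBC.exists_smooth_point (k := S.residueField s) p (Classical.arbitrary (f.fiber s))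
  obtain ⟨W, hwW, hW⟩ := Groth.Agent.H0FBC.exists_smooth_nhd_of_fibre f s w hw
  haveI := hW
  obtain ⟨S₂, g₂, s₂, hS₂, hg₂, hs₂, σ₀, hσ₀⟩ :=
    SmoothSecLib.exists_etale_section_scheme (W.ι ≫ f) (⟨f.fiberι s w, hwW⟩ : (W : Scheme.{u}))
  haveI := hg₂
  have hgs : g₂ s₂ = s := by
    rw [hs₂]
    show f (f.fiberι s w) = s
    have : f.fiberι s w ∈ Set.range (f.fiberι s) := ⟨w, rfl⟩
    rw [Scheme.Hom.range_fiberι] at this
    exact this
  -- the finite part over an elementary etale neighbourhood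
  obtain ⟨U, gU, u, hU, V₂, v, hv, hfin, hvu, hvuniq, hvs, -⟩ :=
    MorLib.EEF.exists_elem_nbhd g₂ s₂ (g₂.quasiFiniteAt s₂)
  haveI := hfin
  haveI : AlgebraicGeometry.Etale gU := hU.etale
  let π₀ : (V₂ : Scheme.{u}) ⟶ U := V₂.ι ≫ pullback.snd g₂ gU
  haveI : AlgebraicGeometry.Etale (pullback.snd g₂ gU) := MorphismProperty.pullback_snd g₂ gU hg₂
  haveI : AlgebraicGeometry.Etale π₀ := inferInstance
  let v₀ : (V₂ : Scheme.{u}) := ⟨v, hv⟩
  have hv₀ : π₀ v₀ = u := hvu
  obtain ⟨U₁, hU₁, huU₁, hU₁r⟩ := exists_isAffineOpen_mem_and_subset (x := u)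
    (U := (⟨Set.range π₀, π₀.isOpenMap.isOpen_range⟩ : U.Opens)) ⟨v₀, hv₀⟩
  haveI : IsAffine (U₁ : Scheme.{u}) := hU₁
  let u₁ : (U₁ : Scheme.{u}) := ⟨u, huU₁⟩
  let T : Scheme.{u} := (π₀ ⁻¹ᵁ U₁ : (V₂ : Scheme.{u}).Opens)
  let π : T ⟶ (U₁ : Scheme.{u}) := π₀ ∣_ U₁
  haveI : IsFinite π := MorphismProperty.of_isPullback (isPullback_morphismRestrict π₀ U₁).flip hfin
  haveI : AlgebraicGeometry.Etale π :=
    MorphismProperty.of_isPullback (P := @AlgebraicGeometry.Etale) (isPullback_morphismRestrict π₀ U₁).flip inferInstance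
  haveI : CompactSpace T := QuasiCompact.compactSpace_of_compactSpace π
  let g₁ : (U₁ : Scheme.{u}) ⟶ S := U₁.ι ≫ gU
  haveI : AlgebraicGeometry.Etale g₁ := inferInstance
  let f₁ := pullback.snd f g₁
  haveI : GeometricallyReduced f₁ := inferInstance
  let f₂ := pullback.snd f₁ π
  haveI : GeometricallyReduced f₂ := inferInstance
  let jT : T ⟶ (V₂ : Scheme.{u}) := (π₀ ⁻¹ᵁ U₁).ι
  have hπι : π ≫ U₁.ι = jT ≫ π₀ := morphismRestrict_ι π₀ U₁
  let θ : T ⟶ pullback f g₁ := pullback.lift (jT ≫ V₂.ι ≫ pullback.fst g₂ gU ≫ σ₀ ≫ W.ι) π (by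
    simp only [Category.assoc]
    rw [hσ₀, pullback.condition]
    show _ = π ≫ U₁.ι ≫ gU
    rw [reassoc_of% hπι]
    simp only [π₀, Category.assoc])
  let σ : T ⟶ pullback f₁ π := pullback.lift θ (𝟙 T) (by rw [pullback.lift_snd, Category.id_comp])
  have hσ : σ ≫ f₂ = 𝟙 T := pullback.lift_snd _ _ _
  have hopen := isOpen_sectionComponents_of_geometricallyReduced f₂ σ hσ
  let W₃ : (pullback f₁ π).Opens := ⟨_, hopen⟩
  haveI : GeometricallyConnected (W₃.ι ≫ f₂) := geometricallyConnected_sectionComponents f₂ σ hσ W₃ rfl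
  -- all the preimages over the point lie in the open
  have hsec : ∀ x : ↑(pullback f₁ π), π (f₂ x) = u₁ → x ∈ W₃ := by
    intro x hx
    have hval : π₀ (jT (f₂ x)) = u := by
      rw [← Scheme.Hom.comp_apply, ← hπι, Scheme.Hom.comp_apply, hx]
      rfl
    have hs : (π ≫ g₁) (f₂ x) = s := by
      rw [Scheme.Hom.comp_apply, hx]
      exact hU.base_eq.trans hgs
    haveI := connectedSpace_fiber_baseChange f (π ≫ g₁) (pullback.fst f₁ π ≫ pullback.fst f g₁) f₂
      ((IsPullback.of_hasPullback f₁ π).paste_horiz (IsPullback.of_hasPullback f g₁)).flip.flip s (f₂ x) hs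
    haveI : ConnectedSpace ↥(f₂ ⁻¹' {f₂ x}) := (f₂.fiberHomeo (f₂ x)).connectedSpace_iff.1 inferInstance
    have hc : _root_.IsPreconnected (f₂ ⁻¹' {f₂ x}) := (isConnected_iff_connectedSpace.2 ‹_›).isPreconnected
    show x ∈ connectedComponentIn (f₂ ⁻¹' {f₂ x}) (σ (f₂ x))
    rw [hc.connectedComponentIn (by show f₂ (σ (f₂ x)) = f₂ x; rw [← Scheme.Hom.comp_apply, hσ]; rfl)]
    exact rfl
  -- the descended open
  let q := pullback.fst f₁ π
  haveI : IsFinite q := MorphismProperty.pullback_fst f₁ π inferInstance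
  haveI : AlgebraicGeometry.Etale q := MorphismProperty.pullback_fst f₁ π inferInstance
  haveI : CompactSpace ↑(pullback f g₁) := QuasiCompact.compactSpace_of_compactSpace f₁
  haveI : QuasiSeparatedSpace ↑(pullback f g₁) := quasiSeparatedSpace_of_quasiSeparated f₁
  haveI : CompactSpace ↑(pullback f₁ π) := QuasiCompact.compactSpace_of_compactSpace q
  haveI : QuasiSeparatedSpace ↑(pullback f₁ π) := quasiSeparatedSpace_of_quasiSeparated q
  let V : (pullback f g₁).Opens :=
    ⟨(q '' (W₃ : Set ↑(pullback f₁ π))ᶜ)ᶜ, (q.isClosedMap _ W₃.isOpen.isClosed_compl).isOpen_compl⟩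
  have hVc : IsCompact (V : Set ↑(pullback f g₁)) := by
    refine isCompact_of_constructible (isConstructible_compl.2 (q.isConstructible_image (isConstructible_compl.2 ?_)))
    exact (S1326.result f₂ σ hσ).isConstructible
  have hVu : ∀ y : ↑(pullback f g₁), f₁ y = u₁ → y ∈ V := by
    rintro y hy ⟨x, hx, rfl⟩
    refine hx (hsec x ?_)
    rw [← Scheme.Hom.comp_apply, ← pullback.condition, Scheme.Hom.comp_apply]
    exact hy
  haveI : UniversallyOpen f₁ := inferInstance
  -- a point over the point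
  have hpt : ∃ y : ↑(pullback f g₁), f₁ y = u₁ := by
    refine ⟨θ ⟨v₀, ?_⟩, ?_⟩
    · show π₀ v₀ ∈ U₁
      rw [hv₀]
      exact huU₁
    · rw [← Scheme.Hom.comp_apply, pullback.lift_snd]
      refine Subtype.ext ?_
      show U₁.ι (π _) = u
      rw [← Scheme.Hom.comp_apply, hπι]
      exact hv₀
  obtain ⟨U₂, hU₂, huU₂, hU₂r⟩ := exists_isAffineOpen_mem_and_subset (x := u₁)
    (U := (⟨f₁ '' (V : Set ↑(pullback f g₁)), f₁.isOpenMap _ V.isOpen⟩ : (U₁ : Scheme.{u}).Opens))
    (by obtain ⟨y, hy⟩ := hpt; exact ⟨y, hVu y hy, hy⟩)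
  haveI : IsAffine (U₂ : Scheme.{u}) := hU₂
  let g := U₂.ι ≫ g₁
  let u₂ : (U₂ : Scheme.{u}) := ⟨u₁, huU₂⟩
  refine ⟨U₂, g, u₂, hU₂, ⟨inferInstance, ?_, ?_⟩, ?_⟩
  · exact hU.base_eq.trans hgs
  · refine MorLib.EEF.bijective_rfm_comp _ _ _ (MorLib.EEF.bijective_rfm_isOpenImmersion U₂.ι u₂) ?_
    refine MorLib.EEF.bijective_rfm_comp _ _ _ (MorLib.EEF.bijective_rfm_isOpenImmersion U₁.ι u₁) ?_
    exact hU.residue_bijective
  let j : pullback f g ⟶ pullback f g₁ := pullback.lift (pullback.fst f g) (pullback.snd f g ≫ U₂.ι) (by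
    rw [Category.assoc, pullback.condition])
  have hj : IsPullback j (pullback.snd f g) f₁ U₂.ι :=
    IsPullback.of_right (h₁₂ := pullback.fst f g₁) (h₂₂ := g₁) (v₁₃ := f)
      (by rw [pullback.lift_fst]; exact IsPullback.of_hasPullback f g) (pullback.lift_snd _ _ _)
      (IsPullback.of_hasPullback f g₁)
  haveI : IsOpenImmersion j := MorphismProperty.of_isPullback hj.flip inferInstance
  refine ⟨j ⁻¹ᵁ V, ?_, ?_, fun y hy => ?_⟩
  · show IsCompact (j ⁻¹' (V : Set ↑(pullback f g₁)))
    refine j.isOpenEmbedding.isEmbedding.isCompact_iff.2 ?_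
    rw [Set.image_preimage_eq_inter_range, ← Scheme.Hom.coe_opensRange]
    refine hVc.inter_of_isOpen ?_ V.isOpen (j.opensRange).isOpen
    haveI : CompactSpace ↑(pullback f g) := QuasiCompact.compactSpace_of_compactSpace (pullback.snd f g)
    exact isCompact_range j.continuous
  · refine Pi1X.geometricallyConnected_of_isAlgClosed _ fun Ω _ _ x₂ => ?_
    let x : Spec (CommRingCat.of Ω) ⟶ (U₁ : Scheme.{u}) := x₂ ≫ U₂.ι
    let a := pullback.fst f₁ x
    have hne : (a ⁻¹' (q '' (W₃ : Set ↑(pullback f₁ π))ᶜ)ᶜ).Nonempty := by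
      obtain ⟨y, hyV, hy⟩ := hU₂r (x₂ (IsLocalRing.closedPoint Ω)).2
      obtain ⟨z, hz, -⟩ := Scheme.Pullback.exists_preimage_pullback (f := f₁) (g := x) y (IsLocalRing.closedPoint Ω)
        (by rw [hy]; rfl)
      exact ⟨z, by show a z ∈ (q '' (W₃ : Set ↑(pullback f₁ π))ᶜ)ᶜ; rw [show a z = y from hz]; exact hyV⟩
    have hxr : Set.range x ⊆ Set.range π := by
      rintro _ ⟨t, rfl⟩
      obtain ⟨t₀, ht₀⟩ := hU₁r (x t).2
      refine ⟨⟨t₀, show π₀ t₀ ∈ U₁ by rw [ht₀]; exact (x t).2⟩, Subtype.ext ?_⟩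
      show U₁.ι (π _) = _
      rw [← Scheme.Hom.comp_apply, hπι]
      exact ht₀
    have hconn := isConnected_preimage_descent f₁ π x W₃ (isClosed_preimage_sectionComponents f₂ σ hσ) hne hxr
    let P := pullback ((j ⁻¹ᵁ V).ι ≫ pullback.snd f g) x₂
    let k : P ⟶ pullback f₁ x := pullback.lift (pullback.fst _ _ ≫ (j ⁻¹ᵁ V).ι ≫ j) (pullback.snd _ _) (by
      rw [Category.assoc, Category.assoc, hj.w, ← Category.assoc (j ⁻¹ᵁ V).ι, pullback.condition_assoc])
    have hk : IsPullback k (pullback.fst _ _) a ((j ⁻¹ᵁ V).ι ≫ j) := by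
      refine (IsPullback.of_bot (v₂₁ := pullback.snd f₁ x) (v₂₂ := f₁) (h₃₁ := x) ?_ (pullback.lift_fst _ _ _).symm
        (IsPullback.of_hasPullback f₁ x)).flip
      rw [pullback.lift_snd, Category.assoc, hj.w]
      rw [← Category.assoc]
      exact isPullback_comp_mono U₂.ι (IsPullback.of_hasPullback ((j ⁻¹ᵁ V).ι ≫ pullback.snd f g) x₂)
    haveI : IsOpenImmersion k := MorphismProperty.of_isPullback hk.flip inferInstance
    have hrange : Set.range k = a ⁻¹' (q '' (W₃ : Set ↑(pullback f₁ π))ᶜ)ᶜ := by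
      rw [← hk.flip.isoPullback_hom_snd, Scheme.Hom.comp_base, TopCat.coe_comp,
        Function.Surjective.range_comp hk.flip.isoPullback.hom.surjective, Scheme.Pullback.range_snd,
        Scheme.Hom.comp_base, TopCat.coe_comp, Set.range_comp, Scheme.Opens.range_ι]
      show a ⁻¹' (j '' (j ⁻¹' (V : Set ↑(pullback f g₁)))) = _
      refine Set.ext fun z => ⟨fun ⟨y, hy, hyz⟩ => ?_, fun hz => ?_⟩
      · show a z ∈ (V : Set ↑(pullback f g₁))
        rw [← hyz]
        exact hy
      · have hzr : a z ∈ Set.range j := by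
          rw [← hj.flip.isoPullback_hom_snd, Scheme.Hom.comp_base, TopCat.coe_comp,
            Function.Surjective.range_comp hj.flip.isoPullback.hom.surjective, Scheme.Pullback.range_snd]
          show f₁ (a z) ∈ Set.range U₂.ι
          rw [← Scheme.Hom.comp_apply, pullback.condition, Scheme.Hom.comp_apply]
          exact ⟨x₂ (pullback.snd f₁ x z), rfl⟩
        obtain ⟨y, hy⟩ := hzr
        exact ⟨y, show j y ∈ (V : Set ↑(pullback f g₁)) by rw [hy]; exact hz, hy⟩
    haveI : Nonempty P := by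
      obtain ⟨z, hz⟩ := hconn.nonempty
      rw [← hrange] at hz
      exact ⟨hz.choose⟩
    haveI : PreconnectedSpace P := ⟨k.isEmbedding.isInducing.isPreconnected_image.1 (by
      rw [Set.image_univ, hrange]; exact hconn.isPreconnected)⟩
    exact ⟨‹_›⟩
  · refine hVu _ ?_
    rw [← Scheme.Hom.comp_apply, hj.w, Scheme.Hom.comp_apply, hy]
    rfl

end Groth.Agent.H4RG
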