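import Groth.Agent.H4RG.EtaleRel
import Groth.Agent.Hensel.SmoothLift
import Mathlib.RingTheory.Filtration
import Mathlib.RingTheory.Nakayama
import Mathlib.RingTheory.Noetherian.Basic
import Mathlib.RingTheory.Ideal.Colon

/-! Newton approximation over Noetherian henselian pairs, for algebras etale off a closed set. -/

universe u

open MvPolynomial KaehlerDifferential

namespace Groth.Agent.H4RG

variable {A : Type u} [CommRing A] {R : Type u} [CommRing R] [Algebra A R]

theorem exists_stable_colon [IsNoetherianRing R] (α : R) (b : Ideal R) :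
    ∃ c : ℕ, ∀ k : ℕ, ∀ t : R, α ^ (k + c) * t ∈ b → α ^ c * t ∈ b := by
  let I : ℕ →o Ideal R :=
    ⟨fun j => Submodule.comap (LinearMap.mulLeft R (α ^ j)) b, fun i j hij t ht => by
      obtain ⟨d, rfl⟩ := Nat.exists_eq_add_of_le hij
      show α ^ (i + d) * t ∈ b
      rw [add_comm, pow_add, mul_assoc]
      exact b.mul_mem_left _ ht⟩
  obtain ⟨c, hc⟩ := monotone_stabilizes_iff_noetherian.2 inferInstance I
  refine ⟨c, fun k t ht => ?_⟩
  have h1 : t ∈ I (k + c) := ht
  rw [← hc (k + c) (Nat.le_add_left c k)] at h1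
  exact h1

theorem aeval_span_le {n m : ℕ} (f : Fin m → MvPolynomial (Fin n) A) (x : Fin n → R) (T : Ideal R)
    (hT : ∀ l, aeval x (f l) ∈ T) {g : MvPolynomial (Fin n) A} (hg : g ∈ Ideal.span (Set.range f)) :
    aeval x g ∈ T := by
  have h : Ideal.span (Set.range f) ≤ T.comap (aeval x) := Ideal.span_le.2 (by rintro _ ⟨l, rfl⟩; exact hT l)
  exact h hg

theorem aeval_sq_le {n m : ℕ} (f : Fin m → MvPolynomial (Fin n) A) (x : Fin n → R)
    {g : MvPolynomial (Fin n) A} (hg : g ∈ Ideal.span (Set.range f) ^ 2) :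
    aeval x g ∈ Ideal.span (Set.range fun l => aeval x (f l)) ^ 2 := by
  have h := Ideal.mem_map_of_mem (aeval x) hg
  rwa [Ideal.map_pow, Ideal.map_span, ← Set.range_comp] at h

/-- The square system whose root corrects an approximate root. -/
theorem exists_newton_step {n m : ℕ} (f : Fin m → MvPolynomial (Fin n) A) (J : Ideal R) [HenselianRing R J]
    [IsNoetherianRing R] (b : Ideal R) (α : R) (hα : α ∈ J) (k M : ℕ) (hk : 1 ≤ k) (hM : 1 ≤ M)
    (H : Fin n → Fin m → MvPolynomial (Fin n) A) (x : Fin n → R)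
    (hx : ∀ l, aeval x (f l) ∈ Ideal.span {α ^ (2 * k + M)} ⊔ b)
    (hHJ : ∀ i j, aeval x (∑ l, H i l * pderiv j (f l)) - (if i = j then α ^ k else 0) ∈
      Ideal.span {α ^ (2 * k + M)} ⊔ b) :
    ∃ w : Fin n → R, (∀ i, w i ∈ Ideal.span {α ^ M}) ∧
      ∀ i, ∑ l, aeval x (H i l) * aeval (x + fun j => α ^ k * w j) (f l) ∈ b := by
  classical
  have hdec : ∀ {r : R}, r ∈ Ideal.span {α ^ (2 * k + M)} ⊔ b → ∃ e, ∃ β ∈ b, r = α ^ (2 * k) * (α ^ M * e) + β := by
    intro r hr
    obtain ⟨s, hs, β, hβ, rfl⟩ := Submodule.mem_sup.1 hr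
    obtain ⟨e, rfl⟩ := Ideal.mem_span_singleton'.1 hs
    exact ⟨e, β, hβ, by rw [pow_add]; ring⟩
  choose e β hβ he using fun l => hdec (hx l)
  choose ρ γ hγ hρ using fun i j => hdec (hHJ i j)
  let S := MvPolynomial (Fin n) R
  let xc : Fin n → S := algebraMap R S ∘ x
  let W : Fin n → S := MvPolynomial.X
  let dW : Fin n → S := fun j => MvPolynomial.C (α ^ k) * W j
  have hq : ∀ l, ∃ q ∈ Ideal.span (Set.range W) ^ 2, MvPolynomial.C (α ^ (2 * k)) * q =
      aeval (xc + dW) (f l) - aeval xc (f l) - ∑ j, aeval xc (pderiv j (f l)) * dW j := by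
    intro l
    have ht := taylor_mem_sq xc dW (f l)
    have hle : Ideal.span (Set.range dW) ≤ Ideal.span {MvPolynomial.C (α ^ k)} * Ideal.span (Set.range W) :=
      Ideal.span_le.2 (by
        rintro _ ⟨j, rfl⟩
        exact Ideal.mul_mem_mul (Ideal.mem_span_singleton_self _) (Ideal.subset_span ⟨j, rfl⟩))
    have h2 := Ideal.pow_right_mono hle 2 ht
    rw [mul_pow, Ideal.span_singleton_pow, ← map_pow, ← pow_mul, mul_comm k 2] at h2
    exact Ideal.mem_span_singleton_mul.1 h2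
  choose q hqW hqe using hq
  let G : Fin n → S := fun i =>
    MvPolynomial.C (∑ l, aeval x (H i l) * (α ^ M * e l)) + W i +
      MvPolynomial.C (α ^ k) * (∑ j, MvPolynomial.C (α ^ M * ρ i j) * W j) +
      ∑ l, MvPolynomial.C (aeval x (H i l)) * q l
  have hW0 : ∀ {g : S}, g ∈ Ideal.span (Set.range W) → eval (0 : Fin n → R) g = 0 := by
    intro g hg
    have h : Ideal.span (Set.range W) ≤ RingHom.ker (eval (0 : Fin n → R)) :=
      Ideal.span_le.2 (by rintro _ ⟨j, rfl⟩; exact RingHom.mem_ker.2 (eval_X j))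
    exact h hg
  have hq0 : ∀ l, eval (0 : Fin n → R) (q l) = 0 := fun l => hW0 (Ideal.pow_le_self two_ne_zero (hqW l))
  have hq1 : ∀ l i, eval (0 : Fin n → R) (pderiv i (q l)) = 0 := fun l i => hW0 (mem_of_mem_sq _ i (hqW l))
  have hαM : α ^ M ∈ J := Ideal.pow_mem_of_mem J hα M hM
  have hαk : α ^ k ∈ J := Ideal.pow_mem_of_mem J hα k hk
  obtain ⟨w, hw, hGw⟩ := Hensel.exists_root_of_jacobian J G 0
    (fun i => by
      simp only [G, map_add, map_mul, map_sum, eval_C, W, eval_X, hq0, Pi.zero_apply, mul_zero,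
        Finset.sum_const_zero, add_zero]
      exact J.sum_mem fun l _ => J.mul_mem_left _ (J.mul_mem_right _ hαM))
    (by
      rw [RingHom.map_det, RingHom.map_det]
      convert isUnit_one
      rw [← Matrix.det_one (R := R ⧸ J) (n := Fin n)]
      congr 1
      ext i j
      simp only [RingHom.mapMatrix_apply, Matrix.map_apply, Matrix.of_apply, G, map_add, map_sum,
        Derivation.leibniz, pderiv_C, smul_eq_mul, mul_zero, add_zero, zero_add, W, pderiv_X, map_mul,
        hq1, eval_C, Finset.sum_const_zero, Pi.zero_apply, Ideal.Quotient.eq_zero_iff_mem.2 hαk, zero_mul,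
        eval_X, Matrix.one_apply, Pi.single_apply, map_zero]
      by_cases hij : i = j
      · subst hij; simp
      · simp [hij, Ne.symm hij])
  have hwJ : ∀ i, w i ∈ J := fun i => by simpa using hw i
  let y : Fin n → R := x + fun j => α ^ k * w j
  have hev : ∀ g : MvPolynomial (Fin n) A, eval w (aeval (xc + dW) g) = aeval y g := by
    intro g
    rw [← aeval_eq_eval w]
    show ((aeval w).restrictScalars A) (aeval (xc + dW) g) = _
    rw [← AlgHom.comp_apply, comp_aeval]
    congr 2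
    funext j
    show aeval (R := R) w (MvPolynomial.C (x j) + MvPolynomial.C (α ^ k) * MvPolynomial.X j) = _
    simp [y]
  have hxc : ∀ g : MvPolynomial (Fin n) A, aeval xc g = MvPolynomial.C (aeval x g) := fun g => by
    rw [show xc = algebraMap R S ∘ x from rfl, aeval_algebraMap_apply]
    rfl
  have hfy : ∀ l, aeval y (f l) = aeval x (f l) + ∑ j, aeval x (pderiv j (f l)) * (α ^ k * w j) +
      α ^ (2 * k) * eval w (q l) := by
    intro l
    have h := congrArg (eval w) (hqe l)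
    simp only [map_sub, map_mul, map_sum, hev, hxc, eval_C, dW, W, eval_X] at h
    rw [h]
    ring
  let Wid := Ideal.span (Set.range w)
  have hWid : Wid ≤ Ideal.span {α ^ M} ⊔ J • Wid := by
    refine Ideal.span_le.2 ?_
    rintro _ ⟨i, rfl⟩
    have h := hGw i
    simp only [G, map_add, map_mul, map_sum, eval_C, W, eval_X] at h
    have hw' : w i = -(∑ l, aeval x (H i l) * (α ^ M * e l)) -
        (α ^ k * (∑ j, α ^ M * ρ i j * w j) + ∑ l, aeval x (H i l) * eval w (q l)) := by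
      linear_combination h
    rw [SetLike.mem_coe, hw']
    refine sub_mem (Submodule.mem_sup_left (neg_mem (sum_mem fun l _ => ?_))) (Submodule.mem_sup_right ?_)
    · exact Ideal.mul_mem_left _ _ (Ideal.mul_mem_right _ _ (Ideal.mem_span_singleton_self _))
    · rw [smul_eq_mul]
      refine add_mem (Ideal.mul_mem_mul hαk (sum_mem fun j _ => Ideal.mul_mem_left _ _ (Ideal.subset_span ⟨j, rfl⟩)))
        (sum_mem fun l _ => Ideal.mul_mem_left _ _ ?_)
      have h2 : eval w (q l) ∈ Wid ^ 2 := by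
        have := Ideal.mem_map_of_mem (eval w) (hqW l)
        rwa [Ideal.map_pow, Ideal.map_span, ← Set.range_comp, show ⇑(eval w) ∘ W = w from funext fun j => eval_X j] at this
      rw [pow_two] at h2
      exact Ideal.mul_mono_left (Ideal.span_le.2 (by rintro _ ⟨j, rfl⟩; exact hwJ j)) h2
  have hWle : Wid ≤ Ideal.span {α ^ M} :=
    Submodule.le_of_le_smul_of_le_jacobson_bot (IsNoetherian.noetherian _) (HenselianRing.jac) hWid
  refine ⟨w, fun i => hWle (Ideal.subset_span ⟨i, rfl⟩), fun i => ?_⟩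
  have h := hGw i
  simp only [G, map_add, map_mul, map_sum, eval_C, W, eval_X] at h
  have hHJ' : ∀ j, ∑ l, aeval x (H i l) * aeval x (pderiv j (f l)) =
      (if i = j then α ^ k else 0) + α ^ (2 * k) * (α ^ M * ρ i j) + γ i j := fun j => by
    have h2 := hρ i j
    simp only [map_sum, map_mul] at h2
    linear_combination h2
  have hmid : ∑ l, aeval x (H i l) * ∑ j, aeval x (pderiv j (f l)) * (α ^ k * w j) =
      α ^ k * α ^ k * w i + α ^ k * α ^ (2 * k) * (∑ j, α ^ M * ρ i j * w j) + ∑ j, γ i j * (α ^ k * w j) := by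
    simp only [Finset.mul_sum]
    rw [Finset.sum_comm]
    simp only [← mul_assoc, ← Finset.sum_mul, hHJ', add_mul, Finset.sum_add_distrib, ite_mul, zero_mul,
      Finset.sum_ite_eq, Finset.mem_univ, if_true, Finset.mul_sum]
    congr 1
    congr 1
    exact Finset.sum_congr rfl fun j _ => by ring
  have key : ∑ l, aeval x (H i l) * aeval y (f l) =
      ∑ l, aeval x (H i l) * β l + ∑ j, γ i j * (α ^ k * w j) := by
    simp only [hfy, mul_add, Finset.sum_add_distrib, hmid, he]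
    have e1 : ∑ l, aeval x (H i l) * (α ^ (2 * k) * (α ^ M * e l)) =
        α ^ (2 * k) * ∑ l, aeval x (H i l) * (α ^ M * e l) := by
      rw [Finset.mul_sum]; exact Finset.sum_congr rfl fun l _ => by ring
    have e2 : ∑ l, aeval x (H i l) * (α ^ (2 * k) * eval w (q l)) =
        α ^ (2 * k) * ∑ l, aeval x (H i l) * eval w (q l) := by
      rw [Finset.mul_sum]; exact Finset.sum_congr rfl fun l _ => by ring
    rw [e1, e2, two_mul, pow_add]
    linear_combination (α ^ k * α ^ k) * h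
  rw [key]
  exact add_mem (sum_mem fun l _ => b.mul_mem_left _ (hβ l)) (sum_mem fun j _ => b.mul_mem_right _ (hγ i j))

/-- An approximate root modulo a high power of one element is near an exact root. -/
theorem exists_root_one {n m : ℕ} (f : Fin m → MvPolynomial (Fin n) A) (J : Ideal R) [HenselianRing R J]
    [IsNoetherianRing R] (a : A) (hα : algebraMap A R a ∈ J) (k : ℕ) (hk : 1 ≤ k)
    (H : Fin n → Fin m → MvPolynomial (Fin n) A)
    (h1 : ∀ i j, ∑ l, H i l * pderiv j (f l) - (if i = j then C a ^ k else 0) ∈ Ideal.span (Set.range f))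
    (h2 : ∀ l, C a ^ k * f l - ∑ j, pderiv j (f l) * ∑ p, H j p * f p ∈ Ideal.span (Set.range f) ^ 2)
    (b : Ideal R) (N : ℕ) :
    ∃ M : ℕ, ∀ x : Fin n → R, (∀ l, aeval x (f l) ∈ Ideal.span {algebraMap A R a ^ M} ⊔ b) →
      ∃ y : Fin n → R, (∀ l, aeval y (f l) ∈ b) ∧ ∀ i, y i - x i ∈ J ^ N := by
  classical
  set α := algebraMap A R a
  obtain ⟨c, hc⟩ := exists_stable_colon α b
  let M := N + c + 1
  refine ⟨2 * k + M, fun x hx => ?_⟩
  obtain ⟨w, hwM, hHw⟩ := exists_newton_step f J b α hα k M hk (by omega) H x hx (fun i j => by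
    have h := aeval_span_le f x (Ideal.span {α ^ (2 * k + M)} ⊔ b) hx (h1 i j)
    rwa [map_sub, apply_ite (aeval x), map_pow, aeval_C, map_zero] at h)
  let y : Fin n → R := x + fun j => α ^ k * w j
  have hd : ∀ j, α ^ k * w j ∈ Ideal.span {α ^ (k + M)} := fun j => by
    obtain ⟨v, hv⟩ := Ideal.mem_span_singleton'.1 (hwM j)
    exact Ideal.mem_span_singleton'.2 ⟨v, by rw [← hv, pow_add]; ring⟩
  have hspan : ∀ {g : MvPolynomial (Fin n) A}, aeval y g - aeval x g ∈ Ideal.span {α ^ (k + M)} := fun {g} =>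
    (Ideal.span_le.2 (by rintro _ ⟨j, rfl⟩; exact hd j)) (aeval_sub_mem_span x _ g)
  have hF : ∀ l, aeval y (f l) ∈ Ideal.span {α ^ (k + M)} ⊔ b := fun l => by
    rw [← sub_add_cancel (aeval y (f l)) (aeval x (f l))]
    refine add_mem (Submodule.mem_sup_left hspan) ?_
    exact sup_le_sup_right (Ideal.span_singleton_le_span_singleton.2 (pow_dvd_pow α (by omega))) b (hx l)
  let F := Ideal.span (Set.range fun l => aeval y (f l))
  let T := Ideal.span {α ^ k} * F
  have hJk : Ideal.span {α ^ (k + M)} ≤ J * Ideal.span {α ^ k} := by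
    rw [Ideal.span_singleton_le_iff_mem, add_comm, pow_add]
    exact Ideal.mul_mem_mul (Ideal.pow_mem_of_mem J hα M (by omega)) (Ideal.mem_span_singleton_self _)
  have hT : T ≤ b ⊔ J • T := by
    show Ideal.span {α ^ k} * Ideal.span (Set.range fun l => aeval y (f l)) ≤ b ⊔ J * T
    rw [Ideal.span_mul_span', Ideal.span_le]
    rintro _ ⟨_, rfl, _, ⟨l, rfl⟩, rfl⟩
    have hz : aeval y (C a ^ k * f l - ∑ j, pderiv j (f l) * ∑ p, H j p * f p) ∈ F ^ 2 := aeval_sq_le f y (h2 l)
    have hsq : F ^ 2 ≤ b ⊔ J * (Ideal.span {α ^ k} * F) := by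
      rw [pow_two]
      refine (Ideal.mul_mono_left (Ideal.span_le.2 (by rintro _ ⟨p, rfl⟩; exact hF p) :
        F ≤ Ideal.span {α ^ (k + M)} ⊔ b)).trans ?_
      rw [Ideal.sup_mul]
      refine sup_le ?_ ((Ideal.mul_le_inf.trans inf_le_left).trans le_sup_left)
      rw [← mul_assoc]
      exact (Ideal.mul_mono_left hJk).trans le_sup_right
    have hinner : ∀ j, aeval y (∑ p, H j p * f p) ∈ b ⊔ J * (Ideal.span {α ^ k} * F) := by
      intro j
      have e : aeval y (∑ p, H j p * f p) = ∑ p, aeval x (H j p) * aeval y (f p) +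
          ∑ p, (aeval y (H j p) - aeval x (H j p)) * aeval y (f p) := by
        rw [← Finset.sum_add_distrib, map_sum]
        exact Finset.sum_congr rfl fun p _ => by rw [map_mul]; ring
      rw [e]
      refine add_mem (Submodule.mem_sup_left (hHw j)) (sum_mem fun p _ => Submodule.mem_sup_right ?_)
      rw [← mul_assoc]
      exact Ideal.mul_mem_mul (hJk hspan) (Ideal.subset_span ⟨p, rfl⟩)
    show α ^ k * aeval y (f l) ∈ b ⊔ J * (Ideal.span {α ^ k} * F)
    rw [← sub_add_cancel (α ^ k * aeval y (f l)) (aeval y (∑ j, pderiv j (f l) * ∑ p, H j p * f p))]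
    refine add_mem ?_ ?_
    · have h9 := hsq hz
      rwa [map_sub, map_mul, map_pow, aeval_C] at h9
    · rw [map_sum]
      refine sum_mem fun j _ => ?_
      rw [map_mul]
      exact Ideal.mul_mem_left _ _ (hinner j)
  have hTb : T ≤ b :=
    Submodule.le_of_le_smul_of_le_jacobson_bot (IsNoetherian.noetherian _) (HenselianRing.jac) hT
  refine ⟨y, fun l => ?_, fun i => ?_⟩
  · obtain ⟨s, hs, β, hβ, hsum⟩ := Submodule.mem_sup.1 (hF l)
    obtain ⟨t, rfl⟩ := Ideal.mem_span_singleton'.1 hs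
    have h3 : α ^ k * aeval y (f l) ∈ b := hTb (Ideal.mul_mem_mul (Ideal.mem_span_singleton_self _) (Ideal.subset_span ⟨l, rfl⟩))
    rw [← hsum, mul_add, Ideal.add_mem_iff_left _ (b.mul_mem_left _ hβ)] at h3
    rw [← hsum]
    refine add_mem ?_ hβ
    have h4 : α ^ (k + c) * (α ^ (k + M - c) * t) ∈ b := by
      convert h3 using 1
      rw [pow_add, show α ^ (k + M) = α ^ c * α ^ (k + M - c) by rw [← pow_add, Nat.add_sub_cancel' (by omega)]]
      ring
    have h5 := hc k _ h4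
    convert h5 using 1
    rw [← mul_assoc, ← pow_add, Nat.add_sub_cancel' (by omega), mul_comm]
  · simp only [y, Pi.add_apply, add_sub_cancel_left]
    refine (Ideal.span_singleton_le_iff_mem _).2 ?_ (hd i)
    exact Ideal.pow_le_pow_right (by omega : N ≤ k + M) (Ideal.pow_mem_pow hα _)

/-- The Jacobian data at one element. -/
def EtaleRelAt {n m : ℕ} (f : Fin m → MvPolynomial (Fin n) A) (a : A) : Prop :=
  ∃ (k : ℕ) (H : Fin n → Fin m → MvPolynomial (Fin n) A), 1 ≤ k ∧
    (∀ i j, ∑ l, H i l * pderiv j (f l) - (if i = j then C a ^ k else 0) ∈ Ideal.span (Set.range f)) ∧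
    ∀ l, C a ^ k * f l - ∑ j, pderiv j (f l) * ∑ p, H j p * f p ∈ Ideal.span (Set.range f) ^ 2

/-- Approximate roots lie near roots in a Noetherian henselian pair. -/
theorem exists_root_near {n m : ℕ} (f : Fin m → MvPolynomial (Fin n) A) (J : Ideal R) [HenselianRing R J]
    [IsNoetherianRing R] : ∀ (s : List A), (∀ a ∈ s, algebraMap A R a ∈ J ∧ EtaleRelAt f a) →
    ∀ (b : Ideal R) (N : ℕ), ∃ N₀ : ℕ, ∀ x : Fin n → R,
      (∀ l, aeval x (f l) ∈ Ideal.span {r | r ∈ s.map (algebraMap A R)} ^ N₀ ⊔ b) →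
        ∃ y : Fin n → R, (∀ l, aeval y (f l) ∈ b) ∧ ∀ i, y i - x i ∈ J ^ N
  | [], _, b, N => ⟨1, fun x hx => ⟨x, fun l => by simpa using hx l, fun i => by simp⟩⟩
  | a :: s, hs, b, N => by
    obtain ⟨hα, k, H, hk, h1, h2⟩ := hs a (by simp)
    obtain ⟨M, hM⟩ := exists_root_one f J a hα k hk H h1 h2 b N
    obtain ⟨N₀, hN₀⟩ := exists_root_near f J s (fun c hc => hs c (List.mem_cons_of_mem _ hc))
      (Ideal.span {algebraMap A R a ^ M} ⊔ b) N
    refine ⟨M + N₀, fun x hx => ?_⟩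
    have hle : Ideal.span {r | r ∈ (a :: s).map (algebraMap A R)} ^ (M + N₀) ≤
        Ideal.span {algebraMap A R a ^ M} ⊔ Ideal.span {r | r ∈ s.map (algebraMap A R)} ^ N₀ := by
      have : {r | r ∈ (a :: s).map (algebraMap A R)} = insert (algebraMap A R a) {r | r ∈ s.map (algebraMap A R)} := by
        ext r; simp
      rw [this, Ideal.span_insert]
      exact Ideal.sup_pow_add_le_pow_sup_pow.trans (by rw [Ideal.span_singleton_pow])
    obtain ⟨x', hx', hxx'⟩ := hN₀ x fun l => by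
      have h3 := sup_le_sup_right hle b (hx l)
      rwa [sup_comm (Ideal.span {algebraMap A R a ^ M}), sup_assoc] at h3
    obtain ⟨y, hy, hyx⟩ := hM x' hx'
    exact ⟨y, hy, fun i => by rw [← sub_add_sub_cancel (y i) (x' i) (x i)]; exact add_mem (hyx i) (hxx' i)⟩

/-- Points of an algebra etale off a closed set which are congruent to high order are equal. -/
theorem exists_separating_order {B : Type u} [CommRing B] [Algebra A B] [Algebra.FiniteType A B]
    (J : Ideal R) [HenselianRing R J] [IsNoetherianRing R] (s : Finset A)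
    (hJ : J ≤ (Ideal.span (algebraMap A R '' (s : Set A))).radical)
    (hs : ∀ a ∈ s, Algebra.Etale A (Localization.Away (algebraMap A B a))) :
    ∃ n₀ : ℕ, ∀ ψ₁ ψ₂ : B →ₐ[A] R, (∀ b, ψ₁ b - ψ₂ b ∈ J ^ n₀) → ψ₁ = ψ₂ := by
  classical
  have hk : ∀ a ∈ s, ∃ k : ℕ, ∀ ω : Ω[B⁄A], algebraMap A B a ^ k • ω = 0 := fun a ha => by
    haveI := hs a ha
    exact exists_pow_kaehler a
  choose k hk using hk
  let 𝔞 : Ideal R := Ideal.span (Set.range fun a : s => algebraMap A R a ^ k a a.2)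
  have hJa : J ≤ 𝔞.radical := hJ.trans (by
    rw [Ideal.radical_le_radical_iff, Ideal.span_le]
    rintro _ ⟨a, ha, rfl⟩
    exact ⟨k a ha, Ideal.subset_span ⟨⟨a, ha⟩, rfl⟩⟩)
  obtain ⟨K, hK⟩ := Ideal.exists_pow_le_of_le_radical_of_fg hJa (IsNoetherian.noetherian J)
  let Ann : Submodule R R := Submodule.colon (⊥ : Submodule R R) ↑(J ^ K)
  obtain ⟨k₀, hk₀⟩ := J.exists_pow_inf_eq_pow_smul Ann
  refine ⟨k₀ + K + 1, fun ψ₁ ψ₂ hψ => ?_⟩
  let D : Ideal R := Ideal.span (Set.range fun b => ψ₁ b - ψ₂ b)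
  have haD : 𝔞 * D ≤ D * D := by
    rw [Ideal.span_mul_span', Ideal.span_le]
    rintro _ ⟨_, ⟨⟨a, ha⟩, rfl⟩, _, ⟨b, rfl⟩, rfl⟩
    let Rq := R ⧸ (D * D)
    let q : R →ₐ[A] Rq := Ideal.Quotient.mkₐ A (D * D)
    letI : Algebra B Rq := (q.comp ψ₁).toRingHom.toAlgebra
    haveI : IsScalarTower A B Rq := IsScalarTower.of_algebraMap_eq fun r => ((q.comp ψ₁).commutes r).symm
    let δ : Derivation A B Rq :=
      Derivation.mk' ((q.comp ψ₁).toLinearMap - (q.comp ψ₂).toLinearMap) fun c d => by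
        show q (ψ₁ (c * d)) - q (ψ₂ (c * d)) =
          q (ψ₁ c) * (q (ψ₁ d) - q (ψ₂ d)) + q (ψ₁ d) * (q (ψ₁ c) - q (ψ₂ c))
        rw [← sub_eq_zero, map_mul, map_mul]
        simp only [← map_sub, ← map_mul, ← map_add]
        refine Ideal.Quotient.eq_zero_iff_mem.2 ?_
        rw [map_mul ψ₁, map_mul ψ₂]
        have : ψ₁ c * ψ₁ d - ψ₂ c * ψ₂ d - (ψ₁ c * (ψ₁ d - ψ₂ d) + ψ₁ d * (ψ₁ c - ψ₂ c)) =
            -((ψ₁ c - ψ₂ c) * (ψ₁ d - ψ₂ d)) := by ring
        rw [this]
        exact neg_mem (Ideal.mul_mem_mul (Ideal.subset_span ⟨c, rfl⟩) (Ideal.subset_span ⟨d, rfl⟩))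
    have h0 : algebraMap A B a ^ k a ha • δ b = 0 := by
      rw [← Derivation.liftKaehlerDifferential_comp_D δ, ← map_smul, hk a ha, map_zero]
    refine Ideal.Quotient.eq_zero_iff_mem.1 ?_
    show q (algebraMap A R a ^ k a ha * (ψ₁ b - ψ₂ b)) = 0
    rw [← h0, Algebra.smul_def]
    show _ = q (ψ₁ (algebraMap A B a ^ k a ha)) * (q (ψ₁ b) - q (ψ₂ b))
    rw [map_pow ψ₁, AlgHom.commutes, map_mul, map_sub]
  have hDJ : D ≤ J ^ (k₀ + K + 1) := Ideal.span_le.2 (by rintro _ ⟨b, rfl⟩; exact hψ b)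
  have hKD : J ^ K * D ≤ ⊥ := by
    refine Submodule.le_of_le_smul_of_le_jacobson_bot (IsNoetherian.noetherian _) (HenselianRing.jac (I := J)) ?_
    rw [smul_eq_mul, bot_sup_eq, ← mul_assoc, ← pow_succ']
    exact (Ideal.mul_mono_left hK).trans (haD.trans
      (Ideal.mul_mono_left (hDJ.trans (Ideal.pow_le_pow_right (by omega)))))
  have hDAnn : D ≤ Ann := fun d hd => by
    rw [Submodule.mem_colon]
    intro r hr
    rw [smul_eq_mul, mul_comm]
    exact hKD (Ideal.mul_mem_mul hr hd)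
  have hD0 : D ≤ ⊥ := by
    intro d hd
    have h1 : d ∈ J ^ (k₀ + K + 1) • (⊤ : Submodule R R) ⊓ Ann :=
      ⟨by simpa using hDJ hd, hDAnn hd⟩
    rw [hk₀ _ (by omega)] at h1
    have h2 := Submodule.smul_mono (Ideal.pow_le_pow_right (by omega : K ≤ k₀ + K + 1 - k₀)) inf_le_right h1
    refine Submodule.smul_induction_on h2 (fun r hr t ht => ?_) (fun u v hu hv => add_mem hu hv)
    rw [smul_eq_mul, mul_comm]
    exact Submodule.mem_colon.1 ht r hr
  ext b
  exact sub_eq_zero.1 ((Submodule.mem_bot R).1 (hD0 (Ideal.subset_span ⟨b, rfl⟩)))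

/-- Compatible points of the truncations of a henselian pair come from exactly one point. -/
theorem existsUnique_of_truncations {B : Type u} [CommRing B] [Algebra A B] [IsNoetherianRing A]
    [Algebra.FiniteType A B] (I : Ideal A) (hB : ∀ a ∈ I, Algebra.Etale A (Localization.Away (algebraMap A B a)))
    [IsNoetherianRing R] [HenselianRing R (I.map (algebraMap A R))]
    (π : ∀ t : ℕ, B →ₐ[A] R ⧸ (I.map (algebraMap A R)) ^ t)
    (hπ : ∀ t t' (h : t ≤ t') (b : B) (r : R), π t' b = Ideal.Quotient.mk _ r → π t b = Ideal.Quotient.mk _ r) :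
    ∃! ψ : B →ₐ[A] R, ∀ t b, Ideal.Quotient.mk _ (ψ b) = π t b := by
  classical
  let J := I.map (algebraMap A R)
  obtain ⟨gens, hg⟩ := IsNoetherian.noetherian I
  obtain ⟨n, φ, hφ⟩ := Algebra.FiniteType.iff_quotient_mvPolynomial''.1 (inferInstance : Algebra.FiniteType A B)
  obtain ⟨m, f, hf⟩ := Submodule.fg_iff_exists_fin_generating_family.1 (IsNoetherian.noetherian (RingHom.ker φ))
  have hgI : ∀ a ∈ gens, a ∈ I := fun a ha => hg ▸ Submodule.subset_span ha
  have hJs : J = Ideal.span (algebraMap A R '' (gens : Set A)) := by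
    rw [← Ideal.map_span, Ideal.span, hg]
  obtain ⟨n₀, hn₀⟩ := exists_separating_order (B := B) J gens (hJs ▸ Ideal.le_radical) (fun a ha => hB a (hgI a ha))
  have hrel : ∀ a ∈ gens.toList, algebraMap A R a ∈ J ∧ EtaleRelAt f a := fun a ha => by
    have ha' := hgI a (Finset.mem_toList.1 ha)
    haveI := hB a ha'
    exact ⟨Ideal.mem_map_of_mem _ ha', exists_etale_rel φ hφ f hf.symm a⟩
  have hex : ∀ t : ℕ, ∃ ψ : B →ₐ[A] R, ∀ b, Ideal.Quotient.mk _ (ψ b) = π t b := by
    intro t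
    obtain ⟨N₀, hN₀⟩ := exists_root_near f J gens.toList hrel ⊥ t
    let T := max N₀ t
    choose x hx using fun i => Ideal.Quotient.mk_surjective (I := J ^ T) (π T (φ (X i)))
    have hev : ∀ g, Ideal.Quotient.mkₐ A (J ^ T) (aeval x g) = π T (φ g) := fun g => by
      rw [← AlgHom.comp_apply, comp_aeval, ← AlgHom.comp_apply (π T), aeval_unique ((π T).comp φ)]
      congr 2
      exact funext fun i => hx i
    obtain ⟨y, hy, hyx⟩ := hN₀ x fun l => by
      have h0 : φ (f l) = 0 := RingHom.mem_ker.1 (hf ▸ Submodule.subset_span ⟨l, rfl⟩)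
      have h1 := hev (f l)
      rw [h0, map_zero] at h1
      refine Submodule.mem_sup_left ?_
      have h2 : aeval x (f l) ∈ J ^ N₀ :=
        Ideal.pow_le_pow_right (le_max_left N₀ t) (Ideal.Quotient.eq_zero_iff_mem.1 h1)
      have e : {r | r ∈ gens.toList.map (algebraMap A R)} = algebraMap A R '' (gens : Set A) := by
        ext r; simp
      rwa [e, ← hJs]
    have hker : ∀ g ∈ RingHom.ker φ, aeval y g = 0 := fun g hg' => by
      have : g ∈ Ideal.span (Set.range f) := by rwa [Ideal.span, hf]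
      exact Ideal.mem_bot.1 (aeval_span_le f y ⊥ hy this)
    let eB := Ideal.quotientKerAlgEquivOfSurjective hφ
    let ψ : B →ₐ[A] R := (Ideal.Quotient.liftₐ _ (aeval y) hker).comp eB.symm.toAlgHom
    have hψ : ∀ g, ψ (φ g) = aeval y g := fun g => by
      have : eB.symm (φ g) = Ideal.Quotient.mk _ g := by
        apply eB.injective
        rw [AlgEquiv.apply_symm_apply]
        rfl
      simp only [ψ, AlgHom.comp_apply, AlgHom.coe_coe]
      erw [this]
      rfl
    refine ⟨ψ, fun b => ?_⟩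
    obtain ⟨g, rfl⟩ := hφ b
    rw [hψ]
    have h1 : ((Ideal.Quotient.mkₐ A (J ^ t)).comp (aeval y)) = (π t).comp φ := by
      refine MvPolynomial.algHom_ext fun i => ?_
      show Ideal.Quotient.mk _ (aeval y (X i)) = π t (φ (X i))
      rw [aeval_X, hπ t T (le_max_right N₀ t) (φ (X i)) (x i) (hx i).symm, Ideal.Quotient.eq]
      exact hyx i
    exact DFunLike.congr_fun h1 g
  choose ψ hψ using hex
  have hred : ∀ (t t' : ℕ), t ≤ t' → ∀ (χ : B →ₐ[A] R) b, Ideal.Quotient.mk _ (χ b) = π t' b →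
      Ideal.Quotient.mk _ (χ b) = π t b := fun t t' h χ b hb => (hπ t t' h b _ hb.symm).symm
  have huniq : ∀ χ₁ χ₂ : B →ₐ[A] R, (∀ b, Ideal.Quotient.mk _ (χ₁ b) = π n₀ b) →
      (∀ b, Ideal.Quotient.mk _ (χ₂ b) = π n₀ b) → χ₁ = χ₂ := fun χ₁ χ₂ h1 h2 =>
    hn₀ χ₁ χ₂ fun b => Ideal.Quotient.eq.1 ((h1 b).trans (h2 b).symm)
  refine ⟨ψ n₀, fun t b => ?_, fun χ hχ => huniq χ _ (hχ n₀) (hψ n₀)⟩
  have e : ψ (max t n₀) = ψ n₀ :=
    huniq _ _ (fun c => hred n₀ _ (le_max_right t n₀) _ c (hψ _ c)) (hψ n₀)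
  rw [← e]
  exact hred t _ (le_max_left t n₀) _ b (hψ _ b)

end Groth.Agent.H4RG
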