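import Groth.Prelude
import Groth.Agent.H4RG.ImpurityDown
import Mathlib

/-!
# Impurities along a closed immersion
-/

set_option autoImplicit false
set_option linter.style.haveILetI false
set_option backward.isDefEq.respectTransparency.types false

universe u

open TensorProduct

namespace Groth.Agent.H4RG

attribute [local instance] Algebra.TensorProduct.rightAlgebra

/-- Associated points of fibres do not change along a surjection of algebras. -/
theorem assoc_iff_of_surjective {R S T : Type u} [CommRing R] [CommRing S] [CommRing T] [Algebra R S] [Algebra R T]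
    [Algebra S T] [IsScalarTower R S T] [Algebra.FiniteType R S] [Algebra.FiniteType R T]
    (M : Type u) [AddCommGroup M] [Module S M] [Module R M] [IsScalarTower R S M]
    (M2 : Type u) [AddCommGroup M2] [Module T M2] [Module S M2] [IsScalarTower S T M2] [Module R M2] [IsScalarTower R T M2]
    (e : M ≃ₗ[S] M2) (hs : Function.Surjective (algebraMap S T))
    (p : Ideal R) [p.IsPrime] (P2 : Ideal T) [P2.IsPrime] [P2.LiesOver p] (P : Ideal S) [P.IsPrime] [P.LiesOver p]
    (hP : P2.comap (algebraMap S T) = P) :
    FlatCA.fiberIdeal p P ∈ associatedPrimes (p.Fiber S) (FlatCA.fiberMod p S M) ↔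
      FlatCA.fiberIdeal p P2 ∈ associatedPrimes (p.Fiber T) (FlatCA.fiberMod p T M2) := by
  haveI : IsScalarTower R S M2 := IsScalarTower.of_algebraMap_smul fun r y => by
    rw [← algebraMap_smul T (algebraMap R S r), ← IsScalarTower.algebraMap_apply, algebraMap_smul]
  let eR : M ≃ₗ[R] M2 := e.restrictScalars R
  have key : ∀ (x : M) (s : S),
      FlatCA.toFiberMod p (S := S) M (s • x) = 0 ↔ FlatCA.toFiberMod p (S := T) M2 (algebraMap S T s • e x) = 0 := by
    intro x s
    rw [toFiberMod_eq_zero_iff, toFiberMod_eq_zero_iff, algebraMap_smul, ← map_smul]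
    refine exists_congr fun c => and_congr_right fun _ => ?_
    rw [show c • e (s • x) = eR (c • (s • x)) from (eR.map_smul c (s • x)).symm]
    have : Submodule.comap (eR : M →ₗ[R] M2) (p • (⊤ : Submodule R M2)) = p • (⊤ : Submodule R M) := by
      conv_lhs => rw [show (⊤ : Submodule R M2) = Submodule.map (eR : M →ₗ[R] M2) ⊤ from
        (LinearMap.range_eq_map _).symm.trans (LinearMap.range_eq_top.2 eR.surjective) |>.symm]
      rw [← Submodule.map_smul'', Submodule.comap_map_eq_of_injective eR.injective]
    exact (SetLike.ext_iff.1 this (c • (s • x))).symm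
  constructor
  · intro h
    obtain ⟨x, hx⟩ := exists_witness p M h P (le_antisymm (fun s hs => mem_of_mem_fiberIdeal p P hs)
      fun s hs => Ideal.mem_map_of_mem _ hs)
    refine fiberIdeal_mem_associatedPrimes p M2 P2 (e x) fun a => ?_
    obtain ⟨s, rfl⟩ := hs a
    rw [← key, hx, ← hP, Ideal.mem_comap]
  · intro h
    obtain ⟨y, hy⟩ := exists_witness p M2 h P2 (le_antisymm (fun s hs => mem_of_mem_fiberIdeal p P2 hs)
      fun s hs => Ideal.mem_map_of_mem _ hs)
    refine fiberIdeal_mem_associatedPrimes p M P (e.symm y) fun s => ?_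
    rw [key, LinearEquiv.apply_symm_apply, hy, ← hP, Ideal.mem_comap]

variable {A B C : Type u} [CommRing A] [CommRing B] [CommRing C] [Algebra A B] [Algebra B C] [Algebra A C]
  [IsScalarTower A B C] (N : Type u) [AddCommGroup N] [Module C N] [Module B N] [IsScalarTower B C N]

/-- The two base changes of a module on a closed subscheme agree. -/
theorem exists_closed_equiv {A' B' C' : Type u} [CommRing A'] [CommRing B'] [CommRing C'] [Algebra A A'] [Algebra B B']
    [Algebra A' B'] [Algebra A B'] [IsScalarTower A B B'] [IsScalarTower A A' B'] [Algebra.IsPushout A B A' B']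
    [Algebra C C'] [Algebra A' C'] [Algebra A C'] [IsScalarTower A C C'] [IsScalarTower A A' C']
    [Algebra.IsPushout A C A' C'] [Algebra B' C'] [IsScalarTower A' B' C'] [Algebra B C'] [IsScalarTower B C C']
    [IsScalarTower B B' C'] (N' : Type u) [AddCommGroup N'] [Module B' N'] [Module B N'] [IsScalarTower B B' N']
    (f : N →ₗ[B] N') (hf : IsBaseChange B' f)
    (N'' : Type u) [AddCommGroup N''] [Module C' N''] [Module C N''] [IsScalarTower C C' N''] [Module B' N'']
    [IsScalarTower B' C' N''] (g : N →ₗ[C] N'') (hg : IsBaseChange C' g) : Nonempty (N' ≃ₗ[B'] N'') := by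
  haveI : IsScalarTower A B C' := IsScalarTower.of_algebraMap_eq fun r => by
    rw [IsScalarTower.algebraMap_apply B C C', ← IsScalarTower.algebraMap_apply A B C, ← IsScalarTower.algebraMap_apply]
  haveI : IsScalarTower A B' C' := IsScalarTower.of_algebraMap_eq fun r => by
    rw [IsScalarTower.algebraMap_apply A A' C', IsScalarTower.algebraMap_apply A A' B',
      ← IsScalarTower.algebraMap_apply A' B' C']
  haveI : Algebra.IsPushout B C B' C' := (Algebra.IsPushout.comp_iff A B A' B' (T := C) (T' := C')).1 inferInstance
  haveI : Algebra.IsPushout B B' C C' := Algebra.IsPushout.symm inferInstance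
  exact ⟨hf.equiv.symm.trans (((Algebra.IsPushout.cancelBaseChange B B' C C' N).symm).trans
    (hg.equiv.restrictScalars B'))⟩

/-- Impurities on a closed subscheme are those on the ambient scheme, and conversely. -/
theorem hasImpurity_closed [Algebra.FiniteType A B] (hBC : Function.Surjective (algebraMap B C)) (p : Ideal A) [p.IsPrime]
    (Q : ∀ (X : Type u) [CommRing X] [Algebra A X], Ideal X → Prop) :
    FlatCA.HasImpurity A C N p Q ↔ FlatCA.HasImpurity A B N p Q := by
  haveI : Algebra.FiniteType A C := Algebra.FiniteType.of_surjective (IsScalarTower.toAlgHom A B C) hBC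
  constructor
  · rintro ⟨A', C', N'', _, _, _, _, _, _, _, _, _, _, _, _, _, _, g, t', t, _, _, P2, _,
      ⟨hpush, hbc, hle, htp, hPt, hass, hno⟩, hQ⟩
    haveI := hpush
    let B' := A' ⊗[A] B
    let N' := B' ⊗[B] N
    haveI : Algebra.IsPushout A A' B B' := inferInstance
    haveI : Algebra.IsPushout A B A' B' := Algebra.IsPushout.symm inferInstance
    letI : Algebra B C' := ((algebraMap C C').comp (algebraMap B C)).toAlgebra
    haveI : IsScalarTower B C C' := IsScalarTower.of_algebraMap_eq fun _ => rfl
    haveI : IsScalarTower A B C' := IsScalarTower.of_algebraMap_eq fun r => by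
      rw [IsScalarTower.algebraMap_apply B C C', ← IsScalarTower.algebraMap_apply A B C, ← IsScalarTower.algebraMap_apply]
    let χ : B' →ₐ[A'] C' := Algebra.TensorProduct.lift (Algebra.ofId A' C') (IsScalarTower.toAlgHom A B C')
      fun _ _ => .all _ _
    letI : Algebra B' C' := χ.toRingHom.toAlgebra
    haveI : IsScalarTower A' B' C' := IsScalarTower.of_algebraMap_eq fun a => (χ.commutes a).symm
    haveI : IsScalarTower B B' C' := IsScalarTower.of_algebraMap_eq fun b => by
      show _ = χ ((1 : A') ⊗ₜ[A] b)
      rw [Algebra.TensorProduct.lift_tmul, map_one, one_mul]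
      rfl
    haveI : Algebra.IsPushout A A' C C' := Algebra.IsPushout.symm inferInstance
    have hsurj : Function.Surjective (algebraMap B' C') := fun z => by
      obtain ⟨y, rfl⟩ := (Algebra.IsPushout.equiv A A' C C').surjective z
      induction y using TensorProduct.induction_on with
      | zero => exact ⟨0, by simp⟩
      | add a b ha hb =>
        obtain ⟨a', ha'⟩ := ha
        obtain ⟨b', hb'⟩ := hb
        exact ⟨a' + b', by rw [map_add, map_add, ha', hb']⟩
      | tmul a c =>
        obtain ⟨b, rfl⟩ := hBC c
        refine ⟨a ⊗ₜ b, ?_⟩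
        show χ (a ⊗ₜ[A] b) = _
        rw [Algebra.TensorProduct.lift_tmul, Algebra.IsPushout.equiv_tmul, ← IsScalarTower.algebraMap_apply B C C']
        rfl
    letI : Module B' N'' := Module.compHom N'' (algebraMap B' C')
    haveI : IsScalarTower B' C' N'' := IsScalarTower.of_algebraMap_smul fun _ _ => rfl
    obtain ⟨e⟩ := exists_closed_equiv (A := A) (B := B) (C := C) N (A' := A') (C' := C') N' (TensorProduct.mk B B' N 1)
      (TensorProduct.isBaseChange B N B') N'' g hbc
    haveI : Algebra.FiniteType A' C' :=
      Algebra.FiniteType.equiv (inferInstance : Algebra.FiniteType A' (A' ⊗[A] C)) (Algebra.IsPushout.equiv A A' C C')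
    haveI := hPt
    let P := P2.comap (algebraMap B' C')
    haveI : P.IsPrime := Ideal.comap_isPrime _ _
    haveI : P.LiesOver t' := ⟨by
      rw [Ideal.under_def, Ideal.comap_comap, ← IsScalarTower.algebraMap_eq]
      exact hPt.over⟩
    refine ⟨A', B', N', inferInstance, inferInstance, inferInstance, inferInstance, inferInstance, inferInstance,
      inferInstance, inferInstance, inferInstance, inferInstance, inferInstance, inferInstance, inferInstance, inferInstance,
      TensorProduct.mk B B' N 1, t', t, inferInstance, inferInstance, P, inferInstance,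
      ⟨inferInstance, TensorProduct.isBaseChange B N B', hle, htp, inferInstance,
        (assoc_iff_of_surjective N' N'' e hsurj t' P2 P rfl).2 hass, fun P' hP' hle' hov => ?_⟩, hQ⟩
    have hker : RingHom.ker (algebraMap B' C') ≤ P' := (Ideal.ker_le_comap _).trans hle'
    haveI := Ideal.map_isPrime_of_surjective hsurj hker
    have hP'c : (P'.map (algebraMap B' C')).comap (algebraMap B' C') = P' := by
      rw [Ideal.comap_map_of_surjective' _ hsurj, sup_eq_left.2 hker]
    refine hno (P'.map (algebraMap B' C')) (fun z hz => ?_) ⟨?_⟩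
    · obtain ⟨b, rfl⟩ := hsurj z
      exact Ideal.mem_map_of_mem _ (hle' hz)
    · rw [Ideal.under_def, IsScalarTower.algebraMap_eq A' B' C', ← Ideal.comap_comap, hP'c]
      exact hov.over
  · rintro ⟨A', B', N', _, _, _, _, _, _, _, _, _, _, _, _, _, _, f, t', t, _, _, P, _,
      ⟨hpush, hbc, hle, htp, hPt, hass, hno⟩, hQ⟩
    haveI := hpush
    let C' := A' ⊗[A] C
    let N'' := C' ⊗[C] N
    haveI : Algebra.IsPushout A A' C C' := inferInstance
    haveI : Algebra.IsPushout A C A' C' := Algebra.IsPushout.symm inferInstance
    haveI : Algebra.IsPushout A A' B B' := Algebra.IsPushout.symm inferInstance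
    letI : Algebra B C' := ((algebraMap C C').comp (algebraMap B C)).toAlgebra
    haveI : IsScalarTower B C C' := IsScalarTower.of_algebraMap_eq fun _ => rfl
    let χ : B' →ₐ[A'] C' := (Algebra.TensorProduct.map (AlgHom.id A' A') (IsScalarTower.toAlgHom A B C)).comp
      (Algebra.IsPushout.equiv A A' B B').symm.toAlgHom
    letI : Algebra B' C' := χ.toRingHom.toAlgebra
    haveI : IsScalarTower A' B' C' := IsScalarTower.of_algebraMap_eq fun a => (χ.commutes a).symm
    haveI : IsScalarTower B B' C' := IsScalarTower.of_algebraMap_eq fun b => by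
      show _ = Algebra.TensorProduct.map _ _ ((Algebra.IsPushout.equiv A A' B B').symm (algebraMap B B' b))
      rw [Algebra.IsPushout.equiv_symm_algebraMap_right, Algebra.TensorProduct.map_tmul]
      rfl
    have hsurj : Function.Surjective (algebraMap B' C') := fun z => by
      induction z using TensorProduct.induction_on with
      | zero => exact ⟨0, map_zero _⟩
      | add a b ha hb =>
        obtain ⟨a', ha'⟩ := ha
        obtain ⟨b', hb'⟩ := hb
        exact ⟨a' + b', by rw [map_add, ha', hb']⟩
      | tmul a c =>
        obtain ⟨b, rfl⟩ := hBC c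
        refine ⟨Algebra.IsPushout.equiv A A' B B' (a ⊗ₜ b), ?_⟩
        show Algebra.TensorProduct.map _ _ ((Algebra.IsPushout.equiv A A' B B').symm _) = _
        rw [AlgEquiv.symm_apply_apply, Algebra.TensorProduct.map_tmul]
        rfl
    haveI : SMulCommClass C B' C' := ⟨fun c b x => by
      rw [← algebraMap_smul C' c, ← algebraMap_smul C' b x, ← algebraMap_smul C' c, ← algebraMap_smul C' b, smul_comm]⟩
    letI : Module B' N'' := TensorProduct.leftModule
    haveI : IsScalarTower B' C' N'' := TensorProduct.isScalarTower_left
    obtain ⟨e⟩ := exists_closed_equiv (A := A) (B := B) (C := C) N (A' := A') (C' := C') N' f hbc N''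
      (TensorProduct.mk C C' N 1) (TensorProduct.isBaseChange C N C')
    haveI : Algebra.FiniteType A' B' :=
      Algebra.FiniteType.equiv (inferInstance : Algebra.FiniteType A' (A' ⊗[A] B)) (Algebra.IsPushout.equiv A A' B B')
    haveI := hPt
    have hker : RingHom.ker (algebraMap B' C') ≤ P := fun s hs => by
      obtain ⟨x, hx⟩ := exists_witness t' N' hass P (le_antisymm (fun s hs => mem_of_mem_fiberIdeal t' P hs)
        fun s hs => Ideal.mem_map_of_mem _ hs)
      refine (hx s).1 ?_
      have : s • x = 0 := e.injective (by
        rw [map_smul, map_zero, ← algebraMap_smul C' s (e x), RingHom.mem_ker.1 hs, zero_smul])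
      rw [this, map_zero]
    haveI := Ideal.map_isPrime_of_surjective hsurj hker
    let P2 := P.map (algebraMap B' C')
    have hc : P2.comap (algebraMap B' C') = P := by
      rw [Ideal.comap_map_of_surjective' _ hsurj, sup_eq_left.2 hker]
    haveI : P2.LiesOver t' := ⟨by
      rw [Ideal.under_def, IsScalarTower.algebraMap_eq A' B' C', ← Ideal.comap_comap, hc]
      exact hPt.over⟩
    refine ⟨A', C', N'', inferInstance, inferInstance, inferInstance, inferInstance, inferInstance, inferInstance,
      inferInstance, inferInstance, inferInstance, inferInstance, inferInstance, inferInstance, inferInstance, inferInstance,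
      TensorProduct.mk C C' N 1, t', t, inferInstance, inferInstance, P2, inferInstance,
      ⟨inferInstance, TensorProduct.isBaseChange C N C', hle, htp, inferInstance,
        (assoc_iff_of_surjective N' N'' e hsurj t' P2 P hc).1 hass, fun P' hP' hle' hov => ?_⟩, hQ⟩
    refine hno (P'.comap (algebraMap B' C')) (Ideal.map_le_iff_le_comap.1 hle') ⟨?_⟩
    rw [Ideal.under_def, Ideal.comap_comap, ← IsScalarTower.algebraMap_eq]
    exact hov.over

end Groth.Agent.H4RG
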