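import Groth.Prelude
import Groth.Agent.H4RG.ImpurityDown
import Mathlib

/-!
# Impurities over quasi-finite bases come from elementary étale neighbourhoods
-/

set_option autoImplicit false
set_option linter.style.haveILetI false
set_option backward.isDefEq.respectTransparency.types false

universe u

open TensorProduct

namespace Groth.Agent.H4RG

attribute [local instance] Algebra.TensorProduct.rightAlgebra

variable {A B : Type u} [CommRing A] [CommRing B] [Algebra A B] [Algebra.FiniteType A B]

/-- An impurity over a finite algebra with a single point over a point of the base ring gives one over that ring. -/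
theorem exists_impurity_finite_down {N : Type u} [AddCommGroup N] [Module B N] {p : Ideal A} [p.IsPrime]
    {C B' N' : Type u} [CommRing C] [CommRing B'] [Algebra A C] [Algebra B B'] [Algebra C B'] [Algebra A B']
    [IsScalarTower A B B'] [IsScalarTower A C B'] [AddCommGroup N'] [Module B' N'] [Module B N'] [IsScalarTower B B' N']
    [Module C N'] [IsScalarTower C B' N'] {f : N →ₗ[B] N'} {t' t : Ideal C} [t'.IsPrime] [t.IsPrime]
    {P : Ideal B'} [P.IsPrime] (himp : FlatCA.IsImpurity A B N p C B' N' f t' t P)
    (R : Type u) [CommRing R] [Algebra A R] [Algebra R C] [IsScalarTower A R C] [Algebra.IsIntegral R C]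
    (z : Ideal R) [z.IsPrime] (hz : t.comap (algebraMap R C) = z)
    (huniq : ∀ T : Ideal C, T.IsPrime → T.comap (algebraMap R C) = z → T = t)
    (Q : ∀ (X : Type u) [CommRing X] [Algebra A X], Ideal X → Prop) (hQ : Q R z) :
    FlatCA.HasImpurity A B N p Q := by
  obtain ⟨hpush, hbc, hle, htp, hPt, hass, hno⟩ := himp
  haveI := hpush
  let B0 := R ⊗[A] B
  let N0 := B0 ⊗[B] N
  let θ : B0 →ₐ[A] B' := pushMap (A' := C) R
  letI : Algebra B0 B' := θ.toRingHom.toAlgebra
  letI : Algebra R B' := ((algebraMap C B').comp (algebraMap R C)).toAlgebra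
  haveI : IsScalarTower R C B' := IsScalarTower.of_algebraMap_eq fun _ => rfl
  haveI : IsScalarTower R B0 B' := IsScalarTower.of_algebraMap_eq fun c => by
    show _ = θ (c ⊗ₜ[A] (1 : B))
    rw [pushMap_tmul, map_one, mul_one]
    rfl
  haveI : IsScalarTower B B0 B' := IsScalarTower.of_algebraMap_eq fun b => by
    show _ = θ ((1 : R) ⊗ₜ[A] b)
    rw [pushMap_tmul, map_one, map_one, one_mul]
  haveI : IsScalarTower A B0 B' := IsScalarTower.of_algebraMap_eq fun r => (θ.commutes r).symm
  haveI : IsScalarTower A R B' := IsScalarTower.of_algebraMap_eq fun r => by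
    rw [IsScalarTower.algebraMap_apply A C B', IsScalarTower.algebraMap_apply A R C]
    rfl
  haveI : Algebra.IsPushout A C B B' := Algebra.IsPushout.symm inferInstance
  haveI : Algebra.IsPushout A R B B0 := inferInstance
  haveI : Algebra.IsPushout R C B0 B' := (Algebra.IsPushout.comp_iff A R B B0 (T := C) (T' := B')).1 inferInstance
  haveI : Algebra.IsPushout R B0 C B' := Algebra.IsPushout.symm inferInstance
  haveI : Algebra.IsIntegral B0 (B0 ⊗[R] C) := inferInstance
  haveI : Algebra.IsIntegral B0 B' := Algebra.IsIntegral.of_surjective (Algebra.IsPushout.equiv R B0 C B').toAlgHom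
    (Algebra.IsPushout.equiv R B0 C B').surjective
  letI : Module B0 N' := Module.compHom N' (algebraMap B0 B')
  haveI : IsScalarTower B0 B' N' := IsScalarTower.of_algebraMap_smul fun _ _ => rfl
  haveI : IsScalarTower B B0 N' := IsScalarTower.of_algebraMap_smul fun b y => by
    show algebraMap B0 B' (algebraMap B B0 b) • y = b • y
    rw [← IsScalarTower.algebraMap_apply, algebraMap_smul]
  let g : N0 →ₗ[B0] N' := (TensorProduct.isBaseChange B N B0).lift f
  have hg : IsBaseChange B' g := ((TensorProduct.isBaseChange B N B0).comp_iff (T := B') (h := g)).1 (by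
    rw [show (g.restrictScalars B) ∘ₗ (TensorProduct.mk B B0 N 1) = f from
      LinearMap.ext fun n => (TensorProduct.isBaseChange B N B0).lift_eq f n]
    exact hbc)
  let P0 := P.comap (algebraMap B0 B')
  haveI : P0.IsPrime := Ideal.comap_isPrime _ _
  let z' := t'.comap (algebraMap R C)
  have hP0 : P0.comap (algebraMap R B0) = z' := by
    rw [Ideal.comap_comap, ← IsScalarTower.algebraMap_eq, IsScalarTower.algebraMap_eq R C B', ← Ideal.comap_comap,
      show P.comap (algebraMap C B') = t' from hPt.over.symm]
  have hass0 := assoc_of_baseChange (R := R) (S := B0) (R2 := C) (S2 := B') N0 N' g hg z' t' rfl P hPt.over.symm hass P0 rfl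
  refine ⟨R, B0, N0, inferInstance, inferInstance, inferInstance, inferInstance, inferInstance, inferInstance, inferInstance,
    inferInstance, inferInstance, inferInstance, inferInstance, inferInstance, inferInstance, inferInstance,
    TensorProduct.mk B B0 N 1, z', z, inferInstance, inferInstance, P0, inferInstance,
    ⟨inferInstance, TensorProduct.isBaseChange B N B0, hz ▸ Ideal.comap_mono hle, ⟨?_⟩, ⟨hP0.symm⟩, hass0,
      fun Q0 hQ0 hPQ hov => ?_⟩, hQ⟩
  · rw [Ideal.under_def, ← hz, Ideal.comap_comap, ← IsScalarTower.algebraMap_eq]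
    exact htp.over
  · obtain ⟨Q2, hPQ2, hQ2, hQ20⟩ := Ideal.exists_ideal_over_prime_of_isIntegral (S := B') Q0 P hPQ
    refine hno Q2 hPQ2 ⟨(huniq _ (Ideal.comap_isPrime _ _) ?_).symm⟩
    rw [Ideal.comap_comap, ← IsScalarTower.algebraMap_eq, IsScalarTower.algebraMap_eq R B0 B', ← Ideal.comap_comap, hQ20]
    exact hov.over.symm

/-- An impurity over a base which is quasi-finite at the point gives one over an elementary étale neighbourhood. -/
theorem hasImpurity_etale {N : Type u} [AddCommGroup N] [Module B N] {p : Ideal A} [p.IsPrime]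
    {A' B' N' : Type u} [CommRing A'] [CommRing B'] [Algebra A A'] [Algebra B B'] [Algebra A' B'] [Algebra A B']
    [IsScalarTower A B B'] [IsScalarTower A A' B'] [AddCommGroup N'] [Module B' N'] [Module B N'] [IsScalarTower B B' N']
    [Module A' N'] [IsScalarTower A' B' N'] {f : N →ₗ[B] N'} {t' t : Ideal A'} [t'.IsPrime] [t.IsPrime]
    {P : Ideal B'} [P.IsPrime] (himp : FlatCA.IsImpurity A B N p A' B' N' f t' t P)
    [Algebra.FiniteType A A'] [Algebra.QuasiFiniteAt A t] :
    FlatCA.HasImpurity A B N p (fun X _ _ T => ∃ _ : T.IsPrime, FlatCA.IsEtaleNhd A X p T) := by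
  haveI : t.LiesOver p := himp.2.2.2.1
  obtain ⟨R, _, _, _, z, _, hzp, e, -, P', _, hP'z, hP't, heP', hbij, _, huniq⟩ :=
    Algebra.exists_etale_isIdempotentElem_forall_liesOver_eq p t
  let E := R ⊗[A] A'
  let C := Localization.Away e
  haveI : IsScalarTower A A' C := IsScalarTower.of_algebraMap_eq fun r => by
    rw [IsScalarTower.algebraMap_apply A E C, IsScalarTower.algebraMap_apply A A' E, ← IsScalarTower.algebraMap_apply A' E C]
  haveI : Module.Flat A' E := by
    haveI : Algebra.IsPushout A A' R E := Algebra.IsPushout.symm inferInstance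
    exact Module.Flat.isBaseChange (R := A) (S := A') (M := R) E (f := (IsScalarTower.toAlgHom A R E).toLinearMap) Algebra.IsPushout.out
  haveI : Module.Flat E C := IsLocalization.flat C (Submonoid.powers e)
  haveI : Module.Flat A' C := Module.Flat.trans A' E C
  have hd : Disjoint (Submonoid.powers e : Set E) P' := Set.disjoint_left.2 fun y hy hyP => by
    obtain ⟨n, rfl⟩ := hy
    exact heP' (Ideal.IsPrime.mem_of_pow_mem ‹_› n hyP)
  let T2 := P'.map (algebraMap E C)
  haveI : T2.IsPrime := IsLocalization.isPrime_of_isPrime_disjoint (Submonoid.powers e) C P' ‹_› hd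
  have hT2 : T2.comap (algebraMap E C) = P' :=
    IsLocalization.under_map_of_isPrime_disjoint (Submonoid.powers e) C (I := P') ‹_› hd
  have hT2t : T2.comap (algebraMap A' C) = t := by
    rw [IsScalarTower.algebraMap_eq A' E C, ← Ideal.comap_comap, hT2]
    exact hP't
  haveI : T2.LiesOver t := ⟨hT2t.symm⟩
  obtain ⟨t3, hle3, _, ht3⟩ := Ideal.exists_ideal_le_liesOver_of_le (p := t') (q := t) T2 himp.2.2.1
  obtain ⟨P2, hP2, himp2⟩ := exists_impurity_baseChange himp C t3 T2 hle3 hT2t ht3.over.symm
  haveI : Module.Finite R C := inferInstance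
  refine exists_impurity_finite_down himp2 R z ?_ (fun T hT hTz => ?_) _ ⟨inferInstance, inferInstance, hzp, hbij⟩
  · rw [IsScalarTower.algebraMap_eq R E C, ← Ideal.comap_comap, hT2]
    exact hP'z.over.symm
  · have heT : e ∉ T.comap (algebraMap E C) := fun h =>
      hT.ne_top (Ideal.eq_top_of_isUnit_mem _ (Ideal.mem_comap.1 h) (IsLocalization.Away.algebraMap_isUnit e))
    have hTP : T.comap (algebraMap E C) = P' := huniq _ (Ideal.comap_isPrime _ _) ⟨by
      rw [Ideal.under_def, Ideal.comap_comap, ← IsScalarTower.algebraMap_eq]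
      exact hTz.symm⟩ heT
    calc T = (T.comap (algebraMap E C)).map (algebraMap E C) := (IsLocalization.map_under (Submonoid.powers e) C T).symm
      _ = T2 := by rw [hTP]

/-- An impurity of a base change is an impurity of the module. -/
theorem isImpurity_of_baseChange {N : Type u} [AddCommGroup N] [Module B N] {p : Ideal A} [p.IsPrime]
    {A' B' N' : Type u} [CommRing A'] [CommRing B'] [Algebra A A'] [Algebra B B'] [Algebra A' B'] [Algebra A B']
    [IsScalarTower A B B'] [IsScalarTower A A' B'] [Algebra.IsPushout A B A' B']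
    [AddCommGroup N'] [Module B' N'] [Module B N'] [IsScalarTower B B' N'] {g : N →ₗ[B] N'} (hg : IsBaseChange B' g)
    {p' : Ideal A'} [p'.IsPrime] [hp' : p'.LiesOver p]
    {A2 B2 N2 : Type u} [CommRing A2] [CommRing B2] [Algebra A' A2] [Algebra B' B2] [Algebra A2 B2] [Algebra A' B2]
    [IsScalarTower A' B' B2] [IsScalarTower A' A2 B2] [AddCommGroup N2] [Module B2 N2] [Module B' N2]
    [IsScalarTower B' B2 N2] [Module A2 N2] [IsScalarTower A2 B2 N2] {g2 : N' →ₗ[B'] N2} {t' t : Ideal A2}
    [t'.IsPrime] [t.IsPrime] {P : Ideal B2} [P.IsPrime]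
    (himp : FlatCA.IsImpurity A' B' N' p' A2 B2 N2 g2 t' t P) [Algebra A A2] [IsScalarTower A A' A2]
    (Q : ∀ (X : Type u) [CommRing X] [Algebra A X], Ideal X → Prop) (hQ : Q A2 t) :
    FlatCA.HasImpurity A B N p Q := by
  obtain ⟨hpush, hbc, hle, htp, hPt, hass, hno⟩ := himp
  letI : Algebra B B2 := ((algebraMap B' B2).comp (algebraMap B B')).toAlgebra
  haveI : IsScalarTower B B' B2 := IsScalarTower.of_algebraMap_eq fun _ => rfl
  letI : Algebra A B2 := ((algebraMap A2 B2).comp (algebraMap A A2)).toAlgebra
  haveI : IsScalarTower A A2 B2 := IsScalarTower.of_algebraMap_eq fun _ => rfl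
  haveI : IsScalarTower A B' B2 := IsScalarTower.of_algebraMap_eq fun a => by
    show algebraMap A2 B2 (algebraMap A A2 a) = _
    rw [IsScalarTower.algebraMap_apply A A' A2, ← IsScalarTower.algebraMap_apply, IsScalarTower.algebraMap_apply A A' B',
      IsScalarTower.algebraMap_apply A' B' B2]
  haveI : IsScalarTower A B B2 := IsScalarTower.of_algebraMap_eq fun a => by
    show _ = algebraMap B' B2 (algebraMap B B' (algebraMap A B a))
    rw [← IsScalarTower.algebraMap_apply A B B', ← IsScalarTower.algebraMap_apply A B' B2]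
  haveI := hpush
  haveI : Algebra.IsPushout A' A2 B' B2 := Algebra.IsPushout.symm inferInstance
  haveI : Algebra.IsPushout A A' B B' := Algebra.IsPushout.symm inferInstance
  haveI : Algebra.IsPushout A A2 B B2 := (Algebra.IsPushout.comp_iff A A' B B' (T := A2) (T' := B2)).2 inferInstance
  letI : Module B N2 := Module.compHom N2 (algebraMap B B2)
  haveI : IsScalarTower B B2 N2 := IsScalarTower.of_algebraMap_smul fun _ _ => rfl
  haveI : IsScalarTower B B' N2 := IsScalarTower.of_algebraMap_smul fun b y => by
    rw [← algebraMap_smul B2 (algebraMap B B' b), ← IsScalarTower.algebraMap_apply, algebraMap_smul]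
  refine ⟨A2, B2, N2, inferInstance, inferInstance, inferInstance, inferInstance, inferInstance, inferInstance, inferInstance,
    inferInstance, inferInstance, inferInstance, inferInstance, inferInstance, inferInstance, inferInstance,
    (g2.restrictScalars B) ∘ₗ g, t', t, inferInstance, inferInstance, P, inferInstance,
    ⟨Algebra.IsPushout.symm inferInstance, (hg.comp_iff (T := B2) (h := g2)).2 hbc, hle, ⟨?_⟩, hPt, hass, hno⟩, hQ⟩
  rw [Ideal.under_def, IsScalarTower.algebraMap_eq A A' A2, ← Ideal.comap_comap,
    show t.comap (algebraMap A' A2) = p' from htp.over.symm]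
  exact hp'.over

/-- A quasi-finite algebra followed by an étale one is quasi-finite at a point. -/
theorem quasiFiniteAt_etale (A' : Type u) [CommRing A'] [Algebra A A'] (A2 : Type u) [CommRing A2] [Algebra A' A2]
    [Algebra A A2] [IsScalarTower A A' A2] [Algebra.Etale A' A2] (p' : Ideal A') [p'.IsPrime] [Algebra.QuasiFiniteAt A p']
    (t : Ideal A2) [t.IsPrime] [t.LiesOver p'] : Algebra.QuasiFiniteAt A t := by
  let L := Localization.AtPrime p'
  let L2 := Localization.AtPrime t
  haveI : Algebra.QuasiFinite A' A2 := inferInstance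
  haveI : Algebra.QuasiFinite A' L2 := inferInstance
  let F : L →+* L2 := Localization.localRingHom p' t (algebraMap A' A2) (Ideal.LiesOver.over (P := t) (p := p'))
  letI : Algebra L L2 := F.toAlgebra
  haveI : IsScalarTower A' L L2 := IsScalarTower.of_algebraMap_eq fun a => by
    rw [IsScalarTower.algebraMap_apply A' A2 L2]
    exact (Localization.localRingHom_to_map p' t (algebraMap A' A2) _ a).symm
  haveI : IsScalarTower A L L2 := IsScalarTower.of_algebraMap_eq fun a => by
    rw [IsScalarTower.algebraMap_apply A A' L, ← IsScalarTower.algebraMap_apply A' L L2, ← IsScalarTower.algebraMap_apply]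
  haveI : Algebra.QuasiFinite L L2 := Algebra.QuasiFinite.of_restrictScalars A' L L2
  exact Algebra.QuasiFinite.trans A L L2

end Groth.Agent.H4RG
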