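import Groth.Prelude
import Groth.Agent.S0389
import Groth.Agent.H4RG.ImpurityDown
import Groth.Agent.H4RG.ImpurityEtale
import Mathlib

/-!
# Over a Noetherian base impurities come from quasi-finite algebras
-/

set_option autoImplicit false
set_option linter.style.haveILetI false
set_option backward.isDefEq.respectTransparency.types false

universe u

open TensorProduct

namespace Groth.Agent.H4RG

attribute [local instance] Algebra.TensorProduct.rightAlgebra

/-- Denominators of an extended scalar multiple of a submodule can be cleared. -/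
theorem exists_pow_smul_eq_of_mem {D K L : Type u} [CommRing D] [AddCommGroup K] [Module D K] [AddCommGroup L] [Module D L]
    (g : D) (h : K →ₗ[D] L) [IsLocalizedModule (Submonoid.powers g) h] (u : Ideal D) {y : L}
    (hy : y ∈ u • (⊤ : Submodule D L)) : ∃ k : ℕ, ∃ n ∈ u • (⊤ : Submodule D K), g ^ k • y = h n := by
  refine Submodule.smul_induction_on hy (fun a ha l _ => ?_) (fun a b ha hb => ?_)
  · obtain ⟨⟨n0, _, k, rfl⟩, hn⟩ := IsLocalizedModule.surj (Submonoid.powers g) h l
    refine ⟨k, a • n0, Submodule.smul_mem_smul ha Submodule.mem_top, ?_⟩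
    change g ^ k • l = h n0 at hn
    rw [smul_comm, hn, map_smul]
  · obtain ⟨k, n, hn, hk⟩ := ha
    obtain ⟨l, m, hm, hl⟩ := hb
    refine ⟨k + l, g ^ l • n + g ^ k • m, add_mem (Submodule.smul_mem _ _ hn) (Submodule.smul_mem _ _ hm), ?_⟩
    rw [map_add, map_smul, map_smul, ← hk, ← hl, smul_add, pow_add, mul_smul, mul_smul]
    congr 1
    exact smul_comm _ _ _

/-- An associated point of the generic fibre spreads to the fibres over an open set. -/
theorem exists_dense_assoc {D S : Type u} [CommRing D] [IsDomain D] [IsNoetherianRing D] [CommRing S] [Algebra D S]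
    [Algebra.FiniteType D S] (M : Type u) [AddCommGroup M] [Module S M] [Module D M] [IsScalarTower D S M]
    [Module.Finite S M] (P : Ideal S) [P.IsPrime] [P.LiesOver (⊥ : Ideal D)]
    (hass : FlatCA.fiberIdeal (⊥ : Ideal D) P ∈ associatedPrimes ((⊥ : Ideal D).Fiber S) (FlatCA.fiberMod (⊥ : Ideal D) S M)) :
    ∃ g : D, g ≠ 0 ∧ ∀ (u : Ideal D) [u.IsPrime], g ∉ u → ∃ (P1 : Ideal S) (_ : P1.IsPrime), P ≤ P1 ∧ P1.LiesOver u ∧
      FlatCA.fiberIdeal u P1 ∈ associatedPrimes (u.Fiber S) (FlatCA.fiberMod u S M) := by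
  classical
  haveI : IsNoetherianRing S := Algebra.FiniteType.isNoetherianRing D S
  obtain ⟨x, hx⟩ := exists_witness (⊥ : Ideal D) M hass P (le_antisymm (fun s hs => mem_of_mem_fiberIdeal _ P hs)
    fun s hs => Ideal.mem_map_of_mem _ hs)
  simp only [toFiberMod_eq_zero_iff, Submodule.bot_smul, Submodule.mem_bot, Ideal.mem_bot] at hx
  obtain ⟨G, hG⟩ := IsNoetherian.noetherian P
  have hG' : ∀ s : G, ∃ c : D, c ≠ 0 ∧ c • (s : S) • x = 0 := fun s =>
    (hx s).2 (hG.le (Submodule.subset_span s.2))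
  choose c hc0 hc using hG'
  let x' := (∏ s : G, c s) • x
  have hx' : ∀ s : S, s • x' = 0 ↔ s ∈ P := fun s => by
    constructor
    · intro h
      refine (hx s).1 ⟨∏ s : G, c s, Finset.prod_ne_zero_iff.2 fun s _ => hc0 s, ?_⟩
      rw [smul_comm]
      exact h
    · intro h
      rw [← hG] at h
      refine Submodule.span_induction (fun a ha => ?_) (zero_smul _ _) (fun a b _ _ ha hb => ?_) (fun a b _ hb => ?_) h
      · rw [show x' = (∏ s : G, c s) • x from rfl, ← Finset.prod_erase_mul _ _ (Finset.mem_univ (⟨a, ha⟩ : G)),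
          mul_smul, smul_comm a, smul_comm a, hc, smul_zero]
      · rw [add_smul, ha, hb, add_zero]
      · rw [smul_assoc, hb, smul_zero]
  let K := S ⧸ P
  let q : K →ₗ[S] M := Submodule.liftQ P (LinearMap.toSpanSingleton S M x') fun s hs => (hx' s).2 hs
  have hq : Function.Injective q := (injective_iff_map_eq_zero q).2 fun k hk => by
    obtain ⟨s, rfl⟩ := Submodule.Quotient.mk_surjective _ k
    exact (Submodule.Quotient.mk_eq_zero _).2 ((hx' s).1 hk)
  let Q := M ⧸ LinearMap.range q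
  obtain ⟨g1, hg1, hfree1, -⟩ := S0389.result (R := D) (S := S) (M := Q)
  obtain ⟨g2, hg2, hfree2, -⟩ := S0389.result (R := D) (S := S) (M := K)
  let L1 := Localization.Away g1
  let L2 := Localization.Away g2
  haveI := hfree1
  haveI := hfree2
  let qD : K →ₗ[D] M := q.restrictScalars D
  let pD : M →ₗ[D] Q := (LinearMap.range q).mkQ.restrictScalars D
  have hexD : Function.Exact qD pD := LinearMap.exact_map_mkQ_range q
  have hex : Function.Exact (qD.baseChange L1) (pD.baseChange L1) :=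
    lTensor_exact L1 hexD (Submodule.mkQ_surjective _)
  have hsurj : Function.Surjective (pD.baseChange L1) := LinearMap.lTensor_surjective L1 (Submodule.mkQ_surjective _)
  have hinj : Function.Injective (qD.baseChange L1) := by
    haveI : Module.Flat D L1 := IsLocalization.flat L1 (Submonoid.powers g1)
    exact Module.Flat.lTensor_preserves_injective_linearMap qD hq
  obtain ⟨l, hl⟩ := Module.projective_lifting_property (pD.baseChange L1) LinearMap.id hsurj
  obtain ⟨r, hr⟩ : ∃ r, r ∘ₗ qD.baseChange L1 = LinearMap.id := ((hex.split_tfae hinj hsurj).out 0 1 rfl rfl).1 ⟨l, hl⟩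
  let h1 : K →ₗ[D] L1 ⊗[D] K := TensorProduct.mk D L1 K 1
  haveI : IsLocalizedModule (Submonoid.powers g1) h1 :=
    (isLocalizedModule_iff_isBaseChange (Submonoid.powers g1) L1 h1).2 (TensorProduct.isBaseChange D K L1)
  let h2 : K →ₗ[D] L2 ⊗[D] K := TensorProduct.mk D L2 K 1
  haveI : IsLocalizedModule (Submonoid.powers g2) h2 :=
    (isLocalizedModule_iff_isBaseChange (Submonoid.powers g2) L2 h2).2 (TensorProduct.isBaseChange D K L2)
  have hpow : ∀ i : ℕ, g2 ^ i • (Submodule.Quotient.mk 1 : K) ≠ 0 := fun i h => by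
    rw [← algebraMap_smul S, ← Submodule.Quotient.mk_smul, Submodule.Quotient.mk_eq_zero, smul_eq_mul, mul_one,
      ← Ideal.mem_comap, show P.comap (algebraMap D S) = ⊥ from (Ideal.LiesOver.over (P := P) (p := (⊥ : Ideal D))).symm,
      Ideal.mem_bot] at h
    exact hg2 (pow_eq_zero_iff'.1 h).1
  haveI : Nontrivial (L2 ⊗[D] K) := ⟨h2 (Submodule.Quotient.mk 1), 0, fun h => by
    obtain ⟨⟨_, i, rfl⟩, hi⟩ := (IsLocalizedModule.eq_zero_iff (Submonoid.powers g2) h2).1 h
    exact hpow i hi⟩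
  let bs := Module.Free.chooseBasis L2 (L2 ⊗[D] K)
  obtain ⟨j⟩ : Nonempty (Module.Free.ChooseBasisIndex L2 (L2 ⊗[D] K)) := bs.index_nonempty
  obtain ⟨⟨w0, _, k0, rfl⟩, hw0⟩ := IsLocalizedModule.surj (Submonoid.powers g2) h2 (bs j)
  change g2 ^ k0 • bs j = h2 w0 at hw0
  refine ⟨g1 * g2, mul_ne_zero hg1 hg2, fun u hu hgu => ?_⟩
  have hg1u : g1 ∉ u := fun h => hgu (Ideal.mul_mem_right _ _ h)
  have hg2u : g2 ∉ u := fun h => hgu (Ideal.mul_mem_left _ _ h)
  have hne : FlatCA.toFiberMod u (S := S) K w0 ≠ 0 := fun h => by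
    obtain ⟨a, hau, ha⟩ := (toFiberMod_eq_zero_iff u K w0).1 h
    let φ : L2 ⊗[D] K →ₗ[D] L2 := (bs.coord j).restrictScalars D
    have h3 : φ (h2 (a • w0)) ∈ u • (⊤ : Submodule D L2) := by
      have : (u • (⊤ : Submodule D K)).map (φ ∘ₗ h2) ≤ u • (⊤ : Submodule D L2) := by
        rw [Submodule.map_smul'']
        exact Submodule.smul_mono le_rfl le_top
      exact this (Submodule.mem_map_of_mem ha)
    rw [Ideal.smul_top_eq_map, Submodule.restrictScalars_mem] at h3
    have h4 : φ (h2 (a • w0)) = algebraMap D L2 (a * g2 ^ k0) := by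
      rw [map_smul, ← hw0, ← mul_smul, map_smul, show φ (bs j) = 1 from by simp [φ], Algebra.algebraMap_eq_smul_one]
    rw [h4, ← Ideal.mem_comap] at h3
    have h5 := IsLocalization.under_map_of_isPrime_disjoint (Submonoid.powers g2) L2 (I := u) hu
      (Set.disjoint_left.2 fun y hy hyu => by
        obtain ⟨n, rfl⟩ := hy
        exact hg2u (hu.mem_of_pow_mem n hyu))
    rw [Ideal.under_def] at h5
    rw [h5] at h3
    exact (hu.mem_or_mem h3).elim hau fun h => hg2u (hu.mem_of_pow_mem _ h)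
  haveI : IsNoetherianRing (u.Fiber S) := Algebra.FiniteType.isNoetherianRing u.ResidueField _
  haveI : Nontrivial (FlatCA.fiberMod u S K) := ⟨_, 0, hne⟩
  obtain ⟨ρ, hρ⟩ := associatedPrimes.nonempty (u.Fiber S) (FlatCA.fiberMod u S K)
  haveI : ρ.IsPrime := hρ.1
  let P1 := ρ.comap (algebraMap S (u.Fiber S))
  haveI : P1.IsPrime := Ideal.comap_isPrime _ _
  haveI hP1u : P1.LiesOver u := ⟨(comap_fiber_eq u ρ).symm⟩
  obtain ⟨z, hz⟩ := exists_witness u K hρ P1 rfl
  refine ⟨P1, inferInstance, fun s hs => (hz s).1 ?_, hP1u, fiberIdeal_mem_associatedPrimes u M P1 (q z) fun s => ?_⟩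
  · obtain ⟨z0, rfl⟩ := Submodule.Quotient.mk_surjective _ z
    rw [show s • (Submodule.Quotient.mk z0 : K) = 0 from by
      rw [← Submodule.Quotient.mk_smul, Submodule.Quotient.mk_eq_zero]; exact P.mul_mem_right _ hs, map_zero]
  · rw [← hz, ← map_smul, toFiberMod_eq_zero_iff, toFiberMod_eq_zero_iff]
    constructor
    · rintro ⟨a, hau, ha⟩
      have h3 : r ((1 : L1) ⊗ₜ[D] (a • q (s • z))) ∈ u • (⊤ : Submodule D (L1 ⊗[D] K)) := by
        have : (u • (⊤ : Submodule D M)).map ((r.restrictScalars D) ∘ₗ TensorProduct.mk D L1 M 1) ≤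
            u • (⊤ : Submodule D (L1 ⊗[D] K)) := by
          rw [Submodule.map_smul'']
          exact Submodule.smul_mono le_rfl le_top
        exact this (Submodule.mem_map_of_mem ha)
      have h4 : r ((1 : L1) ⊗ₜ[D] (a • q (s • z))) = h1 (a • (s • z)) := by
        rw [show a • q (s • z) = qD (a • (s • z)) from (qD.map_smul a (s • z)).symm]
        exact LinearMap.congr_fun hr ((1 : L1) ⊗ₜ[D] (a • (s • z)))
      rw [h4] at h3
      obtain ⟨k, n, hn, hk⟩ := exists_pow_smul_eq_of_mem g1 h1 u h3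
      rw [← map_smul] at hk
      obtain ⟨⟨_, i, rfl⟩, hi⟩ := (IsLocalizedModule.eq_iff_exists (Submonoid.powers g1) h1).1 hk
      change g1 ^ i • (g1 ^ k • (a • (s • z))) = g1 ^ i • n at hi
      refine ⟨g1 ^ i * g1 ^ k * a, fun h => ?_, ?_⟩
      · rcases hu.mem_or_mem h with h | h
        · rcases hu.mem_or_mem h with h | h <;> exact hg1u (hu.mem_of_pow_mem _ h)
        · exact hau h
      · rw [mul_smul, mul_smul, hi]
        exact Submodule.smul_mem _ _ hn
    · rintro ⟨a, hau, ha⟩
      refine ⟨a, hau, ?_⟩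
      rw [show a • q (s • z) = qD (a • (s • z)) from (qD.map_smul a (s • z)).symm]
      have : (u • (⊤ : Submodule D K)).map qD ≤ u • (⊤ : Submodule D M) := by
        rw [Submodule.map_smul'']
        exact Submodule.smul_mono le_rfl le_top
      exact this (Submodule.mem_map_of_mem ha)

/-- A prime strictly between zero and a prime of height at least two avoiding a given nonzero element. -/
theorem exists_prime_between {D : Type u} [CommRing D] [IsDomain D] [IsNoetherianRing D] (v T : Ideal D) [v.IsPrime]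
    [T.IsPrime] (hv : ⊥ < v) (hvT : v < T) (g : D) (hg : g ≠ 0) (hgT' : g ∈ T) :
    ∃ (u : Ideal D) (_ : u.IsPrime), ⊥ < u ∧ u < T ∧ g ∉ u := by
  classical
  have hT : 1 < T.height := by
    have h1 := Ideal.height_strict_mono_of_isPrime hv
    have h2 := Ideal.height_strict_mono_of_isPrime hvT
    exact lt_of_le_of_lt (Order.one_le_iff_ne_zero.2 h1.ne_zero) h2
  have hfin := Ideal.finite_minimalPrimes_of_isNoetherianRing D (Ideal.span {g})
  obtain ⟨f, hfT, hf⟩ : ∃ f ∈ T, ∀ w ∈ (Ideal.span {g}).minimalPrimes, f ∉ w := by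
    by_contra h
    push Not at h
    obtain ⟨w, hw, hTw⟩ := (Ideal.subset_union_prime_finite hfin (⊥ : Ideal D) (⊥ : Ideal D)
      (fun w hw _ _ => hw.1.1)).1 (fun x hx => Set.mem_iUnion₂.2 (by obtain ⟨w, hw, hxw⟩ := h x hx; exact ⟨w, hw, hxw⟩))
    have hle := Ideal.height_le_one_of_isPrincipal_of_mem_minimalPrimes (Ideal.span {g}) w hw
    haveI := hw.1.1
    exact absurd ((Ideal.height_mono hTw).trans hle) (not_le.2 hT)
  obtain ⟨u, hu, huT⟩ := Ideal.exists_minimalPrimes_le (J := T) (I := Ideal.span {f}) ((Ideal.span_singleton_le_iff_mem _).2 hfT)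
  haveI := hu.1.1
  have hu1 := Ideal.height_le_one_of_isPrincipal_of_mem_minimalPrimes (Ideal.span {f}) u hu
  have hfu : f ∈ u := hu.1.2 (Ideal.mem_span_singleton_self f)
  have hfne : f ≠ 0 := fun h => by
    obtain ⟨w, hw, -⟩ := Ideal.exists_minimalPrimes_le (J := T) (I := Ideal.span {g})
      ((Ideal.span_singleton_le_iff_mem _).2 hgT')
    exact hf w hw (h ▸ w.zero_mem)
  refine ⟨u, inferInstance, bot_lt_iff_ne_bot.2 fun h => ?_, lt_of_le_of_ne huT fun h => ?_, fun hgu => ?_⟩
  · rw [h, Ideal.mem_bot] at hfu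
    exact hfne hfu
  · exact absurd (h ▸ hu1) (not_le.2 hT)
  · obtain ⟨w, hw, hwu⟩ := Ideal.exists_minimalPrimes_le (J := u) (I := Ideal.span {g}) ((Ideal.span_singleton_le_iff_mem _).2 hgu)
    haveI := hw.1.1
    have hwu' : w < u := lt_of_le_of_ne hwu fun h => hf w hw (h ▸ hfu)
    have hw0 : ⊥ < w := bot_lt_iff_ne_bot.2 fun h => hg (by
      have := hw.1.2 (Ideal.mem_span_singleton_self g)
      rwa [h, Ideal.mem_bot] at this)
    have h1 := Ideal.height_strict_mono_of_isPrime hw0
    have h2 := Ideal.height_strict_mono_of_isPrime hwu'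
    exact absurd (lt_of_le_of_lt (Order.one_le_iff_ne_zero.2 h1.ne_zero) h2) (not_lt.2 hu1)

/-- No impurity has both points over the same prime of the base. -/
theorem not_impurity_same_fibre {A B : Type u} [CommRing A] [CommRing B] [Algebra A B] [Algebra.FiniteType A B]
    {N : Type u} [AddCommGroup N] [Module B N] {p : Ideal A} [p.IsPrime]
    {A' B' N' : Type u} [CommRing A'] [CommRing B'] [Algebra A A'] [Algebra B B'] [Algebra A' B'] [Algebra A B']
    [IsScalarTower A B B'] [IsScalarTower A A' B'] [AddCommGroup N'] [Module B' N'] [Module B N'] [IsScalarTower B B' N']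
    [Module A' N'] [IsScalarTower A' B' N'] {f : N →ₗ[B] N'} {t' t : Ideal A'} [t'.IsPrime] [t.IsPrime]
    {P : Ideal B'} [P.IsPrime] (himp : FlatCA.IsImpurity A B N p A' B' N' f t' t P) (h' : t'.LiesOver p) : False := by
  let κ := p.ResidueField
  let F := p.Fiber A'
  haveI : t.LiesOver p := himp.2.2.2.1
  let e := PrimeSpectrum.primesOverOrderIsoFiber A A' p
  let Q3 := (e ⟨t', ‹_›, h'⟩).asIdeal
  let Q2 := (e ⟨t, ‹_›, ‹_›⟩).asIdeal
  have hQ3 : Q3.comap (algebraMap A' F) = t' :=
    congrArg Subtype.val (e.symm_apply_apply ⟨t', ‹_›, h'⟩)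
  have hQ2 : Q2.comap (algebraMap A' F) = t :=
    congrArg Subtype.val (e.symm_apply_apply ⟨t, ‹_›, ‹_›⟩)
  have hle : Q3 ≤ Q2 := e.monotone himp.2.2.1
  obtain ⟨P2, hP2, himp2⟩ := exists_impurity_baseChange himp F Q3 Q2 hle hQ2 hQ3
  let Bκ := κ ⊗[A] B
  let Nκ := Bκ ⊗[B] N
  haveI : Algebra.IsPushout A A' B B' := Algebra.IsPushout.symm himp.1
  haveI : Algebra.IsPushout A B κ Bκ := Algebra.IsPushout.symm inferInstance
  have h0 : Q2.comap (algebraMap κ F) = ⊥ := (Ideal.eq_bot_or_top _).resolve_right (Ideal.comap_ne_top _ (Ideal.IsPrime.ne_top inferInstance))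
  obtain ⟨A3, B3, N3, _, _, _, _, _, _, _, _, _, _, _, _, _, _, f3, u', u, _, _, P3, _, himp3, -⟩ :=
    exists_impurity_of_baseChange κ Bκ Nκ (TensorProduct.mk B Bκ N 1) (TensorProduct.isBaseChange B N Bκ) (⊥ : Ideal κ)
      F Q3 Q2 h0 P2 himp2 (fun _ _ _ _ => True) trivial
  haveI : IsScalarTower κ Bκ Nκ := inferInstance
  haveI : Algebra.FiniteType κ Bκ := inferInstance
  exact isUnivPureAlong_of_projective Nκ κ (⊥ : Ideal κ) (⊥ : Ideal κ) (Ideal.comap_id _) A3 B3 N3 f3 u' u P3 himp3

/-- An impurity over a finite type algebra, at a closed point of the fibre, gives a quasi-finite one. -/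
theorem hasImpurity_quasiFinite_of_closedPoint {A B : Type u} [CommRing A] [IsNoetherianRing A] [CommRing B] [Algebra A B]
    [Algebra.FiniteType A B] (N : Type u) [AddCommGroup N] [Module B N] [Module.Finite B N] (p : Ideal A) [p.IsPrime]
    (A' : Type u) [CommRing A'] [Algebra A A'] [Algebra.FiniteType A A'] (t : Ideal A') [t.IsPrime]
    (hmax : ∀ T : Ideal A', T.IsPrime → t ≤ T → T.LiesOver p → T = t) :
    ∀ (t' : Ideal A') [t'.IsPrime] (P : Ideal (A' ⊗[A] B)) [P.IsPrime],
    FlatCA.IsImpurity A B N p A' (A' ⊗[A] B) ((A' ⊗[A] B) ⊗[B] N) (TensorProduct.mk B (A' ⊗[A] B) N 1) t' t P →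
    FlatCA.HasImpurity A B N p (fun X _ _ T => ∃ _ : T.IsPrime, Algebra.FiniteType A X ∧ Algebra.QuasiFiniteAt A T) := by
  classical
  haveI : IsNoetherianRing A' := Algebra.FiniteType.isNoetherianRing A A'
  intro t'
  induction t' using WellFoundedGT.induction with
  | ind t' ih =>
  intro _ P _ himp
  haveI htp : t.LiesOver p := himp.2.2.2.1
  have hle : t' ≤ t := himp.2.2.1
  let D := A' ⧸ t'
  have hmk : Function.Surjective (algebraMap A' D) := Ideal.Quotient.mk_surjective
  have hker : RingHom.ker (algebraMap A' D) = t' := Ideal.mk_ker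
  let T := t.map (algebraMap A' D)
  haveI : T.IsPrime := Ideal.map_isPrime_of_surjective hmk (hker.le.trans hle)
  have hT : T.comap (algebraMap A' D) = t := by
    rw [Ideal.comap_map_of_surjective' _ hmk, sup_eq_left.2 (hker.le.trans hle)]
  haveI : T.LiesOver p := ⟨by
    rw [Ideal.under_def, IsScalarTower.algebraMap_eq A A' D, ← Ideal.comap_comap, hT]
    exact htp.over⟩
  haveI : Algebra.FiniteType A D := inferInstance
  have hbot : (⊥ : Ideal D).comap (algebraMap A' D) = t' := hker
  obtain ⟨P2, hP2, himp2⟩ := exists_impurity_baseChange himp D (⊥ : Ideal D) T bot_le hT hbot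
  have hTmax : ∀ v : Ideal D, v.IsPrime → T ≤ v → v.LiesOver p → v = T := fun v hv hTv hvp => by
    have := hmax (v.comap (algebraMap A' D)) (Ideal.comap_isPrime _ _) (hT.ge.trans (Ideal.comap_mono hTv)) ⟨by
      rw [Ideal.under_def, Ideal.comap_comap, ← IsScalarTower.algebraMap_eq]
      exact hvp.over⟩
    rw [← Ideal.map_comap_of_surjective _ hmk v, this]
  by_cases hmin : ∀ v : Ideal D, v.IsPrime → v ≤ T → v.LiesOver p → v = T
  · haveI : IsNoetherianRing (p.Fiber D) := Algebra.FiniteType.isNoetherianRing p.ResidueField _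
    haveI : IsJacobsonRing (p.Fiber D) := isJacobsonRing_of_finiteType (A := p.ResidueField)
    let e := PrimeSpectrum.primesOverOrderIsoFiber A D p
    let x := e ⟨T, ‹_›, ‹_›⟩
    have hx : ∀ y : PrimeSpectrum (p.Fiber D), (x ≤ y ∨ y ≤ x) → y = x := fun y hy => by
      have : e.symm y = ⟨T, ‹_›, ‹_›⟩ := by
        rcases hy with hy | hy
        · have h1 := e.symm.monotone hy
          rw [e.symm_apply_apply] at h1
          exact Subtype.ext (hTmax _ (e.symm y).2.1 h1 (e.symm y).2.2)
        · have h1 := e.symm.monotone hy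
          rw [e.symm_apply_apply] at h1
          exact Subtype.ext (hmin _ (e.symm y).2.1 h1 (e.symm y).2.2)
      rw [← e.apply_symm_apply y, this]
    have hopen : IsOpen ({x} : Set (PrimeSpectrum (p.Fiber D))) := by
      refine ((PrimeSpectrum.isOpen_singleton_tfae_of_isNoetherian_of_isJacobsonRing x).out 0 2 rfl rfl).2 ⟨?_, ?_⟩
      · rw [PrimeSpectrum.isClosed_singleton_iff_isMaximal, ← PrimeSpectrum.isMax_iff]
        exact fun y hy => (hx y (Or.inl hy)).le
      · intro a b hba ha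
        rw [Set.mem_singleton_iff] at ha ⊢
        exact hx b (Or.inr (ha ▸ (PrimeSpectrum.le_iff_specializes b a).2 hba))
    haveI : Algebra.QuasiFiniteAt p.ResidueField x.asIdeal := Algebra.QuasiFiniteAt.of_isOpen_singleton x hopen
    haveI : Algebra.QuasiFiniteAt A T := Algebra.QuasiFiniteAt.of_quasiFiniteAt_residueField p T x.asIdeal
      (congrArg Subtype.val (e.symm_apply_apply ⟨T, ‹_›, ‹_›⟩))
    exact ⟨_, _, _, _, _, _, _, _, _, _, _, _, _, _, _, _, _, _, _, _, _, _, _, _, himp2, inferInstance, inferInstance,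
      inferInstance⟩
  · push Not at hmin
    obtain ⟨v, hv, hvT, hvp, hvne⟩ := hmin
    have hv0 : ⊥ < v := bot_lt_iff_ne_bot.2 fun h => not_impurity_same_fibre himp2 (h ▸ hvp)
    haveI : Algebra.FiniteType D (D ⊗[A] B) := inferInstance
    haveI : IsNoetherianRing D := inferInstance
    haveI : P2.LiesOver (⊥ : Ideal D) := himp2.2.2.2.2.1
    obtain ⟨g, hg, hgu⟩ := exists_dense_assoc ((D ⊗[A] B) ⊗[B] N) P2 himp2.2.2.2.2.2.1
    obtain ⟨hpush, hbc, -, htp2, -, -, hno⟩ := id himp2
    have hgT : g ∈ T := by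
      by_contra h
      obtain ⟨P1, hP1, hle1, hov, -⟩ := hgu T h
      exact hno P1 hle1 hov
    obtain ⟨u, hu, hu0, huT, hgu'⟩ := exists_prime_between v T hv0 (lt_of_le_of_ne hvT hvne) g hg hgT
    obtain ⟨P1, hP1, hle1, hov, hass1⟩ := hgu u hgu'
    have himp3 : FlatCA.IsImpurity A B N p D (D ⊗[A] B) ((D ⊗[A] B) ⊗[B] N) (TensorProduct.mk B (D ⊗[A] B) N 1) u T P1 :=
      ⟨hpush, hbc, huT.le, htp2, hov, hass1, fun Q _ hQ => hno Q (hle1.trans hQ)⟩
    obtain ⟨F, hF⟩ := exists_impurity_down himp3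
    obtain ⟨P0, hP0, s, himp0, -, -⟩ := hF A' fun a _ => hmk a
    have key : ∀ (w : Ideal A') [w.IsPrime], w = t → FlatCA.IsImpurity A B N p A' (A' ⊗[A] B) ((A' ⊗[A] B) ⊗[B] N)
        (TensorProduct.mk B (A' ⊗[A] B) N 1) (u.comap (algebraMap A' D)) w P0 →
      FlatCA.IsImpurity A B N p A' (A' ⊗[A] B) ((A' ⊗[A] B) ⊗[B] N)
        (TensorProduct.mk B (A' ⊗[A] B) N 1) (u.comap (algebraMap A' D)) t P0 := fun w _ hw h => by
      subst hw
      exact h
    refine ih (u.comap (algebraMap A' D)) (lt_of_le_of_ne (hbot.ge.trans (Ideal.comap_mono bot_le)) fun h => ?_) P0 (key _ hT himp0)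
    exact hu0.ne (Ideal.comap_injective_of_surjective _ hmk (hbot.trans h))

/-- Over a Noetherian base every impurity gives one over a quasi-finite algebra. -/
theorem hasImpurity_quasiFinite_of_noetherian {A B : Type u} [CommRing A] [IsNoetherianRing A] [CommRing B] [Algebra A B]
    [Algebra.FiniteType A B] {N : Type u} [AddCommGroup N] [Module B N] [Module.Finite B N] {p : Ideal A} [p.IsPrime]
    {A1 B1 N1 : Type u} [CommRing A1] [CommRing B1] [Algebra A A1] [Algebra B B1] [Algebra A1 B1] [Algebra A B1]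
    [IsScalarTower A B B1] [IsScalarTower A A1 B1] [AddCommGroup N1] [Module B1 N1] [Module B N1] [IsScalarTower B B1 N1]
    [Module A1 N1] [IsScalarTower A1 B1 N1] {f : N →ₗ[B] N1} {u' u : Ideal A1} [u'.IsPrime] [u.IsPrime]
    {P : Ideal B1} [P.IsPrime] (himp : FlatCA.IsImpurity A B N p A1 B1 N1 f u' u P) :
    FlatCA.HasImpurity A B N p (fun X _ _ T => ∃ _ : T.IsPrime, Algebra.FiniteType A X ∧ Algebra.QuasiFiniteAt A T) := by
  classical
  obtain ⟨F, hF⟩ := exists_impurity_down himp
  let C := MvPolynomial F A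
  let φ : C →ₐ[A] A1 := MvPolynomial.aeval fun a => (a : A1)
  letI : Algebra C A1 := φ.toRingHom.toAlgebra
  haveI : IsScalarTower A C A1 := IsScalarTower.of_algebraMap_eq fun r => (φ.commutes r).symm
  obtain ⟨P0, _, s, himp0, hs, hsep⟩ := hF C fun a ha => ⟨MvPolynomial.X ⟨a, ha⟩, MvPolynomial.aeval_X _ _⟩
  let D := Localization.Away s
  haveI : Algebra.FinitePresentation C D := IsLocalization.Away.finitePresentation s
  haveI : Algebra.FinitePresentation A D := Algebra.FinitePresentation.trans A C D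
  let v' := u'.comap (algebraMap C A1)
  let v := u.comap (algebraMap C A1)
  have hle : v' ≤ v := himp0.2.2.1
  have hd : ∀ w : Ideal C, w.IsPrime → w ≤ v → Disjoint (Submonoid.powers s : Set C) w := fun w _ hw =>
    Set.disjoint_left.2 fun y hy hyw => by
      obtain ⟨n, rfl⟩ := hy
      exact hs (Ideal.IsPrime.mem_of_pow_mem (Ideal.comap_isPrime _ _) n (hw hyw))
  haveI : (v'.map (algebraMap C D)).IsPrime :=
    IsLocalization.isPrime_of_isPrime_disjoint (Submonoid.powers s) D v' inferInstance (hd v' inferInstance hle)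
  haveI : (v.map (algebraMap C D)).IsPrime :=
    IsLocalization.isPrime_of_isPrime_disjoint (Submonoid.powers s) D v inferInstance (hd v inferInstance le_rfl)
  have h3 : (v'.map (algebraMap C D)).comap (algebraMap C D) = v' :=
    IsLocalization.under_map_of_isPrime_disjoint (Submonoid.powers s) D (I := v') inferInstance (hd v' inferInstance hle)
  have hv : (v.map (algebraMap C D)).comap (algebraMap C D) = v :=
    IsLocalization.under_map_of_isPrime_disjoint (Submonoid.powers s) D (I := v) inferInstance (hd v inferInstance le_rfl)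
  haveI : (v.map (algebraMap C D)).LiesOver p := ⟨by
    rw [Ideal.under_def, IsScalarTower.algebraMap_eq A C D, ← Ideal.comap_comap, hv]
    exact himp0.2.2.2.1.over⟩
  have hne : FlatCA.fiberIdeal p (v.map (algebraMap C D)) ≠ ⊤ := fun hh => by
    refine Ideal.IsPrime.ne_top ‹(v.map (algebraMap C D)).IsPrime› ((Ideal.eq_top_iff_one _).2 ?_)
    refine mem_of_mem_fiberIdeal p _ ?_
    rw [hh]
    exact Submodule.mem_top
  obtain ⟨M, hM, hMle⟩ := Ideal.exists_le_maximal _ hne
  haveI := hM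
  let t2 := M.comap (algebraMap D (p.Fiber D))
  haveI : t2.IsPrime := Ideal.comap_isPrime _ _
  have hT : v.map (algebraMap C D) ≤ t2 := fun y hy => hMle (Ideal.mem_map_of_mem _ hy)
  have hst : algebraMap C D s ∉ t2 := fun h =>
    Ideal.IsPrime.ne_top ‹t2.IsPrime› (Ideal.eq_top_of_isUnit_mem _ h (IsLocalization.Away.algebraMap_isUnit s))
  obtain ⟨A2, B2, N2, _, _, _, _, _, _, _, _, _, _, _, _, _, _, f2, w', w, _, _, P2, _, himp2, hft, hmax⟩ :=
    exists_impurity_push himp0 s hsep D (v'.map (algebraMap C D)) t2 ((Ideal.map_mono hle).trans hT) h3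
      (Ideal.map_le_iff_le_comap.1 hT) hst ⟨(comap_fiber_eq p M).symm⟩
      (fun X [CommRing X] [Algebra A X] T => Algebra.FiniteType A X ∧ (FlatCA.fiberIdeal p T).IsMaximal)
      ⟨inferInstance, by rw [show FlatCA.fiberIdeal p t2 = M from fiberIdeal_comap p M]; exact hM⟩
  haveI := hft
  obtain ⟨P3, hP3, himp3⟩ := exists_impurity_baseChange himp2 A2 w' w himp2.2.2.1 (Ideal.comap_id _) (Ideal.comap_id _)
  haveI : w.LiesOver p := himp2.2.2.2.1
  refine hasImpurity_quasiFinite_of_closedPoint N p A2 w (fun T hT2 hle2 hTp => le_antisymm (fun z hz => ?_) hle2) w' P3 himp3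
  haveI := hTp
  refine mem_of_mem_fiberIdeal p w ?_
  have hne2 : FlatCA.fiberIdeal p T ≠ ⊤ := fun hh => hT2.ne_top ((Ideal.eq_top_iff_one _).2
    (mem_of_mem_fiberIdeal p T (by rw [hh]; exact Submodule.mem_top)))
  rw [hmax.eq_of_le hne2 (Ideal.map_mono hle2)]
  exact Ideal.mem_map_of_mem _ hz

end Groth.Agent.H4RG
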