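import Groth.Prelude
import Groth.Agent.FlatLoc6.GeomProp
import Groth.Agent.GeomField.Algebra
import Groth.Agent.GeomField.Irreducible
import Groth.Agent.H0FBC.GeomRedCov
import Groth.Agent.QsDescend.Normal
import Groth.Agent.NodalLib.BaseEtale
import Groth.Agent.CurveEmbed.Equiv
import Groth.Agent.GeomConn5.Count
import Groth.Agent.FlatLoc6.GeomRed
import Mathlib

/-! Fibres of normal morphisms. -/

set_option autoImplicit false
set_option linter.style.haveILetI false
set_option backward.isDefEq.respectTransparency false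
set_option backward.isDefEq.respectTransparency.types false

universe u

open CategoryTheory CategoryTheory.Limits AlgebraicGeometry TensorProduct

namespace Groth.Agent.H4RG

/-- A geometrically normal algebra is geometrically reduced. -/
theorem isGeometricallyReduced_of_isGeomNormal {k S : Type u} [Field k] [CommRing S] [Algebra k S]
    (h : EGA4.IsGeomNormal k S) : Algebra.IsGeometricallyReduced k S := by
  rw [GeomField.gr_iff]
  refine IsReduced.tensorProduct_of_flat_of_forall_fg fun B hB => ?_
  haveI : Algebra.FiniteType k B := B.fg_iff_finiteType.1 hB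
  haveI : Algebra.IsIntegral k B := Algebra.IsIntegral.of_injective B.val Subtype.val_injective
  haveI : Module.Finite k B := Algebra.IsIntegral.finite
  letI : Field B := (isField_of_isIntegral_of_isField' (R := k) (S := B) (Field.toIsField k)).toField
  haveI : IsReduced (B ⊗[k] S) := FlatLoc6.isReduced_of_isNormalRing _ (h B inferInstance)
  exact isReduced_of_injective (Algebra.TensorProduct.comm k S B) (Algebra.TensorProduct.comm k S B).injective

section chart

variable {Y S : Scheme.{u}} (h : Y ⟶ S) [LocallyOfFinitePresentation h]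
  (hn : ∀ (U : Y.Opens) (V : S.Opens) (hU : IsAffineOpen U) (hV : IsAffineOpen V) (hUV : U ≤ h ⁻¹ᵁ V),
    letI := (h.appLE V U hUV).hom.toAlgebra
    EGA4.IsNormalHom Γ(S, V) Γ(Y, U))

include hn in
/-- Around each point a base change to a field is a tensor product with a normal algebra. -/
theorem exists_normal_chart {K : Type u} [Field K] (k : Spec (CommRingCat.of K) ⟶ S) (w : ↑(pullback h k)) :
    ∃ (A B : Type u) (_ : CommRing A) (_ : CommRing B) (_ : Algebra A B) (_ : Algebra A K),
      EGA4.IsNormalHom A B ∧ Algebra.FiniteType A B ∧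
      (∃ j₀ : Spec (CommRingCat.of A) ⟶ S, IsOpenImmersion j₀ ∧ Spec.map (CommRingCat.ofHom (algebraMap A K)) ≫ j₀ = k) ∧
      ∃ j : Spec (CommRingCat.of (K ⊗[A] B)) ⟶ pullback h k, IsOpenImmersion j ∧ w ∈ Set.range j := by
  obtain ⟨V, hV, hwV, -⟩ := exists_isAffineOpen_mem_and_subset (x := h (pullback.fst h k w)) (U := (⊤ : S.Opens)) trivial
  obtain ⟨U, hU, hwU, hUV'⟩ := exists_isAffineOpen_mem_and_subset (x := pullback.fst h k w) (U := h ⁻¹ᵁ V) hwV
  have hUV : U ≤ h ⁻¹ᵁ V := hUV'
  have hkw : k (pullback.snd h k w) ∈ V := by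
    rw [← Scheme.Hom.comp_apply, ← pullback.condition, Scheme.Hom.comp_apply]
    exact hwV
  have hrange : Set.range k ⊆ Set.range hV.fromSpec := by
    rintro _ ⟨t, rfl⟩
    rw [hV.range_fromSpec, @Subsingleton.elim _ (inferInstanceAs (Subsingleton (PrimeSpectrum K))) t (pullback.snd h k w)]
    exact hkw
  obtain ⟨φ, hφ⟩ := Spec.map_surjective (IsOpenImmersion.lift hV.fromSpec k hrange)
  have hk : Spec.map φ ≫ hV.fromSpec = k := by rw [hφ, IsOpenImmersion.lift_fac]
  let A : Type u := Γ(S, V)
  let B : Type u := Γ(Y, U)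
  letI : Algebra A B := (h.appLE V U hUV).hom.toAlgebra
  letI : Algebra A K := φ.hom.toAlgebra
  let ψ : Spec (CommRingCat.of B) ⟶ Spec (CommRingCat.of A) := Spec.map (CommRingCat.ofHom (algebraMap A B))
  let e₁ : Spec (CommRingCat.of (K ⊗[A] B)) ≅ pullback ψ (Spec.map (CommRingCat.ofHom (algebraMap A K))) :=
    (pullbackSpecIso _ _ _).symm ≪≫ pullbackSymmetry _ _
  have hc : ψ ≫ hV.fromSpec = hU.fromSpec ≫ h := IsAffineOpen.SpecMap_appLE_fromSpec h hV hU hUV
  let m : pullback ψ (Spec.map (CommRingCat.ofHom (algebraMap A K))) ⟶ pullback h k :=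
    pullback.map _ _ _ _ hU.fromSpec (𝟙 _) hV.fromSpec hc (by rw [Category.id_comp]; exact hk)
  refine ⟨A, B, inferInstance, inferInstance, inferInstance, inferInstance, hn U V hU hV hUV,
    h.finiteType_appLE hV hU hUV, ⟨hV.fromSpec, inferInstance, hk⟩, e₁.hom ≫ m, inferInstance, ?_⟩
  rw [Scheme.Hom.comp_base, TopCat.coe_comp, Function.Surjective.range_comp e₁.hom.surjective, Scheme.Pullback.range_map]
  exact ⟨hU.range_fromSpec.ge hwU, ⟨_, rfl⟩⟩

include hn in
/-- A normal morphism is flat. -/
theorem flat_of_normal : Flat h :=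
  (HasRingHomProperty.iff_appLE (P := @Flat)).2 fun V U e => by
    letI := (h.appLE V.1 U.1 e).hom.toAlgebra
    exact RingHom.flat_algebraMap_iff.2 (hn U.1 V.1 U.2 V.2 e).1

include hn in
/-- A normal morphism has geometrically reduced fibres. -/
theorem geometricallyReduced_of_normal : GeometricallyReduced h := by
  refine H0FBC.geometricallyReduced_of_forall h fun s K _ k _ => ?_
  haveI : ∀ w : ↑(pullback h k), _root_.IsReduced ((pullback h k).presheaf.stalk w) := fun w => by
    obtain ⟨A, B, _, _, _, _, hN, -, -, j, hj, v, rfl⟩ := exists_normal_chart h hn k w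
    let p : Ideal A := RingHom.ker (algebraMap A K)
    haveI : p.IsPrime := RingHom.ker_isPrime _
    let lk : p.ResidueField →+* K := Ideal.ResidueField.lift p (algebraMap A K) le_rfl
      (fun a ha => IsUnit.mk0 _ fun h0 => ha h0)
    letI : Algebra p.ResidueField K := lk.toAlgebra
    haveI : IsScalarTower A p.ResidueField K := IsScalarTower.of_algebraMap_eq fun a =>
      (Ideal.ResidueField.lift_algebraMap p (algebraMap A K) le_rfl (fun a ha => IsUnit.mk0 _ fun h0 => ha h0) a).symm
    haveI := isGeometricallyReduced_of_isGeomNormal (hN.2 p)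
    haveI : _root_.IsReduced ((p.Fiber B) ⊗[p.ResidueField] K) := GeomField.isReduced_tensor_field (p.Fiber B) K
    let e := (Algebra.TensorProduct.comm p.ResidueField (p.Fiber B) K).toRingEquiv.trans
      (Algebra.TensorProduct.cancelBaseChange A p.ResidueField K K B).toRingEquiv
    haveI : _root_.IsReduced (K ⊗[A] B) := isReduced_of_injective e.symm e.symm.injective
    haveI : IsReduced (Spec (CommRingCat.of (K ⊗[A] B))) := inferInstance
    exact isReduced_of_injective (j.stalkMap v).hom (ConcreteCategory.bijective_of_isIso (j.stalkMap v)).1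
  exact isReduced_of_isReduced_stalk _

include hn in
/-- The fibres of a normal morphism are normal schemes. -/
theorem isNormalScheme_fiber (s : S) : Pi1.IsNormalScheme (h.fiber s) := by
  intro w
  let K : Type u := S.residueField s
  obtain ⟨A, B, _, _, _, _, hN, hft, ⟨j₀, hj₀, hk⟩, j, hj, v, rfl⟩ :=
    exists_normal_chart h hn (K := K) (S.fromSpecResidueField s) w
  let p : Ideal A := RingHom.ker (algebraMap A K)
  haveI : p.IsPrime := RingHom.ker_isPrime _
  let lk : p.ResidueField →+* K := Ideal.ResidueField.lift p (algebraMap A K) le_rfl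
    (fun a ha => IsUnit.mk0 _ fun h0 => ha h0)
  letI : Algebra p.ResidueField K := lk.toAlgebra
  haveI : IsScalarTower A p.ResidueField K := IsScalarTower.of_algebraMap_eq fun a =>
    (Ideal.ResidueField.lift_algebraMap p (algebraMap A K) le_rfl (fun a ha => IsUnit.mk0 _ fun h0 => ha h0) a).symm
  have hsur : Function.Surjective lk := by
    haveI : IsPreimmersion (Spec.map (CommRingCat.ofHom (algebraMap A K)) ≫ j₀) := by rw [hk]; infer_instance
    haveI : IsPreimmersion (Spec.map (CommRingCat.ofHom (algebraMap A K))) := IsPreimmersion.of_comp _ j₀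
    haveI : IsPreimmersion (Spec.map (CommRingCat.ofHom lk) ≫ Spec.map (CommRingCat.ofHom (algebraMap A p.ResidueField))) := by
      rw [← Spec.map_comp, ← CommRingCat.ofHom_comp]
      rw [show lk.comp (algebraMap A p.ResidueField) = algebraMap A K from
        (IsScalarTower.algebraMap_eq A p.ResidueField K).symm]
      infer_instance
    haveI : IsPreimmersion (Spec.map (CommRingCat.ofHom (algebraMap A p.ResidueField))) := by
      let x : PrimeSpectrum A := ⟨p, inferInstance⟩
      have h1 : IsPreimmersion (Spec.map (Scheme.Spec.residueFieldIso (CommRingCat.of A) x).inv ≫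
          Spec.map (CommRingCat.ofHom (algebraMap A x.asIdeal.ResidueField))) :=
        (Scheme.Spec.map_residueFieldIso_inv_eq_fromSpecResidueField (CommRingCat.of A) x).symm ▸ inferInstance
      exact (MorphismProperty.cancel_left_of_respectsIso @IsPreimmersion _ _).1 h1
    haveI : IsPreimmersion (Spec.map (CommRingCat.ofHom lk)) := IsPreimmersion.of_comp _ (Spec.map (CommRingCat.ofHom (algebraMap A p.ResidueField)))
    exact GeomConn5.surjective_of_isPreimmersion_specMap lk
  haveI : Module.Finite p.ResidueField K :=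
    Module.Finite.of_surjective (Algebra.linearMap p.ResidueField K) hsur
  let e := (Algebra.TensorProduct.cancelBaseChange A p.ResidueField K K B).toRingEquiv
  have hnr : EGA4.IsNormalRing (K ⊗[A] B) := FlatLoc6.isNormalRing_of_ringEquiv e (hN.2 p K inferInstance)
  obtain ⟨hd, hi⟩ := hnr v.asIdeal
  let st : (pullback h (S.fromSpecResidueField s)).presheaf.stalk (j v) ≃+* Localization.AtPrime v.asIdeal :=
    (asIso (j.stalkMap v) ≪≫ Spec.stalkIso (CommRingCat.of (K ⊗[A] B)) v).commRingCatIsoToRingEquiv
  exact ⟨haveI := hd; st.toMulEquiv.isDomain, haveI := hi; IsIntegrallyClosed.of_equiv st.symm⟩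

include hn in
/-- An etale extension of a residue field gives a normal base change. -/
theorem isNormalScheme_pullback_etale (s : S) {L : Scheme.{u}} (q : L ⟶ Spec (S.residueField s))
    [AlgebraicGeometry.Etale q] {P : Scheme.{u}} {a : P ⟶ Y} {b : P ⟶ L}
    (H : IsPullback a b h (q ≫ S.fromSpecResidueField s)) : Pi1.IsNormalScheme P := by
  let c : P ⟶ h.fiber s := pullback.lift a (b ≫ q) (by rw [H.w, Category.assoc])
  have hc : IsPullback c b (h.fiberToSpecResidueField s) q := by
    refine IsPullback.of_right (h₁₂ := h.fiberι s) (h₂₂ := S.fromSpecResidueField s) (v₁₃ := h) ?_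
      (pullback.lift_snd _ _ _) (IsPullback.of_hasPullback h (S.fromSpecResidueField s)) |>.flip.flip
    rw [show c ≫ h.fiberι s = a from pullback.lift_fst _ _ _]
    exact H
  haveI : AlgebraicGeometry.Etale c := MorphismProperty.of_isPullback hc.flip inferInstance
  exact QsDescend.isNormalScheme_of_smooth (isNormalScheme_fiber h hn s) c

end chart

end Groth.Agent.H4RG
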