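import Groth.Agent.H4RG.GeomConnDescent
import Mathlib

/-! The geometric fibres of an open subscheme as opens of the geometric fibres. -/

set_option autoImplicit false
set_option linter.style.haveILetI false
set_option backward.isDefEq.respectTransparency false
set_option backward.isDefEq.respectTransparency.types false

universe u

open CategoryTheory CategoryTheory.Limits AlgebraicGeometry Topology TopologicalSpace

namespace Groth.Agent.H4RG

/-- Complements of locally constructible sets are locally constructible. -/
theorem isLocallyConstructible_compl' {T : Type u} [TopologicalSpace T] {E : Set T} (h : IsLocallyConstructible E) :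
    IsLocallyConstructible Eᶜ := fun x => by
  obtain ⟨U, hU, hUo, hc⟩ := h x
  exact ⟨U, hU, hUo, by rw [Set.preimage_compl]; exact hc.compl⟩

/-- The pullback of an open subscheme is connected when the inverse image of the open is. -/
theorem connectedSpace_pullback_open {X S P : Scheme.{u}} (f : X ⟶ S) (U : X.Opens) (x : P ⟶ S)
    (h : _root_.IsConnected ((pullback.fst f x) ⁻¹' (U : Set X))) : ConnectedSpace ↥(pullback (U.ι ≫ f) x) := by
  let k : pullback (U.ι ≫ f) x ⟶ pullback f x :=
    pullback.lift (pullback.fst _ _ ≫ U.ι) (pullback.snd _ _) (by rw [Category.assoc, pullback.condition])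
  have hk : IsPullback k (pullback.fst (U.ι ≫ f) x) (pullback.fst f x) U.ι := by
    refine (IsPullback.of_bot (v₂₁ := pullback.snd f x) (v₂₂ := f) (h₃₁ := x) ?_ (pullback.lift_fst _ _ _).symm
      (IsPullback.of_hasPullback f x)).flip
    rw [pullback.lift_snd]
    exact IsPullback.of_hasPullback (U.ι ≫ f) x
  haveI : IsOpenImmersion k := MorphismProperty.of_isPullback hk.flip inferInstance
  have hr : Set.range k = (pullback.fst f x) ⁻¹' (U : Set X) := by
    rw [← hk.flip.isoPullback_hom_snd, Scheme.Hom.comp_base, TopCat.coe_comp,
      Function.Surjective.range_comp hk.flip.isoPullback.hom.surjective, Scheme.Pullback.range_snd, Scheme.Opens.range_ι]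
  haveI : Nonempty ↥(pullback (U.ι ≫ f) x) := by
    obtain ⟨z, hz⟩ := h.nonempty
    rw [← hr] at hz
    exact ⟨hz.choose⟩
  haveI : PreconnectedSpace ↥(pullback (U.ι ≫ f) x) := ⟨k.isEmbedding.isInducing.isPreconnected_image.1 (by
    rw [Set.image_univ, hr]; exact h.isPreconnected)⟩
  exact ⟨‹_›⟩

end Groth.Agent.H4RG
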