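import Groth.Prelude
import Groth.Agent.H4RG.FreeCover
import Groth.Agent.H4RG.AssDown
import Mathlib

/-!
# Purity and flatness along a fibre give universal purity
-/

set_option autoImplicit false
set_option linter.style.haveILetI false
set_option backward.isDefEq.respectTransparency.types false

universe u

open TensorProduct IsLocalRing

namespace Groth.Agent.H4RG

attribute [local instance] Algebra.TensorProduct.rightAlgebra

/-- Points of the relative assassin over the local ring of an elementary étale stage specialise into the closed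
fibre when the module is pure. -/
theorem exists_specialization_of_pure {A B : Type u} [CommRing A] [CommRing B] [Algebra A B] [Algebra.FiniteType A B]
    (N : Type u) [AddCommGroup N] [Module B N] (p : Ideal A) [p.IsPrime] (hpure : FlatCA.IsPureAlong A B N p)
    {R1 : Type u} [CommRing R1] [Algebra A R1] (z : Ideal R1) [z.IsPrime] (het : FlatCA.IsEtaleNhd A R1 p z)
    (SA NA : Type u) [CommRing SA] [Algebra A SA] [Algebra B SA] [Algebra (Localization.AtPrime z) SA]
    [IsScalarTower A B SA] [IsScalarTower A (Localization.AtPrime z) SA]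
    [Algebra.IsPushout A B (Localization.AtPrime z) SA]
    [AddCommGroup NA] [Module SA NA] [Module B NA] [IsScalarTower B SA NA] [Module (Localization.AtPrime z) NA]
    [IsScalarTower (Localization.AtPrime z) SA NA] (f : N →ₗ[B] NA) (hf : IsBaseChange SA f)
    (t : Ideal (Localization.AtPrime z)) [t.IsPrime] (P : Ideal SA) [P.IsPrime]
    (hPt : P.comap (algebraMap (Localization.AtPrime z) SA) = t)
    (hass : FlatCA.fiberIdeal t P ∈ associatedPrimes (t.Fiber SA) (FlatCA.fiberMod t SA NA)) :
    ∃ P' : Ideal SA, P'.IsPrime ∧ P ≤ P' ∧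
      P'.comap (algebraMap (Localization.AtPrime z) SA) = maximalIdeal (Localization.AtPrime z) := by
  let A1 := Localization.AtPrime z
  let S0 := R1 ⊗[A] B
  let N0 := S0 ⊗[B] N
  let f0 : N →ₗ[B] N0 := TensorProduct.mk B S0 N 1
  haveI : Algebra.IsPushout A B R1 S0 := Algebra.IsPushout.symm inferInstance
  let θ : S0 →ₐ[A] SA := Algebra.TensorProduct.lift ((IsScalarTower.toAlgHom A A1 SA).comp (IsScalarTower.toAlgHom A R1 A1))
    (IsScalarTower.toAlgHom A B SA) fun _ _ => .all _ _
  letI : Algebra S0 SA := θ.toRingHom.toAlgebra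
  letI : Algebra R1 SA := ((algebraMap A1 SA).comp (algebraMap R1 A1)).toAlgebra
  haveI : IsScalarTower R1 A1 SA := IsScalarTower.of_algebraMap_eq fun _ => rfl
  haveI : IsScalarTower A S0 SA := IsScalarTower.of_algebraMap_eq fun r => (θ.commutes r).symm
  haveI : IsScalarTower B S0 SA := IsScalarTower.of_algebraMap_eq fun s => by
    show _ = θ ((1 : R1) ⊗ₜ[A] s)
    rw [Algebra.TensorProduct.lift_tmul, map_one, one_mul]
    rfl
  haveI : IsScalarTower R1 S0 SA := IsScalarTower.of_algebraMap_eq fun a => by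
    show _ = θ (a ⊗ₜ[A] (1 : B))
    rw [Algebra.TensorProduct.lift_tmul, map_one, mul_one]
    rfl
  haveI : Algebra.IsPushout A R1 B S0 := inferInstance
  haveI : Algebra.IsPushout A A1 B SA := Algebra.IsPushout.symm inferInstance
  haveI : Algebra.IsPushout R1 A1 S0 SA :=
    (Algebra.IsPushout.comp_iff (R := A) (S := R1) (T := A1) (R' := B) (S' := S0) (T' := SA)).1 inferInstance
  haveI : Algebra.IsPushout R1 S0 A1 SA := Algebra.IsPushout.symm inferInstance
  haveI : IsLocalization (Algebra.algebraMapSubmonoid S0 z.primeCompl) SA :=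
    (Algebra.isLocalization_iff_isPushout z.primeCompl A1).2 (Algebra.IsPushout.symm inferInstance)
  haveI : Algebra.FiniteType R1 S0 := inferInstance
  letI : Module S0 NA := Module.compHom NA (algebraMap S0 SA)
  haveI : IsScalarTower S0 SA NA := IsScalarTower.of_algebraMap_smul fun _ _ => rfl
  haveI : IsScalarTower B S0 NA := IsScalarTower.of_algebraMap_smul fun b y => by
    show algebraMap S0 SA (algebraMap B S0 b) • y = b • y
    rw [← IsScalarTower.algebraMap_apply, algebraMap_smul]
  let g : N0 →ₗ[S0] NA := (TensorProduct.isBaseChange B N S0).lift f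
  have hg : IsBaseChange SA g := ((TensorProduct.isBaseChange B N S0).comp_iff (T := SA) (h := g)).1 (by
    rw [show (g.restrictScalars B) ∘ₗ (TensorProduct.mk B S0 N 1) = f from
      LinearMap.ext fun n => (TensorProduct.isBaseChange B N S0).lift_eq f n]
    exact hf)
  let t0 := t.comap (algebraMap R1 A1)
  let P0 := P.comap (algebraMap S0 SA)
  haveI : t0.IsPrime := Ideal.comap_isPrime _ _
  haveI : P0.IsPrime := Ideal.comap_isPrime _ _
  have hP0 : P0.comap (algebraMap R1 S0) = t0 := by
    rw [Ideal.comap_comap, ← IsScalarTower.algebraMap_eq, IsScalarTower.algebraMap_eq R1 A1 SA, ← Ideal.comap_comap, hPt]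
  have hass0 := assoc_of_baseChange (R := R1) (S := S0) (R2 := A1) (S2 := SA) N0 NA g hg t0 t rfl P hPt hass P0 rfl
  have ht0 : t0 ≤ z := by
    refine le_trans (Ideal.comap_mono (IsLocalRing.le_maximalIdeal (Ideal.IsPrime.ne_top ‹_›))) ?_
    exact (IsLocalization.AtPrime.under_maximalIdeal A1 z).le
  obtain ⟨het1, hover, -⟩ := id het
  by_contra hcon
  push Not at hcon
  refine hpure R1 S0 N0 f0 t0 z P0 het ⟨inferInstance, TensorProduct.isBaseChange B N S0, ht0, hover, ⟨hP0.symm⟩, hass0,
    fun P' hP' hle hov => ?_⟩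
  have hdisj : Disjoint (Algebra.algebraMapSubmonoid S0 z.primeCompl : Set S0) P' := Set.disjoint_left.2 fun y hy hyP => by
    obtain ⟨a, ha, rfl⟩ := hy
    exact ha (hov.over.ge (Ideal.mem_comap.2 hyP))
  refine hcon (P'.map (algebraMap S0 SA))
    (IsLocalization.isPrime_of_isPrime_disjoint (Algebra.algebraMapSubmonoid S0 z.primeCompl) SA P' hP' hdisj) ?_ ?_
  · exact (IsLocalization.map_under (Algebra.algebraMapSubmonoid S0 z.primeCompl) SA P).ge.trans (Ideal.map_mono hle)
  · haveI := IsLocalization.isPrime_of_isPrime_disjoint (Algebra.algebraMapSubmonoid S0 z.primeCompl) SA P' hP' hdisj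
    refine (IsLocalRing.maximalIdeal.isMaximal A1).eq_of_le ?_ ?_ |>.symm
    · exact Ideal.IsPrime.ne_top (Ideal.comap_isPrime _ _)
    · intro a ha
      obtain ⟨⟨b, s⟩, hb⟩ := IsLocalization.surj z.primeCompl a
      have hbz : b ∈ z := (IsLocalization.AtPrime.under_maximalIdeal A1 z).le
        (Ideal.mem_comap.2 (hb ▸ Ideal.mul_mem_right _ _ ha))
      rw [Ideal.mem_comap, ← Ideal.mul_unit_mem_iff_mem _ ((IsLocalization.map_units A1 s).map (algebraMap A1 SA)),
        ← map_mul, hb, ← IsScalarTower.algebraMap_apply, IsScalarTower.algebraMap_apply R1 S0 SA]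
      exact Ideal.mem_map_of_mem _ (Ideal.mem_comap.1 (hov.over.le hbz))

/-- No impurity lives over an algebra over the stage with the point over the closed point. -/
theorem false_of_models {A B : Type u} [CommRing A] [CommRing B] [Algebra A B] [Algebra.FiniteType A B]
    (N : Type u) [AddCommGroup N] [Module B N] (p : Ideal A)
    [p.IsPrime] (hpure : FlatCA.IsPureAlong A B N p)
    {R1 : Type u} [CommRing R1] [Algebra A R1] (z : Ideal R1) [z.IsPrime] (het : FlatCA.IsEtaleNhd A R1 p z)
    (hA1p : (maximalIdeal (Localization.AtPrime z)).comap (algebraMap A (Localization.AtPrime z)) = p)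
    (SA NA : Type u) [CommRing SA] [Algebra A SA] [Algebra B SA] [Algebra (Localization.AtPrime z) SA]
    [IsScalarTower A B SA] [IsScalarTower A (Localization.AtPrime z) SA]
    [Algebra.IsPushout A B (Localization.AtPrime z) SA]
    [AddCommGroup NA] [Module SA NA] [Module B NA] [IsScalarTower B SA NA] [Module (Localization.AtPrime z) NA]
    [IsScalarTower (Localization.AtPrime z) SA NA] (f : N →ₗ[B] NA) (hf : IsBaseChange SA f)
    {m : ℕ} (g : Fin m → SA)
    (hcov : ∀ x ∈ (Set.univ : Set (PrimeSpectrum (p.Fiber B))), ∀ (Q : Ideal SA) [Q.IsPrime],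
      Q.LiesOver ((x : PrimeSpectrum (p.Fiber B)).asIdeal.comap
        (Algebra.TensorProduct.includeRight (R := A) (A := p.ResidueField) (B := B)).toRingHom) →
      Q.LiesOver (maximalIdeal (Localization.AtPrime z)) → ∃ i, g i ∉ Q)
    (hpc : ∀ i, Module.Free (Localization.AtPrime z) (Localization.Away (g i) ⊗[B] N) ∧
      Module.FinitePresentation (Localization.Away (g i)) (Localization.Away (g i) ⊗[B] N))
    (C : Type u) [CommRing C] [Algebra A C] [Algebra (Localization.AtPrime z) C] [IsScalarTower A (Localization.AtPrime z) C]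
    (SC NC : Type u) [CommRing SC] [Algebra A SC] [Algebra B SC] [Algebra C SC] [Algebra SA SC]
    [Algebra (Localization.AtPrime z) SC]
    [IsScalarTower A B SC] [IsScalarTower A C SC] [IsScalarTower B SA SC] [IsScalarTower (Localization.AtPrime z) C SC]
    [IsScalarTower (Localization.AtPrime z) SA SC] [Algebra.IsPushout A B C SC]
    [AddCommGroup NC] [Module SC NC] [Module B NC] [IsScalarTower B SC NC] [Module C NC] [IsScalarTower C SC NC]
    (fC : N →ₗ[B] NC) (hfC : IsBaseChange SC fC)
    (t3 T2 : Ideal C) [t3.IsPrime] [T2.IsPrime] (P2 : Ideal SC) [hP2 : P2.IsPrime] (hle2 : t3 ≤ T2)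
    (hP2t : P2.LiesOver t3) (hass2 : FlatCA.fiberIdeal t3 P2 ∈ associatedPrimes (t3.Fiber SC) (FlatCA.fiberMod t3 SC NC))
    (hno : ∀ (P' : Ideal SC) [P'.IsPrime], P2 ≤ P' → ¬ P'.LiesOver T2)
    (hT2m : T2.comap (algebraMap (Localization.AtPrime z) C) = maximalIdeal (Localization.AtPrime z)) : False := by
  let A1 := Localization.AtPrime z
  haveI : IsScalarTower A A1 SC := IsScalarTower.of_algebraMap_eq fun r => by
    rw [IsScalarTower.algebraMap_apply A1 C SC, ← IsScalarTower.algebraMap_apply A A1 C, ← IsScalarTower.algebraMap_apply A C SC]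
  haveI : IsScalarTower A SA SC := IsScalarTower.of_algebraMap_eq fun r => by
    rw [IsScalarTower.algebraMap_apply A A1 SA, ← IsScalarTower.algebraMap_apply A1 SA SC,
      ← IsScalarTower.algebraMap_apply A A1 SC]
  haveI : Algebra.IsPushout A A1 B SA := Algebra.IsPushout.symm inferInstance
  haveI : Algebra.IsPushout A C B SC := Algebra.IsPushout.symm inferInstance
  haveI : Algebra.IsPushout A1 C SA SC :=
    (Algebra.IsPushout.comp_iff (R := A) (S := A1) (T := C) (R' := B) (S' := SA) (T' := SC)).1 inferInstance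
  haveI : Algebra.IsPushout A1 SA C SC := Algebra.IsPushout.symm inferInstance
  haveI : Algebra.FiniteType A1 SA :=
    Algebra.FiniteType.equiv (inferInstance : Algebra.FiniteType A1 (A1 ⊗[A] B)) (Algebra.IsPushout.equiv A A1 B SA)
  letI : Module SA NC := Module.compHom NC (algebraMap SA SC)
  haveI : IsScalarTower SA SC NC := IsScalarTower.of_algebraMap_smul fun _ _ => rfl
  haveI : IsScalarTower B SA NC := IsScalarTower.of_algebraMap_smul fun b y => by
    show algebraMap SA SC (algebraMap B SA b) • y = b • y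
    rw [← IsScalarTower.algebraMap_apply, algebraMap_smul]
  let h : NA →ₗ[SA] NC := hf.lift fC
  have hh : IsBaseChange SC h := (hf.comp_iff (T := SC) (h := h)).1 (by
    rw [show (h.restrictScalars B) ∘ₗ f = fC from LinearMap.ext fun n => hf.lift_eq _ n]
    exact hfC)
  let t0 := t3.comap (algebraMap A1 C)
  let P1 := P2.comap (algebraMap SA SC)
  haveI : t0.IsPrime := Ideal.comap_isPrime _ _
  haveI : P1.IsPrime := Ideal.comap_isPrime _ _
  have hP1 : P1.comap (algebraMap A1 SA) = t0 := by
    rw [Ideal.comap_comap, ← IsScalarTower.algebraMap_eq, IsScalarTower.algebraMap_eq A1 C SC, ← Ideal.comap_comap,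
      show P2.comap (algebraMap C SC) = t3 from hP2t.over.symm]
  have hass1 := assoc_of_baseChange (R := A1) (S := SA) (R2 := C) (S2 := SC) NA NC h hh t0 t3 rfl P2 hP2t.over.symm hass2 P1 rfl
  obtain ⟨P', hP', hle', hP'm⟩ := exists_specialization_of_pure N p hpure z het SA NA
    f hf t0 P1 hP1 hass1
  haveI := hP'
  let e := PrimeSpectrum.preimageEquivFiber A B ⟨p, inferInstance⟩
  let q := P'.comap (algebraMap B SA)
  haveI : q.IsPrime := Ideal.comap_isPrime _ _
  have hqp : q.comap (algebraMap A B) = p := by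
    rw [Ideal.comap_comap, ← IsScalarTower.algebraMap_eq, IsScalarTower.algebraMap_eq A A1 SA, ← Ideal.comap_comap, hP'm, hA1p]
  let x := e ⟨⟨q, inferInstance⟩, PrimeSpectrum.ext hqp⟩
  have hx : x.asIdeal.comap (Algebra.TensorProduct.includeRight (R := A) (A := p.ResidueField) (B := B)).toRingHom = q :=
    congrArg (fun z => z.1.asIdeal) (e.symm_apply_apply ⟨⟨q, inferInstance⟩, PrimeSpectrum.ext hqp⟩)
  obtain ⟨i, hi⟩ := hcov x (Set.mem_univ x) P' ⟨hx⟩ ⟨hP'm.symm⟩
  obtain ⟨hfree, -⟩ := transfer_piece (R := A) (A1 := A1) (A2 := C) (SA2 := SC) (g i) (hpc i).1 (hpc i).2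
  haveI := hfree
  let T := Localization.Away (algebraMap SA SC (g i))
  let M := T ⊗[B] N
  haveI : Module.Projective C M := inferInstance
  have hgP2 : algebraMap SA SC (g i) ∉ P2 := fun hh' => hi (hle' (Ideal.mem_comap.2 hh'))
  obtain ⟨Q, hQ⟩ : (⟨P2, hP2⟩ : PrimeSpectrum SC) ∈ Set.range (PrimeSpectrum.comap (algebraMap SC T)) := by
    rw [PrimeSpectrum.localization_away_comap_range _ (algebraMap SA SC (g i))]
    exact hgP2
  have hQ' : Q.asIdeal.comap (algebraMap SC T) = P2 := congrArg PrimeSpectrum.asIdeal hQ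
  haveI : IsScalarTower B SC T := inferInstance
  haveI : SMulCommClass B SC T := ⟨fun b c y => by
    rw [← algebraMap_smul T b, ← algebraMap_smul T c y, ← algebraMap_smul T b, ← algebraMap_smul T c, smul_comm]⟩
  letI : Module SC M := TensorProduct.leftModule
  haveI : IsScalarTower SC T M := TensorProduct.isScalarTower_left
  haveI : IsScalarTower B SC M := IsScalarTower.of_algebraMap_smul fun b y => by
    rw [← algebraMap_smul T (algebraMap B SC b), ← IsScalarTower.algebraMap_apply, algebraMap_smul]
  let u : NC →ₗ[SC] M := hfC.lift (TensorProduct.mk B T N 1)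
  have hu : IsBaseChange T u := (hfC.comp_iff (T := T) (h := u)).1 (by
    rw [show (u.restrictScalars B) ∘ₗ fC = TensorProduct.mk B T N 1 from
      LinearMap.ext fun n => hfC.lift_eq _ n]
    exact TensorProduct.isBaseChange B N T)
  haveI : P2.LiesOver t3 := hP2t
  haveI : Algebra.FiniteType C SC :=
    Algebra.FiniteType.equiv (inferInstance : Algebra.FiniteType C (C ⊗[A] B)) (Algebra.IsPushout.equiv A C B SC)
  have hassQ := assoc_away (R := C) (S := SC) NC (algebraMap SA SC (g i)) T M u hu t3 P2 hass2 Q.asIdeal hQ'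
  obtain ⟨Q3, hQ3, hle3, hQ3t⟩ := exists_specialization_of_projective M t3 T2 hle2 Q.asIdeal hassQ
  refine hno (Q3.comap (algebraMap SC T)) (hQ' ▸ Ideal.comap_mono hle3) ⟨?_⟩
  rw [Ideal.under_def, Ideal.comap_comap, ← IsScalarTower.algebraMap_eq]
  exact hQ3t.symm

/-- A model of the stage mapping to a given algebra. -/
theorem exists_stage_model {A B : Type u} [CommRing A] [CommRing B] [Algebra A B] (N : Type u) [AddCommGroup N] [Module B N]
    {R1 : Type u} [CommRing R1] [Algebra A R1] (z : Ideal R1) [z.IsPrime]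
    (SC : Type u) [CommRing SC] [Algebra A SC] [Algebra B SC] [IsScalarTower A B SC] [Algebra (Localization.AtPrime z) SC]
    [IsScalarTower A (Localization.AtPrime z) SC] :
    ∃ (SA : Type u) (_ : CommRing SA) (_ : Algebra A SA) (_ : Algebra B SA) (_ : Algebra (Localization.AtPrime z) SA)
      (_ : IsScalarTower A B SA) (_ : IsScalarTower A (Localization.AtPrime z) SA)
      (_ : Algebra.IsPushout A B (Localization.AtPrime z) SA) (_ : Algebra SA SC) (_ : IsScalarTower B SA SC)
      (_ : IsScalarTower (Localization.AtPrime z) SA SC) (NA : Type u) (_ : AddCommGroup NA) (_ : Module SA NA)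
      (_ : Module B NA) (_ : IsScalarTower B SA NA) (_ : Module (Localization.AtPrime z) NA)
      (_ : IsScalarTower (Localization.AtPrime z) SA NA) (f : N →ₗ[B] NA), IsBaseChange SA f := by
  let A1 := Localization.AtPrime z
  let SA := A1 ⊗[A] B
  let θ : SA →ₐ[A] SC := Algebra.TensorProduct.lift (IsScalarTower.toAlgHom A A1 SC) (IsScalarTower.toAlgHom A B SC)
    fun _ _ => .all _ _
  letI : Algebra SA SC := θ.toRingHom.toAlgebra
  haveI : IsScalarTower B SA SC := IsScalarTower.of_algebraMap_eq fun s => by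
    show _ = θ ((1 : A1) ⊗ₜ[A] s)
    rw [Algebra.TensorProduct.lift_tmul, map_one, one_mul]
    rfl
  haveI : IsScalarTower A1 SA SC := IsScalarTower.of_algebraMap_eq fun a => by
    show _ = θ (a ⊗ₜ[A] (1 : B))
    rw [Algebra.TensorProduct.lift_tmul, map_one, mul_one]
    rfl
  haveI : IsScalarTower A1 SA (SA ⊗[B] N) := inferInstance
  exact ⟨SA, inferInstance, inferInstance, inferInstance, inferInstance, inferInstance, inferInstance,
    Algebra.IsPushout.symm inferInstance, inferInstance, inferInstance, inferInstance, SA ⊗[B] N, inferInstance,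
    inferInstance, inferInstance, inferInstance, inferInstance, inferInstance, TensorProduct.mk B SA N 1,
    TensorProduct.isBaseChange B N SA⟩

/-- No impurity lives over an algebra over the stage, for arbitrary models. -/
theorem false_of_impurity {A B : Type u} [CommRing A] [CommRing B] [Algebra A B] [Algebra.FiniteType A B]
    (N : Type u) [AddCommGroup N] [Module B N] (p : Ideal A)
    [p.IsPrime] (hpure : FlatCA.IsPureAlong A B N p)
    {R1 : Type u} [CommRing R1] [Algebra A R1] (z : Ideal R1) [z.IsPrime] (het : FlatCA.IsEtaleNhd A R1 p z)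
    (hA1p : (maximalIdeal (Localization.AtPrime z)).comap (algebraMap A (Localization.AtPrime z)) = p)
    (hm : ∀ (SA : Type u) [CommRing SA] [Algebra A SA] [Algebra B SA] [Algebra (Localization.AtPrime z) SA]
      [IsScalarTower A B SA] [IsScalarTower A (Localization.AtPrime z) SA]
      [Algebra.IsPushout A B (Localization.AtPrime z) SA],
      ∃ (m : ℕ) (g : Fin m → SA),
        (∀ x ∈ (Set.univ : Set (PrimeSpectrum (p.Fiber B))), ∀ (Q : Ideal SA) [Q.IsPrime],
          Q.LiesOver ((x : PrimeSpectrum (p.Fiber B)).asIdeal.comap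
            (Algebra.TensorProduct.includeRight (R := A) (A := p.ResidueField) (B := B)).toRingHom) →
          Q.LiesOver (maximalIdeal (Localization.AtPrime z)) → ∃ i, g i ∉ Q) ∧
        ∀ i, Module.Free (Localization.AtPrime z) (Localization.Away (g i) ⊗[B] N) ∧
          Module.FinitePresentation (Localization.Away (g i)) (Localization.Away (g i) ⊗[B] N))
    (C SC NC : Type u) [CommRing C] [CommRing SC] [Algebra A C] [Algebra B SC] [Algebra C SC] [Algebra A SC]
    [IsScalarTower A B SC] [IsScalarTower A C SC] [AddCommGroup NC] [Module SC NC] [Module B NC] [IsScalarTower B SC NC]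
    [Module C NC] [IsScalarTower C SC NC] [Algebra (Localization.AtPrime z) C] [IsScalarTower A (Localization.AtPrime z) C]
    (fC : N →ₗ[B] NC) (t3 T2 : Ideal C) [t3.IsPrime] [T2.IsPrime] (P2 : Ideal SC) [hP2 : P2.IsPrime]
    (himp2 : FlatCA.IsImpurity A B N p C SC NC fC t3 T2 P2)
    (hT2m : T2.comap (algebraMap (Localization.AtPrime z) C) = maximalIdeal (Localization.AtPrime z)) : False := by
  let A1 := Localization.AtPrime z
  have hle2 : t3 ≤ T2 := himp2.2.2.1
  obtain ⟨hpush2, hbc2, -, -, hP2t, hass2, hno⟩ := himp2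
  haveI := hpush2
  letI : Algebra A1 SC := ((algebraMap C SC).comp (algebraMap A1 C)).toAlgebra
  haveI : IsScalarTower A1 C SC := IsScalarTower.of_algebraMap_eq fun _ => rfl
  haveI : IsScalarTower A A1 SC := IsScalarTower.of_algebraMap_eq fun r => by
    rw [IsScalarTower.algebraMap_apply A1 C SC, ← IsScalarTower.algebraMap_apply A A1 C, ← IsScalarTower.algebraMap_apply A C SC]
  obtain ⟨SA, _, _, _, _, _, _, _, _, _, _, NA, _, _, _, _, _, _, f, hf⟩ :=
    exists_stage_model (A := A) (B := B) N z SC
  obtain ⟨m, g, hcov, hpc⟩ := hm SA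
  exact false_of_models N p hpure z het hA1p SA NA f hf g hcov hpc C SC NC fC hbc2 t3 T2 P2 hle2 hP2t hass2 hno hT2m

/-- Purity and flatness along a fibre give universal purity. -/
theorem isUnivPureAlong_of_flat {A B : Type u} [CommRing A] [CommRing B] [Algebra A B] [Algebra.FiniteType A B]
    (N : Type u) [AddCommGroup N] [Module B N] [Module A N] [IsScalarTower A B N] [Module.Finite B N] (p : Ideal A)
    [p.IsPrime] (hflat : ∀ (q : Ideal B) [q.IsPrime], q.LiesOver p → FlatCA.FlatAt A q N)
    (hpure : FlatCA.IsPureAlong A B N p) : FlatCA.IsUnivPureAlong A B N p := by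
  intro A' B' N' _ _ _ _ _ _ _ _ _ _ _ _ _ _ f t' t _ _ P _ himp
  obtain ⟨R1, _, _, _, ε, z, _, hz, hm⟩ := freeOver_univ N p hflat
  have het := isEtaleNhd_of_point p ε z hz
  obtain ⟨τ, -, hτ⟩ := exists_localPoint ε z hz
  let A1 := Localization.AtPrime z
  haveI : Module.Flat R1 A1 := IsLocalization.flat A1 z.primeCompl
  haveI : Module.Flat A A1 := Module.Flat.trans A R1 A1
  have hA1p : (maximalIdeal A1).comap (algebraMap A A1) = p := by
    ext r
    rw [Ideal.mem_comap, ← hτ, AlgHom.commutes, Ideal.algebraMap_residueField_eq_zero]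
  let C := A' ⊗[A] A1
  haveI : Module.Flat A' C := inferInstance
  obtain ⟨T2, hT2, hT2t, hT2m⟩ := exists_prime_over_pair t (maximalIdeal A1) (himp.2.2.2.1.over.symm.trans hA1p.symm)
  haveI : T2.LiesOver t := ⟨hT2t.symm⟩
  obtain ⟨t3, hle2, _, ht3⟩ := Ideal.exists_ideal_le_liesOver_of_le (p := t') (q := t) T2 himp.2.2.1
  obtain ⟨P2, hP2, himp2⟩ := exists_impurity_baseChange himp C t3 T2 hle2 hT2t ht3.over.symm
  have himp3 : FlatCA.HasImpurity A B N p (fun X _ _ T => ∃ (_ : Algebra A1 X), IsScalarTower A A1 X ∧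
      T.comap (algebraMap A1 X) = maximalIdeal A1) :=
    ⟨_, _, _, _, _, _, _, _, _, _, _, _, _, _, _, _, _, _, t3, T2, inferInstance, inferInstance, P2, hP2, himp2,
      inferInstance, inferInstance, hT2m⟩
  obtain ⟨C2, SC2, NC2, _, _, _, _, _, _, _, _, _, _, _, _, _, _, fC2, t4, T4, _, _, P4, _, himp4, _, _, hT4⟩ := himp3
  exact false_of_impurity N p hpure z het hA1p hm C2 SC2 NC2 fC2 t4 T4 P4 himp4 hT4

end Groth.Agent.H4RG
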