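import Groth.Prelude
import Groth.Agent.H4RG.UnivPureFlat
import Groth.Agent.H4RG.AssGeneralise
import Groth.Agent.H4RG.AssTransport
import Groth.Agent.H4RG.SpreadGen
import Groth.Agent.Hensel.NbhdPoints
import Mathlib

/-!
# Purity and the relative assassin inside an étale cover
-/

set_option autoImplicit false
set_option linter.style.haveILetI false
set_option backward.isDefEq.respectTransparency.types false

universe u

open TensorProduct IsLocalRing

namespace Groth.Agent.H4RG

attribute [local instance] Algebra.TensorProduct.rightAlgebra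

/-- A model of the base change of a module. -/
theorem exists_model_over {A B : Type u} [CommRing A] [CommRing B] [Algebra A B] (N : Type u) [AddCommGroup N] [Module B N]
    (C : Type u) [CommRing C] [Algebra A C] :
    ∃ (SC NC : Type u) (_ : CommRing SC) (_ : Algebra A SC) (_ : Algebra B SC) (_ : Algebra C SC) (_ : IsScalarTower A B SC)
      (_ : IsScalarTower A C SC) (_ : Algebra.IsPushout A B C SC) (_ : AddCommGroup NC) (_ : Module SC NC) (_ : Module B NC)
      (_ : IsScalarTower B SC NC) (_ : Module C NC) (_ : IsScalarTower C SC NC) (f : N →ₗ[B] NC), IsBaseChange SC f :=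
  ⟨C ⊗[A] B, (C ⊗[A] B) ⊗[B] N, inferInstance, inferInstance, inferInstance, inferInstance, inferInstance, inferInstance,
    Algebra.IsPushout.symm inferInstance, inferInstance, inferInstance, inferInstance, inferInstance, inferInstance,
    inferInstance, TensorProduct.mk B (C ⊗[A] B) N 1, TensorProduct.isBaseChange B N (C ⊗[A] B)⟩

/-- Over a stage, associated points lie under associated points of the closed fibre. -/
theorem exists_assoc_closed_point {A B : Type u} [CommRing A] [CommRing B] [Algebra A B] [Algebra.FiniteType A B]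
    (N : Type u) [AddCommGroup N] [Module B N] [Module.Finite B N] (p : Ideal A) [p.IsPrime]
    (hpure : FlatCA.IsUnivPureAlong A B N p)
    {R1 : Type u} [CommRing R1] [Algebra A R1] (z : Ideal R1) [z.IsPrime]
    (hA1p : (maximalIdeal (Localization.AtPrime z)).comap (algebraMap A (Localization.AtPrime z)) = p)
    (hm : ∀ (SA : Type u) [CommRing SA] [Algebra A SA] [Algebra B SA] [Algebra (Localization.AtPrime z) SA]
      [IsScalarTower A B SA] [IsScalarTower A (Localization.AtPrime z) SA]
      [Algebra.IsPushout A B (Localization.AtPrime z) SA],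
      ∃ (m : ℕ) (g : Fin m → SA),
        (∀ x ∈ (Set.univ : Set (PrimeSpectrum (p.Fiber B))), ∀ (Q : Ideal SA) [Q.IsPrime],
          Q.LiesOver ((x : PrimeSpectrum (p.Fiber B)).asIdeal.comap
            (Algebra.TensorProduct.includeRight (R := A) (A := p.ResidueField) (B := B)).toRingHom) →
          Q.LiesOver (maximalIdeal (Localization.AtPrime z)) → ∃ i, g i ∉ Q) ∧
        ∀ i, Module.Free (Localization.AtPrime z) (Localization.Away (g i) ⊗[B] N) ∧
          Module.FinitePresentation (Localization.Away (g i)) (Localization.Away (g i) ⊗[B] N))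
    (C : Type u) [CommRing C] [IsLocalRing C] [Algebra A C] [Algebra (Localization.AtPrime z) C]
    [IsScalarTower A (Localization.AtPrime z) C]
    (hCm : (maximalIdeal C).comap (algebraMap (Localization.AtPrime z) C) = maximalIdeal (Localization.AtPrime z))
    (SC NC : Type u) [CommRing SC] [Algebra A SC] [Algebra B SC] [Algebra C SC] [Algebra (Localization.AtPrime z) SC]
    [IsScalarTower A B SC] [IsScalarTower A C SC] [IsScalarTower (Localization.AtPrime z) C SC] [Algebra.IsPushout A B C SC]
    [AddCommGroup NC] [Module SC NC] [Module B NC] [IsScalarTower B SC NC] [Module C NC] [IsScalarTower C SC NC]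
    (fC : N →ₗ[B] NC) (hfC : IsBaseChange SC fC)
    (t3 : Ideal C) [t3.IsPrime] (P2 : Ideal SC) [hP2 : P2.IsPrime] [P2.LiesOver t3]
    (hass2 : FlatCA.fiberIdeal t3 P2 ∈ associatedPrimes (t3.Fiber SC) (FlatCA.fiberMod t3 SC NC)) :
    ∃ (q : Ideal SC) (_ : q.IsPrime), P2 ≤ q ∧ q.LiesOver (maximalIdeal C) ∧
      FlatCA.fiberIdeal (maximalIdeal C) q ∈
        associatedPrimes ((maximalIdeal C).Fiber SC) (FlatCA.fiberMod (maximalIdeal C) SC NC) := by
  let A1 := Localization.AtPrime z
  have hCp : (maximalIdeal C).LiesOver p := ⟨by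
    rw [Ideal.under_def, IsScalarTower.algebraMap_eq A A1 C, ← Ideal.comap_comap, hCm, hA1p]⟩
  obtain ⟨Q3, hQ3, hle3, hQ3m⟩ : ∃ Q3 : Ideal SC, Q3.IsPrime ∧ P2 ≤ Q3 ∧ Q3.LiesOver (maximalIdeal C) := by
    by_contra hcon
    push Not at hcon
    exact hpure C SC NC fC t3 (maximalIdeal C) P2
      ⟨inferInstance, hfC, IsLocalRing.le_maximalIdeal (Ideal.IsPrime.ne_top inferInstance), hCp, inferInstance, hass2,
        fun P' hP' hle hov => hcon P' hP' hle hov⟩
  haveI : IsScalarTower A A1 SC := IsScalarTower.of_algebraMap_eq fun r => by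
    rw [IsScalarTower.algebraMap_apply A1 C SC, ← IsScalarTower.algebraMap_apply A A1 C, ← IsScalarTower.algebraMap_apply A C SC]
  obtain ⟨SA, _, _, _, _, _, _, _, _, _, _, NA, _, _, _, _, _, _, f, hf⟩ :=
    exists_stage_model (A := A) (B := B) N z SC
  obtain ⟨m, g, hcov, hpc⟩ := hm SA
  let P' := Q3.comap (algebraMap SA SC)
  haveI : P'.IsPrime := Ideal.comap_isPrime _ _
  have hP'm : P'.comap (algebraMap A1 SA) = maximalIdeal A1 := by
    rw [Ideal.comap_comap, ← IsScalarTower.algebraMap_eq, IsScalarTower.algebraMap_eq A1 C SC, ← Ideal.comap_comap,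
      show Q3.comap (algebraMap C SC) = maximalIdeal C from hQ3m.over.symm, hCm]
  let e := PrimeSpectrum.preimageEquivFiber A B ⟨p, inferInstance⟩
  let q := P'.comap (algebraMap B SA)
  haveI : q.IsPrime := Ideal.comap_isPrime _ _
  have hqp : q.comap (algebraMap A B) = p := by
    rw [Ideal.comap_comap, ← IsScalarTower.algebraMap_eq, IsScalarTower.algebraMap_eq A A1 SA, ← Ideal.comap_comap, hP'm, hA1p]
  let x := e ⟨⟨q, inferInstance⟩, PrimeSpectrum.ext hqp⟩
  have hx : x.asIdeal.comap (Algebra.TensorProduct.includeRight (R := A) (A := p.ResidueField) (B := B)).toRingHom = q :=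
    congrArg (fun z => z.1.asIdeal) (e.symm_apply_apply ⟨⟨q, inferInstance⟩, PrimeSpectrum.ext hqp⟩)
  obtain ⟨i, hi⟩ := hcov x (Set.mem_univ x) P' ⟨hx⟩ ⟨hP'm.symm⟩
  obtain ⟨hfree, hfp⟩ := transfer_piece (R := A) (A1 := A1) (A2 := C) (SA2 := SC) (g i) (hpc i).1 (hpc i).2
  haveI := hfree
  haveI := hfp
  let g' := algebraMap SA SC (g i)
  let T := Localization.Away g'
  let M := T ⊗[B] N
  have hgP2 : g' ∉ P2 := fun hh' => hi (Ideal.mem_comap.2 (hle3 hh'))
  obtain ⟨Q, hQ⟩ : (⟨P2, hP2⟩ : PrimeSpectrum SC) ∈ Set.range (PrimeSpectrum.comap (algebraMap SC T)) := by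
    rw [PrimeSpectrum.localization_away_comap_range _ g']
    exact hgP2
  have hQ' : Q.asIdeal.comap (algebraMap SC T) = P2 := congrArg PrimeSpectrum.asIdeal hQ
  haveI : SMulCommClass B SC T := ⟨fun b c y => by
    rw [← algebraMap_smul T b, ← algebraMap_smul T c y, ← algebraMap_smul T b, ← algebraMap_smul T c, smul_comm]⟩
  letI : Module SC M := TensorProduct.leftModule
  haveI : IsScalarTower SC T M := TensorProduct.isScalarTower_left
  haveI : IsScalarTower B SC M := IsScalarTower.of_algebraMap_smul fun b y => by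
    rw [← algebraMap_smul T (algebraMap B SC b), ← IsScalarTower.algebraMap_apply, algebraMap_smul]
  let u : NC →ₗ[SC] M := hfC.lift (TensorProduct.mk B T N 1)
  have hu : IsBaseChange T u := (hfC.comp_iff (T := T) (h := u)).1 (by
    rw [show (u.restrictScalars B) ∘ₗ fC = TensorProduct.mk B T N 1 from LinearMap.ext fun n => hfC.lift_eq _ n]
    exact TensorProduct.isBaseChange B N T)
  haveI : Algebra.IsPushout A C B SC := Algebra.IsPushout.symm inferInstance
  haveI : Algebra.FiniteType C SC :=
    Algebra.FiniteType.equiv (inferInstance : Algebra.FiniteType C (C ⊗[A] B)) (Algebra.IsPushout.equiv A C B SC)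
  haveI : Algebra.FiniteType SC T :=
    haveI : Algebra.FinitePresentation SC T := IsLocalization.Away.finitePresentation g'
    inferInstance
  haveI : Algebra.FiniteType C T :=
    Algebra.FiniteType.trans (R := C) (S := SC) (A := T) ‹Algebra.FiniteType C SC› ‹Algebra.FiniteType SC T›
  haveI : Q.asIdeal.LiesOver t3 := ⟨by
    rw [Ideal.under_def, IsScalarTower.algebraMap_eq C SC T, ← Ideal.comap_comap, hQ']
    exact Ideal.LiesOver.over (P := P2) (p := t3)⟩
  have hassQ := assoc_away (R := C) (S := SC) NC g' T M u hu t3 P2 hass2 Q.asIdeal hQ'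
  obtain ⟨q1, hq1, hleq, hq1m, hassq⟩ := exists_assoc_closed_specialization M t3 Q.asIdeal hassQ
  haveI : (q1.comap (algebraMap SC T)).IsPrime := Ideal.comap_isPrime _ _
  haveI : (q1.comap (algebraMap SC T)).LiesOver (maximalIdeal C) := ⟨by
    rw [Ideal.under_def, Ideal.comap_comap, ← IsScalarTower.algebraMap_eq]
    exact hq1m.over⟩
  exact ⟨q1.comap (algebraMap SC T), inferInstance, hQ' ▸ Ideal.comap_mono hleq, inferInstance,
    assoc_of_away (R := C) (S := SC) NC g' T M u hu (maximalIdeal C) q1 hassq _ rfl⟩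

section cover

variable {A B : Type u} [CommRing A] [CommRing B] [Algebra A B] [Algebra.FiniteType A B]
  {N : Type u} [AddCommGroup N] [Module B N] {p : Ideal A} [p.IsPrime]
  {A' BA NA : Type u} [CommRing A'] [CommRing BA] [Algebra A A'] [Algebra B BA] [Algebra A' BA] [Algebra A BA]
  [IsScalarTower A B BA] [IsScalarTower A A' BA] [Algebra.IsPushout A B A' BA]
  [AddCommGroup NA] [Module BA NA] [Module B NA] [IsScalarTower B BA NA] [Module A' NA] [IsScalarTower A' BA NA]
  {fA : N →ₗ[B] NA}

/-- Under universal purity the relative assassin over the neighbourhood lies in the image of the cover. -/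
theorem exists_cover_point [Module A N] [IsScalarTower A B N] [Module.Finite B N]
    (hflat : ∀ (q : Ideal B) [q.IsPrime], q.LiesOver p → FlatCA.FlatAt A q N)
    (hpure : FlatCA.IsUnivPureAlong A B N p) (p' : Ideal A') [p'.IsPrime] (het : FlatCA.IsEtaleNhd A A' p p')
    (hfA : IsBaseChange BA fA)
    {B' : Type u} [CommRing B'] [Algebra B B'] [Algebra A' B'] [Algebra BA B'] [IsScalarTower B BA B']
    [IsScalarTower A' BA B'] [Module.Flat BA B']
    (hcov : ∀ (q : Ideal B) [q.IsPrime], q.LiesOver p →
      FlatCA.fiberIdeal p q ∈ associatedPrimes (p.Fiber B) (FlatCA.fiberMod p B N) →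
      ∃ q' : Ideal B', q'.IsPrime ∧ q'.comap (algebraMap B B') = q ∧ q'.comap (algebraMap A' B') = p')
    (t' : Ideal A') [t'.IsPrime] (hle : t' ≤ p') (Q : Ideal BA) [Q.IsPrime] (hQt : Q.comap (algebraMap A' BA) = t')
    (hass : FlatCA.fiberIdeal t' Q ∈ associatedPrimes (t'.Fiber BA) (FlatCA.fiberMod t' BA NA)) :
    ∃ Q' : Ideal B', Q'.IsPrime ∧ Q'.comap (algebraMap BA B') = Q := by
  obtain ⟨R1, _, _, _, ε, z, _, hz, hm⟩ := freeOver_univ N p hflat
  obtain ⟨τ, -, hτ⟩ := exists_localPoint ε z hz
  obtain ⟨-, hover, hbij⟩ := id het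
  let A1 := Localization.AtPrime z
  haveI : Module.Flat R1 A1 := IsLocalization.flat A1 z.primeCompl
  haveI : Module.Flat A A1 := Module.Flat.trans A R1 A1
  have hA1p : (maximalIdeal A1).comap (algebraMap A A1) = p := by
    ext r
    rw [Ideal.mem_comap, ← hτ, AlgHom.commutes, Ideal.algebraMap_residueField_eq_zero]
  let E := A' ⊗[A] A1
  obtain ⟨W, hW, hWp, hWm⟩ := exists_prime_over_pair p' (maximalIdeal A1) (hover.over.symm.trans hA1p.symm)
  let C := Localization.AtPrime W
  haveI : Module.Flat A' E := inferInstance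
  haveI : Module.Flat E C := IsLocalization.flat C W.primeCompl
  haveI : Module.Flat A' C := Module.Flat.trans A' E C
  have hCW : (maximalIdeal C).comap (algebraMap E C) = W := IsLocalization.AtPrime.under_maximalIdeal C W
  have hCp' : (maximalIdeal C).comap (algebraMap A' C) = p' := by
    rw [IsScalarTower.algebraMap_eq A' E C, ← Ideal.comap_comap, hCW, hWp]
  have hCm : (maximalIdeal C).comap (algebraMap A1 C) = maximalIdeal A1 := by
    rw [IsScalarTower.algebraMap_eq A1 E C, ← Ideal.comap_comap, hCW, hWm]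
  haveI : (maximalIdeal C).LiesOver p' := ⟨hCp'.symm⟩
  obtain ⟨t3, -, _, ht3⟩ := Ideal.exists_ideal_le_liesOver_of_le (p := t') (q := p') (maximalIdeal C) hle
  obtain ⟨SC, NC, _, _, _, _, _, _, _, _, _, _, _, _, _, fC, hfC⟩ := exists_model_over (A := A) (B := B) N C
  letI : Algebra A' SC := ((algebraMap C SC).comp (algebraMap A' C)).toAlgebra
  haveI : IsScalarTower A' C SC := IsScalarTower.of_algebraMap_eq fun _ => rfl
  haveI : IsScalarTower A A' C := IsScalarTower.of_algebraMap_eq fun r => by
    rw [IsScalarTower.algebraMap_apply A E C, IsScalarTower.algebraMap_apply A A' E, ← IsScalarTower.algebraMap_apply A' E C]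
  haveI : IsScalarTower A A1 C := IsScalarTower.of_algebraMap_eq fun r => by
    rw [IsScalarTower.algebraMap_apply A E C, IsScalarTower.algebraMap_apply A A1 E, ← IsScalarTower.algebraMap_apply A1 E C]
  haveI : IsScalarTower A A' SC := IsScalarTower.of_algebraMap_eq fun r => by
    rw [IsScalarTower.algebraMap_apply A' C SC, ← IsScalarTower.algebraMap_apply A A' C, ← IsScalarTower.algebraMap_apply A C SC]
  letI : Algebra A1 SC := ((algebraMap C SC).comp (algebraMap A1 C)).toAlgebra
  haveI : IsScalarTower A1 C SC := IsScalarTower.of_algebraMap_eq fun _ => rfl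
  obtain ⟨_, _, _, _⟩ := exists_relative_algebra (A := A) (B := B) A' BA SC
  obtain ⟨P2, hP2, hP2Q, hP2t, hass2⟩ := exists_assoc_up (A := A) (B := B) (C := C) hfA hfC t' t3 ht3.over.symm Q hQt hass
  haveI : P2.LiesOver t3 := ⟨hP2t.symm⟩
  obtain ⟨q, hq, hle2, hqm, hassq⟩ := exists_assoc_closed_point N p hpure z hA1p hm C hCm SC NC fC hfC t3 P2 hass2
  let qB := q.comap (algebraMap B SC)
  haveI : qB.IsPrime := Ideal.comap_isPrime _ _
  haveI : qB.LiesOver p := ⟨by
    rw [Ideal.under_def, Ideal.comap_comap, ← IsScalarTower.algebraMap_eq, IsScalarTower.algebraMap_eq A C SC,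
      ← Ideal.comap_comap, show q.comap (algebraMap C SC) = maximalIdeal C from hqm.over.symm,
      IsScalarTower.algebraMap_eq A A1 C, ← Ideal.comap_comap, hCm, hA1p]⟩
  have hmaxp : (maximalIdeal C).comap (algebraMap A C) = p := by
    rw [IsScalarTower.algebraMap_eq A A1 C, ← Ideal.comap_comap, hCm, hA1p]
  have hassB := assoc_of_baseChange (R := A) (S := B) (R2 := C) (S2 := SC) N NC fC hfC p (maximalIdeal C) hmaxp q
    hqm.over.symm hassq qB rfl
  obtain ⟨q', hq', hq'B, hq'p⟩ := hcov qB ‹qB.LiesOver p› hassB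
  haveI : (q.comap (algebraMap BA SC)).IsPrime := Ideal.comap_isPrime _ _
  haveI : (q'.comap (algebraMap BA B')).IsPrime := Ideal.comap_isPrime _ _
  have heq : q'.comap (algebraMap BA B') = q.comap (algebraMap BA SC) :=
    eq_of_over_same (A := A) (B := B) p p' (exists_frac_of_bijective p p' hover.over hbij) hover.over.symm _ _
      (by rw [Ideal.comap_comap, ← IsScalarTower.algebraMap_eq, hq'p])
      (by rw [Ideal.comap_comap, ← IsScalarTower.algebraMap_eq, IsScalarTower.algebraMap_eq A' C SC, ← Ideal.comap_comap,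
            show q.comap (algebraMap C SC) = maximalIdeal C from hqm.over.symm, hCp'])
      (by rw [Ideal.comap_comap, ← IsScalarTower.algebraMap_eq, hq'B, Ideal.comap_comap, ← IsScalarTower.algebraMap_eq])
  haveI : q'.LiesOver (q.comap (algebraMap BA SC)) := ⟨heq.symm⟩
  obtain ⟨Q', -, hQ', hQ'Q⟩ := Ideal.exists_ideal_le_liesOver_of_le (p := Q) (q := q.comap (algebraMap BA SC)) q'
    (hP2Q ▸ Ideal.comap_mono hle2)
  exact ⟨Q', hQ', hQ'Q.over.symm⟩

/-- An impurity over a neighbourhood of the point of the cover whose point is in the image contradicts purity. -/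
theorem false_of_cover_models (p' : Ideal A') [p'.IsPrime]
    {B' N' : Type u} [CommRing B'] [Algebra B B'] [Algebra A' B'] [Algebra A B'] [IsScalarTower A B B']
    [IsScalarTower A A' B'] [Algebra BA B'] [IsScalarTower B BA B'] [IsScalarTower A' BA B'] [Module.Flat BA B']
    [Algebra.FiniteType A' B']
    [AddCommGroup N'] [Module B' N'] [Module B N'] [IsScalarTower B B' N'] {f : N →ₗ[B] N'} (hf : IsBaseChange B' f)
    (hpure : FlatCA.IsPureAlong A' B' N' p')
    (E : Type u) [CommRing E] [Algebra A E] [Algebra A' E] [IsScalarTower A A' E] (W : Ideal E) [W.IsPrime]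
    (het : FlatCA.IsEtaleNhd A' E p' W)
    (SE NE : Type u) [CommRing SE] [Algebra A SE] [Algebra B SE] [Algebra E SE] [Algebra A' SE] [IsScalarTower A B SE]
    [IsScalarTower A E SE] [IsScalarTower A' E SE] [IsScalarTower A A' SE] [Algebra.IsPushout A B E SE]
    [Algebra BA SE] [IsScalarTower B BA SE] [IsScalarTower A' BA SE]
    [AddCommGroup NE] [Module SE NE] [Module B NE] [IsScalarTower B SE NE] [Module E NE] [IsScalarTower E SE NE]
    (fE : N →ₗ[B] NE) (hfE : IsBaseChange SE fE)
    (t3 : Ideal E) [t3.IsPrime] (hle : t3 ≤ W) (P3 : Ideal SE) [P3.IsPrime] [P3.LiesOver t3]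
    (hass : FlatCA.fiberIdeal t3 P3 ∈ associatedPrimes (t3.Fiber SE) (FlatCA.fiberMod t3 SE NE))
    (hno : ∀ (P : Ideal SE) [P.IsPrime], P3 ≤ P → ¬ P.LiesOver W)
    (S' NS : Type u) [CommRing S'] [Algebra A' S'] [Algebra B S'] [Algebra BA S'] [Algebra B' S'] [Algebra SE S']
    [Algebra E S'] [IsScalarTower B B' S'] [IsScalarTower B SE S'] [IsScalarTower E SE S'] [IsScalarTower BA SE S']
    [IsScalarTower BA B' S'] [IsScalarTower A' B' S'] [IsScalarTower A' E S']
    [Algebra.IsPushout BA B' SE S']
    [AddCommGroup NS] [Module S' NS] [Module SE NS] [IsScalarTower SE S' NS] [Module B' NS] [IsScalarTower B' S' NS]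
    [Module E NS] [IsScalarTower E S' NS] (fS : NE →ₗ[SE] NS) (hfS : IsBaseChange S' fS)
    (P' : Ideal S') [P'.IsPrime] (hP' : P'.comap (algebraMap SE S') = P3) : False := by
  haveI : IsScalarTower A BA SE := IsScalarTower.of_algebraMap_eq fun r => by
    rw [IsScalarTower.algebraMap_apply A B BA, ← IsScalarTower.algebraMap_apply B BA SE, ← IsScalarTower.algebraMap_apply]
  haveI : Algebra.IsPushout A A' B BA := Algebra.IsPushout.symm inferInstance
  haveI : Algebra.IsPushout A E B SE := Algebra.IsPushout.symm inferInstance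
  haveI : Algebra.IsPushout A' E BA SE := (Algebra.IsPushout.comp_iff A A' B BA (T := E) (T' := SE)).1 inferInstance
  haveI : Algebra.IsPushout A' BA E SE := Algebra.IsPushout.symm inferInstance
  haveI : IsScalarTower A' SE S' := IsScalarTower.of_algebraMap_eq fun a => by
    rw [IsScalarTower.algebraMap_apply A' E S', IsScalarTower.algebraMap_apply E SE S', ← IsScalarTower.algebraMap_apply A' E SE]
  haveI : IsScalarTower A' BA S' := IsScalarTower.of_algebraMap_eq fun a => by
    rw [IsScalarTower.algebraMap_apply A' B' S', IsScalarTower.algebraMap_apply A' BA B', ← IsScalarTower.algebraMap_apply BA B' S']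
  haveI : Algebra.IsPushout A' B' E S' :=
    (Algebra.IsPushout.comp_iff A' BA E SE (T := B') (T' := S')).2 inferInstance
  haveI : Algebra.IsPushout BA SE B' S' := Algebra.IsPushout.symm inferInstance
  haveI : Module.Flat SE S' := Module.Flat.isBaseChange (R := BA) (S := SE) (M := B') S'
    (f := (IsScalarTower.toAlgHom BA B' S').toLinearMap) Algebra.IsPushout.out
  haveI : Algebra.FiniteType E SE :=
    Algebra.FiniteType.equiv (inferInstance : Algebra.FiniteType E (E ⊗[A] B)) (Algebra.IsPushout.equiv A E B SE)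
  haveI : Algebra.IsPushout A' E B' S' := Algebra.IsPushout.symm inferInstance
  haveI : Algebra.FiniteType E S' :=
    Algebra.FiniteType.equiv (inferInstance : Algebra.FiniteType E (E ⊗[A'] B')) (Algebra.IsPushout.equiv A' E B' S')
  obtain ⟨P1, hP1, hle1, hP1t, hass1⟩ := exists_assoc_flat NE NS fS hfS t3 P3 hass P' hP'
  letI : Module B NS := Module.compHom NS (algebraMap B S')
  haveI : IsScalarTower B S' NS := IsScalarTower.of_algebraMap_smul fun _ _ => rfl
  haveI : IsScalarTower B SE NS := IsScalarTower.of_algebraMap_smul fun b y => by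
    rw [← algebraMap_smul S' (algebraMap B SE b), ← IsScalarTower.algebraMap_apply, algebraMap_smul]
  haveI : IsScalarTower B B' NS := IsScalarTower.of_algebraMap_smul fun b y => by
    rw [← algebraMap_smul S' (algebraMap B B' b), ← IsScalarTower.algebraMap_apply, algebraMap_smul]
  let g : N' →ₗ[B'] NS := hf.lift ((fS.restrictScalars B) ∘ₗ fE)
  have hg : IsBaseChange S' g := (hf.comp_iff (T := S') (h := g)).1 (by
    rw [show (g.restrictScalars B) ∘ₗ f = (fS.restrictScalars B) ∘ₗ fE from LinearMap.ext fun n => hf.lift_eq _ n]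
    exact (hfE.comp_iff (T := S') (h := fS)).2 hfS)
  obtain ⟨het1, hoverW, hbijW⟩ := id het
  refine hpure E S' NS g t3 W P1 ⟨het1, hoverW, hbijW⟩ ⟨inferInstance, hg, hle, hoverW, hP1t, hass1, fun P hP hP1P hov => ?_⟩
  refine hno (P.comap (algebraMap SE S')) (hle1.trans (Ideal.comap_mono hP1P)) ⟨?_⟩
  rw [Ideal.under_def, Ideal.comap_comap, ← IsScalarTower.algebraMap_eq]
  exact hov.over

/-- A model of a base change with a point over two given ones. -/
theorem exists_pair_model {R S T : Type u} [CommRing R] [CommRing S] [CommRing T] [Algebra R S] [Algebra R T]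
    (M : Type u) [AddCommGroup M] [Module S M] (P : Ideal S) [P.IsPrime] (Q : Ideal T) [Q.IsPrime]
    (h : P.comap (algebraMap R S) = Q.comap (algebraMap R T)) :
    ∃ (S' MS : Type u) (_ : CommRing S') (_ : Algebra R S') (_ : Algebra S S') (_ : Algebra T S') (_ : IsScalarTower R S S')
      (_ : IsScalarTower R T S') (_ : Algebra.IsPushout R T S S') (_ : AddCommGroup MS) (_ : Module S' MS) (_ : Module S MS)
      (_ : IsScalarTower S S' MS) (fS : M →ₗ[S] MS) (_ : IsBaseChange S' fS) (P' : Ideal S') (_ : P'.IsPrime),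
      P'.comap (algebraMap S S') = P := by
  obtain ⟨P', hP', hP'P, -⟩ := exists_prime_over_pair P Q h
  exact ⟨S ⊗[R] T, (S ⊗[R] T) ⊗[S] M, inferInstance, inferInstance, inferInstance, inferInstance, inferInstance,
    inferInstance, Algebra.IsPushout.symm inferInstance, inferInstance, inferInstance, inferInstance, inferInstance,
    TensorProduct.mk S (S ⊗[R] T) M 1, TensorProduct.isBaseChange S M (S ⊗[R] T), P', hP', hP'P⟩

/-- An impurity over an étale neighbourhood of the neighbourhood contradicts purity of the cover. -/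
theorem false_of_cover_impurity (p' : Ideal A') [p'.IsPrime] (hfA : IsBaseChange BA fA)
    {B' N' : Type u} [CommRing B'] [Algebra B B'] [Algebra A' B'] [Algebra A B'] [IsScalarTower A B B']
    [IsScalarTower A A' B'] [Algebra BA B'] [IsScalarTower B BA B'] [IsScalarTower A' BA B'] [Module.Flat BA B']
    [Algebra.FiniteType A' B']
    [AddCommGroup N'] [Module B' N'] [Module B N'] [IsScalarTower B B' N'] {f : N →ₗ[B] N'} (hf : IsBaseChange B' f)
    (hpure : FlatCA.IsPureAlong A' B' N' p')
    (hcond : ∀ (t' : Ideal A') [t'.IsPrime], t' ≤ p' → ∀ (Q : Ideal BA) [Q.IsPrime], Q.LiesOver t' →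
      FlatCA.fiberIdeal t' Q ∈ associatedPrimes (t'.Fiber BA) (FlatCA.fiberMod t' BA NA) →
      ∃ Q' : Ideal B', Q'.IsPrime ∧ Q'.comap (algebraMap BA B') = Q)
    (E : Type u) [CommRing E] [Algebra A E] [Algebra A' E] [IsScalarTower A A' E] (W : Ideal E) [W.IsPrime]
    (het : FlatCA.IsEtaleNhd A' E p' W)
    (SE NE : Type u) [CommRing SE] [Algebra A SE] [Algebra B SE] [Algebra E SE] [IsScalarTower A B SE] [IsScalarTower A E SE]
    [AddCommGroup NE] [Module SE NE] [Module B NE] [IsScalarTower B SE NE] [Module E NE] [IsScalarTower E SE NE]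
    (fE : N →ₗ[B] NE) (t3 : Ideal E) [t3.IsPrime] (P3 : Ideal SE) [P3.IsPrime]
    (himp : FlatCA.IsImpurity A B N p E SE NE fE t3 W P3) : False := by
  obtain ⟨hpush, hfE, hle, -, hP3t, hass, hno⟩ := himp
  haveI := hpush
  haveI := hP3t
  letI : Algebra A' SE := ((algebraMap E SE).comp (algebraMap A' E)).toAlgebra
  haveI : IsScalarTower A' E SE := IsScalarTower.of_algebraMap_eq fun _ => rfl
  haveI : IsScalarTower A A' SE := IsScalarTower.of_algebraMap_eq fun r => by
    rw [IsScalarTower.algebraMap_apply A' E SE, ← IsScalarTower.algebraMap_apply A A' E, ← IsScalarTower.algebraMap_apply A E SE]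
  obtain ⟨_, _, _, _⟩ := exists_relative_algebra (A := A) (B := B) A' BA SE
  let t' := t3.comap (algebraMap A' E)
  let Q := P3.comap (algebraMap BA SE)
  haveI : t'.IsPrime := Ideal.comap_isPrime _ _
  haveI : Q.IsPrime := Ideal.comap_isPrime _ _
  haveI : Q.LiesOver t' := ⟨by
    rw [Ideal.under_def, Ideal.comap_comap, ← IsScalarTower.algebraMap_eq, IsScalarTower.algebraMap_eq A' E SE,
      ← Ideal.comap_comap]
    exact congrArg (Ideal.comap (algebraMap A' E)) hP3t.over⟩
  have hassA := assoc_down (A := A) (B := B) (C := E) hfA hfE t' t3 rfl P3 hP3t.over.symm hass Q rfl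
  have hle' : t' ≤ p' := le_of_le_of_eq (Ideal.comap_mono hle) het.2.1.over.symm
  obtain ⟨Q', hQ', hQ'Q⟩ := hcond t' hle' Q inferInstance hassA
  obtain ⟨S', NS, _, _, _, _, _, _, _, _, _, _, _, fS, hfS, P', _, hP'⟩ :=
    exists_pair_model (R := BA) (S := SE) (T := B') NE P3 Q' hQ'Q.symm
  letI : Algebra B S' := ((algebraMap SE S').comp (algebraMap B SE)).toAlgebra
  haveI : IsScalarTower B SE S' := IsScalarTower.of_algebraMap_eq fun _ => rfl
  letI : Algebra E S' := ((algebraMap SE S').comp (algebraMap E SE)).toAlgebra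
  haveI : IsScalarTower E SE S' := IsScalarTower.of_algebraMap_eq fun _ => rfl
  letI : Algebra A' S' := ((algebraMap E S').comp (algebraMap A' E)).toAlgebra
  haveI : IsScalarTower A' E S' := IsScalarTower.of_algebraMap_eq fun _ => rfl
  haveI : IsScalarTower B B' S' := IsScalarTower.of_algebraMap_eq fun b => by
    rw [IsScalarTower.algebraMap_apply B SE S', IsScalarTower.algebraMap_apply B BA SE, ← IsScalarTower.algebraMap_apply BA SE S',
      IsScalarTower.algebraMap_apply BA B' S', ← IsScalarTower.algebraMap_apply B BA B']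
  haveI : IsScalarTower A' B' S' := IsScalarTower.of_algebraMap_eq fun a => by
    rw [IsScalarTower.algebraMap_apply A' E S', IsScalarTower.algebraMap_apply E SE S', ← IsScalarTower.algebraMap_apply A' E SE,
      IsScalarTower.algebraMap_apply A' BA SE, ← IsScalarTower.algebraMap_apply BA SE S', IsScalarTower.algebraMap_apply BA B' S',
      ← IsScalarTower.algebraMap_apply A' BA B']
  letI : Module B' NS := Module.compHom NS (algebraMap B' S')
  haveI : IsScalarTower B' S' NS := IsScalarTower.of_algebraMap_smul fun _ _ => rfl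
  letI : Module E NS := Module.compHom NS (algebraMap E S')
  haveI : IsScalarTower E S' NS := IsScalarTower.of_algebraMap_smul fun _ _ => rfl
  exact false_of_cover_models (A := A) (BA := BA) p' hf hpure E W het SE NE fE hfE t3 hle P3 hass hno S' NS fS hfS P' hP'

/-- Purity follows when the relative assassin is covered by an étale pure cover. -/
theorem isPureAlong_of_cover (p' : Ideal A') [p'.IsPrime] (het : FlatCA.IsEtaleNhd A A' p p') (hfA : IsBaseChange BA fA)
    {B' N' : Type u} [CommRing B'] [Algebra B B'] [Algebra A' B'] [Algebra A B'] [IsScalarTower A B B']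
    [IsScalarTower A A' B'] [Algebra BA B'] [IsScalarTower B BA B'] [IsScalarTower A' BA B'] [Module.Flat BA B']
    [Algebra.FiniteType A' B']
    [AddCommGroup N'] [Module B' N'] [Module B N'] [IsScalarTower B B' N'] {f : N →ₗ[B] N'} (hf : IsBaseChange B' f)
    (hpure : FlatCA.IsPureAlong A' B' N' p')
    (hcond : ∀ (t' : Ideal A') [t'.IsPrime], t' ≤ p' → ∀ (Q : Ideal BA) [Q.IsPrime], Q.LiesOver t' →
      FlatCA.fiberIdeal t' Q ∈ associatedPrimes (t'.Fiber BA) (FlatCA.fiberMod t' BA NA) →
      ∃ Q' : Ideal B', Q'.IsPrime ∧ Q'.comap (algebraMap BA B') = Q) :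
    FlatCA.IsPureAlong A B N p := by
  intro A2 B2 N2 _ _ _ _ _ _ _ _ _ _ _ _ _ _ g t'' t2 _ _ P2 _ het2 himp
  obtain ⟨hA2, hover2, hbij2⟩ := het2
  obtain ⟨hA', hover, hbij⟩ := id het
  haveI := hA2
  haveI := hA'
  obtain ⟨τ2, hτ2⟩ := Hensel.exists_point t2 hover2.over hbij2
  let κ' := p'.ResidueField
  let ι : p.ResidueField →ₐ[A] κ' := Ideal.ResidueField.mapₐ p p' (Algebra.ofId A A') hover.over
  let E := A' ⊗[A] A2
  let φ : E →ₐ[A'] κ' := Algebra.TensorProduct.lift (Algebra.ofId A' κ') (ι.comp τ2) fun _ _ => .all _ _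
  let W := RingHom.ker φ
  haveI : W.IsPrime := RingHom.ker_isPrime _
  have hetW : FlatCA.IsEtaleNhd A' E p' W := isEtaleNhd_of_point p' φ W rfl
  have hW2 : W.comap (algebraMap A2 E) = t2 := by
    ext a
    rw [Ideal.mem_comap, RingHom.mem_ker, ← hτ2, RingHom.mem_ker]
    show φ ((1 : A') ⊗ₜ[A] a) = 0 ↔ _
    rw [Algebra.TensorProduct.lift_tmul, map_one, one_mul]
    exact map_eq_zero_iff ι ι.toRingHom.injective
  haveI : Module.Flat A A' := inferInstance
  haveI : Module.Flat A2 E := by
    haveI : Algebra.IsPushout A A2 A' E := Algebra.IsPushout.symm inferInstance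
    exact Module.Flat.isBaseChange (R := A) (S := A2) (M := A') E (f := (IsScalarTower.toAlgHom A A' E).toLinearMap)
      Algebra.IsPushout.out
  haveI : IsScalarTower A A2 E := inferInstance
  haveI : W.LiesOver t2 := ⟨hW2.symm⟩
  obtain ⟨t3, hle3, _, ht3⟩ := Ideal.exists_ideal_le_liesOver_of_le (p := t'') (q := t2) W himp.2.2.1
  obtain ⟨P3, hP3, himp3⟩ := exists_impurity_baseChange himp E t3 W hle3 hW2 ht3.over.symm
  exact false_of_cover_impurity p' hfA hf hpure hcond E W hetW _ _ _ t3 P3 himp3

end cover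

end Groth.Agent.H4RG
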