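import Groth.Agent.H4RG.PureProj
import Groth.Agent.W4Lib.Flat

/-! Universally injective maps into projective modules, and their base changes. -/

set_option autoImplicit false
set_option linter.style.haveILetI false
set_option backward.isDefEq.respectTransparency.types false

universe u

open TensorProduct

namespace Groth.Agent.H4RG

attribute [local instance] Algebra.TensorProduct.rightAlgebra

section exact

variable {R : Type u} [CommRing R] {M M' Q : Type u} [AddCommGroup M] [Module R M] [AddCommGroup M'] [Module R M']
  [AddCommGroup Q] [Module R Q] (f : M →ₗ[R] M') (π : M' →ₗ[R] Q)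

/-- With a flat cokernel, the kernel commutes with tensor products. -/
theorem mem_range_ker_of_flat_coker [Module.Flat R Q] (hex : Function.Exact f π) (hπ : Function.Surjective π)
    (X : Type u) [AddCommGroup X] [Module R X] (w : X ⊗[R] M) (hw : f.lTensor X w = 0) :
    w ∈ LinearMap.range ((LinearMap.ker f).subtype.lTensor X) := by
  let ρ := f.rangeRestrict
  have hex' : Function.Exact (LinearMap.range f).subtype π := by
    intro y
    rw [hex y]
    exact ⟨fun ⟨z, hz⟩ => ⟨⟨y, z, hz⟩, rfl⟩, fun ⟨z, hz⟩ => hz ▸ z.2⟩
  have hinj := W4Lib.lTensor_injective_of_flat_quotient (LinearMap.range f).injective_subtype hex' hπ X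
  have hρ : ρ.lTensor X w = 0 := hinj (by
    rw [map_zero, ← LinearMap.lTensor_comp_apply, show (LinearMap.range f).subtype.comp ρ = f from rfl, hw])
  have hexρ : Function.Exact (LinearMap.ker f).subtype ρ := fun y => by
    refine ⟨fun hy => ⟨⟨y, LinearMap.mem_ker.2 (congrArg Subtype.val hy)⟩, rfl⟩, ?_⟩
    rintro ⟨z, rfl⟩
    exact Subtype.ext (LinearMap.mem_ker.1 z.2)
  exact (lTensor_exact X hexρ f.surjective_rangeRestrict w).1 hρ

/-- The cokernel of a universally injective map into a flat module is flat. -/
theorem flat_coker_of_ui [Module.Flat R M'] (hex : Function.Exact f π) (hπ : Function.Surjective π)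
    (hui : ∀ (X : Type u) [AddCommGroup X] [Module R X], Function.Injective (f.lTensor X)) : Module.Flat R Q := by
  rw [Module.Flat.iff_rTensor_injective']
  intro J
  rw [injective_iff_map_eq_zero]
  intro q hq
  obtain ⟨z, rfl⟩ := LinearMap.lTensor_surjective J hπ q
  have h1 : π.lTensor R (J.subtype.rTensor M' z) = 0 := by
    rw [← LinearMap.comp_apply, LinearMap.lTensor_comp_rTensor, ← LinearMap.rTensor_comp_lTensor,
      LinearMap.comp_apply, hq]
  obtain ⟨m, hm⟩ := (lTensor_exact R hex hπ _).1 h1
  have h2 : J.mkQ.rTensor M m = 0 := hui (R ⧸ J) (by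
    rw [map_zero, ← LinearMap.comp_apply, LinearMap.lTensor_comp_rTensor, ← LinearMap.rTensor_comp_lTensor,
      LinearMap.comp_apply, hm, ← LinearMap.rTensor_comp_apply,
      (LinearMap.exact_subtype_mkQ J).linearMap_comp_eq_zero, LinearMap.rTensor_zero, LinearMap.zero_apply])
  obtain ⟨m', rfl⟩ := (rTensor_exact M (LinearMap.exact_subtype_mkQ J) J.mkQ_surjective _).1 h2
  have h3 : z = f.lTensor J m' := by
    refine Module.Flat.rTensor_preserves_injective_linearMap (M := M') J.subtype Subtype.val_injective ?_
    rw [← hm, ← LinearMap.comp_apply, ← LinearMap.comp_apply, LinearMap.lTensor_comp_rTensor,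
      LinearMap.rTensor_comp_lTensor]
  rw [h3, ← LinearMap.lTensor_comp_apply, hex.linearMap_comp_eq_zero, LinearMap.lTensor_zero, LinearMap.zero_apply]

end exact

/-- Whatever dies in the target is killed by a power of the endomorphism. -/
def TKills (E : Type u) [CommRing E] {X L : Type u} [AddCommGroup X] [Module E X] [AddCommGroup L] [Module E L]
    (j : X →ₗ[E] L) (τ : X →ₗ[E] X) : Prop :=
  ∀ (M' : Type u) [AddCommGroup M'] [Module E M'] (w : X ⊗[E] M'),
    j.rTensor M' w = 0 → ∃ i : ℕ, (⇑(τ.rTensor M'))^[i] w = 0

theorem tkills_localized {R S N : Type u} [CommRing R] [CommRing S] [Algebra R S] [AddCommGroup N] [Module S N]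
    [Module R N] [IsScalarTower R S N] (t : S) :
    TKills R ((LocalizedModule.mkLinearMap (Submonoid.powers t) N).restrictScalars R)
      ((LinearMap.lsmul S N t).restrictScalars R) := by
  intro M' _ _ w hw
  let W := Submonoid.powers t
  have h2 : AlgebraTensorModule.rTensor R M' (LocalizedModule.mkLinearMap W N) w = 0 := hw
  obtain ⟨⟨_, i, rfl⟩, hi⟩ := (IsLocalizedModule.eq_zero_iff W _).1 h2
  change t ^ i • w = 0 at hi
  refine ⟨i, ?_⟩
  rw [← hi]
  clear hw h2 hi
  induction i generalizing w with
  | zero => simp
  | succ i ih => rw [Function.iterate_succ_apply, rTensor_lsmul, ih, pow_succ, mul_smul]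

theorem iterate_rTensor_comm {R E X : Type u} [CommRing R] [CommRing E] [Algebra R E] [AddCommGroup X] [Module R X]
    (τ : X →ₗ[R] X) (M' : Type u) [AddCommGroup M'] [Module R M'] [Module E M'] [IsScalarTower R E M']
    (w : (E ⊗[R] X) ⊗[E] M') (i : ℕ) :
    ((TensorProduct.comm E (E ⊗[R] X) M').trans (AlgebraTensorModule.cancelBaseChange R E E M' X))
        ((⇑((τ.baseChange E).rTensor M'))^[i] w) =
      (⇑(τ.lTensor M'))^[i] (((TensorProduct.comm E (E ⊗[R] X) M').trans
        (AlgebraTensorModule.cancelBaseChange R E E M' X)) w) := by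
  induction i generalizing w with
  | zero => rfl
  | succ i ih =>
    rw [Function.iterate_succ_apply, Function.iterate_succ_apply, ih]
    congr 1
    induction w using TensorProduct.induction_on with
    | zero => simp
    | add p q hp hq => simp only [map_add, hp, hq]
    | tmul y m =>
      induction y using TensorProduct.induction_on with
      | zero => simp
      | add p q hp hq => simp only [map_add, TensorProduct.add_tmul] at hp hq ⊢; rw [hp, hq]
      | tmul a n => simp

theorem iterate_comm_rTensor {R X : Type u} [CommRing R] [AddCommGroup X] [Module R X]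
    (τ : X →ₗ[R] X) (M' : Type u) [AddCommGroup M'] [Module R M'] (w : X ⊗[R] M') (i : ℕ) :
    TensorProduct.comm R X M' ((⇑(τ.rTensor M'))^[i] w) = (⇑(τ.lTensor M'))^[i] (TensorProduct.comm R X M' w) := by
  induction i generalizing w with
  | zero => rfl
  | succ i ih =>
    rw [Function.iterate_succ_apply, Function.iterate_succ_apply, ih]
    congr 1
    induction w using TensorProduct.induction_on with
    | zero => simp
    | add p q hp hq => simp only [map_add, hp, hq]
    | tmul y m => simp

theorem TKills.baseChange {R E X L : Type u} [CommRing R] [CommRing E] [Algebra R E] [AddCommGroup X] [Module R X]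
    [AddCommGroup L] [Module R L] {j : X →ₗ[R] L} {τ : X →ₗ[R] X} (h : TKills R j τ) :
    TKills E (j.baseChange E) (τ.baseChange E) := by
  intro M' _ _ w hw
  letI : Module R M' := Module.compHom M' (algebraMap R E)
  haveI : IsScalarTower R E M' := IsScalarTower.of_algebraMap_smul fun _ _ => rfl
  let eX := (TensorProduct.comm E (E ⊗[R] X) M').trans (AlgebraTensorModule.cancelBaseChange R E E M' X)
  let eL := (TensorProduct.comm E (E ⊗[R] L) M').trans (AlgebraTensorModule.cancelBaseChange R E E M' L)
  have hc : ∀ z, eL ((j.baseChange E).rTensor M' z) = j.lTensor M' (eX z) := fun z => by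
    induction z using TensorProduct.induction_on with
    | zero => simp
    | add p q hp hq => simp only [map_add, hp, hq]
    | tmul y m =>
      induction y using TensorProduct.induction_on with
      | zero => simp
      | add p q hp hq => simp only [map_add, TensorProduct.add_tmul] at hp hq ⊢; rw [hp, hq]
      | tmul a n => simp [eX, eL]
  have h1 : j.lTensor M' (eX w) = 0 := by rw [← hc, hw, map_zero]
  obtain ⟨i, hi⟩ := h M' ((TensorProduct.comm R X M').symm (eX w)) (by
    apply (TensorProduct.comm R L M').injective
    rw [map_zero, ← h1]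
    generalize eX w = v
    induction v using TensorProduct.induction_on with
    | zero => simp
    | add p q hp hq => simp only [map_add, hp, hq]
    | tmul m n => simp)
  refine ⟨i, eX.injective ?_⟩
  rw [map_zero]
  refine (iterate_rTensor_comm τ M' w i).trans ?_
  have h2 := congrArg (TensorProduct.comm R X M') hi
  rw [iterate_comm_rTensor, LinearEquiv.apply_symm_apply, map_zero] at h2
  exact h2

theorem countablyGenerated_baseChange {R E X : Type u} [CommRing R] [CommRing E] [Algebra R E] [AddCommGroup X]
    [Module R X] (hX : CAlg.IsCountablyGenerated R X) : CAlg.IsCountablyGenerated E (E ⊗[R] X) := by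
  obtain ⟨G, hGc, hGs⟩ := hX
  refine ⟨TensorProduct.mk R E X 1 '' G, hGc.image _, eq_top_iff.2 ?_⟩
  rintro z -
  induction z using TensorProduct.induction_on with
  | zero => exact zero_mem _
  | add a b ha hb => exact add_mem ha hb
  | tmul a n =>
    rw [← mul_one a, ← smul_eq_mul, ← smul_tmul']
    refine Submodule.smul_mem _ _ ?_
    have hn : n ∈ Submodule.span R G := hGs ▸ Submodule.mem_top
    induction hn using Submodule.span_induction with
    | mem y hy => exact Submodule.subset_span ⟨y, hy, rfl⟩
    | zero => rw [tmul_zero]; exact zero_mem _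
    | add y z _ _ hy hz => rw [tmul_add]; exact add_mem hy hz
    | smul r y _ hy =>
      rw [tmul_smul, ← algebraMap_smul E r]
      exact Submodule.smul_mem _ _ hy

/-- A flat module mapping to a projective one with universally injective endomorphism killing the kernel. -/
theorem projective_of_tkills {E X L : Type u} [CommRing E] [AddCommGroup X] [Module E X] [Module.Flat E X]
    [AddCommGroup L] [Module E L] [Module.Projective E L] {j : X →ₗ[E] L} {τ : X →ₗ[E] X} (h : TKills E j τ)
    (hτ : ∀ (M' : Type u) [AddCommGroup M'] [Module E M'], Function.Injective (τ.rTensor M'))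
    (hcg : CAlg.IsCountablyGenerated E X) : Module.Projective E X := by
  have hj : CAlgX.UniversallyInjective E j := fun M' _ _ => (injective_iff_map_eq_zero _).2 fun w hw => by
    obtain ⟨i, hi⟩ := h M' w hw
    refine ((hτ M').iterate i) (hi.trans ?_)
    induction i with
    | zero => rfl
    | succ i _ => exact (Function.iterate_fixed (map_zero _) _).symm
  exact CAlgUI.projective_of_flat_ml_countablyGenerated (CAlgUI.ml_of_ui j hj CAlgUI.ml_of_projective) hcg

/-- Purity makes a function which is one along the fibre universally injective near the point. -/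
theorem ui_near_of_pure {R S : Type u} [CommRing R] [CommRing S] [Algebra R S] [Algebra.FinitePresentation R S]
    (N : Type u) [AddCommGroup N] [Module S N] (p : Ideal R) [p.IsPrime] (hpure : FlatCA.IsPureAlong R S N p)
    {R1 SA N1 : Type u} [CommRing R1] [CommRing SA] [Algebra R R1] [Algebra S SA] [Algebra R1 SA] [Algebra R SA]
    [IsScalarTower R S SA] [IsScalarTower R R1 SA] [Algebra.IsPushout R S R1 SA]
    [AddCommGroup N1] [Module SA N1] [Module S N1] [IsScalarTower S SA N1] [Module R1 N1] [IsScalarTower R1 SA N1]
    [Module.Flat R1 N1] [Algebra.FinitePresentation R1 SA] [Module.FinitePresentation SA N1]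
    (f : N →ₗ[S] N1) (hf : IsBaseChange SA f) (z : Ideal R1) [z.IsPrime] (het : FlatCA.IsEtaleNhd R R1 p z)
    (t : SA) (ht : t - 1 ∈ z.map (algebraMap R1 SA)) :
    ∀ (M' : Type u) [AddCommGroup M'] [Module R1 M'] (w : N1 ⊗[R1] M'), t • w = 0 → ∃ u ∉ z, u • w = 0 := by
  classical
  have hno : ∀ (t' : Ideal R1) [t'.IsPrime], t' ≤ z → ∀ (P : Ideal SA) [P.IsPrime],
      P.comap (algebraMap R1 SA) = t' →
      FlatCA.fiberIdeal t' P ∈ associatedPrimes (t'.Fiber SA) (FlatCA.fiberMod t' SA N1) → t ∉ P := by
    intro t' _ hle P _ hPt hass htP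
    refine hpure R1 SA N1 f t' z P het
      ⟨inferInstance, hf, hle, het.2.choose, ⟨hPt.symm⟩, hass, fun P' hP' hPP' hov => ?_⟩
    refine hP'.ne_top ((Ideal.eq_top_iff_one _).2 ?_)
    have h1 : t - 1 ∈ P' := Ideal.map_le_iff_le_comap.2 hov.over.le ht
    simpa using sub_mem (hPP' htP) h1
  intro M' _ _ w hw
  by_contra hne
  push Not at hne
  let J := (Submodule.span SA {w}).annihilator
  obtain ⟨Q, hQ, hJQ, hQd⟩ := Ideal.exists_le_prime_disjoint J
    (Algebra.algebraMapSubmonoid SA z.primeCompl) (Set.disjoint_left.2 fun y hy hyW => by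
      obtain ⟨a, ha, rfl⟩ := hyW
      refine hne a ha ?_
      rw [← algebraMap_smul SA a w]
      exact (Submodule.mem_annihilator_span_singleton _ _).1 hy)
  haveI := hQ
  let t' := Q.comap (algebraMap R1 SA)
  haveI : t'.IsPrime := Ideal.comap_isPrime _ _
  have hle : t' ≤ z := fun a ha => by
    by_contra h0
    exact Set.disjoint_left.1 hQd ha ⟨a, h0, rfl⟩
  have hfl : Module.Flat R1 (LocalizedModule Q.primeCompl N1) := flat_localized_of_flat N1 Q
  obtain ⟨u, hu, huw⟩ := ui_at_of_fibre_inj N1 t' Q rfl hfl t (fun v hv => ⟨1, hQ.one_notMem, by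
    rw [one_smul]
    exact eq_zero_of_notMem_assoc N1 t' t (fun P hP hPc hass => @hno t' _ hle P hP hPc hass) v hv⟩) M' w hw
  exact hu (hJQ ((Submodule.mem_annihilator_span_singleton _ _).2 huw))

end Groth.Agent.H4RG
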