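import Groth.Agent.H4RG.DescentTools
import Groth.Agent.H4RG.UIProjective
import Groth.Agent.H4RG.UISpread
import Groth.Agent.FlatSyz5.Colim
import Mathlib

/-! Universal injectivity descends along directed colimits of rings. -/

set_option autoImplicit false
set_option linter.style.haveILetI false
set_option backward.isDefEq.respectTransparency.types false

universe u

open TensorProduct

namespace Groth.Agent.H4RG

attribute [local instance] Algebra.TensorProduct.rightAlgebra

variable {R S M : Type u} [CommRing R] [CommRing S] [Algebra R S] [AddCommGroup M] [Module S M] [Module R M]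
  [IsScalarTower R S M]

theorem lTensor_lsmul_smul (t : S) (E : Type u) [CommRing E] [Algebra R E] (c : E) (v : E ⊗[R] M) :
    ((LinearMap.lsmul S M t).restrictScalars R).lTensor E (c • v) =
      c • ((LinearMap.lsmul S M t).restrictScalars R).lTensor E v :=
  (AlgebraTensorModule.lTensor E E ((LinearMap.lsmul S M t).restrictScalars R)).map_smul c v

/-- Universal injectivity over an algebra is a statement about the modules over it. -/
theorem flat_coker_of_ui_algebra (τ : M →ₗ[R] M) [Module.Flat R M] (E : Type u) [CommRing E] [Algebra R E]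
    (hui : ∀ (Y : Type u) [AddCommGroup Y] [Module R Y] [Module E Y] [IsScalarTower R E Y],
      Function.Injective (τ.lTensor Y)) : Module.Flat E (E ⊗[R] (M ⧸ LinearMap.range τ)) := by
  refine flat_coker_of_ui (τ.baseChange E) ((LinearMap.range τ).mkQ.baseChange E)
    (lTensor_exact E (LinearMap.exact_map_mkQ_range τ) (LinearMap.range τ).mkQ_surjective)
    (LinearMap.lTensor_surjective E (LinearMap.range τ).mkQ_surjective) fun Y _ _ => ?_
  letI : Module R Y := Module.compHom Y (algebraMap R E)
  haveI : IsScalarTower R E Y := IsScalarTower.of_algebraMap_smul fun _ _ => rfl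
  exact (injective_lTensor_iff (TensorProduct.isBaseChange R M E) τ (τ.baseChange E) (fun m => rfl) Y).2 (hui Y)

variable [Algebra.FinitePresentation R S] [Module.FinitePresentation S M] [Module.Flat R M]

/-- A multiplication universally injective over a colimit is so over a stage. -/
theorem exists_ui_stage {ι : Type u} [Preorder ι] {G : ι → Type u} [∀ i, CommRing (G i)] [∀ i, Algebra R (G i)]
    (g : ∀ i j, i ≤ j → G i →ₐ[R] G j) (A : Type u) [CommRing A] [Algebra R A] [∀ i, Algebra (G i) A]
    [∀ i, IsScalarTower R (G i) A]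
    (hcolim : FlatCA.IsDirectedColimitRing G (fun i j h => (g i j h).toRingHom) A) (t : S)
    (hui : ∀ (Y : Type u) [AddCommGroup Y] [Module R Y] [Module A Y] [IsScalarTower R A Y],
      Function.Injective (((LinearMap.lsmul S M t).restrictScalars R).lTensor Y)) :
    ∃ m : ι, ∀ (Y : Type u) [AddCommGroup Y] [Module R Y] [Module (G m) Y] [IsScalarTower R (G m) Y],
      Function.Injective (((LinearMap.lsmul S M t).restrictScalars R).lTensor Y) := by
  classical
  let τS := LinearMap.lsmul S M t
  let τ := τS.restrictScalars R
  let Q := M ⧸ LinearMap.range τS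
  haveI : Module.FinitePresentation S Q := Module.finitePresentation_of_surjective _ (LinearMap.range τS).mkQ_surjective (by
      rw [Submodule.ker_mkQ, LinearMap.range_eq_map]
      exact Module.Finite.fg_top.map τS)
  let eQ : (M ⧸ LinearMap.range τ) ≃ₗ[R] Q :=
    (Submodule.quotEquivOfEq (LinearMap.range τ) ((LinearMap.range τS).restrictScalars R)
      (SetLike.ext fun _ => Iff.rfl)).trans (Submodule.Quotient.restrictScalarsEquiv R _)
  haveI := flat_coker_of_ui_algebra τ A hui
  obtain ⟨l, hl⟩ := FlatSyz5.exists_flat_stage (A₀ := R) G g A hcolim (B₀ := S) Q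
    (Module.Flat.of_linearEquiv (eQ.baseChange R A _ _).symm)
  haveI : Module.Flat (G l) (G l ⊗[R] (M ⧸ LinearMap.range τ)) :=
    haveI := hl
    Module.Flat.of_linearEquiv (eQ.baseChange R (G l) _ _)
  -- the kernel at the stage
  let Sl := G l ⊗[R] S
  let Ml := Sl ⊗[S] M
  have hφ := isBaseChange_restrict_pushout (A₀ := R) (A₁ := G l) (B₁ := Sl) (TensorProduct.mk S Sl M 1)
    (TensorProduct.isBaseChange S M Sl)
  let u : Ml →ₗ[Sl] Ml := LinearMap.lsmul Sl Ml (algebraMap S Sl t)
  let uG := u.restrictScalars (G l)
  have hu : ∀ m, uG ((TensorProduct.mk S Sl M 1).restrictScalars R m) = (TensorProduct.mk S Sl M 1).restrictScalars R (τ m) := fun m => by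
    show algebraMap S Sl t • ((1 : Sl) ⊗ₜ[S] m) = (1 : Sl) ⊗ₜ[S] (t • m)
    rw [algebraMap_smul, tmul_smul]
  haveI := flat_coker_baseChange hφ τ uG hu
  haveI : Module.Flat (G l) (Ml ⧸ LinearMap.range u) :=
    Module.Flat.of_linearEquiv ((Submodule.quotEquivOfEq (LinearMap.range uG) ((LinearMap.range u).restrictScalars (G l))
      (SetLike.ext fun _ => Iff.rfl)).trans (Submodule.Quotient.restrictScalarsEquiv (G l) _)).symm
  obtain ⟨K, hK⟩ := ker_fg_of_flat_coker (R := G l) u
  let eM : G l ⊗[R] M ≃ₗ[G l] Ml := hφ.equiv
  -- the kernel dies later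
  have hdie : ∀ x ∈ LinearMap.ker u, toColim R G A M l (eM.symm x) = 0 := fun x hx => by
    refine hui A ?_
    rw [map_zero, ← LinearMap.comp_apply, LinearMap.lTensor_comp_rTensor, ← LinearMap.rTensor_comp_lTensor,
      LinearMap.comp_apply]
    have h1 : τ.lTensor (G l) (eM.symm x) = 0 := by
      apply eM.injective
      rw [map_zero]
      obtain ⟨y, rfl⟩ := eM.surjective x
      rw [LinearEquiv.symm_apply_apply]
      have hc : ∀ y, uG (eM y) = eM (τ.lTensor (G l) y) := fun y => by
        induction y using TensorProduct.induction_on with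
        | zero => simp
        | add a b ha hb => simp only [map_add, ha, hb]
        | tmul c m => simp only [eM, IsBaseChange.equiv_tmul, map_smul, LinearMap.lTensor_tmul, hu]
      rw [← hc]
      exact LinearMap.mem_ker.1 hx
    rw [h1, map_zero]
  obtain ⟨m, hlm, hm⟩ : ∃ m, ∃ h : l ≤ m, ∀ x ∈ K, (g l m h).toLinearMap.rTensor M (eM.symm x) = 0 := by
    have hmem : ∀ x ∈ K, x ∈ LinearMap.ker u := fun x hx => hK.le (Submodule.subset_span hx)
    clear hK
    induction K using Finset.induction_on with
    | empty => exact ⟨l, le_rfl, by simp⟩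
    | insert a K' _ ih =>
      obtain ⟨m, hm, hm'⟩ := ih fun x hx => hmem x (Finset.mem_insert_of_mem hx)
      obtain ⟨m', hlm', ha⟩ := exists_tensor_zero hcolim M (eM.symm a) (hdie a (hmem a (Finset.mem_insert_self _ _)))
      obtain ⟨k, hk, hk'⟩ := hcolim.1.directed m m'
      refine ⟨k, hm.trans hk, fun x hx => ?_⟩
      rcases Finset.mem_insert.1 hx with rfl | hx
      · rw [← g_g hcolim hlm' hk', ha, map_zero]
      · rw [← g_g hcolim hm hk, hm' x hx, map_zero]
  let ρ := (g l m hlm).toLinearMap.rTensor M
  have hρc : ∀ (c : G l) (v : G l ⊗[R] M), ρ (c • v) = g l m hlm c • ρ v := fun c v => by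
    induction v using TensorProduct.induction_on with
    | zero => simp
    | add a b ha hb => simp only [smul_add, map_add, ha, hb]
    | tmul a n => simp [ρ, smul_tmul']
  have hρs : ∀ (s : S) (v : G l ⊗[R] M),
      ρ (((LinearMap.lsmul S M s).restrictScalars R).lTensor (G l) v) =
        ((LinearMap.lsmul S M s).restrictScalars R).lTensor (G m) (ρ v) := fun s v => by
    induction v using TensorProduct.induction_on with
    | zero => simp
    | add a b ha hb => simp only [map_add, ha, hb]
    | tmul a n => rfl
  have heS : ∀ (s : S) (y : G l ⊗[R] M),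
      algebraMap S Sl s • eM y = eM (((LinearMap.lsmul S M s).restrictScalars R).lTensor (G l) y) := fun s y => by
    induction y using TensorProduct.induction_on with
    | zero => simp
    | add a b ha hb => simp only [map_add, smul_add, ha, hb]
    | tmul c n =>
      simp only [eM, IsBaseChange.equiv_tmul, LinearMap.lTensor_tmul]
      rw [smul_comm]
      congr 1
      show algebraMap S Sl s • ((1 : Sl) ⊗ₜ[S] n) = (1 : Sl) ⊗ₜ[S] (s • n)
      rw [algebraMap_smul, tmul_smul]
  have hker : ∀ x ∈ LinearMap.ker u, ρ (eM.symm x) = 0 := fun x hx => by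
    rw [← hK] at hx
    induction hx using Submodule.span_induction with
    | mem y hy => exact hm y hy
    | zero => simp
    | add a b _ _ ha hb => rw [map_add, map_add, ha, hb, add_zero]
    | smul s a _ ha =>
      induction s using TensorProduct.induction_on with
      | zero => rw [zero_smul, map_zero, map_zero]
      | add p q hp hq => rw [add_smul, map_add, map_add, hp, hq, add_zero]
      | tmul c s =>
        have hcs : c ⊗ₜ[R] s = c • algebraMap S Sl s := by
          show _ = c • ((1 : G l) ⊗ₜ[R] s)
          rw [smul_tmul', smul_eq_mul, mul_one]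
        obtain ⟨y, rfl⟩ := eM.surjective a
        rw [LinearEquiv.symm_apply_apply] at ha
        rw [hcs, smul_assoc, map_smul, hρc, heS, LinearEquiv.symm_apply_apply, hρs, ha, map_zero, smul_zero]
  -- injectivity and flatness at the later stage
  letI : Algebra (G l) (G m) := (g l m hlm).toRingHom.toAlgebra
  haveI : IsScalarTower R (G l) (G m) := IsScalarTower.of_algebraMap_eq fun r => ((g l m hlm).commutes r).symm
  let π : Ml →ₗ[G l] Ml ⧸ LinearMap.range uG := (LinearMap.range uG).mkQ
  have hinj : Function.Injective (τ.lTensor (G m)) := (injective_iff_map_eq_zero _).2 fun v hv => by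
    let e := hφ.tensorEquiv (G m)
    obtain ⟨w, rfl⟩ := e.surjective v
    have hw : uG.lTensor (G m) w = 0 := e.injective (by rw [tensorEquiv_semiconj hφ τ uG hu, hv, map_zero])
    obtain ⟨z, rfl⟩ := mem_range_ker_of_flat_coker uG π (LinearMap.exact_map_mkQ_range uG)
      (LinearMap.range uG).mkQ_surjective (G m) w hw
    clear hv hw
    induction z using TensorProduct.induction_on with
    | zero => simp
    | add a b ha hb => simp only [map_add, ha, hb, add_zero]
    | tmul c x =>
      rw [LinearMap.lTensor_tmul, Submodule.subtype_apply]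
      have h1 : ∀ y : G l ⊗[R] M, e (c ⊗ₜ[G l] eM y) = c • ρ y := fun y => by
        induction y using TensorProduct.induction_on with
        | zero => simp
        | add a b ha hb => simp only [map_add, tmul_add, smul_add, ha, hb]
        | tmul a n =>
          simp only [e, eM, IsBaseChange.tensorEquiv, LinearEquiv.trans_apply, LinearEquiv.lTensor_tmul,
            LinearEquiv.symm_apply_apply]
          rw [AlgebraTensorModule.cancelBaseChange_tmul]
          show (g l m hlm a * c) ⊗ₜ[R] n = c • (g l m hlm a ⊗ₜ[R] n)
          rw [smul_tmul', smul_eq_mul, mul_comm]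
      rw [← eM.apply_symm_apply x.1, h1, hker x.1 x.2, smul_zero]
  haveI : Module.Flat (G m) (G m ⊗[R] (M ⧸ LinearMap.range τ)) :=
    Module.Flat.of_linearEquiv (AlgebraTensorModule.cancelBaseChange R (G l) (G m) (G m) (M ⧸ LinearMap.range τ)).symm
  refine ⟨m, fun Y _ _ _ _ => (injective_lTensor_iff (TensorProduct.isBaseChange R M (G m)) τ (τ.baseChange (G m))
    (fun n => rfl) Y).1 ?_⟩
  exact W4Lib.lTensor_injective_of_flat_quotient (f := τ.baseChange (G m)) (g := (LinearMap.range τ).mkQ.baseChange (G m)) hinj
    (lTensor_exact (G m) (LinearMap.exact_map_mkQ_range τ) (LinearMap.range τ).mkQ_surjective)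
    (LinearMap.lTensor_surjective (G m) (LinearMap.range τ).mkQ_surjective) Y

end Groth.Agent.H4RG
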