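import Groth.Agent.H4RG.DescentModel
import Groth.Agent.H4RG.PureDescentStage
import Groth.Agent.H4RG.StageCover
import Groth.Agent.S9005
import Groth.Agent.S1217
import Mathlib

/-! Purity descends along directed colimits of rings. -/

set_option autoImplicit false
set_option linter.style.haveILetI false
set_option backward.isDefEq.respectTransparency.types false

universe u

open TensorProduct

namespace Groth.Agent.H4RG

attribute [local instance] Algebra.TensorProduct.rightAlgebra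

/-- A base change of a model to an algebra over a second base. -/
theorem exists_level {A₀ R A₁ E B₀ B₁ N₀ N₁ : Type u} [CommRing A₀] [CommRing R] [CommRing A₁] [CommRing E]
    [Algebra A₀ R] [Algebra A₀ A₁] [Algebra A₀ E] [Algebra R E] [Algebra A₁ E] [IsScalarTower A₀ R E]
    [IsScalarTower A₀ A₁ E] [CommRing B₀] [Algebra A₀ B₀] [CommRing B₁] [Algebra A₁ B₁] [Algebra B₀ B₁]
    [Algebra A₀ B₁] [IsScalarTower A₀ A₁ B₁] [IsScalarTower A₀ B₀ B₁] [hp : Algebra.IsPushout A₀ B₀ A₁ B₁]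
    [AddCommGroup N₀] [Module B₀ N₀] [AddCommGroup N₁] [Module B₁ N₁] [Module B₀ N₁] [IsScalarTower B₀ B₁ N₁]
    (f₁ : N₀ →ₗ[B₀] N₁) (hf₁ : IsBaseChange B₁ f₁) :
    ∃ (θ : R ⊗[A₀] B₀ →+* E ⊗[A₁] B₁) (φ : (R ⊗[A₀] B₀) ⊗[B₀] N₀ →ₗ[R] (E ⊗[A₁] B₁) ⊗[B₁] N₁),
      (∀ r, θ (algebraMap R _ r) = algebraMap E _ (algebraMap R E r)) ∧ (∀ s m, φ (s • m) = θ s • φ m) ∧
      IsBaseChange E φ := by
  let S := R ⊗[A₀] B₀
  let S'' := E ⊗[A₁] B₁
  let M'' := S'' ⊗[B₁] N₁
  haveI : IsScalarTower A₀ A₁ S'' := inferInstance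
  let ψ : B₀ →ₐ[A₀] S'' :=
    ((IsScalarTower.toAlgHom A₁ B₁ S'').restrictScalars A₀).comp (IsScalarTower.toAlgHom A₀ B₀ B₁)
  let θ : S →ₐ[A₀] S'' := Algebra.TensorProduct.lift
    ((IsScalarTower.toAlgHom A₀ E S'').comp (IsScalarTower.toAlgHom A₀ R E)) ψ fun _ _ => .all _ _
  have hθ : ∀ r, θ (algebraMap R S r) = algebraMap E S'' (algebraMap R E r) := fun r => by
    show θ (r ⊗ₜ[A₀] (1 : B₀)) = _
    rw [Algebra.TensorProduct.lift_tmul, map_one, mul_one]
    rfl
  letI : Algebra S S'' := θ.toRingHom.toAlgebra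
  letI : Algebra B₀ S'' := ψ.toRingHom.toAlgebra
  haveI : IsScalarTower A₀ B₀ S'' := IsScalarTower.of_algebraMap_eq fun a => (ψ.commutes a).symm
  haveI : IsScalarTower B₀ B₁ S'' := IsScalarTower.of_algebraMap_eq fun b => rfl
  haveI : IsScalarTower B₀ S S'' := IsScalarTower.of_algebraMap_eq fun b => by
    show _ = θ ((1 : R) ⊗ₜ[A₀] b)
    rw [Algebra.TensorProduct.lift_tmul, map_one, one_mul]
    rfl
  haveI : IsScalarTower A₀ S S'' := IsScalarTower.of_algebraMap_eq fun a => (θ.commutes a).symm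
  haveI : IsScalarTower R S S'' := IsScalarTower.of_algebraMap_eq fun r => by
    rw [IsScalarTower.algebraMap_apply R E S'']
    exact (hθ r).symm
  haveI : IsScalarTower A₀ B₁ S'' := IsScalarTower.of_algebraMap_eq fun a => by
    rw [IsScalarTower.algebraMap_apply A₀ A₁ B₁, ← IsScalarTower.algebraMap_apply A₁ B₁ S'',
      ← IsScalarTower.algebraMap_apply A₀ A₁ S'']
  haveI : Algebra.IsPushout A₀ A₁ B₀ B₁ := Algebra.IsPushout.symm hp
  haveI : Algebra.IsPushout A₁ E B₁ S'' := inferInstance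
  haveI : Algebra.IsPushout A₀ E B₀ S'' :=
    (Algebra.IsPushout.comp_iff (R := A₀) (S := A₁) (T := E) (R' := B₀) (S' := B₁) (T' := S'')).2 inferInstance
  haveI : Algebra.IsPushout A₀ R B₀ S := inferInstance
  haveI : Algebra.IsPushout R E S S'' :=
    (Algebra.IsPushout.comp_iff (R := A₀) (S := R) (T := E) (R' := B₀) (S' := S) (T' := S'')).1 inferInstance
  let f₂ : N₀ →ₗ[B₀] M'' := ((TensorProduct.mk B₁ S'' N₁ 1).restrictScalars B₀).comp f₁
  have hf₂ : IsBaseChange S'' f₂ := hf₁.comp (TensorProduct.isBaseChange B₁ N₁ S'')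
  let φ := (TensorProduct.isBaseChange B₀ N₀ S).lift f₂
  have hφ : IsBaseChange S'' φ := ((TensorProduct.isBaseChange B₀ N₀ S).comp_iff (T := S'') (h := φ)).1 (by
    rw [show (φ.restrictScalars B₀) ∘ₗ (TensorProduct.mk B₀ S N₀ 1) = f₂ from
      LinearMap.ext fun n => (TensorProduct.isBaseChange B₀ N₀ S).lift_eq f₂ n]
    exact hf₂)
  exact ⟨θ.toRingHom, φ.restrictScalars R, hθ, fun s m => φ.map_smul s m, isBaseChange_restrict_pushout φ hφ⟩

section general

variable {R S M : Type u} [CommRing R] [CommRing S] [Algebra R S] [AddCommGroup M] [Module S M] [Module R M]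
  [IsScalarTower R S M]

/-- Purity at an étale neighbourhood makes a function equal to one along the fibre universally injective off a
function not vanishing at the point. -/
theorem exists_ui_function_of_level {A B A' N : Type u} [CommRing A] [CommRing B] [Algebra A B]
    [Algebra.FinitePresentation A B] [AddCommGroup N] [Module B N] [Module.FinitePresentation B N] [CommRing A']
    [Algebra A A'] [Algebra R A'] (p : Ideal A) [p.IsPrime] (hpure : FlatCA.IsPureAlong A B N p)
    (z : Ideal A') [z.IsPrime] (het : FlatCA.IsEtaleNhd A A' p z) [Module.Flat R M]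
    (θ : S →+* A' ⊗[A] B) (φ : M →ₗ[R] (A' ⊗[A] B) ⊗[B] N) (hφs : ∀ s m, φ (s • m) = θ s • φ m)
    (hφ : IsBaseChange A' φ) (t : S) (ht : θ t - 1 ∈ z.map (algebraMap A' (A' ⊗[A] B))) :
    ∃ h ∉ z, ∀ (EA : Type u) [CommRing EA] [Algebra R EA] (χ : A' →+* EA),
      χ.comp (algebraMap R A') = algebraMap R EA → IsUnit (χ h) →
      ∀ (Y : Type u) [AddCommGroup Y] [Module R Y] [Module EA Y] [IsScalarTower R EA Y],
        Function.Injective (((LinearMap.lsmul S M t).restrictScalars R).lTensor Y) := by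
  let SA := A' ⊗[A] B
  let NA := SA ⊗[B] N
  haveI : Module.Flat A' NA := Module.Flat.of_linearEquiv hφ.equiv.symm
  obtain ⟨h, hh, hkill⟩ := exists_ui_nhd (R := A') (S := SA) (M := NA) z (θ t)
    (ui_near_of_pure N p hpure (TensorProduct.mk B SA N 1) (TensorProduct.isBaseChange B N SA) z het (θ t) ht)
  refine ⟨h, hh, fun EA _ _ χ hχ hu Y _ _ _ _ => ?_⟩
  letI : Module A' Y := Module.compHom Y χ
  haveI : IsScalarTower R A' Y := IsScalarTower.of_algebraMap_smul fun r y => by
    show χ (algebraMap R A' r) • y = r • y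
    rw [← RingHom.comp_apply, hχ, algebraMap_smul]
  let τ'' := (LinearMap.lsmul SA NA (θ t)).restrictScalars A'
  refine (injective_lTensor_iff hφ ((LinearMap.lsmul S M t).restrictScalars R) τ'' (fun m => (hφs t m).symm) Y).1 ?_
  rw [LinearMap.lTensor_inj_iff_rTensor_inj, injective_iff_map_eq_zero]
  intro w hw
  rw [rTensor_lsmul] at hw
  obtain ⟨k, hk⟩ := hkill Y w hw
  obtain ⟨v, hv⟩ := hu.pow k
  let ι : Y →ₗ[A'] Y :=
    { toFun := fun y => (↑v⁻¹ : EA) • y
      map_add' := smul_add _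
      map_smul' := fun a y => smul_comm _ (χ a) y }
  have h1 : ι.lTensor NA (h ^ k • w) = w := by
    clear hk hw
    induction w using TensorProduct.induction_on with
    | zero => simp
    | add a b ha hb => rw [smul_add, map_add, ha, hb]
    | tmul n y =>
      rw [← tmul_smul, LinearMap.lTensor_tmul]
      show n ⊗ₜ[A'] ((↑v⁻¹ : EA) • χ (h ^ k) • y) = _
      rw [map_pow, ← hv, smul_smul, Units.inv_mul, one_smul]
  rw [← h1, hk, map_zero]

/-- Universal injectivity of the multiplication makes the base change projective. -/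
theorem projective_of_ui [Module.Flat R M] [Algebra.FiniteType R S] [Module.Finite S M] (t : S)
    [Module.Projective R (LocalizedModule (Submonoid.powers t) M)] (E : Type u) [CommRing E] [Algebra R E]
    (hui : ∀ (Y : Type u) [AddCommGroup Y] [Module R Y] [Module E Y] [IsScalarTower R E Y],
      Function.Injective (((LinearMap.lsmul S M t).restrictScalars R).lTensor Y)) :
    Module.Projective E (E ⊗[R] M) := by
  let τ := (LinearMap.lsmul S M t).restrictScalars R
  let j := (LocalizedModule.mkLinearMap (Submonoid.powers t) M).restrictScalars R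
  have hk : TKills E (j.baseChange E) (τ.baseChange E) := (tkills_localized t).baseChange
  exact projective_of_tkills hk (fun M' _ _ => by
      rw [← LinearMap.lTensor_inj_iff_rTensor_inj]
      letI : Module R M' := Module.compHom M' (algebraMap R E)
      haveI : IsScalarTower R E M' := IsScalarTower.of_algebraMap_smul fun _ _ => rfl
      exact (injective_lTensor_iff (TensorProduct.isBaseChange R M E) τ (τ.baseChange E) (fun m => rfl) M').2 (hui M'))
    (countablyGenerated_baseChange (countablyGenerated_of_finite R (S := S) M))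

/-- A module whose base change to a flat algebra is projective is pure at the images of its points. -/
theorem isPureAlong_of_projective_baseChange {A₁ B₁ N₁ E : Type u} [CommRing A₁] [CommRing B₁] [Algebra A₁ B₁]
    [Algebra.FiniteType A₁ B₁] [AddCommGroup N₁] [Module B₁ N₁] [Module.Finite B₁ N₁] [CommRing E] [Algebra A₁ E]
    [Module.Flat A₁ E] [Module.Projective E ((E ⊗[A₁] B₁) ⊗[B₁] N₁)] (p : Ideal A₁) [p.IsPrime] (z : Ideal E)
    [z.IsPrime] [z.LiesOver p] : FlatCA.IsPureAlong A₁ B₁ N₁ p := by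
  let S'' := E ⊗[A₁] B₁
  let M'' := S'' ⊗[B₁] N₁
  have hpureE : FlatCA.IsPureAlong E S'' M'' z :=
    fun A' B' N' _ _ _ _ _ _ _ _ _ _ _ _ _ _ f t' t _ _ P _ _ => (Groth.Agent.S9005.result M'') z A' B' N' f t' t P
  haveI : Module.Flat A₁ (Localization.AtPrime z) :=
    haveI : Module.Flat E (Localization.AtPrime z) := IsLocalization.flat _ z.primeCompl
    Module.Flat.trans A₁ E _
  exact (Groth.Agent.S1217.result N₁ p E S'' M'' (TensorProduct.mk B₁ S'' N₁ 1)
    (TensorProduct.isBaseChange B₁ N₁ S'') z).1 hpureE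

end general

variable {A₀ B₀ N₀ : Type u} [CommRing A₀] [CommRing B₀] [Algebra A₀ B₀] [AddCommGroup N₀] [Module B₀ N₀]
  {R : Type u} [CommRing R] [Algebra A₀ R]

local notation "SR" => R ⊗[A₀] B₀
local notation "MR" => (R ⊗[A₀] B₀) ⊗[B₀] N₀

/-- Purity over the colimit makes the multiplication universally injective off a function not vanishing at the
point. -/
theorem exists_ui_function {A B N : Type u} [CommRing A] [Algebra A₀ A] [CommRing B] [Algebra A B] [Algebra B₀ B]
    [Algebra A₀ B] [IsScalarTower A₀ A B] [IsScalarTower A₀ B₀ B] [hp : Algebra.IsPushout A₀ B₀ A B]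
    [Algebra.FinitePresentation A B] [AddCommGroup N] [Module B N] [Module B₀ N] [IsScalarTower B₀ B N]
    [Module.FinitePresentation B N] (f₀ : N₀ →ₗ[B₀] N) (hf₀ : IsBaseChange B f₀)
    (p : Ideal A) [p.IsPrime] (hpure : FlatCA.IsPureAlong A B N p)
    [Algebra.Etale A₀ R] [Module.Flat R MR] (εA : A ⊗[A₀] R →ₐ[A] p.ResidueField) (t : SR)
    (ht : t - 1 ∈ ((RingHom.ker εA).comap (algebraMap R (A ⊗[A₀] R))).map (algebraMap R SR)) :
    ∃ h : A ⊗[A₀] R, εA h ≠ 0 ∧ ∀ (EA : Type u) [CommRing EA] [Algebra R EA] (χ : A ⊗[A₀] R →+* EA),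
      χ.comp (algebraMap R (A ⊗[A₀] R)) = algebraMap R EA → IsUnit (χ h) →
      ∀ (Y : Type u) [AddCommGroup Y] [Module R Y] [Module EA Y] [IsScalarTower R EA Y],
        Function.Injective (((LinearMap.lsmul SR MR t).restrictScalars R).lTensor Y) := by
  let A' := A ⊗[A₀] R
  haveI : (RingHom.ker εA).IsPrime := RingHom.ker_isPrime _
  obtain ⟨θ, φ, hθ, hφs, hφ⟩ := exists_level (A₀ := A₀) (R := R) (A₁ := A) (E := A') f₀ hf₀
  have ht' : θ t - 1 ∈ (RingHom.ker εA).map (algebraMap A' (A' ⊗[A] B)) := by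
    rw [← map_one θ, ← map_sub]
    refine (Ideal.map_le_iff_le_comap.2 fun r hr => ?_ :
      ((RingHom.ker εA).comap (algebraMap R A')).map (algebraMap R SR) ≤
        ((RingHom.ker εA).map (algebraMap A' (A' ⊗[A] B))).comap θ) ht
    rw [Ideal.mem_comap, Ideal.mem_comap, hθ]
    exact Ideal.mem_map_of_mem _ hr
  obtain ⟨h, hh, hui⟩ := exists_ui_function_of_level p hpure (RingHom.ker εA)
    (isEtaleNhd_of_point p εA _ rfl) θ φ hφs hφ t ht'
  exact ⟨h, fun h0 => hh (RingHom.mem_ker.2 h0), hui⟩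

/-- A stage over which the multiplication is universally injective is pure. -/
theorem isPureAlong_of_ui {A₁ E : Type u} [CommRing A₁] [Algebra A₀ A₁] [CommRing E] [Algebra A₀ E] [Algebra R E]
    [Algebra A₁ E] [IsScalarTower A₀ R E] [IsScalarTower A₀ A₁ E] [Module.Flat A₁ E]
    [Algebra.FinitePresentation A₀ B₀] [Module.FinitePresentation B₀ N₀] [Module.Flat R MR] (t : SR)
    [Module.Projective R (LocalizedModule (Submonoid.powers t) MR)]
    (hui : ∀ (Y : Type u) [AddCommGroup Y] [Module R Y] [Module E Y] [IsScalarTower R E Y],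
      Function.Injective (((LinearMap.lsmul SR MR t).restrictScalars R).lTensor Y))
    (p : Ideal A₁) [p.IsPrime] (z : Ideal E) [z.IsPrime] [z.LiesOver p] :
    FlatCA.IsPureAlong A₁ (A₁ ⊗[A₀] B₀) ((A₁ ⊗[A₀] B₀) ⊗[B₀] N₀) p := by
  haveI : Module.Projective E (E ⊗[R] MR) := projective_of_ui (S := SR) t E hui
  let B₁ := A₁ ⊗[A₀] B₀
  let N₁ := B₁ ⊗[B₀] N₀
  obtain ⟨θ, φ, -, -, hφ⟩ := exists_level (A₀ := A₀) (R := R) (A₁ := A₁) (E := E)
    (TensorProduct.mk B₀ B₁ N₀ 1) (TensorProduct.isBaseChange B₀ N₀ B₁)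
  let S'' := E ⊗[A₁] B₁
  let M'' := S'' ⊗[B₁] N₁
  haveI : Module.Projective E M'' := Module.Projective.of_equiv hφ.equiv
  exact isPureAlong_of_projective_baseChange p z

/-- Purity descends to a stage. -/
theorem exists_pure_stage {ι : Type u} [Preorder ι] {G : ι → Type u} [∀ i, CommRing (G i)] [∀ i, Algebra A₀ (G i)]
    (g : ∀ i j, i ≤ j → G i →ₐ[A₀] G j) {A : Type u} [CommRing A] [Algebra A₀ A] [∀ i, Algebra (G i) A]
    [∀ i, IsScalarTower A₀ (G i) A]
    (hcolim : FlatCA.IsDirectedColimitRing G (fun i j h => (g i j h).toRingHom) A)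
    [Module A₀ N₀] [IsScalarTower A₀ B₀ N₀] [Algebra.FinitePresentation A₀ B₀] [Module.FinitePresentation B₀ N₀]
    {B N : Type u} [CommRing B] [Algebra A B] [Algebra B₀ B] [Algebra A₀ B] [IsScalarTower A₀ A B]
    [IsScalarTower A₀ B₀ B] [hp : Algebra.IsPushout A₀ B₀ A B] [Algebra.FinitePresentation A B]
    [AddCommGroup N] [Module B N] [Module B₀ N] [IsScalarTower B₀ B N] [Module.FinitePresentation B N]
    (f₀ : N₀ →ₗ[B₀] N) (hf₀ : IsBaseChange B f₀) (p : Ideal A) [p.IsPrime] (hpure : FlatCA.IsPureAlong A B N p)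
    (f : A₀) (hfp : algebraMap A₀ A f ∉ p)
    (hfl : ∀ (R : Type u) [CommRing R] [Algebra A₀ R], IsUnit (algebraMap A₀ R f) → Module.Flat R (R ⊗[A₀] N₀)) :
    ∃ l, FlatCA.IsPureAlong (G l) (G l ⊗[A₀] B₀) ((G l ⊗[A₀] B₀) ⊗[B₀] N₀) (p.comap (algebraMap (G l) A)) := by
  let p₀ := p.comap (algebraMap A₀ A)
  haveI : p₀.IsPrime := Ideal.comap_isPrime _ _
  obtain ⟨R, _, _, _, ε, t, hu, ht, hproj⟩ := exists_stage_cover_unit (R := A₀) (S := B₀) N₀ p₀
    (fun q _ hq => flatAt_of_unit f (hfl _ (IsLocalization.Away.algebraMap_isUnit f)) q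
      (fun hfq => hfp (hq.over.ge hfq : f ∈ p₀))) f hfp
  haveI : Module.Flat R ((R ⊗[A₀] B₀) ⊗[B₀] N₀) :=
    haveI := hfl R hu
    haveI := flat_rebase (A₀ := A₀) (Gl := R) (B₀ := B₀) (N₀ := N₀) (R := R)
    Module.Flat.of_linearEquiv (TensorProduct.lid R ((R ⊗[A₀] B₀) ⊗[B₀] N₀)).symm
  haveI : p.LiesOver p₀ := ⟨rfl⟩
  let κ₀ : p₀.ResidueField →ₐ[A₀] p.ResidueField := Ideal.ResidueField.mapₐ p₀ p (Algebra.ofId A₀ A) rfl
  let εA : A ⊗[A₀] R →ₐ[A] p.ResidueField :=
    Algebra.TensorProduct.lift (Algebra.ofId A p.ResidueField) (κ₀.comp ε) fun _ _ => .all _ _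
  have ht' : t - 1 ∈ ((RingHom.ker εA).comap (algebraMap R (A ⊗[A₀] R))).map (algebraMap R (R ⊗[A₀] B₀)) := by
    refine Ideal.map_mono (fun r hr => ?_) ht
    rw [Ideal.mem_comap, RingHom.mem_ker]
    show Algebra.TensorProduct.lift _ _ _ ((1 : A) ⊗ₜ[A₀] r) = 0
    rw [Algebra.TensorProduct.lift_tmul, map_one, one_mul, AlgHom.comp_apply, RingHom.mem_ker.1 hr, map_zero]
  obtain ⟨h, hh, hui⟩ := exists_ui_function f₀ hf₀ p hpure εA t ht'
  obtain ⟨i₀⟩ := hcolim.2.1
  obtain ⟨k, -, hk, rfl⟩ := exists_tensor_lift hcolim R h i₀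
  obtain ⟨alg', tow', g', hkl, -, hcolim'⟩ := exists_tail hcolim k
  let P := G k ⊗[A₀] R
  let X := Localization.Away hk
  haveI : Algebra.Etale P X := Algebra.Etale.of_isLocalizationAway hk
  haveI : Algebra.Etale (G k) X := Algebra.Etale.comp (G k) P X
  letI : Algebra R X := ((algebraMap P X).comp (algebraMap R P)).toAlgebra
  obtain ⟨algE, -, towX, halgE, hcolimE⟩ := exists_baseChange_system g' A hcolim' X
  letI algR : ∀ j : Set.Ici k, Algebra R (G j.1 ⊗[G k] X) := fun j =>
    ((algebraMap X (G j.1 ⊗[G k] X)).comp (algebraMap R X)).toAlgebra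
  letI : Algebra R (A ⊗[G k] X) := ((algebraMap X (A ⊗[G k] X)).comp (algebraMap R X)).toAlgebra
  haveI : ∀ j : Set.Ici k, IsScalarTower R (G j.1 ⊗[G k] X) (A ⊗[G k] X) := fun j =>
    IsScalarTower.of_algebraMap_eq fun r => IsScalarTower.algebraMap_apply X (G j.1 ⊗[G k] X) (A ⊗[G k] X) _
  let gE : ∀ i j : Set.Ici k, i ≤ j → G i.1 ⊗[G k] X →ₐ[R] G j.1 ⊗[G k] X := fun i j h =>
    { (Algebra.TensorProduct.map (g' i j h) (AlgHom.id (G k) X)).toRingHom with
      commutes' := fun r => by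
        show Algebra.TensorProduct.map (g' i j h) (AlgHom.id (G k) X) ((1 : G i.1) ⊗ₜ[G k] algebraMap R X r) = _
        rw [Algebra.TensorProduct.map_tmul, map_one, AlgHom.id_apply]
        rfl }
  let χ : A ⊗[A₀] R →+* A ⊗[G k] X := (Algebra.TensorProduct.lift (IsScalarTower.toAlgHom A₀ A (A ⊗[G k] X))
    ({ toRingHom := algebraMap R (A ⊗[G k] X)
       commutes' := fun a => by
        show algebraMap X (A ⊗[G k] X) (algebraMap P X (algebraMap R P (algebraMap A₀ R a))) = _
        rw [← IsScalarTower.algebraMap_apply A₀ R P, IsScalarTower.algebraMap_apply A₀ (G k) P,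
          ← IsScalarTower.algebraMap_apply (G k) P X, ← IsScalarTower.algebraMap_apply (G k) X (A ⊗[G k] X),
          IsScalarTower.algebraMap_apply (G k) A (A ⊗[G k] X), ← IsScalarTower.algebraMap_apply A₀ (G k) A,
          ← IsScalarTower.algebraMap_apply A₀ A (A ⊗[G k] X)] } : R →ₐ[A₀] A ⊗[G k] X) fun _ _ => .all _ _).toRingHom
  have hχk : ∀ x : P, χ (toColim A₀ G A R k x) = algebraMap X (A ⊗[G k] X) (algebraMap P X x) := fun x => by
    induction x using TensorProduct.induction_on with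
    | zero => simp
    | add a b ha hb => simp only [map_add, ha, hb]
    | tmul c r =>
      show Algebra.TensorProduct.lift _ _ _ (algebraMap (G k) A c ⊗ₜ[A₀] r) = _
      rw [Algebra.TensorProduct.lift_tmul]
      show algebraMap A (A ⊗[G k] X) (algebraMap (G k) A c) * algebraMap X (A ⊗[G k] X) (algebraMap P X (algebraMap R P r)) = _
      rw [← IsScalarTower.algebraMap_apply (G k) A (A ⊗[G k] X), IsScalarTower.algebraMap_apply (G k) X (A ⊗[G k] X),
        ← map_mul, IsScalarTower.algebraMap_apply (G k) P X, ← map_mul]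
      congr 2
      show (c ⊗ₜ[A₀] (1 : R)) * ((1 : G k) ⊗ₜ[A₀] r) = _
      rw [Algebra.TensorProduct.tmul_mul_tmul, mul_one, one_mul]
  obtain ⟨l, hl⟩ := exists_ui_stage gE (A ⊗[G k] X) hcolimE t (hui (A ⊗[G k] X) χ (RingHom.ext fun r => by
      show χ ((1 : A) ⊗ₜ[A₀] r) = algebraMap R (A ⊗[G k] X) r
      simp [χ]) (by rw [hχk]; exact (IsLocalization.Away.algebraMap_isUnit hk).map _))
  -- the point of the stage
  let ψk : P →ₐ[G k] p.ResidueField :=
    { toRingHom := εA.toRingHom.comp (Algebra.TensorProduct.map (IsScalarTower.toAlgHom A₀ (G k) A) (AlgHom.id A₀ R)).toRingHom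
      commutes' := fun c => by
        show εA (algebraMap (G k) A c ⊗ₜ[A₀] (1 : R)) = _
        rw [Algebra.TensorProduct.lift_tmul, map_one, mul_one]
        exact (IsScalarTower.algebraMap_apply (G k) A p.ResidueField c).symm }
  have hψk : ∀ x, ψk x = εA (toColim A₀ G A R k x) := fun x => by
    show εA (Algebra.TensorProduct.map _ _ x) = _
    congr 1
  let ψX : X →ₐ[G k] p.ResidueField := IsLocalization.liftAlgHom (M := Submonoid.powers hk) (f := ψk)
    (by
      rintro ⟨_, n, rfl⟩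
      rw [map_pow]
      exact (isUnit_iff_ne_zero.2 (by rw [hψk]; exact hh)).pow n)
  let εE : A ⊗[G k] X →ₐ[A] p.ResidueField :=
    Algebra.TensorProduct.lift (Algebra.ofId A p.ResidueField) ψX fun _ _ => .all _ _
  let E := G l.1 ⊗[G k] X
  let z : Ideal E := RingHom.ker (εE.toRingHom.comp (algebraMap E (A ⊗[G k] X)))
  haveI : z.IsPrime := RingHom.ker_isPrime _
  haveI : z.LiesOver (p.comap (algebraMap (G l.1) A)) := ⟨by
    ext c
    rw [Ideal.mem_comap, Ideal.under_def, Ideal.mem_comap, RingHom.mem_ker]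
    show _ ↔ εE (algebraMap E (A ⊗[G k] X) (c ⊗ₜ[G k] (1 : X))) = 0
    rw [halgE]
    show _ ↔ Algebra.TensorProduct.lift _ _ _ (algebraMap (G l.1) A c ⊗ₜ[G k] (1 : X)) = 0
    rw [Algebra.TensorProduct.lift_tmul, map_one, mul_one]
    exact Ideal.algebraMap_residueField_eq_zero.symm⟩
  haveI : IsScalarTower A₀ (G k) (G l.1) := IsScalarTower.of_algebraMap_eq fun a => by
    rw [hkl l]
    exact ((g k l.1 l.2).commutes a).symm
  haveI : IsScalarTower A₀ (G l.1) E := inferInstance
  haveI : IsScalarTower A₀ R E := IsScalarTower.of_algebraMap_eq (R := A₀) (S := R) (A := E) fun a => by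
    show algebraMap (G l.1) E (algebraMap A₀ (G l.1) a) = algebraMap X E (algebraMap P X (algebraMap R P (algebraMap A₀ R a)))
    rw [← IsScalarTower.algebraMap_apply A₀ R P, IsScalarTower.algebraMap_apply A₀ (G k) P,
      ← IsScalarTower.algebraMap_apply (G k) P X, ← IsScalarTower.algebraMap_apply (G k) X E,
      IsScalarTower.algebraMap_apply (G k) (G l.1) E, ← IsScalarTower.algebraMap_apply A₀ (G k) (G l.1)]
  haveI := hproj
  exact ⟨l.1, isPureAlong_of_ui (R := R) (E := E) t hl (p.comap (algebraMap (G l.1) A)) z⟩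

end Groth.Agent.H4RG
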