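import Groth.Agent.H4RG.DescentTools
import Groth.Agent.H4RG.SpreadGen
import Groth.Agent.H4RG.UISpread
import Groth.Agent.S1201
import Mathlib

/-! A pure module flat along a fibre is flat over a neighbourhood of the point of the base. -/

set_option autoImplicit false
set_option linter.style.haveILetI false
set_option backward.isDefEq.respectTransparency.types false

universe u

open TensorProduct

namespace Groth.Agent.H4RG

attribute [local instance] Algebra.TensorProduct.rightAlgebra

variable {A B : Type u} [CommRing A] [CommRing B] [Algebra A B] (N : Type u) [AddCommGroup N] [Module B N]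
  [Module A N] [IsScalarTower A B N] (p : Ideal A) [p.IsPrime]

theorem flatAt_of_le {q q' : Ideal B} [q.IsPrime] [q'.IsPrime] (h : q' ≤ q) (hq : FlatCA.FlatAt A q N) :
    FlatCA.FlatAt A q' N :=
  (FlatModel.flat_localized_iff q'.primeCompl (LocalizedModule.mkLinearMap q'.primeCompl N)).2 fun J y hy => by
    obtain ⟨u, hu, huy⟩ :=
      (FlatModel.flat_localized_iff q.primeCompl (LocalizedModule.mkLinearMap q.primeCompl N)).1 hq J y hy
    exact ⟨u, fun hu' => hu (h hu'), huy⟩

/-- Purity spreads flatness from the fibre to all points over generalisations. -/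
theorem flatAt_of_pure [Algebra.FiniteType A B] [Module.Finite B N] (hpure : FlatCA.IsPureAlong A B N p)
    (hflat : ∀ (q : Ideal B) [q.IsPrime], q.LiesOver p → FlatCA.FlatAt A q N)
    (Q : Ideal B) [Q.IsPrime] (hQ : Q.comap (algebraMap A B) ≤ p) : FlatCA.FlatAt A Q N := by
  let t' := Q.comap (algebraMap A B)
  haveI : t'.IsPrime := Ideal.comap_isPrime _ _
  haveI : Q.LiesOver t' := ⟨rfl⟩
  refine (Groth.Agent.S1201.result N t' Q).2 fun q' _ hle hover hass => ?_
  by_contra hne
  refine hpure A B N (LinearMap.id : N →ₗ[B] N) t' p q'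
    (isEtaleNhd_of_point p (Algebra.ofId A p.ResidueField) p (Ideal.ker_algebraMap_residueField p))
    ⟨inferInstance, IsBaseChange.ofEquiv (LinearEquiv.refl B N), hQ, ⟨(Ideal.comap_id p).symm⟩, hover, hass,
      fun P' hP' hle' hP'p => hne ?_⟩
  exact flatAt_of_le N hle' (hflat P' hP'p)

/-- A pure module flat along a fibre is flat after inverting some function at the point. -/
theorem exists_flat_unit [Algebra.FinitePresentation A B] [Module.FinitePresentation B N]
    (hpure : FlatCA.IsPureAlong A B N p)
    (hflat : ∀ (q : Ideal B) [q.IsPrime], q.LiesOver p → FlatCA.FlatAt A q N) :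
    ∃ f ∉ p, ∀ (R : Type u) [CommRing R] [Algebra A R], IsUnit (algebraMap A R f) → Module.Flat R (R ⊗[A] N) := by
  obtain ⟨f, hf, hfl⟩ := exists_flat_nhd_of_base (R := A) (S := B) (C := N) p fun J y hy => by
    by_contra hne
    push Not at hne
    let I : Ideal B := (Submodule.span B {y}).annihilator
    obtain ⟨Q, hQ, hIQ, hQd⟩ := Ideal.exists_le_prime_disjoint I (p.primeCompl.map (algebraMap A B))
      (Set.disjoint_left.2 fun x hx hxW => by
        obtain ⟨r, hr, rfl⟩ := hxW
        refine hne r hr ?_
        rw [← algebraMap_smul B r y]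
        exact (Submodule.mem_annihilator_span_singleton _ _).1 hx)
    obtain ⟨u, hu, huy⟩ := (FlatModel.flat_localized_iff Q.primeCompl (LocalizedModule.mkLinearMap Q.primeCompl N)).1
      (flatAt_of_pure N p hpure hflat Q fun a ha => by
        by_contra hap
        exact Set.disjoint_left.1 hQd ha ⟨a, hap, rfl⟩) J y hy
    exact hu (hIQ ((Submodule.mem_annihilator_span_singleton _ _).2 huy))
  let W := Submonoid.powers f
  haveI : Module.Flat A (LocalizedModule W N) :=
    (FlatModel.flat_localized_iff (R := A) (S := A) W (LocalizedModule.mkLinearMap W N)).2 fun J y hy => by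
      obtain ⟨_, ⟨k, rfl⟩, hk⟩ := (FlatModel.flat_localized_iff (Submonoid.powers (algebraMap A B f))
        (LocalizedModule.mkLinearMap _ N)).1 hfl J y hy
      refine ⟨f ^ k, ⟨k, rfl⟩, ?_⟩
      rw [← algebraMap_smul B, map_pow]
      exact hk
  exact ⟨f, hf, fun R _ _ hu => flat_tensor_of_unit (LocalizedModule.mkLinearMap W N) f R hu⟩

end Groth.Agent.H4RG
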