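import Groth.Prelude
import Groth.Agent.H4RG.ImpurityNoeth
import Mathlib

/-!
# Purity is universal over a Noetherian local ring of the base
-/

set_option autoImplicit false
set_option linter.style.haveILetI false
set_option backward.isDefEq.respectTransparency.types false

universe u

open TensorProduct IsLocalRing

namespace Groth.Agent.H4RG

attribute [local instance] Algebra.TensorProduct.rightAlgebra

/-- A finitely generated algebra inside a finite type algebra over a localised base, quasi-finite at a point. -/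
theorem exists_stage_over_base {A : Type u} [CommRing A] (p : Ideal A) [p.IsPrime]
    (X : Type u) [CommRing X] [Algebra A X] [Algebra (Localization.AtPrime p) X] [IsScalarTower A (Localization.AtPrime p) X]
    [Algebra.FiniteType (Localization.AtPrime p) X] (t : Ideal X) [t.IsPrime] [Algebra.QuasiFiniteAt (Localization.AtPrime p) t]
    (F : Finset X) :
    ∃ C : Subalgebra A X, (↑F : Set X) ⊆ (C : Set X) ∧ Algebra.FiniteType A C ∧
      ∃ _ : (t.comap (algebraMap C X)).IsPrime, Algebra.QuasiFiniteAt A (t.comap (algebraMap C X)) := by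
  classical
  let Ap := Localization.AtPrime p
  obtain ⟨G, hG⟩ := (‹Algebra.FiniteType Ap X›).out
  let C : Subalgebra A X := Algebra.adjoin A (↑(F ∪ G) : Set X)
  haveI hC : Algebra.FiniteType A C := (Subalgebra.fg_iff_finiteType C).1 (Subalgebra.fg_adjoin_finset _)
  have hmem : ∀ x : X, ∃ a ∉ p, a • x ∈ C := fun x => by
    have hx : x ∈ Algebra.adjoin Ap (G : Set X) := hG ▸ trivial
    induction hx using Algebra.adjoin_induction with
    | mem y hy => exact ⟨1, p.one_notMem, by
        rw [one_smul]; exact Algebra.subset_adjoin (Finset.mem_union_right _ hy)⟩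
    | algebraMap r =>
      obtain ⟨⟨b, a⟩, hab⟩ := IsLocalization.surj p.primeCompl r
      refine ⟨a, a.2, ?_⟩
      rw [Algebra.smul_def, IsScalarTower.algebraMap_apply A Ap X, ← map_mul, mul_comm, hab, ← IsScalarTower.algebraMap_apply]
      exact C.algebraMap_mem b
    | add y z _ _ hy hz =>
      obtain ⟨a, ha, hay⟩ := hy
      obtain ⟨b, hb, hbz⟩ := hz
      refine ⟨a * b, fun h => ((‹p.IsPrime›).mem_or_mem h).elim ha hb, ?_⟩
      rw [smul_add, mul_comm a b, mul_smul, mul_comm b a, mul_smul]
      exact C.add_mem (C.smul_mem hay b) (C.smul_mem hbz a)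
    | mul y z _ _ hy hz =>
      obtain ⟨a, ha, hay⟩ := hy
      obtain ⟨b, hb, hbz⟩ := hz
      refine ⟨a * b, fun h => ((‹p.IsPrime›).mem_or_mem h).elim ha hb, ?_⟩
      rw [show (a * b) • (y * z) = (a • y) * (b • z) from (smul_mul_smul_comm a y b z).symm]
      exact C.mul_mem hay hbz
  let M := Algebra.algebraMapSubmonoid C p.primeCompl
  have hu : ∀ a : A, a ∉ p → IsUnit (algebraMap A X a) := fun a ha => by
    rw [IsScalarTower.algebraMap_apply A Ap X]
    exact (IsLocalization.map_units Ap (⟨a, ha⟩ : p.primeCompl)).map _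
  haveI : IsLocalization M X := by
    refine (isLocalization_iff M X).2 ⟨?_, fun x => ?_, fun {x y} h => ⟨1, by rw [Subtype.val_injective h]⟩⟩
    · rintro ⟨_, a, ha, rfl⟩
      rw [← IsScalarTower.algebraMap_apply A C X]
      exact hu a ha
    · obtain ⟨a, ha, hax⟩ := hmem x
      refine ⟨(⟨a • x, hax⟩, ⟨algebraMap A C a, a, ha, rfl⟩), ?_⟩
      show x * algebraMap C X (algebraMap A C a) = a • x
      rw [← IsScalarTower.algebraMap_apply A C X, Algebra.smul_def, mul_comm]
  let t0 := t.comap (algebraMap C X)
  haveI : t0.IsPrime := Ideal.comap_isPrime _ _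
  refine ⟨C, fun y hy => Algebra.subset_adjoin (Finset.mem_union_left _ hy), hC, inferInstance, ?_⟩
  let Xt := Localization.AtPrime t
  haveI : IsLocalization.AtPrime Xt t0 := IsLocalization.isLocalization_isLocalization_atPrime_isLocalization M Xt t
  let e : Localization.AtPrime t0 ≃ₐ[C] Xt := IsLocalization.algEquiv t0.primeCompl _ _
  haveI : Algebra.QuasiFinite A Xt := Algebra.QuasiFinite.trans A Ap Xt
  exact (Algebra.QuasiFinite.iff_of_algEquiv (e.restrictScalars A)).2 inferInstance

/-- Over a Noetherian algebra of the base an impurity of the base change gives a quasi-finite one. -/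
theorem hasImpurity_quasiFinite_descend {A B : Type u} [CommRing A] [CommRing B] [Algebra A B] [Algebra.FiniteType A B]
    {N : Type u} [AddCommGroup N] [Module B N] {p : Ideal A} [p.IsPrime]
    {R BR NR : Type u} [CommRing R] [IsNoetherianRing R] [CommRing BR] [Algebra A R] [Algebra B BR] [Algebra R BR]
    [Algebra A BR] [IsScalarTower A B BR] [IsScalarTower A R BR] [Algebra.IsPushout A B R BR] [Algebra.FiniteType R BR]
    [AddCommGroup NR] [Module BR NR] [Module B NR] [IsScalarTower B BR NR] [Module.Finite BR NR] {g : N →ₗ[B] NR}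
    (hg : IsBaseChange BR g) {r : Ideal R} [r.IsPrime] [r.LiesOver p]
    {A1 B1 N1 : Type u} [CommRing A1] [CommRing B1] [Algebra R A1] [Algebra BR B1] [Algebra A1 B1] [Algebra R B1]
    [IsScalarTower R BR B1] [IsScalarTower R A1 B1] [AddCommGroup N1] [Module B1 N1] [Module BR N1]
    [IsScalarTower BR B1 N1] [Module A1 N1] [IsScalarTower A1 B1 N1] {f : NR →ₗ[BR] N1} {u' u : Ideal A1} [u'.IsPrime]
    [u.IsPrime] {P : Ideal B1} [P.IsPrime] (himp : FlatCA.IsImpurity R BR NR r A1 B1 N1 f u' u P) :
    FlatCA.HasImpurity A B N p (fun Y [CommRing Y] [Algebra A Y] T => ∃ (_ : Algebra R Y) (_ : IsScalarTower A R Y)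
      (_ : T.IsPrime), Algebra.FiniteType R Y ∧ Algebra.QuasiFiniteAt R T) := by
  obtain ⟨X, BX, NX, _, _, _, _, _, _, _, _, _, _, _, _, _, _, fX, v', v, _, _, PX, _, himpX, _, hft, hqf⟩ :=
    hasImpurity_quasiFinite_of_noetherian himp
  haveI := hft
  haveI := hqf
  letI : Algebra A X := ((algebraMap R X).comp (algebraMap A R)).toAlgebra
  haveI : IsScalarTower A R X := IsScalarTower.of_algebraMap_eq fun _ => rfl
  have hQ : ∃ (_ : Algebra R X) (_ : IsScalarTower A R X) (_ : v.IsPrime),
      Algebra.FiniteType R X ∧ Algebra.QuasiFiniteAt R v :=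
    ⟨inferInstance, inferInstance, inferInstance, inferInstance, inferInstance⟩
  exact isImpurity_of_baseChange (p := p) hg himpX
    (fun Y [CommRing Y] [Algebra A Y] T => ∃ (_ : Algebra R Y) (_ : IsScalarTower A R Y) (_ : T.IsPrime),
      Algebra.FiniteType R Y ∧ Algebra.QuasiFiniteAt R T) hQ

/-- An impurity over an algebra gives one of the localised module over an algebra of the local ring of the base. -/
theorem hasImpurity_localised_base {A B : Type u} [CommRing A] [CommRing B] [Algebra A B] [Algebra.FiniteType A B]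
    {N : Type u} [AddCommGroup N] [Module B N] {p : Ideal A} [p.IsPrime]
    {A' B' N' : Type u} [CommRing A'] [CommRing B'] [Algebra A A'] [Algebra B B'] [Algebra A' B'] [Algebra A B']
    [IsScalarTower A B B'] [IsScalarTower A A' B'] [AddCommGroup N'] [Module B' N'] [Module B N'] [IsScalarTower B B' N']
    [Module A' N'] [IsScalarTower A' B' N'] {f : N →ₗ[B] N'} {t' t : Ideal A'} [t'.IsPrime] [t.IsPrime]
    {P : Ideal B'} [P.IsPrime] (himp : FlatCA.IsImpurity A B N p A' B' N' f t' t P)
    (Bp Np : Type u) [CommRing Bp] [Algebra A Bp] [Algebra B Bp] [Algebra (Localization.AtPrime p) Bp] [IsScalarTower A B Bp]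
    [IsScalarTower A (Localization.AtPrime p) Bp] [Algebra.IsPushout A B (Localization.AtPrime p) Bp]
    [AddCommGroup Np] [Module Bp Np] [Module B Np] [IsScalarTower B Bp Np] (g : N →ₗ[B] Np) (hg : IsBaseChange Bp g) :
    FlatCA.HasImpurity (Localization.AtPrime p) Bp Np (maximalIdeal (Localization.AtPrime p)) (fun _ _ _ _ => True) := by
  let Ap := Localization.AtPrime p
  let M' := Algebra.algebraMapSubmonoid A' p.primeCompl
  let C := Localization M'
  haveI htp : t.LiesOver p := himp.2.2.2.1
  have hd : ∀ w : Ideal A', w ≤ t → Disjoint (M' : Set A') w := fun w hw => Set.disjoint_left.2 fun y hy hyw => by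
    obtain ⟨a, ha, rfl⟩ := hy
    exact ha (htp.over.ge (hw hyw))
  haveI : (t'.map (algebraMap A' C)).IsPrime :=
    IsLocalization.isPrime_of_isPrime_disjoint M' C t' ‹_› (hd t' himp.2.2.1)
  haveI : (t.map (algebraMap A' C)).IsPrime := IsLocalization.isPrime_of_isPrime_disjoint M' C t ‹_› (hd t le_rfl)
  have h3 : (t'.map (algebraMap A' C)).comap (algebraMap A' C) = t' :=
    IsLocalization.under_map_of_isPrime_disjoint M' C (I := t') ‹_› (hd t' himp.2.2.1)
  have h2 : (t.map (algebraMap A' C)).comap (algebraMap A' C) = t :=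
    IsLocalization.under_map_of_isPrime_disjoint M' C (I := t) ‹_› (hd t le_rfl)
  obtain ⟨P2, hP2, himp2⟩ := exists_impurity_baseChange himp C (t'.map (algebraMap A' C)) (t.map (algebraMap A' C))
    (Ideal.map_mono himp.2.2.1) h2 h3
  letI : Algebra Ap C := (IsLocalization.lift (S := Ap) (M := p.primeCompl) (g := algebraMap A C) fun a => by
    rw [IsScalarTower.algebraMap_apply A A' C]
    exact IsLocalization.map_units C (⟨algebraMap A A' a, a, a.2, rfl⟩ : M')).toAlgebra
  haveI : IsScalarTower A Ap C := IsScalarTower.of_algebraMap_eq fun a => (IsLocalization.lift_eq _ a).symm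
  have hmax : (t.map (algebraMap A' C)).comap (algebraMap Ap C) = maximalIdeal Ap := by
    have h4 : ((t.map (algebraMap A' C)).comap (algebraMap Ap C)).comap (algebraMap A Ap) = p := by
      rw [Ideal.comap_comap, ← IsScalarTower.algebraMap_eq, IsScalarTower.algebraMap_eq A A' C, ← Ideal.comap_comap, h2]
      exact htp.over.symm
    calc (t.map (algebraMap A' C)).comap (algebraMap Ap C)
        = (((t.map (algebraMap A' C)).comap (algebraMap Ap C)).comap (algebraMap A Ap)).map (algebraMap A Ap) :=
          (IsLocalization.map_under p.primeCompl Ap _).symm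
      _ = p.map (algebraMap A Ap) := by rw [h4]
      _ = maximalIdeal Ap := IsLocalization.AtPrime.map_eq_maximalIdeal p Ap
  exact exists_impurity_of_baseChange Ap Bp Np g hg (maximalIdeal Ap)
      C (t'.map (algebraMap A' C)) (t.map (algebraMap A' C)) hmax P2 himp2 (fun _ _ _ _ => True) trivial

/-- A model of the localised base change. -/
theorem exists_localised_model {A B : Type u} [CommRing A] [CommRing B] [Algebra A B] [Algebra.FiniteType A B]
    (N : Type u) [AddCommGroup N] [Module B N] [Module.Finite B N] (p : Ideal A) [p.IsPrime] :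
    ∃ (Bp Np : Type u) (_ : CommRing Bp) (_ : Algebra A Bp) (_ : Algebra B Bp) (_ : Algebra (Localization.AtPrime p) Bp)
      (_ : IsScalarTower A B Bp) (_ : IsScalarTower A (Localization.AtPrime p) Bp)
      (_ : Algebra.IsPushout A B (Localization.AtPrime p) Bp) (_ : Algebra.FiniteType (Localization.AtPrime p) Bp)
      (_ : AddCommGroup Np) (_ : Module Bp Np) (_ : Module B Np) (_ : IsScalarTower B Bp Np) (_ : Module.Finite Bp Np)
      (g : N →ₗ[B] Np), IsBaseChange Bp g :=
  ⟨Localization.AtPrime p ⊗[A] B, (Localization.AtPrime p ⊗[A] B) ⊗[B] N, inferInstance, inferInstance, inferInstance,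
    inferInstance, inferInstance, inferInstance, Algebra.IsPushout.symm inferInstance, inferInstance, inferInstance,
    inferInstance, inferInstance, inferInstance, inferInstance,
    TensorProduct.mk B (Localization.AtPrime p ⊗[A] B) N 1, TensorProduct.isBaseChange B N (Localization.AtPrime p ⊗[A] B)⟩

/-- Over a base whose local ring at the point is Noetherian purity is universal. -/
theorem isUnivPureAlong_of_noetherian {A B : Type u} [CommRing A] [CommRing B] [Algebra A B] [Algebra.FiniteType A B]
    (N : Type u) [AddCommGroup N] [Module B N] [Module.Finite B N] (p : Ideal A) [p.IsPrime]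
    [IsNoetherianRing (Localization.AtPrime p)] (hpure : FlatCA.IsPureAlong A B N p) : FlatCA.IsUnivPureAlong A B N p := by
  intro A' B' N' _ _ _ _ _ _ _ _ _ _ _ _ _ _ f t' t _ _ P _ himp
  obtain ⟨Bp, Np, _, _, _, _, _, _, _, _, _, _, _, _, _, g, hg⟩ := exists_localised_model (A := A) (B := B) N p
  obtain ⟨A3, B3, N3, _, _, _, _, _, _, _, _, _, _, _, _, _, _, f3, u', u, _, _, P3, _, himp3, -⟩ :=
    hasImpurity_localised_base himp Bp Np g hg
  haveI : (maximalIdeal (Localization.AtPrime p)).LiesOver p :=
    ⟨(IsLocalization.AtPrime.under_maximalIdeal (Localization.AtPrime p) p).symm⟩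
  obtain ⟨X4, B4, N4, _, _, _, _, _, _, _, _, _, _, _, _, _, _, f4, w', w, _, _, P4, _, himp4, _, _, _, hft4, hqf4⟩ :=
    hasImpurity_quasiFinite_descend (p := p) hg himp3
  haveI := hft4
  haveI := hqf4
  obtain ⟨F, hF⟩ := exists_impurity_down himp4
  obtain ⟨S, hFS, hfS, _, hqS⟩ := exists_stage_over_base p X4 w F
  haveI := hfS
  haveI := hqS
  obtain ⟨P0, _, s, himp0, -, -⟩ := hF S fun a ha => ⟨⟨a, hFS ha⟩, rfl⟩
  obtain ⟨A5, B5, N5, _, _, _, _, _, _, _, _, _, _, _, _, _, _, f5, x', x, _, _, P5, _, himp5, _, het5⟩ :=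
    hasImpurity_etale himp0
  exact hpure A5 B5 N5 f5 x' x P5 het5 himp5

end Groth.Agent.H4RG
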