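import Groth.Prelude
import Groth.Agent.CAlgOdd.LocalDimSpec
import Groth.Agent.H9KaehlerGen.Basic
import Mathlib

/-! A quasi-finite map to affine space at a point, with purely transcendental residue field at the image. -/

set_option autoImplicit false
set_option linter.style.haveILetI false
set_option backward.isDefEq.respectTransparency.types false

universe u

open TensorProduct

namespace Groth.Agent.H4RG

/-- A point of a finite type spectrum over a field is cut out, up to finitely many elements, by a transcendence basis. -/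
theorem exists_basis_and_height {k F : Type u} [Field k] [CommRing F] [Algebra k F] [Algebra.FiniteType k F]
    (Q : PrimeSpectrum F) (n : ℕ) (hn : FlatMor.localDim (PrimeSpectrum F) Q ≤ n) :
    ∃ r d : ℕ, r + d ≤ n ∧ Algebra.trdeg k Q.asIdeal.ResidueField = r ∧ Q.asIdeal.height = d := by
  obtain ⟨r, hr, ht⟩ := VarDim.exists_dim_eq_trdeg k (F ⧸ Q.asIdeal)
  have hco' : Order.coheight Q = r := by
    have hco : (Order.coheight Q : WithBot ℕ∞) = r := by
      rw [← hr, ringKrullDim_quotient, Order.coheight_eq_krullDim_Ici]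
      refine Order.krullDim_eq_of_orderIso (OrderIso.setCongr _ _ ?_)
      ext y
      exact Iff.rfl
    exact_mod_cast hco
  have h := CAlgOdd.LocalDimSpec.localDim_eq_add k Q
  rw [hco', ← PrimeSpectrum.height_eq_orderHeight Q] at h
  rw [h] at hn
  have hle : Q.asIdeal.height + (r : ℕ∞) ≤ n := by exact_mod_cast hn
  obtain ⟨d, hd⟩ := ENat.ne_top_iff_exists.1 (show Q.asIdeal.height ≠ ⊤ from fun h' => by simp [h'] at hle)
  refine ⟨r, d, ?_, ?_, hd.symm⟩
  · rw [← hd] at hle
    have : d + r ≤ n := by exact_mod_cast hle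
    omega
  · haveI : Algebra.IsAlgebraic (F ⧸ Q.asIdeal) Q.asIdeal.ResidueField :=
      IsLocalization.isAlgebraic (R := F ⧸ Q.asIdeal) (S := Q.asIdeal.ResidueField) (nonZeroDivisors (F ⧸ Q.asIdeal))
    haveI : FaithfulSMul (F ⧸ Q.asIdeal) Q.asIdeal.ResidueField :=
      (faithfulSMul_iff_algebraMap_injective _ _).2 (IsFractionRing.injective _ _)
    have h := lift_trdeg_add_eq k (F ⧸ Q.asIdeal) Q.asIdeal.ResidueField
    rw [trdeg_eq_zero (R := F ⧸ Q.asIdeal), Cardinal.lift_zero, add_zero, ht] at h
    simpa using h.symm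

variable {R C : Type u} [CommRing R] [CommRing C] [Algebra R C]

/-- A transcendence basis of the residue field of a point of a fibre can be chosen among the images of the algebra. -/
theorem exists_basis_from_algebra (p : Ideal R) [p.IsPrime] (Q : Ideal (p.Fiber C)) [Q.IsPrime] (r : ℕ)
    (hr : Algebra.trdeg p.ResidueField Q.ResidueField = r) :
    ∃ z : Fin r → C, IsTranscendenceBasis p.ResidueField
      fun i => algebraMap (p.Fiber C) Q.ResidueField ((1 : p.ResidueField) ⊗ₜ[R] z i) := by
  classical
  have hcomp : algebraMap p.ResidueField Q.ResidueField =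
      (algebraMap (p.Fiber C) Q.ResidueField).comp (algebraMap p.ResidueField (p.Fiber C)) := by
    ext r
    show algebraMap p.ResidueField Q.ResidueField (algebraMap R p.ResidueField r) =
      algebraMap (p.Fiber C) Q.ResidueField (algebraMap p.ResidueField (p.Fiber C) (algebraMap R p.ResidueField r))
    rw [← IsScalarTower.algebraMap_apply R p.ResidueField Q.ResidueField,
      ← IsScalarTower.algebraMap_apply R p.ResidueField (p.Fiber C),
      ← IsScalarTower.algebraMap_apply R (p.Fiber C) Q.ResidueField]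
  haveI : IsScalarTower p.ResidueField (p.Fiber C) Q.ResidueField :=
    @IsScalarTower.of_algebraMap_eq p.ResidueField (p.Fiber C) Q.ResidueField _ _ _ _ _ _
      fun x => RingHom.congr_fun hcomp x
  haveI : FaithfulSMul p.ResidueField Q.ResidueField :=
    (faithfulSMul_iff_algebraMap_injective p.ResidueField Q.ResidueField).2 (RingHom.injective _)
  let s : Set Q.ResidueField := Set.range fun c : C => algebraMap (p.Fiber C) Q.ResidueField ((1 : p.ResidueField) ⊗ₜ[R] c)
  have hmem : ∀ f : p.Fiber C, algebraMap (p.Fiber C) Q.ResidueField f ∈ Algebra.adjoin p.ResidueField s := fun f => by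
    induction f using TensorProduct.induction_on with
    | zero => rw [map_zero]; exact zero_mem _
    | add a b ha hb => rw [map_add]; exact add_mem ha hb
    | tmul a c =>
      rw [show a ⊗ₜ[R] c = algebraMap p.ResidueField (p.Fiber C) a * ((1 : p.ResidueField) ⊗ₜ[R] c) from by
        rw [Algebra.TensorProduct.algebraMap_apply, Algebra.TensorProduct.tmul_mul_tmul, mul_one, one_mul]
        rfl, map_mul, ← IsScalarTower.algebraMap_apply]
      exact mul_mem (Subalgebra.algebraMap_mem _ a) (Algebra.subset_adjoin ⟨c, rfl⟩)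
  haveI : Algebra.IsAlgebraic (Algebra.adjoin p.ResidueField s) Q.ResidueField := ⟨fun x => by
    obtain ⟨a, b, -, rfl⟩ := IsFractionRing.div_surjective (A := p.Fiber C ⧸ Q) x
    obtain ⟨a, rfl⟩ := Ideal.Quotient.mk_surjective a
    obtain ⟨b, rfl⟩ := Ideal.Quotient.mk_surjective b
    rw [Ideal.algebraMap_quotient_residueField_mk, Ideal.algebraMap_quotient_residueField_mk, div_eq_mul_inv]
    exact (isAlgebraic_algebraMap (⟨_, hmem a⟩ : Algebra.adjoin p.ResidueField s)).mul
      (isAlgebraic_algebraMap (⟨_, hmem b⟩ : Algebra.adjoin p.ResidueField s)).inv⟩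
  obtain ⟨t, hts, ht⟩ := exists_isTranscendenceBasis_subset (R := p.ResidueField) s
  have hcard : Cardinal.mk t = r := by rw [ht.cardinalMk_eq_trdeg, hr]
  let e : Fin r ≃ t := (Cardinal.mk_eq_nat_iff.1 hcard).some.symm
  choose z hz using fun i : Fin r => hts (e i).2
  refine ⟨z, ?_⟩
  rw [show (fun i => algebraMap (p.Fiber C) Q.ResidueField ((1 : p.ResidueField) ⊗ₜ[R] z i)) = (Subtype.val : t → Q.ResidueField) ∘ e from funext hz]
  exact ht.comp_equiv e

/-- Finitely many elements of the algebra cut out a point of a fibre up to the height. -/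
theorem exists_parameters [Algebra.FiniteType R C] (p : Ideal R) [p.IsPrime] (Q : Ideal (p.Fiber C)) [Q.IsPrime] (d : ℕ)
    (hd : Q.height = d) :
    ∃ u : Fin d → C, (∀ j, (1 : p.ResidueField) ⊗ₜ[R] u j ∈ Q) ∧
      ∀ P : Ideal (p.Fiber C), P.IsPrime → P ≤ Q → (∀ j, (1 : p.ResidueField) ⊗ₜ[R] u j ∈ P) → P = Q := by
  classical
  haveI : IsNoetherianRing (p.Fiber C) := Algebra.FiniteType.isNoetherianRing p.ResidueField (p.Fiber C)
  obtain ⟨s, hs, hcard⟩ := Ideal.exists_finset_card_eq_height_of_isNoetherianRing Q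
  rw [hd] at hcard
  have hcard' : s.card = d := by exact_mod_cast hcard
  let e : Fin d ≃ s := (s.equivFinOfCardEq hcard').symm
  choose a ha c hc using fun j : Fin d => Ideal.Fiber.exists_smul_eq_one_tmul p (e j : p.Fiber C)
  have key : ∀ (P : Ideal (p.Fiber C)), P.IsPrime → ∀ j, ((1 : p.ResidueField) ⊗ₜ[R] c j ∈ P ↔ (e j : p.Fiber C) ∈ P) := by
    intro P hP j
    rw [← hc j, Algebra.smul_def, IsScalarTower.algebraMap_apply R p.ResidueField (p.Fiber C)]
    refine Ideal.unit_mul_mem_iff_mem P ((Ne.isUnit ?_).map _)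
    simpa using ha j
  refine ⟨c, fun j => (key Q inferInstance j).2 (hs.1.2 (Ideal.subset_span (e j).2)), fun P hP hPQ hP' => ?_⟩
  refine le_antisymm hPQ (hs.2 ⟨hP, Ideal.span_le.2 fun f hf => ?_⟩ hPQ)
  have := (key P hP (e.symm ⟨f, hf⟩)).1 (hP' _)
  rwa [Equiv.apply_symm_apply] at this

end Groth.Agent.H4RG
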