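import Mathlib.RingTheory.ZariskisMainTheorem
import Mathlib.RingTheory.Ideal.KrullsHeightTheorem
import Mathlib.RingTheory.EssentialFiniteness
import Mathlib.RingTheory.LocalRing.ResidueField.Basic

/-!
# Quasi-finite quotients of local algebras essentially of finite type
-/

universe u

open IsLocalRing

namespace Groth.Agent.H4RG

/-- In a Noetherian local domain, if every nonzero prime contains a fixed nonzero element,
then the maximal ideal is the only nonzero prime. -/
theorem eq_maximalIdeal_of_forall_mem {D : Type u} [CommRing D] [IsDomain D] [IsNoetherianRing D]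
    [IsLocalRing D] {h : D} (hh : h ≠ 0) (H : ∀ P : Ideal D, P.IsPrime → P ≠ ⊥ → h ∈ P)
    (P : Ideal D) [P.IsPrime] (hP : P ≠ ⊥) : P = maximalIdeal D := by
  by_contra hne
  have hlt : P < maximalIdeal D := lt_of_le_of_ne (le_maximalIdeal (Ideal.IsPrime.ne_top ‹_›)) hne
  let S := (Ideal.span {h}).minimalPrimes
  have hfin : S.Finite := Ideal.finite_minimalPrimes_of_isNoetherianRing _ _
  have hnot : ¬ ((maximalIdeal D : Ideal D) : Set D) ⊆ ⋃ Q ∈ (hfin.toFinset : Set (Ideal D)), (Q : Set D) := by
    intro hsub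
    obtain ⟨Q, hQ, hle⟩ := (Ideal.subset_union_prime (s := hfin.toFinset) (f := fun Q => Q) P P
      (fun Q hQ _ _ => (hfin.mem_toFinset.1 hQ).1.1)).1 hsub
    have hQP : Q.IsPrime := (hfin.mem_toFinset.1 hQ).1.1
    have hQm : Q = maximalIdeal D := le_antisymm (le_maximalIdeal hQP.ne_top) hle
    have hspan : Ideal.span {h} ≤ P := by rw [Ideal.span_singleton_le_iff_mem]; exact H P ‹_› hP
    exact hlt.not_ge (hQm ▸ (hfin.mem_toFinset.1 hQ).2 ⟨‹_›, hspan⟩ (hQm ▸ hlt.le))
  obtain ⟨g, hgm, hg⟩ := Set.not_subset.1 hnot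
  simp only [Set.mem_iUnion, SetLike.mem_coe, Set.Finite.mem_toFinset, exists_prop, not_exists,
    not_and] at hg
  have hg0 : g ≠ 0 := by
    rintro rfl
    obtain ⟨Q, hQ⟩ := Ideal.nonempty_minimalPrimes (I := Ideal.span {h}) (by
      intro htop
      exact (‹P.IsPrime›).ne_top (eq_top_iff.2 (htop ▸ (Ideal.span_singleton_le_iff_mem _).2 (H P ‹_› hP))))
    exact hg Q hQ (Submodule.zero_mem _)
  obtain ⟨P', hP'⟩ := Ideal.nonempty_minimalPrimes (I := Ideal.span {g}) (by
    intro htop
    exact (maximalIdeal.isMaximal D).ne_top (eq_top_iff.2 (htop ▸ (Ideal.span_singleton_le_iff_mem _).2 hgm)))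
  haveI : P'.IsPrime := hP'.1.1
  have hgP' : g ∈ P' := hP'.1.2 (Ideal.mem_span_singleton_self g)
  have hP'0 : P' ≠ ⊥ := fun e => hg0 (by simpa [e] using hgP')
  obtain ⟨Q, hQ, hQP'⟩ := Ideal.exists_minimalPrimes_le
    ((Ideal.span_singleton_le_iff_mem (I := P')).2 (H P' inferInstance hP'0))
  haveI : Q.IsPrime := hQ.1.1
  have hQ0 : Q ≠ ⊥ := fun e => hh (by simpa [e] using hQ.1.2 (Ideal.mem_span_singleton_self h))
  have hlt' : Q < P' := lt_of_le_of_ne hQP' (fun e => hg Q hQ (e ▸ hgP'))
  have h1 : P'.height ≤ 1 := by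
    haveI : Submodule.IsPrincipal (Ideal.span {g}) := ⟨⟨g, rfl⟩⟩
    exact Ideal.height_le_one_of_isPrincipal_of_mem_minimalPrimes (Ideal.span {g}) P' hP'
  have h2 : Q.height < P'.height := Ideal.height_strict_mono_of_isPrime hlt'
  have h3 : (⊥ : Ideal D).height < Q.height :=
    Ideal.height_strict_mono_of_isPrime (bot_lt_iff_ne_bot.2 hQ0)
  have h4 : Q.height = 0 := ENat.lt_one_iff_eq_zero.1 (h2.trans_le h1)
  rw [h4] at h3
  exact not_lt_bot h3

/-- A local algebra essentially of finite type with finite residue extension whose closed fibre has a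
single prime is quasi-finite. -/
theorem quasiFinite_of_isolated {A D : Type u} [CommRing A] [CommRing D] [IsLocalRing A] [IsLocalRing D]
    [IsNoetherianRing A] [Algebra A D] [IsLocalHom (algebraMap A D)] [Algebra.EssFiniteType A D]
    [Module.Finite (ResidueField A) (ResidueField D)]
    (H : ∀ P : Ideal D, P.IsPrime → (maximalIdeal A).map (algebraMap A D) ≤ P → P = maximalIdeal D) :
    Algebra.QuasiFinite A D := by
  haveI : IsNoetherianRing D := Algebra.EssFiniteType.isNoetherianRing A D
  let I := (maximalIdeal A).map (algebraMap A D)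
  have hI : I ≤ maximalIdeal D := ((local_hom_TFAE (algebraMap A D)).out 0 2).1 ‹_›
  haveI : Module.Finite A (ResidueField A) :=
    Module.Finite.of_surjective (Algebra.linearMap A (ResidueField A)) residue_surjective
  haveI : Module.Finite A (ResidueField D) := Module.Finite.trans (ResidueField A) _
  let g : (D ⧸ I) →ₐ[A] ResidueField D := Ideal.Quotient.liftₐ I (IsScalarTower.toAlgHom A D _)
    (fun a ha => by
      show algebraMap D (ResidueField D) a = 0
      rw [ResidueField.algebraMap_eq, residue_eq_zero_iff]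
      exact hI ha)
  have hg : Function.Surjective g := fun x => by
    obtain ⟨d, rfl⟩ := residue_surjective (R := D) x
    exact ⟨Ideal.Quotient.mk I d, rfl⟩
  haveI : Module.Finite A (D ⧸ I) := by
    refine Module.finite_of_surjective_of_ker_le_nilradical g hg ?_ (IsNoetherian.noetherian _)
    intro x hx
    obtain ⟨d, rfl⟩ := Ideal.Quotient.mk_surjective x
    have hd : d ∈ maximalIdeal D := (residue_eq_zero_iff d).1 hx
    rw [nilradical_eq_sInf, Ideal.mem_sInf]
    intro P hP
    have : (P.comap (Ideal.Quotient.mk I)).IsPrime := Ideal.IsPrime.comap (hK := hP) _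
    have h2 := H _ this (fun a ha => by
      rw [Ideal.mem_comap, Ideal.Quotient.eq_zero_iff_mem.2 ha]; exact zero_mem P)
    rw [← h2] at hd
    exact hd
  let C := Algebra.EssFiniteType.subalgebra A D
  let P : Ideal C := (maximalIdeal D).comap (algebraMap C D)
  have hM : Algebra.EssFiniteType.submonoid A D = P.primeCompl := by
    ext x
    simp [P, Algebra.EssFiniteType.submonoid, IsUnit.mem_submonoid_iff]
  haveI : IsLocalization.AtPrime D P :=
    show IsLocalization P.primeCompl D by rw [← hM]; infer_instance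
  let e : Localization.AtPrime P ≃ₐ[A] D :=
    (IsLocalization.algEquiv P.primeCompl (Localization.AtPrime P) D).restrictScalars A
  have hP : P.under A = maximalIdeal A := by
    rw [Ideal.under, Ideal.comap_comap, ← IsScalarTower.algebraMap_eq]
    exact ((local_hom_TFAE (algebraMap A D)).out 0 4).1 ‹_›
  haveI : Algebra.WeaklyQuasiFiniteAt A P := by
    rw [Algebra.weaklyQuasiFiniteAt_iff, hP]
    refine (Algebra.QuasiFinite.iff_of_algEquiv (Ideal.quotientEquivAlg _ I e ?_)).2 inferInstance
    change I = Ideal.map (e.toAlgHom.toRingHom) _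
    rw [Ideal.map_map, AlgHom.toRingHom_eq_coe, AlgHom.comp_algebraMap]
  haveI : Algebra.QuasiFiniteAt A P := Algebra.QuasiFiniteAt.of_weaklyQuasiFiniteAt P
  exact (Algebra.QuasiFinite.iff_of_algEquiv e).1 ‹_›

/-- An open set of `Spec B` meeting the punctured closed fibre complement contains a prime
with quasi-finite quotient. -/
theorem exists_prime_quasiFinite_quotient {A B : Type u} [CommRing A] [CommRing B] [IsLocalRing A]
    [IsLocalRing B] [IsNoetherianRing A] [Algebra A B] [IsLocalHom (algebraMap A B)]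
    [Algebra.EssFiniteType A B] [Module.Finite (ResidueField A) (ResidueField B)]
    (V : Set (PrimeSpectrum B)) (hV : IsOpen V)
    (hne : ∃ q ∈ V, q.asIdeal.comap (algebraMap A B) ≠ maximalIdeal A) :
    ∃ q ∈ V, q.asIdeal.comap (algebraMap A B) ≠ maximalIdeal A ∧
      Algebra.QuasiFinite A (B ⧸ q.asIdeal) := by
  haveI : IsNoetherianRing B := Algebra.EssFiniteType.isNoetherianRing A B
  obtain ⟨q₀, hq₀V, hq₀⟩ := hne
  obtain ⟨a, ham, haq⟩ : ∃ a ∈ maximalIdeal A, algebraMap A B a ∉ q₀.asIdeal := by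
    by_contra! hcon
    exact hq₀ ((le_maximalIdeal (Ideal.IsPrime.ne_top inferInstance)).antisymm
      (fun a ha => hcon a ha))
  obtain ⟨_, ⟨b, rfl⟩, hqb, hbV⟩ :=
    PrimeSpectrum.isTopologicalBasis_basic_opens.exists_subset_of_mem_open hq₀V hV
  obtain ⟨P, ⟨hP, hPh⟩, hmax⟩ := set_has_maximal_iff_noetherian.2 ‹IsNoetherianRing B›
    {P : Ideal B | P.IsPrime ∧ algebraMap A B a * b ∉ P}
    ⟨q₀.asIdeal, inferInstance, fun h => (Ideal.IsPrime.mem_or_mem inferInstance h).elim haq hqb⟩
  have hbP : b ∉ P := fun h => hPh (Ideal.mul_mem_left _ _ h)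
  have haP : algebraMap A B a ∉ P := fun h => hPh (Ideal.mul_mem_right _ _ h)
  refine ⟨⟨P, hP⟩, hbV hbP, fun h => haP (h.ge ham), ?_⟩
  haveI : IsLocalRing (B ⧸ P) := .of_surjective' _ Ideal.Quotient.mk_surjective
  haveI : IsLocalHom (Ideal.Quotient.mk P) := .of_surjective _ Ideal.Quotient.mk_surjective
  haveI : IsLocalHom (algebraMap A (B ⧸ P)) := by
    rw [IsScalarTower.algebraMap_eq A B (B ⧸ P)]
    infer_instance
  haveI : IsLocalHom (algebraMap B (B ⧸ P)) := ‹IsLocalHom (Ideal.Quotient.mk P)›
  haveI : Module.Finite (ResidueField A) (ResidueField (B ⧸ P)) := by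
    let f : ResidueField B →ₗ[A] ResidueField (B ⧸ P) :=
      (IsScalarTower.toAlgHom A (ResidueField B) (ResidueField (B ⧸ P))).toLinearMap
    haveI : Module.Finite A (ResidueField A) :=
      Module.Finite.of_surjective (Algebra.linearMap A (ResidueField A)) residue_surjective
    haveI : Module.Finite A (ResidueField B) := Module.Finite.trans (ResidueField A) _
    haveI : Module.Finite A (ResidueField (B ⧸ P)) := Module.Finite.of_surjective f (fun x => by
      obtain ⟨y, rfl⟩ := residue_surjective (R := B ⧸ P) x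
      obtain ⟨z, rfl⟩ := Ideal.Quotient.mk_surjective y
      exact ⟨residue B z, rfl⟩)
    exact Module.Finite.of_restrictScalars_finite A _ _
  refine quasiFinite_of_isolated fun Q hQ hle => ?_
  have hh : Ideal.Quotient.mk P (algebraMap A B a * b) ≠ 0 := fun h =>
    hPh (Ideal.Quotient.eq_zero_iff_mem.1 h)
  refine eq_maximalIdeal_of_forall_mem hh ?_ Q ?_
  · intro Q' hQ' hne'
    by_contra hc
    refine hne' ?_
    have hsub : P ≤ Q'.comap (Ideal.Quotient.mk P) := fun x hx => by
      rw [Ideal.mem_comap, Ideal.Quotient.eq_zero_iff_mem.2 hx]; exact zero_mem Q'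
    have heq : P = Q'.comap (Ideal.Quotient.mk P) := eq_of_le_of_not_lt hsub
      (hmax _ ⟨Ideal.IsPrime.comap (hK := hQ') _, hc⟩)
    rw [← Ideal.map_comap_of_surjective _ Ideal.Quotient.mk_surjective Q', ← heq, Ideal.map_quotient_self]
  · intro e
    refine haP (Ideal.Quotient.eq_zero_iff_mem.1 ?_)
    have := hle (Ideal.mem_map_of_mem _ ham)
    rw [e, Ideal.mem_bot] at this
    exact this

end Groth.Agent.H4RG
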