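import Groth.Agent.H4RG.QFQuot
import Groth.Agent.H23.RedSub
import Groth.Agent.DimFormula.QuasiSection
import Groth.Agent.CycLib.Finite
import Mathlib.AlgebraicGeometry.Morphisms.QuasiFinite

/-!
# Quasi-finite closed subschemes through a point closed in its fibre
-/

set_option backward.isDefEq.respectTransparency.types false

universe u

open AlgebraicGeometry CategoryTheory IsLocalRing

namespace Groth.Agent.H4RG

theorem quasiFiniteAt_comp_of_quotient {X S Z : Scheme.{u}} (f : X ⟶ S) (i : Z ⟶ X) [IsClosedImmersion i]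
    [AlgebraicGeometry.IsReduced Z] (x₀ : Z) {x : X} (hx : i x₀ = x)
    (q : PrimeSpectrum (X.presheaf.stalk x))
    (hr : Set.range i ⊆ closure {X.fromSpecStalk x q})
    (hq : ((Ideal.Quotient.mk q.asIdeal).comp (f.stalkMap x).hom).QuasiFinite) :
    (i ≫ f).QuasiFiniteAt x₀ := by
  subst hx
  have hker : ∀ b ∈ q.asIdeal, (i.stalkMap x₀).hom b = 0 := by
    intro b hb
    refine IsNilpotent.eq_zero (nilpotent_iff_mem_prime.2 fun Q hQ => ?_)
    let Q' : PrimeSpectrum (Z.presheaf.stalk x₀) := ⟨Q, hQ⟩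
    have h1 : X.fromSpecStalk (i x₀) q ⤳ X.fromSpecStalk (i x₀) (PrimeSpectrum.comap (i.stalkMap x₀).hom Q') := by
      refine specializes_iff_mem_closure.2 (hr ⟨Z.fromSpecStalk x₀ Q', ?_⟩)
      rw [← Scheme.Hom.comp_apply, ← Scheme.SpecMap_stalkMap_fromSpecStalk, Scheme.Hom.comp_apply]
      rfl
    have h2 := (PrimeSpectrum.le_iff_specializes _ _).2
      ((X.fromSpecStalk (i x₀)).isEmbedding.isInducing.specializes_iff.1 h1)
    exact h2 hb
  let θ : (X.presheaf.stalk (i x₀)) ⧸ q.asIdeal →+* Z.presheaf.stalk x₀ :=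
    Ideal.Quotient.lift q.asIdeal (i.stalkMap x₀).hom hker
  have hθ : Function.Surjective θ :=
    Ideal.Quotient.lift_surjective_of_surjective _ _ (i.stalkMap_surjective x₀)
  rw [Scheme.Hom.QuasiFiniteAt, Scheme.Hom.stalkMap_comp]
  exact ((RingHom.QuasiFinite.of_finite (RingHom.Finite.of_surjective θ hθ)).comp hq :)

theorem exists_quasiFinite_slice {X S : Scheme.{u}} (f : X ⟶ S) [LocallyOfFiniteType f]
    [IsLocallyNoetherian S] (x : X) (hcl : IsClosed (Subtype.val ⁻¹' {x} : Set ↑(f ⁻¹' {f x})))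
    (U : X.Opens) (hx' : ∃ x' : X, x' ∈ U ∧ x' ⤳ x ∧ f x' ≠ f x) :
    ∃ (I : X.IdealSheafData) (z₀ x₀ : ↑I.subscheme), I.subschemeι x₀ = x ∧
      (I.subschemeι ≫ f).QuasiFiniteAt x₀ ∧
      I.subschemeι z₀ ∈ U ∧ I.subschemeι z₀ ⤳ x ∧ f (I.subschemeι z₀) ≠ f x := by
  have hmax : ∀ y, f y = f x → x ⤳ y → y = x := fun y hy hxy => by
    have h : (⟨x, rfl⟩ : ↑(f ⁻¹' {f x})) ⤳ ⟨y, hy⟩ := subtype_specializes_iff _ _ |>.2 hxy
    exact h.mem_closed hcl rfl
  have hfin : (f.residueFieldMap x).hom.Finite :=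
    CycLib.finite_residueFieldMap_of_rd_eq_zero f x (DimFormula.rd_eq_zero_of_closed f hmax)
  letI := (f.stalkMap x).hom.toAlgebra
  haveI : IsLocalHom (algebraMap (S.presheaf.stalk (f x)) (X.presheaf.stalk x)) :=
    inferInstanceAs (IsLocalHom (f.stalkMap x).hom)
  haveI : Algebra.EssFiniteType (S.presheaf.stalk (f x)) (X.presheaf.stalk x) :=
    LocallyOfFiniteType.stalkMap f x
  haveI : Module.Finite (ResidueField (S.presheaf.stalk (f x))) (ResidueField (X.presheaf.stalk x)) :=
    RingHom.finite_algebraMap.1 (by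
      have heq : algebraMap (ResidueField (S.presheaf.stalk (f x))) (ResidueField (X.presheaf.stalk x)) =
          (ResidueField.map (f.stalkMap x).hom) := by
        refine RingHom.ext fun a => ?_
        obtain ⟨b, rfl⟩ := residue_surjective a
        rfl
      rw [heq]
      exact hfin)
  obtain ⟨x', hxU, hsp, hne⟩ := hx'
  obtain ⟨p, rfl⟩ : x' ∈ Set.range (X.fromSpecStalk x) := by
    rw [Scheme.range_fromSpecStalk]; exact hsp
  have hkey : ∀ r : PrimeSpectrum (X.presheaf.stalk x),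
      f (X.fromSpecStalk x r) = f x ↔ r.asIdeal.comap (algebraMap (S.presheaf.stalk (f x)) _) =
        maximalIdeal _ := by
    intro r
    have h1 : f (X.fromSpecStalk x r) = S.fromSpecStalk (f x) (PrimeSpectrum.comap (f.stalkMap x).hom r) := by
      rw [← Scheme.Hom.comp_apply, ← Scheme.SpecMap_stalkMap_fromSpecStalk, Scheme.Hom.comp_apply]
      rfl
    have h2 := Scheme.fromSpecStalk_closedPoint (X := S) (x := f x)
    rw [h1]
    constructor
    · intro h
      exact congrArg PrimeSpectrum.asIdeal ((S.fromSpecStalk (f x)).isEmbedding.injective (h.trans h2.symm))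
    · intro h
      exact (congrArg _ (PrimeSpectrum.ext h)).trans h2
  obtain ⟨q, hqV, hqm, hqf⟩ := exists_prime_quasiFinite_quotient
    (X.fromSpecStalk x ⁻¹' (U : Set X)) (U.isOpen.preimage (X.fromSpecStalk x).continuous)
    ⟨p, hxU, fun h => hne ((hkey p).2 h)⟩
  let z := X.fromSpecStalk x q
  have hzx : z ⤳ x := by
    have : z ∈ Set.range (X.fromSpecStalk x) := ⟨q, rfl⟩
    rw [Scheme.range_fromSpecStalk] at this
    exact this
  let I := Scheme.IdealSheafData.vanishingIdeal (⟨closure {z}, isClosed_closure⟩ : TopologicalSpace.Closeds X)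
  have hrange : Set.range I.subschemeι = closure {z} := H23.RedSub.range_vanishingIdeal _
  obtain ⟨z₀, hz₀⟩ : z ∈ Set.range I.subschemeι := by rw [hrange]; exact subset_closure rfl
  obtain ⟨x₀, hx₀⟩ : x ∈ Set.range I.subschemeι := by
    rw [hrange]; exact specializes_iff_mem_closure.1 hzx
  refine ⟨I, z₀, x₀, hx₀, ?_, ?_, ?_, ?_⟩
  · refine quasiFiniteAt_comp_of_quotient f I.subschemeι x₀ hx₀ q hrange.le ?_
    have := RingHom.quasiFinite_algebraMap.mpr hqf
    convert this using 1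
    exact RingHom.ext fun _ => rfl
  · rw [hz₀]; exact hqV
  · rw [hz₀]; exact hzx
  · rw [hz₀]; exact fun h => hqm ((hkey q).1 h)

end Groth.Agent.H4RG
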