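import Groth.Agent.FlatModel.Local
import Groth.Agent.H4RG.FlatModIdeal
import Mathlib

/-!
# A finitely presented stalk over the quotients of the base
-/

set_option autoImplicit false
set_option linter.style.haveILetI false
set_option backward.isDefEq.respectTransparency.types false

universe u

open TensorProduct MvPolynomial Groth.Agent.FlatModel

namespace Groth.Agent.H4RG

variable {a n : ℕ} {R₀ : Type u} [CommRing R₀] (K₀ : Submodule (MvPolynomial (Fin n) R₀) (V a n R₀))

/-- The module cut out by the relations. -/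
abbrev Presented (R : Type u) [CommRing R] [Algebra R₀ R] : Type u := V a n R ⧸ KK K₀ R

/-- The stalk of the module cut out by the relations. -/
abbrev Stalk {R : Type u} [CommRing R] [Algebra R₀ R] (P : Ideal (MvPolynomial (Fin n) R)) [P.IsPrime] : Type u :=
  LocalizedModule P.primeCompl (Presented K₀ R)

variable {A : Type u} [CommRing A] [Algebra R₀ A] (J : Ideal A)

/-- The image of a prime in the polynomials over a quotient. -/
noncomputable abbrev quotPrime (P : Ideal (MvPolynomial (Fin n) A)) : Ideal (MvPolynomial (Fin n) (A ⧸ J)) :=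
  P.map (MvPolynomial.map (Ideal.Quotient.mk J))

theorem comap_quotPrime (P : Ideal (MvPolynomial (Fin n) A)) (hJP : J.map C ≤ P) :
    (quotPrime J P).comap (MvPolynomial.map (Ideal.Quotient.mk J)) = P := by
  have hs : Function.Surjective (MvPolynomial.map (σ := Fin n) (Ideal.Quotient.mk J)) :=
    MvPolynomial.map_surjective _ Ideal.Quotient.mk_surjective
  rw [quotPrime, Ideal.comap_map_of_surjective _ hs, ← RingHom.ker_eq_comap_bot, MvPolynomial.ker_map, Ideal.mk_ker]
  exact sup_eq_left.2 hJP

theorem isPrime_quotPrime (P : Ideal (MvPolynomial (Fin n) A)) [P.IsPrime] (hJP : J.map C ≤ P) :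
    (quotPrime J P).IsPrime :=
  Ideal.map_isPrime_of_surjective (MvPolynomial.map_surjective _ Ideal.Quotient.mk_surjective) (by
    rw [MvPolynomial.ker_map, Ideal.mk_ker]; exact hJP)

/-- Vectors with coefficients in an ideal vanish in the presented module modulo it. -/
theorem mk_mem_smul_of_mem_CJ {d : V a n A} (hd : d ∈ CJ a n J) :
    (Submodule.Quotient.mk d : Presented K₀ A) ∈ J • (⊤ : Submodule A (Presented K₀ A)) := by
  rw [← (B a n A).linearCombination_repr d, Finsupp.linearCombination_apply, Finsupp.sum,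
    ← Submodule.mkQ_apply, map_sum]
  refine sum_mem fun e _ => ?_
  rw [LinearMap.map_smul_of_tower]
  exact Submodule.smul_mem_smul (repr_mem hd e) trivial

/-- Change of coefficients carries relations to relations. -/
theorem mapV_mem_KK {x : V a n A} (hx : x ∈ KK K₀ A) : mapV (Ideal.Quotient.mk J) x ∈ KK K₀ (A ⧸ J) := by
  have := mapV_mem_span (Ideal.Quotient.mk J) hx
  rwa [Set.image_image, Set.image_congr fun v _ => mapV_mapV (algebraMap R₀ A) (Ideal.Quotient.mk J) v] at this

/-- A membership among relations over a quotient lifts. -/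
theorem exists_lift_mem_KK {y : V a n (A ⧸ J)} (hy : y ∈ KK K₀ (A ⧸ J)) :
    ∃ w ∈ KK K₀ A, mapV (Ideal.Quotient.mk J) w = y := by
  refine mem_image_of_mem_span Ideal.Quotient.mk_surjective (KK K₀ A) (Submodule.span_mono ?_ hy)
  rintro _ ⟨w, hw, rfl⟩
  exact ⟨mapL A w, mapL_mem_KK K₀ hw, mapV_mapV (algebraMap R₀ A) (Ideal.Quotient.mk J) w⟩

/-- A vector killed by a change to a quotient has coefficients in the ideal. -/
theorem mem_CJ_of_mapV_eq_zero {d : V a n A} (hd : mapV (Ideal.Quotient.mk J) d = 0) : d ∈ CJ a n J :=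
  mem_CJ.2 fun i => MvPolynomial.mem_map_C_iff.2 fun e => by
    have := congrArg (MvPolynomial.coeff e) (congrFun hd i)
    rw [mapV_apply, MvPolynomial.coeff_map] at this
    exact Ideal.Quotient.eq_zero_iff_mem.1 (by simpa using this)

variable (P : Ideal (MvPolynomial (Fin n) A)) [P.IsPrime]

/-- The stalk over a quotient of the base is the stalk modulo the ideal. -/
theorem exists_stalk_quot_map (hJP : J.map C ≤ P) [(quotPrime J P).IsPrime] :
    ∃ f : Stalk K₀ P →ₗ[A] Stalk K₀ (quotPrime J P),
      Function.Surjective f ∧ ∀ x, f x = 0 → x ∈ J • (⊤ : Submodule A (Stalk K₀ P)) := by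
  let g := MvPolynomial.map (σ := Fin n) (Ideal.Quotient.mk J)
  have hg : Function.Surjective g := MvPolynomial.map_surjective _ Ideal.Quotient.mk_surjective
  have hcomap : (quotPrime J P).comap g = P := comap_quotPrime J P hJP
  have hgP : ∀ t, g t ∈ quotPrime J P ↔ t ∈ P := fun t => by
    rw [← Ideal.mem_comap, hcomap]
  let gs : P.primeCompl → (quotPrime J P).primeCompl := fun s => ⟨g s, fun h => s.2 ((hgP s).1 h)⟩
  let red : Presented K₀ A →+ Presented K₀ (A ⧸ J) :=
    QuotientAddGroup.lift (KK K₀ A).toAddSubgroup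
      ((KK K₀ (A ⧸ J)).mkQ.toAddMonoidHom.comp (mapVHom (Ideal.Quotient.mk J)))
      (fun x hx => (Submodule.Quotient.mk_eq_zero _).2 (mapV_mem_KK K₀ J hx))
  have hred : ∀ v, red (Submodule.Quotient.mk v) = Submodule.Quotient.mk (mapV (Ideal.Quotient.mk J) v) :=
    fun _ => rfl
  have hred_smul : ∀ (t : MvPolynomial (Fin n) A) (x), red (t • x) = g t • red x := fun t x => by
    obtain ⟨v, rfl⟩ := Submodule.Quotient.mk_surjective _ x
    rw [← Submodule.Quotient.mk_smul, hred, hred, mapV_smul, Submodule.Quotient.mk_smul]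
  let f0 : Stalk K₀ P → Stalk K₀ (quotPrime J P) := fun z =>
    LocalizedModule.liftOn z (fun p => LocalizedModule.mk (red p.1) (gs p.2)) (by
      rintro ⟨m, s⟩ ⟨m', s'⟩ ⟨t, ht⟩
      refine LocalizedModule.mk_eq.2 ⟨gs t, ?_⟩
      simp only [Submonoid.smul_def, gs, ← hred_smul] at ht ⊢
      rw [ht])
  have hf0 : ∀ m s, f0 (LocalizedModule.mk m s) = LocalizedModule.mk (red m) (gs s) := fun m s =>
    LocalizedModule.liftOn_mk _ _ _
  have hgsmul : ∀ s s', gs (s * s') = gs s * gs s' := fun s s' => Subtype.ext (map_mul g _ _)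
  let f : Stalk K₀ P →ₗ[A] Stalk K₀ (quotPrime J P) :=
    { toFun := f0
      map_add' := fun x y => by
        induction x using LocalizedModule.induction_on with
        | _ m s =>
          induction y using LocalizedModule.induction_on with
          | _ m' s' =>
            rw [LocalizedModule.mk_add_mk, hf0, hf0, hf0, LocalizedModule.mk_add_mk, hgsmul, map_add]
            simp only [Submonoid.smul_def, hred_smul, gs]
      map_smul' := fun r x => by
        induction x using LocalizedModule.induction_on with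
        | _ m s =>
          rw [RingHom.id_apply, LocalizedModule.smul'_mk, hf0, hf0, ← algebraMap_smul (MvPolynomial (Fin n) A) r m,
            hred_smul, ← algebraMap_smul (A ⧸ J) r, LocalizedModule.smul'_mk,
            ← algebraMap_smul (MvPolynomial (Fin n) (A ⧸ J)) (algebraMap A (A ⧸ J) r) (red m)]
          congr 2
          simp [g, MvPolynomial.algebraMap_eq] }
  have hfmk : ∀ m s, f (LocalizedModule.mk m s) = LocalizedModule.mk (red m) (gs s) := hf0
  refine ⟨f, fun z => ?_, fun z hz => ?_⟩
  · induction z using LocalizedModule.induction_on with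
    | _ m s =>
      obtain ⟨v, rfl⟩ := Submodule.Quotient.mk_surjective _ m
      choose q hq using fun i => hg (v i)
      obtain ⟨t, ht⟩ := hg (s : MvPolynomial (Fin n) (A ⧸ J))
      have htP : t ∈ P.primeCompl := fun h => s.2 (ht ▸ (hgP t).2 h)
      refine ⟨LocalizedModule.mk (Submodule.Quotient.mk q) ⟨t, htP⟩, ?_⟩
      rw [hfmk, hred, show mapV (Ideal.Quotient.mk J) q = v from funext hq]
      congr 1
      exact Subtype.ext ht
  · induction z using LocalizedModule.induction_on with
    | _ m s =>
      rw [hfmk] at hz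
      obtain ⟨tb, htb⟩ := (LocalizedModule.mk_eq (m' := (0 : Presented K₀ (A ⧸ J))) (s' := 1)).1
        (hz.trans (LocalizedModule.zero_mk 1).symm)
      obtain ⟨t, ht⟩ := hg (tb : MvPolynomial (Fin n) (A ⧸ J))
      have htP : t ∈ P.primeCompl := fun h => tb.2 (ht ▸ (hgP t).2 h)
      obtain ⟨v, rfl⟩ := Submodule.Quotient.mk_surjective _ m
      have h0 : red (Submodule.Quotient.mk (t • v)) = 0 := by
        rw [Submodule.Quotient.mk_smul, hred_smul, ht]
        simpa [Submonoid.smul_def] using htb
      rw [hred, Submodule.Quotient.mk_eq_zero] at h0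
      obtain ⟨w, hw, hwv⟩ := exists_lift_mem_KK K₀ J h0
      have hd : t • v - w ∈ CJ a n J := mem_CJ_of_mapV_eq_zero J (by rw [mapV_sub, hwv, sub_self])
      have hmem := mk_mem_smul_of_mem_CJ K₀ J hd
      rw [Submodule.Quotient.mk_sub, (Submodule.Quotient.mk_eq_zero _).2 hw, sub_zero] at hmem
      rw [← LocalizedModule.mk_cancel_common_left (⟨t, htP⟩ : P.primeCompl) s]
      let φ : Presented K₀ A →ₗ[A] Stalk K₀ P :=
        { toFun := fun x => LocalizedModule.mk x ((⟨t, htP⟩ : P.primeCompl) * s)
          map_add' := fun x y => by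
            rw [LocalizedModule.mk_add_mk, ← smul_add]
            exact (LocalizedModule.mk_cancel_common_left _ _ _).symm
          map_smul' := fun r x => by rw [RingHom.id_apply, LocalizedModule.smul'_mk] }
      have h1 := Submodule.mem_map_of_mem (f := φ) hmem
      rw [Submodule.map_smul''] at h1
      exact Submodule.smul_mono le_rfl le_top h1

/-- The stalk over a quotient of the base is the base change of the stalk. -/
theorem exists_stalk_quot_equiv (hJP : J.map C ≤ P) [(quotPrime J P).IsPrime] :
    Nonempty ((A ⧸ J) ⊗[A] Stalk K₀ P ≃ₗ[A ⧸ J] Stalk K₀ (quotPrime J P)) := by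
  obtain ⟨f, hf, hker⟩ := exists_stalk_quot_map K₀ J P hJP
  refine ⟨LinearEquiv.ofBijective (f.liftBaseChange (A ⧸ J)) ⟨?_, fun y => ?_⟩⟩
  · rw [injective_iff_map_eq_zero]
    intro z hz
    obtain ⟨x, rfl⟩ : ∃ x, (1 : A ⧸ J) ⊗ₜ[A] x = z := by
      obtain ⟨x, hx⟩ := exists_tmul_one J (TensorProduct.comm A _ _ z)
      exact ⟨x, (TensorProduct.comm A _ _).injective (by rw [TensorProduct.comm_tmul, hx])⟩
    rw [LinearMap.liftBaseChange_tmul, one_smul] at hz
    apply (TensorProduct.comm A _ _).injective
    rw [map_zero, TensorProduct.comm_tmul]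
    exact (tmul_one_eq_zero_iff J x).2 (hker x hz)
  · obtain ⟨x, rfl⟩ := hf y
    exact ⟨1 ⊗ₜ x, by rw [LinearMap.liftBaseChange_tmul, one_smul]⟩

end Groth.Agent.H4RG
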