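import Groth.Agent.EssFPDescent.Criterion
import Groth.Agent.FlatSyz5.Resolution
import Groth.Agent.S0393
import Mathlib

/-!
# Flatness from flatness after inverting elements regular on the closed fibre

For a module of finite presentation over an algebra of finite presentation over a local ring: if
`Tor₁(C, k)` is killed by elements which are regular on `C ⊗ k` at a prime `P` of the closed fibre,
then `C` is flat at `P`.
-/

set_option autoImplicit false
set_option linter.style.haveILetI false

universe u

open TensorProduct IsLocalRing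

namespace Groth.Agent.H4RG

open Groth.Agent.EssFPDescent

/-- The noetherian case. -/
theorem flat_of_regular_noeth {A T C : Type u} [CommRing A] [IsLocalRing A] [IsNoetherianRing A] [CommRing T]
    [IsNoetherianRing T] [Algebra A T] [AddCommGroup C] [Module T C] [Module A C] [IsScalarTower A T C]
    [Module.Finite T C] (P : Ideal T) [P.IsPrime] (hP : (maximalIdeal A).map (algebraMap A T) ≤ P)
    (W : Submonoid T)
    (hk : ∀ y : C ⊗[A] (maximalIdeal A), (maximalIdeal A).subtype.lTensor C y = 0 → ∃ w ∈ W, w • y = 0)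
    (hreg : ∀ w ∈ W, ∀ x : C, w • x ∈ maximalIdeal A • (⊤ : Submodule A C) →
      ∃ t ∉ P, t • x ∈ maximalIdeal A • (⊤ : Submodule A C)) :
    Module.Flat A (LocalizedModule P.primeCompl C) := by
  classical
  let B := Localization P.primeCompl
  haveI : IsNoetherianRing B := IsLocalization.isNoetherianRing P.primeCompl B inferInstance
  haveI : IsLocalRing B := inferInstanceAs (IsLocalRing (Localization.AtPrime P))
  let M := LocalizedModule P.primeCompl C
  let mkM := LocalizedModule.mkLinearMap P.primeCompl C
  let pB : Ideal B := (maximalIdeal A).map (algebraMap A B)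
  haveI : IsLocalHom (algebraMap A B) := by
    refine ⟨fun a ha => ?_⟩
    by_contra hna
    rw [IsScalarTower.algebraMap_apply A T B] at ha
    exact (IsLocalization.AtPrime.isUnit_to_map_iff (Localization.AtPrime P) P _).1 ha
      (hP (Ideal.mem_map_of_mem _ ((IsLocalRing.mem_maximalIdeal _).2 hna)))
  let V : Submonoid B :=
    { carrier := {b | ∃ w ∈ W, b - algebraMap T B w ∈ pB}
      one_mem' := ⟨1, one_mem _, by simp⟩
      mul_mem' := by
        rintro a b ⟨w, hw, ha⟩ ⟨w', hw', hb⟩
        refine ⟨w * w', mul_mem hw hw', ?_⟩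
        rw [map_mul, show a * b - algebraMap T B w * algebraMap T B w' =
          (a - algebraMap T B w) * b + algebraMap T B w * (b - algebraMap T B w') by ring]
        exact add_mem (Ideal.mul_mem_right _ _ ha) (Ideal.mul_mem_left _ _ hb) }
  let BV := Localization V
  haveI : IsNoetherianRing BV := IsLocalization.isNoetherianRing V BV inferInstance
  let N := LocalizedModule V M
  haveI : Module.Finite B M := inferInstance
  haveI : Module.Finite BV N := inferInstance
  have hjac : (maximalIdeal A).map (algebraMap A BV) ≤ Ideal.jacobson ⊥ := by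
    intro x hx
    rw [IsScalarTower.algebraMap_eq A B BV, ← Ideal.map_map] at hx
    refine Ideal.mem_jacobson_bot.2 fun y => ?_
    have hxy : x * y ∈ pB.map (algebraMap B BV) := Ideal.mul_mem_right _ _ hx
    obtain ⟨⟨a, v⟩, hav⟩ := (IsLocalization.mem_map_algebraMap_iff V BV).1 hxy
    obtain ⟨w, hw, hvw⟩ := v.2
    have hmem : (a : B) + v ∈ V := ⟨w, hw, by
      rw [add_sub_assoc]
      exact add_mem a.2 hvw⟩
    have h1 : (x * y + 1) * algebraMap B BV v = algebraMap B BV (a + v) := by
      rw [add_mul, hav, one_mul, map_add]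
    exact isUnit_of_mul_isUnit_left (h1 ▸ IsLocalization.map_units BV ⟨_, hmem⟩)
  let φ : C ⊗[A] (maximalIdeal A) →ₗ[T] M ⊗[A] (maximalIdeal A) :=
    AlgebraTensorModule.rTensor A (maximalIdeal A : Ideal A) mkM
  let ψ : C ⊗[A] A →ₗ[T] M ⊗[A] A := AlgebraTensorModule.rTensor A A mkM
  have hkillM : ∀ y : M ⊗[A] (maximalIdeal A), (maximalIdeal A).subtype.lTensor M y = 0 →
      ∃ v ∈ V, v • y = 0 := by
    intro y hy
    obtain ⟨⟨y', t⟩, hy'⟩ := IsLocalizedModule.surj P.primeCompl φ y
    have h0 : ψ ((maximalIdeal A).subtype.lTensor C y') = 0 := by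
      have : ψ ((maximalIdeal A).subtype.lTensor C y') = (maximalIdeal A).subtype.lTensor M (φ y') := by
        show (mkM.restrictScalars A).rTensor A _ = (maximalIdeal A).subtype.lTensor M ((mkM.restrictScalars A).rTensor _ y')
        rw [← LinearMap.comp_apply, LinearMap.rTensor_comp_lTensor, ← LinearMap.lTensor_comp_rTensor]
        rfl
      rw [this, ← hy']
      show (maximalIdeal A).subtype.lTensor M ((t : T) • y) = 0
      rw [show (maximalIdeal A).subtype.lTensor M ((t : T) • y) =
        (t : T) • (maximalIdeal A).subtype.lTensor M y from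
          (AlgebraTensorModule.lTensor T M (maximalIdeal A).subtype).map_smul _ _, hy, smul_zero]
    obtain ⟨t', ht'⟩ := (IsLocalizedModule.eq_zero_iff P.primeCompl ψ).1 h0
    obtain ⟨w, hw, hwy⟩ := hk ((t' : T) • y') (by
      rw [show (maximalIdeal A).subtype.lTensor C ((t' : T) • y') = (t' : T) • (maximalIdeal A).subtype.lTensor C y'
        from (AlgebraTensorModule.lTensor T C (maximalIdeal A).subtype).map_smul _ _]
      exact ht')
    refine ⟨algebraMap T B w, ⟨w, hw, by simp⟩, ?_⟩
    have h2 : (w * (t' : T) * (t : T)) • y = 0 := by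
      rw [mul_smul, mul_smul, show (t : T) • y = φ y' from hy', ← map_smul, ← map_smul, hwy, map_zero]
    rw [mul_comm w, mul_assoc, mul_smul] at h2
    have hu : ∀ s : P.primeCompl, IsUnit (algebraMap T B s) := fun s => IsLocalization.map_units B s
    rw [← algebraMap_smul B (t' : T), (hu t').smul_eq_zero, mul_comm w, mul_smul, ← algebraMap_smul B (t : T),
      (hu t).smul_eq_zero, ← algebraMap_smul B w] at h2
    exact h2
  haveI hN : Module.Flat A N := LocalCrit.flat_of_le_jacobson (B := BV) (maximalIdeal A) hjac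
    (EssFPDescent.rTensor_injective_of_killed (maximalIdeal A) V (LocalizedModule.mkLinearMap V M) hkillM)
    (LocalCrit.keepsInjective_of_isMaximal _ _)
  let u : M →ₗ[A] N := (LocalizedModule.mkLinearMap V M).restrictScalars A
  -- `m N` comes from `m M`
  have hpN : ∀ z ∈ maximalIdeal A • (⊤ : Submodule A N),
      ∃ v ∈ V, ∃ m ∈ maximalIdeal A • (⊤ : Submodule A M), v • z = LocalizedModule.mkLinearMap V M m := by
    intro z hz
    refine Submodule.smul_induction_on hz (fun r hr n _ => ?_) ?_
    · obtain ⟨⟨m, v⟩, hv⟩ := IsLocalizedModule.surj V (LocalizedModule.mkLinearMap V M) n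
      refine ⟨v, v.2, r • m, Submodule.smul_mem_smul hr Submodule.mem_top, ?_⟩
      rw [smul_comm, show (v : B) • n = _ from hv]
      exact (u.map_smul r m).symm
    · rintro a b ⟨v, hv, m, hm, ha⟩ ⟨v', hv', m', hm', hb⟩
      have hsm : ∀ (c : B) (x : M), x ∈ maximalIdeal A • (⊤ : Submodule A M) →
          c • x ∈ maximalIdeal A • (⊤ : Submodule A M) := fun c x hx =>
        Submodule.smul_top_le_comap_smul_top _ ((LinearMap.lsmul B M c).restrictScalars A) hx
      refine ⟨v * v', mul_mem hv hv', v' • m + v • m', add_mem (hsm _ _ hm) (hsm _ _ hm'), ?_⟩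
      rw [map_add, map_smul, map_smul, ← ha, ← hb, smul_add, smul_smul, smul_smul, mul_comm v']
  have hinj : Function.Injective (u.lTensor (ResidueField A)) := by
    refine (injective_iff_map_eq_zero _).2 fun z hz => ?_
    obtain ⟨x, rfl⟩ : ∃ x : M, (1 : ResidueField A) ⊗ₜ[A] x = z := by
      refine TensorProduct.induction_on z ⟨0, tmul_zero _ _⟩ (fun r x => ?_) ?_
      · obtain ⟨r, rfl⟩ := Ideal.Quotient.mk_surjective r
        refine ⟨r • x, ?_⟩
        rw [← smul_tmul, Algebra.smul_def, mul_one]
        rfl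
      · rintro _ _ ⟨a, rfl⟩ ⟨b, rfl⟩
        exact ⟨a + b, tmul_add _ _ _⟩
    have h1 : u x ∈ maximalIdeal A • (⊤ : Submodule A N) := by
      have h := congrArg (TensorProduct.quotTensorEquivQuotSMul N (maximalIdeal A))
        (show (Ideal.Quotient.mk (maximalIdeal A) 1) ⊗ₜ[A] u x = 0 from hz)
      rw [map_zero, TensorProduct.quotTensorEquivQuotSMul_mk_tmul, one_smul, Submodule.Quotient.mk_eq_zero] at h
      exact h
    obtain ⟨v, hv, m, hm, hvm⟩ := hpN _ h1
    have h2 : LocalizedModule.mkLinearMap V M (v • x - m) = 0 := by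
      rw [map_sub, map_smul, sub_eq_zero]
      exact hvm
    obtain ⟨v', hv'⟩ := (IsLocalizedModule.eq_zero_iff V (LocalizedModule.mkLinearMap V M)).1 h2
    rw [Submonoid.smul_def, smul_sub, sub_eq_zero, smul_smul] at hv'
    have hsmB : ∀ (c : B) (y : M), y ∈ maximalIdeal A • (⊤ : Submodule A M) →
        c • y ∈ maximalIdeal A • (⊤ : Submodule A M) := fun c y hy =>
      Submodule.smul_top_le_comap_smul_top _ ((LinearMap.lsmul B M c).restrictScalars A) hy
    have hpm : ∀ (c : B), c ∈ pB → ∀ y : M, c • y ∈ maximalIdeal A • (⊤ : Submodule A M) := by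
      intro c hc
      refine Submodule.span_induction ?_ (fun y => by rw [zero_smul]; exact zero_mem _)
        (fun a b _ _ ha hb y => by rw [add_smul]; exact add_mem (ha y) (hb y))
        (fun a b _ hb y => by rw [smul_eq_mul, mul_smul]; exact hsmB a _ (hb y)) hc
      rintro _ ⟨a, ha, rfl⟩ y
      rw [algebraMap_smul]
      exact Submodule.smul_mem_smul ha Submodule.mem_top
    obtain ⟨w, hw, hvw⟩ := (V.mul_mem v'.2 hv : (v' : B) * v ∈ V)
    have h3 : (algebraMap T B w) • x ∈ maximalIdeal A • (⊤ : Submodule A M) := by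
      rw [show algebraMap T B w = (v' : B) * v - ((v' : B) * v - algebraMap T B w) by ring, sub_smul, hv']
      exact sub_mem (hsmB _ _ hm) (hpm _ hvw _)
    -- descend to `C`
    have hpM : ∀ z ∈ maximalIdeal A • (⊤ : Submodule A M),
        ∃ t : P.primeCompl, ∃ c ∈ maximalIdeal A • (⊤ : Submodule A C), (t : T) • z = mkM c := by
      intro z hz
      refine Submodule.smul_induction_on hz (fun r hr n _ => ?_) ?_
      · obtain ⟨⟨c, t⟩, ht⟩ := IsLocalizedModule.surj P.primeCompl mkM n
        refine ⟨t, r • c, Submodule.smul_mem_smul hr Submodule.mem_top, ?_⟩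
        rw [smul_comm, show (t : T) • n = _ from ht]
        exact ((mkM.restrictScalars A).map_smul r c).symm
      · rintro a b ⟨t, c, hc, ha⟩ ⟨t', c', hc', hb⟩
        have hsm : ∀ (s : T) (x : C), x ∈ maximalIdeal A • (⊤ : Submodule A C) →
            s • x ∈ maximalIdeal A • (⊤ : Submodule A C) := fun s x hx =>
          Submodule.smul_top_le_comap_smul_top _ ((LinearMap.lsmul T C s).restrictScalars A) hx
        refine ⟨t * t', (t' : T) • c + (t : T) • c', add_mem (hsm _ _ hc) (hsm _ _ hc'), ?_⟩
        rw [map_add, map_smul, map_smul, ← ha, ← hb, smul_add, smul_smul, smul_smul, Submonoid.coe_mul,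
          mul_comm (t' : T)]
    obtain ⟨⟨c, t⟩, ht⟩ := IsLocalizedModule.surj P.primeCompl mkM x
    rw [algebraMap_smul] at h3
    obtain ⟨t', c', hc', hwc⟩ := hpM _ h3
    have h4 : mkM (((t' : T) * w) • c - (t : T) • c') = 0 := by
      rw [map_sub, map_smul, map_smul, ← hwc, ← show (t : T) • x = mkM c from ht, smul_smul, smul_smul,
        smul_smul, sub_eq_zero]
      congr 1
      ring
    obtain ⟨s, hs⟩ := (IsLocalizedModule.eq_zero_iff P.primeCompl mkM).1 h4
    rw [Submonoid.smul_def, smul_sub, sub_eq_zero] at hs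
    have hsmT : ∀ (s : T) (x : C), x ∈ maximalIdeal A • (⊤ : Submodule A C) →
        s • x ∈ maximalIdeal A • (⊤ : Submodule A C) := fun s x hx =>
      Submodule.smul_top_le_comap_smul_top _ ((LinearMap.lsmul T C s).restrictScalars A) hx
    obtain ⟨t'', ht'', hc''⟩ := hreg w hw (((s : T) * t') • c) (by
      rw [smul_smul, show w * ((s : T) * t') = (s : T) * ((t' : T) * w) by ring, mul_smul, hs]
      exact hsmT _ _ (hsmT _ _ hc'))
    refine (TensorProduct.quotTensorEquivQuotSMul M (maximalIdeal A)).injective ?_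
    show (TensorProduct.quotTensorEquivQuotSMul M (maximalIdeal A))
      ((Ideal.Quotient.mk (maximalIdeal A) 1) ⊗ₜ[A] x) = _
    erw [map_zero]
    rw [TensorProduct.quotTensorEquivQuotSMul_mk_tmul, one_smul, Submodule.Quotient.mk_eq_zero]
    have hmk : ∀ y ∈ maximalIdeal A • (⊤ : Submodule A C), mkM y ∈ maximalIdeal A • (⊤ : Submodule A M) :=
      fun y hy => Submodule.smul_top_le_comap_smul_top _ (mkM.restrictScalars A) hy
    have hu : IsUnit (algebraMap T B (t'' * ((s : T) * t') * t)) := by
      rw [map_mul, map_mul, map_mul]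
      exact (((IsLocalization.map_units B (⟨t'', ht''⟩ : P.primeCompl))).mul
        ((IsLocalization.map_units B s).mul (IsLocalization.map_units B t'))).mul (IsLocalization.map_units B t)
    obtain ⟨u', hu'⟩ := hu
    have h5 : (u' : B) • x ∈ maximalIdeal A • (⊤ : Submodule A M) := by
      rw [hu', algebraMap_smul, mul_smul, show (t : T) • x = mkM c from ht, mul_smul, ← map_smul, ← map_smul]
      exact hmk _ hc''
    have h6 := hsmB (↑u'⁻¹ : B) _ h5
    rwa [smul_smul, Units.inv_mul, one_smul] at h6
  haveI : Module.Flat A N := hN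
  obtain ⟨huinj, hcoker⟩ := S0393.result (S := B) u hinj
  haveI := hcoker
  haveI := FlatSyz5.flat_ker A (LinearMap.range u).mkQ (Submodule.mkQ_surjective _)
  exact Module.Flat.of_linearEquiv
    ((LinearEquiv.ofInjective u huinj).trans (LinearEquiv.ofEq _ _ (LinearMap.range u).ker_mkQ.symm))

end Groth.Agent.H4RG
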