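import Groth.Agent.H23.GeomConn
import Groth.Agent.Pi1X.GeomConnFF
import Groth.Agent.S1326
import Groth.Agent.S1327
import Mathlib

/-! The section components as an open subscheme with geometrically connected fibres, and its descent along a finite
etale morphism. -/

set_option autoImplicit false
set_option linter.style.haveILetI false
set_option backward.isDefEq.respectTransparency.types false

universe u

open CategoryTheory CategoryTheory.Limits AlgebraicGeometry Topology TopologicalSpace

namespace Groth.Agent.H4RG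

/-- The section components are open in a flat finitely presented family with geometrically reduced fibres. -/
theorem isOpen_sectionComponents_of_geometricallyReduced {X Y : Scheme.{u}} (f : X ⟶ Y) (s : Y ⟶ X) (hs : s ≫ f = 𝟙 Y)
    [LocallyOfFinitePresentation f] [QuasiCompact f] [QuasiSeparated f] [Flat f] [GeometricallyReduced f] :
    IsOpen (MoreMor.sectionComponents f s) := by
  refine isOpen_iff_mem_nhds.2 fun x hx => mem_interior_iff_mem_nhds.1 ?_
  exact Groth.Agent.S1327.result f s hs (f x) inferInstance hx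

/-- The fibres of the section components are connected components of the fibres. -/
theorem preimage_sectionComponents {X Y : Scheme.{u}} (f : X ⟶ Y) (s : Y ⟶ X) (y : Y) :
    f ⁻¹' {y} ∩ MoreMor.sectionComponents f s = connectedComponentIn (f ⁻¹' {y}) (s y) := by
  refine Set.ext fun x => ⟨fun ⟨hx, h⟩ => ?_, fun h => ?_⟩
  · obtain rfl : f x = y := hx
    exact h
  · obtain rfl : f x = y := connectedComponentIn_subset (f ⁻¹' {y}) (s y) h
    exact ⟨rfl, h⟩

/-- An open whose points are the section components has geometrically connected fibres. -/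
theorem geometricallyConnected_sectionComponents {X Y : Scheme.{u}} (f : X ⟶ Y) (s : Y ⟶ X) (hs : s ≫ f = 𝟙 Y)
    (W : X.Opens) (hW : (W : Set X) = MoreMor.sectionComponents f s) : GeometricallyConnected (W.ι ≫ f) := by
  have hmem : ∀ y, s y ∈ W := fun y => by
    show s y ∈ (W : Set X)
    rw [hW]
    have hfy : f (s y) = y := by rw [← Scheme.Hom.comp_apply, hs]; rfl
    refine (preimage_sectionComponents f s y).ge ?_ |>.2
    exact mem_connectedComponentIn hfy
  have hrange : Set.range s ⊆ Set.range W.ι := by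
    rintro _ ⟨y, rfl⟩
    rw [Scheme.Opens.range_ι]
    exact hmem y
  let e : Y ⟶ W := IsOpenImmersion.lift W.ι s hrange
  have he : e ≫ W.ι ≫ f = 𝟙 Y := by rw [← Category.assoc, IsOpenImmersion.lift_fac, hs]
  refine H23.GeomConn.of_section (W.ι ≫ f) e he fun y => ?_
  have hc : _root_.IsConnected (connectedComponentIn (f ⁻¹' {y}) (s y)) := by
    rw [isConnected_connectedComponentIn_iff]
    show f (s y) = y
    rw [← Scheme.Hom.comp_apply, hs]
    rfl
  have h1 : W.ι '' ((W.ι ≫ f) ⁻¹' {y}) = connectedComponentIn (f ⁻¹' {y}) (s y) := by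
    rw [← preimage_sectionComponents, ← hW]
    refine Set.ext fun x => ⟨?_, fun ⟨hx, hxW⟩ => ⟨⟨x, hxW⟩, hx, rfl⟩⟩
    rintro ⟨w, hw, rfl⟩
    exact ⟨hw, w.2⟩
  have h2 : _root_.IsConnected ((W.ι ≫ f) ⁻¹' {y}) := by
    refine ⟨?_, ?_⟩
    · exact Set.Nonempty.of_image (h1 ▸ hc.nonempty)
    · rw [← W.ι.isOpenEmbedding.isInducing.isPreconnected_image, h1]
      exact hc.isPreconnected
  haveI := isConnected_iff_connectedSpace.1 h2
  exact ((W.ι ≫ f).fiberHomeo y).connectedSpace_iff.2 inferInstance

/-- The section components are closed in each fibre. -/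
theorem isClosed_preimage_sectionComponents {X Y : Scheme.{u}} (f : X ⟶ Y) (s : Y ⟶ X) (hs : s ≫ f = 𝟙 Y) (y : Y) :
    IsClosed (Subtype.val ⁻¹' MoreMor.sectionComponents f s : Set ↥(f ⁻¹' {y})) := by
  have hy : s y ∈ f ⁻¹' {y} := by
    show f (s y) = y
    rw [← Scheme.Hom.comp_apply, hs]
    rfl
  have h : (Subtype.val ⁻¹' MoreMor.sectionComponents f s : Set ↥(f ⁻¹' {y})) =
      connectedComponent (⟨s y, hy⟩ : ↥(f ⁻¹' {y})) := by
    refine Set.ext fun x => ?_
    have := Set.ext_iff.1 (preimage_sectionComponents f s y) x.1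
    rw [connectedComponentIn_eq_image hy] at this
    refine ⟨fun h => ?_, fun h => (this.2 ⟨x, h, rfl⟩).2⟩
    obtain ⟨x', hx', he⟩ := this.1 ⟨x.2, h⟩
    exact Subtype.ext he ▸ hx'
  rw [h]
  exact isClosed_connectedComponent

/-- A finite etale scheme over an algebraically closed field only has rational points. -/
theorem exists_section_through {T : Scheme.{u}} {Ω : Type u} [Field Ω] [IsAlgClosed Ω]
    (p : T ⟶ Spec (CommRingCat.of Ω)) [LocallyQuasiFinite p] [LocallyOfFiniteType p] (t : T) :
    ∃ e : Spec (CommRingCat.of Ω) ⟶ T, e ≫ p = 𝟙 _ ∧ e (IsLocalRing.closedPoint Ω) = t := by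
  have hd : _root_.IsDiscrete (p ⁻¹' {p t}) := p.isDiscrete_preimage_singleton (p t)
  have huniv : p ⁻¹' {p t} = Set.univ := Set.eq_univ_of_forall fun x =>
    @Subsingleton.elim _ (inferInstanceAs (Subsingleton (PrimeSpectrum Ω))) (p x) (p t)
  rw [huniv, isDiscrete_univ_iff] at hd
  have hc : IsClosed ({t} : Set T) := isClosed_discrete _
  obtain ⟨⟨e, he⟩, heq⟩ := (pointEquivClosedPoint p).surjective ⟨t, hc⟩
  exact ⟨e, he, congrArg Subtype.val heq⟩

end Groth.Agent.H4RG
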