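import Mathlib

/-!
# Descent of flatness and finite presentation to a semi-valuation ring

`O → R` surjective with kernel `P`, `R` a valuation ring, `O → A` injective localization at `P`
with `P A ⊆ O` (i.e. `P = m`). An admissible algebra `C` with `A ⊗ C` flat is flat over `O`.
-/

set_option autoImplicit false
set_option backward.isDefEq.respectTransparency.types false

universe u

open TensorProduct LinearMap

namespace Groth.Agent.H4RG.SemiVal

/-- `C`-tensoring preserves injections of `A`-modules when `A ⊗ C` is `A`-flat. -/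
theorem rTensor_restrictScalars_injective {O A C M₁ M₂ : Type u} [CommRing O] [CommRing A] [Algebra O A]
    [AddCommGroup C] [Module O C] [Module.Flat A (A ⊗[O] C)]
    [AddCommGroup M₁] [Module A M₁] [Module O M₁] [IsScalarTower O A M₁]
    [AddCommGroup M₂] [Module A M₂] [Module O M₂] [IsScalarTower O A M₂]
    (g : M₁ →ₗ[A] M₂) (hg : Function.Injective g) :
    Function.Injective (rTensor C (g.restrictScalars O)) := by
  let e₁ := AlgebraTensorModule.cancelBaseChange O A A M₁ C
  let e₂ := AlgebraTensorModule.cancelBaseChange O A A M₂ C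
  have h : ∀ t, rTensor C (g.restrictScalars O) t = e₂ (rTensor (A ⊗[O] C) g (e₁.symm t)) := by
    intro t
    induction t with
    | zero => simp
    | add a b ha hb => simp [ha, hb]
    | tmul m c => simp [e₁, e₂]
  intro a b hab
  rw [h, h] at hab
  exact e₁.symm.injective
    (Module.Flat.rTensor_preserves_injective_linearMap (M := A ⊗[O] C) g hg (e₂.injective hab))

/-- Injectivity in the middle of a short exact sequence mapped to an exact sequence. -/
theorem rTensor_injective_of_exact {O C P L L' F F' : Type u} [CommRing O] [AddCommGroup C] [Module O C]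
    [AddCommGroup P] [Module O P] [AddCommGroup L] [Module O L] [AddCommGroup L'] [Module O L']
    [AddCommGroup F] [Module O F] [AddCommGroup F'] [Module O F']
    {a : P →ₗ[O] L} {b : L →ₗ[O] L'} (hex : Function.Exact a b) (hb : Function.Surjective b)
    {j : L →ₗ[O] F} {j' : L' →ₗ[O] F'} {q : F →ₗ[O] F'} (hsq : q ∘ₗ j = j' ∘ₗ b)
    (hj' : Function.Injective (rTensor C j')) (hja : Function.Injective (rTensor C (j ∘ₗ a))) :
    Function.Injective (rTensor C j) := by
  rw [injective_iff_map_eq_zero]
  intro x hx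
  have h1 : rTensor C j' (rTensor C b x) = 0 := by
    rw [← rTensor_comp_apply, ← hsq, rTensor_comp_apply, hx, map_zero]
  obtain ⟨t, rfl⟩ := (rTensor_exact C hex hb x).1 ((map_eq_zero_iff _ hj').1 h1)
  rw [← rTensor_comp_apply] at hx
  rw [(map_eq_zero_iff _ hja).1 hx, map_zero]

/-- If `F → M` is surjective with kernel inside `L`, injectivity descends from `L → F` to `N → M`. -/
theorem rTensor_injective_of_surjective {O C L F N M : Type u} [CommRing O] [AddCommGroup C] [Module O C]
    [AddCommGroup L] [Module O L] [AddCommGroup F] [Module O F] [AddCommGroup N] [Module O N]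
    [AddCommGroup M] [Module O M] {π : F →ₗ[O] M} (hπ : Function.Surjective π) {π' : L →ₗ[O] N}
    (hπ' : Function.Surjective π') {j : L →ₗ[O] F} {i : N →ₗ[O] M} (hsq : i ∘ₗ π' = π ∘ₗ j)
    (k : LinearMap.ker π →ₗ[O] L) (hk : j ∘ₗ k = (LinearMap.ker π).subtype) (hk' : π' ∘ₗ k = 0)
    (hj : Function.Injective (rTensor C j)) : Function.Injective (rTensor C i) := by
  rw [injective_iff_map_eq_zero]
  intro x hx
  obtain ⟨y, rfl⟩ := rTensor_surjective C hπ' x
  rw [← rTensor_comp_apply, hsq, rTensor_comp_apply] at hx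
  obtain ⟨z, hz⟩ := (rTensor_exact C π.exact_subtype_ker_map hπ _).1 hx
  rw [← hk, rTensor_comp_apply] at hz
  rw [← hj hz, ← rTensor_comp_apply, hk', rTensor_zero, LinearMap.zero_apply]

/-- An element of `C` dies in `R ⊗ C` iff it is in `P C`. -/
theorem one_tmul_eq_zero_iff {O R C : Type u} [CommRing O] [CommRing R] [Algebra O R] [AddCommGroup C] [Module O C] (hsurj : Function.Surjective (algebraMap O R)) (c : C) :
    (1 : R) ⊗ₜ[O] c = 0 ↔
      ∃ t, TensorProduct.lid O C (rTensor C (RingHom.ker (algebraMap O R)).subtype t) = c := by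
  have hex : Function.Exact (RingHom.ker (algebraMap O R)).subtype (Algebra.linearMap O R) := fun o =>
    ⟨fun h => ⟨⟨o, RingHom.mem_ker.2 h⟩, rfl⟩, by rintro ⟨p, rfl⟩; exact (RingHom.mem_ker (f := algebraMap O R)).1 p.2⟩
  have h := rTensor_exact C hex hsurj ((TensorProduct.lid O C).symm c)
  rw [TensorProduct.lid_symm_apply, rTensor_tmul, Algebra.linearMap_apply, map_one] at h
  rw [h, Set.mem_range]
  exact exists_congr fun t => by
    rw [← (TensorProduct.lid O C).injective.eq_iff, TensorProduct.lid_tmul, one_smul]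

/-- Free case of `rTensor_injective_of_smul_le`. -/
theorem rTensor_injective_of_flat {O R C F : Type u} [CommRing O] [CommRing R] [Algebra O R]
    (hsurj : Function.Surjective (algebraMap O R)) [AddCommGroup C] [Module O C]
    (hP : Function.Injective (rTensor C (RingHom.ker (algebraMap O R)).subtype))
    [Module.Flat R (R ⊗[O] C)] [AddCommGroup F] [Module O F] [Module.Flat O F] (L : Submodule O F)
    (hL : ∀ p ∈ RingHom.ker (algebraMap O R), ∀ x : F, p • x ∈ L) :
    Function.Injective (rTensor C L.subtype) := by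
  let P := RingHom.ker (algebraMap O R)
  let ι : P ⊗[O] F →ₗ[O] F := (TensorProduct.lid O F).toLinearMap ∘ₗ rTensor F P.subtype
  let q : F →ₗ[O] R ⊗[O] F := TensorProduct.mk O R F 1
  have hιL : ∀ v, ι v ∈ L := fun v => by
    induction v with
    | zero => simp
    | add a b ha hb => rw [map_add]; exact add_mem ha hb
    | tmul p x => simpa [ι] using hL p p.2 x
  let ι' : P ⊗[O] F →ₗ[O] L := ι.codRestrict L hιL
  let L' : Submodule R (R ⊗[O] F) :=
    { carrier := q '' L
      add_mem' := by
        rintro _ _ ⟨a, ha, rfl⟩ ⟨b, hb, rfl⟩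
        exact ⟨a + b, add_mem ha hb, map_add q a b⟩
      zero_mem' := ⟨0, zero_mem _, map_zero q⟩
      smul_mem' := by
        rintro r _ ⟨a, ha, rfl⟩
        obtain ⟨o, rfl⟩ := hsurj r
        exact ⟨o • a, L.smul_mem o ha, by rw [map_smul, algebraMap_smul]⟩ }
  let q' : L →ₗ[O] L' :=
    { toFun := fun l => ⟨q l.1, l.1, l.2, rfl⟩
      map_add' := fun a b => Subtype.ext (map_add q a.1 b.1)
      map_smul' := fun o a => Subtype.ext (map_smul q o a.1) }
  have hq' : Function.Surjective q' := fun ⟨_, a, ha, h⟩ => ⟨⟨a, ha⟩, Subtype.ext h⟩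
  have hex : Function.Exact ι' q' := by
    intro l
    constructor
    · intro hl
      obtain ⟨t, ht⟩ := (one_tmul_eq_zero_iff (C := F) hsurj l.1).1 (congrArg Subtype.val hl)
      exact ⟨t, Subtype.ext ht⟩
    · rintro ⟨v, rfl⟩
      exact Subtype.ext ((one_tmul_eq_zero_iff (C := F) hsurj (ι v)).2 ⟨v, rfl⟩)
  let e : (P ⊗[O] F) ⊗[O] C ≃ₗ[O] F ⊗[O] (P ⊗[O] C) :=
    LinearEquiv.rTensor C (TensorProduct.comm O P F) ≪≫ₗ TensorProduct.assoc O F P C
  have hι : Function.Injective (rTensor C ι) := by
    have h : ∀ x, lTensor F (TensorProduct.lid O C).symm.toLinearMap (rTensor C ι x) =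
        lTensor F (rTensor C P.subtype) (e x) := by
      intro x
      induction x with
      | zero => simp
      | add a b ha hb => simp only [map_add, ha, hb]
      | tmul w c =>
        induction w with
        | zero => simp
        | add a b ha hb => simp only [TensorProduct.add_tmul, map_add, ha, hb]
        | tmul p x =>
          simp only [ι, e, rTensor_tmul, lTensor_tmul, LinearMap.comp_apply, LinearEquiv.coe_coe,
            LinearEquiv.trans_apply, LinearEquiv.rTensor_tmul, TensorProduct.comm_tmul, TensorProduct.assoc_tmul,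
            TensorProduct.lid_tmul, TensorProduct.lid_symm_apply, Submodule.subtype_apply]
          rw [TensorProduct.smul_tmul, TensorProduct.smul_tmul', smul_eq_mul, mul_one]
    intro a b hab
    exact e.injective (Module.Flat.lTensor_preserves_injective_linearMap (M := F) (rTensor C P.subtype) hP
      ((h a).symm.trans ((congrArg _ hab).trans (h b))))
  have hj' := rTensor_restrictScalars_injective (O := O) (A := R) (C := C) (M₁ := L') (M₂ := R ⊗[O] F) L'.subtype Subtype.val_injective
  have hcomp : L.subtype ∘ₗ ι' = ι := LinearMap.ext fun _ => rfl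
  have hja : Function.Injective (rTensor C (L.subtype ∘ₗ ι')) := by rw [hcomp]; exact hι
  exact rTensor_injective_of_exact (O := O) (C := C) (P := P ⊗[O] F) (L := L) (L' := L') (F := F) (F' := R ⊗[O] F)
    (a := ι') (b := q') hex hq' (j := L.subtype) (j' := L'.subtype.restrictScalars O) (q := q)
    (LinearMap.ext fun _ => rfl) hj' hja

/-- If `ker ⊗ C → C` is injective and `R ⊗ C` is `R`-flat, tensoring with `C` preserves an inclusion
`N ⊆ M` with cokernel killed by the kernel. -/
theorem rTensor_injective_of_smul_le {O R C M : Type u} [CommRing O] [CommRing R] [Algebra O R]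
    (hsurj : Function.Surjective (algebraMap O R)) [AddCommGroup C] [Module O C]
    (hP : Function.Injective (rTensor C (RingHom.ker (algebraMap O R)).subtype))
    [Module.Flat R (R ⊗[O] C)] [AddCommGroup M] [Module O M] (N : Submodule O M)
    (hN : ∀ p ∈ RingHom.ker (algebraMap O R), ∀ x : M, p • x ∈ N) :
    Function.Injective (rTensor C N.subtype) := by
  obtain ⟨F, _, _, _, π, hπ⟩ : ∃ (F : Type u) (_ : AddCommGroup F) (_ : Module O F) (_ : Module.Flat O F)
      (π : F →ₗ[O] M), Function.Surjective π :=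
    ⟨M →₀ O, inferInstance, inferInstance, inferInstance, Finsupp.linearCombination O id,
      Finsupp.linearCombination_id_surjective O M⟩
  let L : Submodule O F := N.comap π
  have hKL : LinearMap.ker π ≤ L := fun v hv => by
    show π v ∈ N
    rw [LinearMap.mem_ker.1 hv]
    exact zero_mem N
  let π' : L →ₗ[O] N := π.restrict fun v (hv : v ∈ L) => hv
  have hπ' : Function.Surjective π' := fun ⟨y, hy⟩ => by
    obtain ⟨v, rfl⟩ := hπ y
    exact ⟨⟨v, hy⟩, rfl⟩
  exact rTensor_injective_of_surjective (π := π) hπ (π' := π') hπ' (j := L.subtype) (i := N.subtype)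
    (LinearMap.ext fun _ => rfl) (Submodule.inclusion hKL)
    (LinearMap.ext fun _ => rfl) (LinearMap.ext fun v => Subtype.ext v.2)
    (rTensor_injective_of_flat hsurj hP L fun p hp x => by
      show π (p • x) ∈ N
      rw [map_smul]
      exact hN p hp _)

section

variable {O A R C : Type u} [CommRing O] [CommRing A] [Algebra O A] [CommRing R] [Algebra O R]
  [AddCommGroup C] [Module O C]

/-- The multiplication `P ⊗ C → C` seen in `A ⊗ C`. -/
theorem mk_lid (u : O ⊗[O] C) :
    TensorProduct.mk O A C 1 (TensorProduct.lid O C u) = rTensor C (Algebra.linearMap O A) u := by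
  induction u with
  | zero => simp
  | add a b ha hb => simp only [map_add, ha, hb]
  | tmul o c => simp [Algebra.algebraMap_eq_smul_one, TensorProduct.smul_tmul]

theorem one_tmul_surjective (hsurj : Function.Surjective (algebraMap O R)) (x : R ⊗[O] C) :
    ∃ c : C, (1 : R) ⊗ₜ[O] c = x := by
  induction x with
  | zero => exact ⟨0, tmul_zero _ _⟩
  | tmul r c =>
    obtain ⟨o, rfl⟩ := hsurj r
    exact ⟨o • c, by rw [← TensorProduct.smul_tmul, Algebra.algebraMap_eq_smul_one]⟩
  | add a b ha hb =>
    obtain ⟨ca, rfl⟩ := ha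
    obtain ⟨cb, rfl⟩ := hb
    exact ⟨ca + cb, tmul_add _ _ _⟩

variable (hsurj : Function.Surjective (algebraMap O R)) (hinj : Function.Injective (algebraMap O A))
  (S : Submonoid O) (hS : ∀ s, s ∈ S ↔ s ∉ RingHom.ker (algebraMap O R)) [IsLocalization S A]
  (m : Ideal A) (hm : ∀ a ∈ m, ∃ p ∈ RingHom.ker (algebraMap O R), algebraMap O A p = a)
  (hm' : ∀ p ∈ RingHom.ker (algebraMap O R), algebraMap O A p ∈ m)
  (hadm : Function.Injective (TensorProduct.mk O A C 1)) [Module.Flat A (A ⊗[O] C)]

include hinj hm hm' in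
/-- `P ⊗ C → O ⊗ C` is injective. -/
theorem ker_rTensor_injective :
    Function.Injective (rTensor C (RingHom.ker (algebraMap O R)).subtype) := by
  let iP : RingHom.ker (algebraMap O R) →ₗ[O] m :=
    { toFun := fun p => ⟨algebraMap O A p.1, hm' p.1 p.2⟩
      map_add' := fun a b => Subtype.ext (map_add (algebraMap O A) a.1 b.1)
      map_smul' := fun o a => Subtype.ext (show algebraMap O A (o * a.1) = o • algebraMap O A a.1 by
        rw [map_mul, Algebra.smul_def]) }
  have hiP : Function.Bijective iP := ⟨fun a b h => Subtype.ext (hinj (congrArg Subtype.val h)),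
    fun ⟨a, ha⟩ => by obtain ⟨p, hp, rfl⟩ := hm a ha; exact ⟨⟨p, hp⟩, rfl⟩⟩
  have h : Function.Injective (rTensor C
      (Algebra.linearMap O A ∘ₗ (RingHom.ker (algebraMap O R)).subtype)) := by
    rw [show Algebra.linearMap O A ∘ₗ (RingHom.ker (algebraMap O R)).subtype =
      m.subtype.restrictScalars O ∘ₗ iP from rfl, rTensor_comp, coe_comp]
    exact (rTensor_restrictScalars_injective m.subtype Subtype.val_injective).comp
      (LinearEquiv.rTensor C (LinearEquiv.ofBijective iP hiP)).injective
  rw [rTensor_comp, coe_comp] at h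
  exact h.of_comp

include hsurj hinj hS hm hm' hadm in
/-- `R ⊗ C` is torsion free, hence flat. -/
theorem flat_quotient [IsDomain R] [ValuationRing R] : Module.Flat R (R ⊗[O] C) := by
  rw [Module.Flat.flat_iff_torsion_eq_bot_of_isBezout, eq_bot_iff]
  intro x hx
  obtain ⟨⟨r, hr⟩, hrx⟩ := (Submodule.mem_torsion_iff x).1 hx
  obtain ⟨c, rfl⟩ := one_tmul_surjective hsurj x
  obtain ⟨s, rfl⟩ := hsurj r
  have hs : s ∈ S := (hS s).2 fun h => nonZeroDivisors.ne_zero hr (RingHom.mem_ker.1 h)
  obtain ⟨t, ht⟩ := (one_tmul_eq_zero_iff hsurj (s • c)).1 (by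
    rw [tmul_smul, ← hrx]
    exact (algebraMap_smul R s _).symm)
  obtain ⟨v, hv⟩ := IsLocalization.map_units A ⟨s, hs⟩
  let g : m ⊗[O] C →ₗ[A] A ⊗[O] C := AlgebraTensorModule.map m.subtype LinearMap.id
  have hmem : ∀ u, rTensor C (Algebra.linearMap O A ∘ₗ (RingHom.ker (algebraMap O R)).subtype) u ∈
      LinearMap.range g := by
    intro u
    induction u with
    | zero => simp
    | add a b ha hb => rw [map_add]; exact add_mem ha hb
    | tmul p c => exact ⟨⟨_, hm' p.1 p.2⟩ ⊗ₜ c, by simp [g]⟩
  have hlift : ∀ w : m ⊗[O] C, ∃ u, rTensor C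
      (Algebra.linearMap O A ∘ₗ (RingHom.ker (algebraMap O R)).subtype) u = g w := by
    intro w
    induction w with
    | zero => exact ⟨0, by simp⟩
    | add a b ha hb =>
      obtain ⟨ua, hua⟩ := ha
      obtain ⟨ub, hub⟩ := hb
      exact ⟨ua + ub, by rw [map_add, map_add, hua, hub]⟩
    | tmul a c =>
      obtain ⟨p, hp, hpa⟩ := hm a.1 a.2
      exact ⟨⟨p, hp⟩ ⊗ₜ c, by simp [g, hpa]⟩
  have h1 : (v : A) • ((1 : A) ⊗ₜ[O] c) ∈ LinearMap.range g := by
    have := hmem t
    rw [rTensor_comp_apply, ← mk_lid, ht, TensorProduct.mk_apply, tmul_smul] at this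
    rwa [hv, algebraMap_smul]
  obtain ⟨w, hw⟩ := (LinearMap.range g).smul_mem (↑v⁻¹ : A) h1
  rw [← mul_smul, Units.inv_mul, one_smul] at hw
  obtain ⟨u, hu⟩ := hlift w
  rw [rTensor_comp_apply, ← mk_lid, hw] at hu
  exact (one_tmul_eq_zero_iff hsurj c).2 ⟨u, hadm hu⟩

include hsurj hinj hS hm hm' hadm in
/-- Flatness over the semi-valuation ring. -/
theorem flat [IsDomain R] [ValuationRing R] : Module.Flat O C := by
  haveI := flat_quotient hsurj hinj S hS m hm hm' hadm
  have hP := ker_rTensor_injective (C := C) hinj m hm hm'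
  rw [Module.Flat.iff_rTensor_injective']
  intro I
  let J : Ideal A := I.map (algebraMap O A)
  let iI : I →ₗ[O] J :=
    { toFun := fun i => ⟨algebraMap O A i.1, Ideal.mem_map_of_mem _ i.2⟩
      map_add' := fun a b => Subtype.ext (map_add (algebraMap O A) a.1 b.1)
      map_smul' := fun o a => Subtype.ext (show algebraMap O A (o * a.1) = o • algebraMap O A a.1 by
        rw [map_mul, Algebra.smul_def]) }
  have hiI : Function.Injective iI := fun a b h => Subtype.ext (hinj (congrArg Subtype.val h))
  have hN : ∀ p ∈ RingHom.ker (algebraMap O R), ∀ z : J, p • z ∈ LinearMap.range iI := by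
    intro p hp z
    obtain ⟨⟨i, s⟩, hz⟩ := (IsLocalization.mem_map_algebraMap_iff S A).1 z.2
    obtain ⟨v, hv⟩ := IsLocalization.map_units A s
    obtain ⟨p', -, hp'⟩ := hm _ (m.mul_mem_left (↑v⁻¹ : A) (hm' p hp))
    refine ⟨⟨p' * i.1, I.mul_mem_left p' i.2⟩, Subtype.ext ?_⟩
    calc algebraMap O A (p' * i.1) = (↑v⁻¹ * algebraMap O A p) * (z.1 * ↑v) := by
          rw [map_mul, hp', hv, hz]
      _ = algebraMap O A p * z.1 * (↑v⁻¹ * ↑v) := by ring
      _ = p • z.1 := by rw [Units.inv_mul, mul_one, Algebra.smul_def]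
  have h : Function.Injective (rTensor C (Algebra.linearMap O A ∘ₗ I.subtype)) := by
    rw [show Algebra.linearMap O A ∘ₗ I.subtype = J.subtype.restrictScalars O ∘ₗ
        ((LinearMap.range iI).subtype ∘ₗ (LinearEquiv.ofInjective iI hiI).toLinearMap) from rfl,
      rTensor_comp, coe_comp, rTensor_comp, coe_comp]
    exact (rTensor_restrictScalars_injective J.subtype Subtype.val_injective).comp
      ((rTensor_injective_of_smul_le hsurj hP _ hN).comp
        (LinearEquiv.rTensor C (LinearEquiv.ofInjective iI hiI)).injective)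
  rw [rTensor_comp, coe_comp] at h
  exact h.of_comp

end

section

variable {O A R C : Type u} [CommRing O] [CommRing A] [Algebra O A] [CommRing R] [Algebra O R]
  [CommRing C] [Algebra O C] [Algebra.FiniteType O C]
  (hsurj : Function.Surjective (algebraMap O R)) (hinj : Function.Injective (algebraMap O A))
  (S : Submonoid O) [IsLocalization S A]
  (m : Ideal A) (hm : ∀ a ∈ m, ∃ p ∈ RingHom.ker (algebraMap O R), algebraMap O A p = a)
  (hm' : ∀ p ∈ RingHom.ker (algebraMap O R), algebraMap O A p ∈ m)
  (hadm : Function.Injective (TensorProduct.mk O A C 1))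
  [Module.Flat A (A ⊗[O] C)] [Algebra.FinitePresentation A (A ⊗[O] C)]
  [Algebra.FinitePresentation R (R ⊗[O] C)]

include hsurj hinj S hm hm' hadm in
/-- Finite presentation over the semi-valuation ring. -/
theorem finitePresentation : Algebra.FinitePresentation O C := by
  classical
  obtain ⟨n, φ, hφ⟩ := Algebra.FiniteType.iff_quotient_mvPolynomial''.1 ‹Algebra.FiniteType O C›
  let fA : MvPolynomial (Fin n) A →ₐ[A] A ⊗[O] C := MvPolynomial.aeval fun i => (1 : A) ⊗ₜ[O] φ (MvPolynomial.X i)
  let fR : MvPolynomial (Fin n) R →ₐ[R] R ⊗[O] C := MvPolynomial.aeval fun i => (1 : R) ⊗ₜ[O] φ (MvPolynomial.X i)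
  let jA := MvPolynomial.map (σ := Fin n) (algebraMap O A)
  let jR := MvPolynomial.map (σ := Fin n) (algebraMap O R)
  have hcA : ∀ z, fA (jA z) = (1 : A) ⊗ₜ[O] φ z := by
    refine fun z => RingHom.congr_fun (MvPolynomial.ringHom_ext (f := fA.toRingHom.comp jA)
      (g := (Algebra.TensorProduct.includeRight : C →ₐ[O] A ⊗[O] C).toRingHom.comp φ.toRingHom)
      (fun o => ?_) (fun i => ?_)) z
    · simp [fA, jA, MvPolynomial.algebraMap_eq, ← IsScalarTower.algebraMap_apply,
        show φ (MvPolynomial.C o) = algebraMap O C o from φ.commutes o, Algebra.TensorProduct.algebraMap_apply,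
        Algebra.algebraMap_eq_smul_one, TensorProduct.smul_tmul, Algebra.TensorProduct.one_def, ← TensorProduct.tmul_smul]
    · simp [fA, jA]
  have hcR : ∀ z, fR (jR z) = (1 : R) ⊗ₜ[O] φ z := by
    refine fun z => RingHom.congr_fun (MvPolynomial.ringHom_ext (f := fR.toRingHom.comp jR)
      (g := (Algebra.TensorProduct.includeRight : C →ₐ[O] R ⊗[O] C).toRingHom.comp φ.toRingHom)
      (fun o => ?_) (fun i => ?_)) z
    · simp [fR, jR, MvPolynomial.algebraMap_eq, ← IsScalarTower.algebraMap_apply,
        show φ (MvPolynomial.C o) = algebraMap O C o from φ.commutes o, Algebra.TensorProduct.algebraMap_apply,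
        Algebra.algebraMap_eq_smul_one, TensorProduct.smul_tmul, Algebra.TensorProduct.one_def, ← TensorProduct.tmul_smul]
    · simp [fR, jR]
  have hfA : Function.Surjective fA := by
    intro x
    induction x with
    | zero => exact ⟨0, map_zero _⟩
    | add a b ha hb =>
      obtain ⟨a', rfl⟩ := ha
      obtain ⟨b', rfl⟩ := hb
      exact ⟨a' + b', map_add _ _ _⟩
    | tmul a c =>
      obtain ⟨z, rfl⟩ := hφ c
      exact ⟨a • jA z, by rw [map_smul, hcA, TensorProduct.smul_tmul', smul_eq_mul, mul_one]⟩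
  have hfR : Function.Surjective fR := by
    intro x
    obtain ⟨c, rfl⟩ := one_tmul_surjective hsurj x
    obtain ⟨z, rfl⟩ := hφ c
    exact ⟨jR z, hcR z⟩
  clear_value fA fR
  letI : Algebra (MvPolynomial (Fin n) O) (MvPolynomial (Fin n) A) := MvPolynomial.algebraMvPolynomial
  haveI : IsLocalization (S.map (MvPolynomial.C (σ := Fin n))) (MvPolynomial (Fin n) A) :=
    MvPolynomial.isLocalization S A
  have hjA : (algebraMap (MvPolynomial (Fin n) O) (MvPolynomial (Fin n) A)) = jA := rfl
  have hjAinj : Function.Injective jA := MvPolynomial.map_injective _ hinj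
  have hfrac : ∀ y : MvPolynomial (Fin n) A, ∃ (v : Aˣ) (z : MvPolynomial (Fin n) O), jA z = (v : A) • y := by
    intro y
    obtain ⟨⟨z, ⟨_, s, hs, rfl⟩⟩, hz⟩ := IsLocalization.surj (S.map (MvPolynomial.C (σ := Fin n))) y
    obtain ⟨v, hv⟩ := IsLocalization.map_units A ⟨s, hs⟩
    refine ⟨v, z, ?_⟩
    rw [hjA] at hz
    rw [← hz, hv, MvPolynomial.smul_eq_C_mul, mul_comm]
    simp [jA]
  -- generators over A
  obtain ⟨GA, hGA⟩ := Algebra.FinitePresentation.ker_fg_of_mvPolynomial fA hfA
  choose v g hg using hfrac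
  let G : Finset (MvPolynomial (Fin n) O) := GA.image g
  have hGker : ∀ z ∈ G, φ z = 0 := by
    intro z hz
    obtain ⟨y, hy, rfl⟩ := Finset.mem_image.1 hz
    have hy0 : fA y = 0 := by
      have := hGA ▸ Ideal.subset_span hy
      exact this
    have h1 := hcA (g y)
    rw [hg, map_smul, hy0, smul_zero] at h1
    exact hadm (h1.symm.trans (map_zero (TensorProduct.mk O A C 1)).symm)
  have hspanA : RingHom.ker fA.toRingHom ≤ (Ideal.span (G : Set (MvPolynomial (Fin n) O))).map jA := by
    rw [← hGA, Ideal.span_le]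
    intro y hy
    rw [SetLike.mem_coe, show y = MvPolynomial.C (↑(v y)⁻¹ : A) * jA (g y) by
      rw [hg, MvPolynomial.smul_eq_C_mul, ← mul_assoc, ← map_mul, Units.inv_mul, map_one, one_mul]]
    exact Ideal.mul_mem_left _ _ (Ideal.mem_map_of_mem _ (Ideal.subset_span (Finset.mem_image_of_mem g hy)))
  -- generators over R
  obtain ⟨HR, hHR⟩ := Algebra.FinitePresentation.ker_fg_of_mvPolynomial fR hfR
  have hlift : ∀ y : MvPolynomial (Fin n) R, y ∈ RingHom.ker fR.toRingHom →
      ∃ z, φ z = 0 ∧ jR z = y := by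
    intro y hy
    obtain ⟨z, rfl⟩ := MvPolynomial.map_surjective (algebraMap O R) hsurj y
    have h0 : (1 : R) ⊗ₜ[O] φ z = 0 := (hcR z).symm.trans hy
    obtain ⟨t, ht⟩ := (one_tmul_eq_zero_iff hsurj (φ z)).1 h0
    obtain ⟨t', rfl⟩ := lTensor_surjective (RingHom.ker (algebraMap O R)) (g := φ.toLinearMap) hφ t
    let q := TensorProduct.lid O (MvPolynomial (Fin n) O) (rTensor _ (RingHom.ker (algebraMap O R)).subtype t')
    have hq : φ q = φ z ∧ jR q = 0 := by
      rw [← ht]
      refine ⟨?_, ?_⟩
      · clear ht h0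
        induction t' with
        | zero => simp [q]
        | add a b ha hb => simp only [q, map_add] at *; rw [ha, hb]
        | tmul p w => simp [q]
      · clear ht h0
        induction t' with
        | zero => simp [q]
        | add a b ha hb => simp only [q, map_add] at *; rw [ha, hb, add_zero]
        | tmul p w => simp [q, jR, MvPolynomial.smul_eq_C_mul, RingHom.mem_ker.1 p.2]
    exact ⟨z - q, by rw [map_sub, hq.1, sub_self], by rw [map_sub, hq.2, sub_zero]⟩
  choose h hh0 hh using hlift
  have hHRmem : ∀ y ∈ HR, y ∈ RingHom.ker fR.toRingHom := fun y hy => hHR ▸ Ideal.subset_span hy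
  let H : Finset (MvPolynomial (Fin n) O) :=
    HR.attach.image fun y : {y : MvPolynomial (Fin n) R // y ∈ HR} => h y.1 (hHRmem y.1 y.2)
  refine Algebra.FinitePresentation.of_surjective hφ ⟨G ∪ H, le_antisymm ?_ ?_⟩
  · rw [Ideal.span_le]
    intro z hz
    rcases Finset.mem_union.1 hz with hz | hz
    · exact hGker z hz
    · obtain ⟨y, -, rfl⟩ := Finset.mem_image.1 hz
      exact hh0 y.1 _
  intro z hz
  have hzR : jR z ∈ (Ideal.span (H : Set (MvPolynomial (Fin n) O))).map jR := by
    refine (show RingHom.ker fR.toRingHom ≤ _ from ?_) (show fR (jR z) = 0 by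
      rw [hcR, show φ z = 0 from hz, tmul_zero])
    rw [← hHR, Ideal.span_le]
    intro y hy
    rw [SetLike.mem_coe, ← hh y (hHRmem y hy)]
    exact Ideal.mem_map_of_mem _ (Ideal.subset_span (Finset.mem_image.2 ⟨⟨y, hy⟩, Finset.mem_attach _ _, rfl⟩))
  obtain ⟨w, hw, hwz⟩ := (Ideal.mem_map_iff_of_surjective jR (MvPolynomial.map_surjective _ hsurj)).1 hzR
  have hspan_le : Ideal.span (H : Set (MvPolynomial (Fin n) O)) ≤ RingHom.ker φ.toRingHom := by
    rw [Ideal.span_le]
    intro y hy
    obtain ⟨y', -, rfl⟩ := Finset.mem_image.1 hy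
    exact hh0 y'.1 _
  suffices hd : z - w ∈ Ideal.span (G : Set (MvPolynomial (Fin n) O)) by
    rw [← sub_add_cancel z w, Finset.coe_union]
    exact add_mem (Ideal.span_mono Set.subset_union_left hd) (Ideal.span_mono Set.subset_union_right hw)
  have hdker : φ (z - w) = 0 := by
    rw [map_sub, show φ z = 0 from hz, show φ w = 0 from hspan_le hw, sub_zero]
  have hdR : jR (z - w) = 0 := by rw [map_sub, hwz, sub_self]
  let d := z - w
  -- d is in m A[x]
  have hdm : jA d ∈ (m • ⊤ : Submodule A (MvPolynomial (Fin n) A)) := by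
    rw [Ideal.smul_top_eq_map, Submodule.restrictScalars_mem, MvPolynomial.algebraMap_eq,
      MvPolynomial.mem_map_C_iff]
    intro e
    rw [MvPolynomial.coeff_map]
    refine hm' _ (RingHom.mem_ker.2 ?_)
    have := congrArg (MvPolynomial.coeff e) hdR
    rwa [MvPolynomial.coeff_map, MvPolynomial.coeff_zero] at this
  -- lift to the kernel
  obtain ⟨t, ht⟩ : ∃ t, TensorProduct.lid A _ (rTensor (MvPolynomial (Fin n) A) m.subtype t) = jA d := by
    refine Submodule.smul_induction_on hdm (fun a ha y _ => ⟨⟨a, ha⟩ ⊗ₜ y, by simp⟩) ?_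
    rintro _ _ ⟨t₁, rfl⟩ ⟨t₂, rfl⟩
    exact ⟨t₁ + t₂, by rw [map_add, map_add]⟩
  have hf0 : lTensor m fA.toLinearMap t = 0 := by
    apply Module.Flat.rTensor_preserves_injective_linearMap (M := A ⊗[O] C) m.subtype Subtype.val_injective
    apply (TensorProduct.lid A (A ⊗[O] C)).injective
    rw [map_zero, map_zero]
    have hnat : ∀ s, TensorProduct.lid A (A ⊗[O] C) (rTensor _ m.subtype (lTensor m fA.toLinearMap s)) =
        fA (TensorProduct.lid A _ (rTensor (MvPolynomial (Fin n) A) m.subtype s)) := by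
      intro s
      induction s with
      | zero => simp
      | add a b ha hb => simp only [map_add, ha, hb]
      | tmul p w => simp
    rw [hnat, ht]
    exact (hcA d).trans (by rw [hdker, tmul_zero])
  obtain ⟨k, rfl⟩ := (lTensor_exact m (fA.toLinearMap.exact_subtype_ker_map) hfA t).1 hf0
  -- every element of m ⊗ ker comes from the span of G
  have hk : ∀ k : m ⊗[A] LinearMap.ker fA.toLinearMap, ∃ w ∈ Ideal.span (G : Set (MvPolynomial (Fin n) O)),
      jA w = TensorProduct.lid A _ (rTensor (MvPolynomial (Fin n) A) m.subtype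
        (lTensor m (LinearMap.ker fA.toLinearMap).subtype k)) := by
    intro k
    induction k with
    | zero => exact ⟨0, zero_mem _, by simp⟩
    | add a b ha hb =>
      obtain ⟨wa, hwa, hwa'⟩ := ha
      obtain ⟨wb, hwb, hwb'⟩ := hb
      exact ⟨wa + wb, add_mem hwa hwb, by simp only [map_add, hwa', hwb']⟩
    | tmul p y =>
      obtain ⟨⟨w, ⟨_, s, hs, rfl⟩⟩, hws⟩ := (IsLocalization.mem_map_algebraMap_iff
        (S.map (MvPolynomial.C (σ := Fin n))) (MvPolynomial (Fin n) A)).1
        (hjA.symm ▸ hspanA (show y.1 ∈ RingHom.ker fA.toRingHom from y.2))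
      obtain ⟨v', hv'⟩ := IsLocalization.map_units A ⟨s, hs⟩
      obtain ⟨p', -, hp'⟩ := hm _ (m.mul_mem_left (↑v'⁻¹ : A) p.2)
      refine ⟨MvPolynomial.C p' * w.1, Ideal.mul_mem_left _ _ w.2, ?_⟩
      rw [hjA] at hws
      rw [map_mul, ← hws]
      simp only [jA, MvPolynomial.map_C, lTensor_tmul, rTensor_tmul, Submodule.subtype_apply,
        TensorProduct.lid_tmul, MvPolynomial.smul_eq_C_mul, hp', ← hv', map_mul]
      rw [show MvPolynomial.C (↑v'⁻¹ : A) * MvPolynomial.C (p : A) * (y.1 * MvPolynomial.C (↑v' : A)) =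
        MvPolynomial.C (p : A) * y.1 * (MvPolynomial.C (↑v'⁻¹ : A) * MvPolynomial.C (↑v' : A)) by ring,
        ← map_mul, Units.inv_mul, map_one, mul_one]
  obtain ⟨w', hw', hw''⟩ := hk k
  rw [show z - w = w' from hjAinj (ht.symm.trans hw''.symm)]
  exact hw'

end

end Groth.Agent.H4RG.SemiVal
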