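import Groth.Agent.H4RG.SpreadLocal
import Mathlib

/-! Pure spreadout of a localized module after a finitely generated quotient of a local base. -/

set_option autoImplicit false
set_option linter.style.haveILetI false
set_option backward.isDefEq.respectTransparency.types false

universe u

open TensorProduct

namespace Groth.Agent.H4RG

/-- The elements that a multiplicative set pushes into the closed fibre are, modulo finitely many of them, in the closed
fibre. -/
theorem exists_torsion_generators {A B P : Type u} [CommRing A] [IsLocalRing A] [CommRing B] [Algebra A B]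
    [Algebra.FiniteType A B] [AddCommGroup P] [Module B P] [Module A P] [IsScalarTower A B P] [Module.Finite B P]
    (T : Submonoid B) :
    ∃ s : Finset P, (∀ x ∈ s, ∃ t ∈ T, t • x ∈ IsLocalRing.maximalIdeal A • (⊤ : Submodule A P)) ∧
      ∀ y : P, (∃ t ∈ T, t • y ∈ IsLocalRing.maximalIdeal A • (⊤ : Submodule A P)) →
        ∃ k ∈ Submodule.span B (↑s : Set P), y - k ∈ IsLocalRing.maximalIdeal A • (⊤ : Submodule A P) := by
  classical
  let m := IsLocalRing.maximalIdeal A
  let J := m.map (algebraMap A B)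
  have hJ : ∀ y : P, y ∈ m • (⊤ : Submodule A P) ↔ y ∈ J • (⊤ : Submodule B P) := fun y => by
    rw [show m • (⊤ : Submodule A P) = (J • (⊤ : Submodule B P)).restrictScalars A by
      rw [Ideal.smul_restrictScalars, Submodule.restrictScalars_top]]
    rfl
  let Pb := P ⧸ J • (⊤ : Submodule B P)
  letI : Field (A ⧸ m) := Ideal.Quotient.field m
  haveI : Algebra.FiniteType (A ⧸ m) (B ⧸ J) := Algebra.FiniteType.of_restrictScalars_finiteType A _ _
  haveI : IsNoetherianRing (B ⧸ J) := Algebra.FiniteType.isNoetherianRing (A ⧸ m) (B ⧸ J)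
  haveI : Module.Finite (B ⧸ J) Pb := Module.Finite.of_restrictScalars_finite B _ _
  let σ : B →+* B ⧸ J := Ideal.Quotient.mk J
  haveI : RingHomSurjective σ := ⟨Ideal.Quotient.mk_surjective⟩
  let idσ : Pb →ₛₗ[σ] Pb :=
    { toFun := id, map_add' := fun _ _ => rfl, map_smul' := fun b x => (algebraMap_smul (B ⧸ J) b x).symm }
  haveI : IsNoetherian B Pb :=
    (LinearMap.isNoetherian_iff_of_bijective idσ Function.bijective_id).2 (isNoetherian_of_isNoetherianRing_of_finite _ _)
  obtain ⟨S, hS⟩ := (IsNoetherian.noetherian (Submodule.torsion' B Pb T) : _)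
  have hpre : ∀ z ∈ S, ∃ x : P, Submodule.Quotient.mk x = z ∧ ∃ t ∈ T, t • x ∈ m • (⊤ : Submodule A P) := fun z hz => by
    obtain ⟨x, rfl⟩ := Submodule.Quotient.mk_surjective _ z
    obtain ⟨t, ht⟩ := (Submodule.mem_torsion'_iff (↥T) _).1 (hS.le (Submodule.subset_span hz))
    refine ⟨x, rfl, t, t.2, (hJ _).2 ((Submodule.Quotient.mk_eq_zero _).1 ?_)⟩
    exact ht
  choose! x hx hxt using hpre
  refine ⟨S.image x, fun v hv => ?_, fun y ⟨t, ht, hy⟩ => ?_⟩
  · obtain ⟨z, hz, rfl⟩ := Finset.mem_image.1 hv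
    exact hxt z hz
  · have h1 : Submodule.Quotient.mk y ∈ Submodule.span B (↑S : Set Pb) := by
      refine hS.ge ((Submodule.mem_torsion'_iff (↥T) _).2 ⟨⟨t, ht⟩, ?_⟩)
      show t • (Submodule.Quotient.mk y : Pb) = 0
      rw [← Submodule.Quotient.mk_smul, Submodule.Quotient.mk_eq_zero]
      exact (hJ _).1 hy
    have h2 : (↑S : Set Pb) = (J • (⊤ : Submodule B P)).mkQ '' ↑(S.image x) := by
      rw [Finset.coe_image, Set.image_image]
      exact (Set.EqOn.image_eq_self (fun z hz => hx z hz)).symm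
    rw [h2, Submodule.span_image] at h1
    obtain ⟨k, hk, hky⟩ := h1
    exact ⟨k, hk, (hJ _).2 ((Submodule.Quotient.eq _).1 hky.symm)⟩

/-- An element of an ideal multiple of a module lies in a finitely generated ideal multiple. -/
theorem exists_fg_le_of_mem_smul {A P : Type u} [CommRing A] [AddCommGroup P] [Module A P] {m : Ideal A}
    (s : Finset P) (hs : ∀ x ∈ s, x ∈ m • (⊤ : Submodule A P)) :
    ∃ I : Ideal A, I.FG ∧ I ≤ m ∧ ∀ x ∈ s, x ∈ I • (⊤ : Submodule A P) := by
  classical
  have h1 : ∀ x ∈ m • (⊤ : Submodule A P), ∃ I : Ideal A, I.FG ∧ I ≤ m ∧ x ∈ I • (⊤ : Submodule A P) := fun x hx => by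
    induction hx using Submodule.smul_induction_on' with
    | smul a ha n _ => exact ⟨Ideal.span {a}, Submodule.fg_span_singleton a,
        Ideal.span_le.2 (Set.singleton_subset_iff.2 ha),
        Submodule.smul_mem_smul (Ideal.subset_span rfl) Submodule.mem_top⟩
    | add x _ y _ hx hy =>
      obtain ⟨I, h1, h2, h3⟩ := hx
      obtain ⟨I', h1', h2', h3'⟩ := hy
      exact ⟨I ⊔ I', Submodule.FG.sup h1 h1', sup_le h2 h2', add_mem (Submodule.smul_mono_left le_sup_left h3)
        (Submodule.smul_mono_left le_sup_right h3')⟩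
  choose I hI1 hI2 hI3 using h1
  refine ⟨s.attach.sup fun x => I x.1 (hs x.1 x.2), Submodule.fg_finset_sup _ _ fun x _ => hI1 _ _,
    Finset.sup_le fun x _ => hI2 _ _, fun x hx => Submodule.smul_mono_left ?_ (hI3 x (hs x hx))⟩
  exact Finset.le_sup (f := fun x : {x // x ∈ s} => I x.1 (hs x.1 x.2)) (Finset.mem_attach s ⟨x, hx⟩)

/-- A quotient of the base gives a surjection of pushouts. -/
theorem surjective_of_pushout_quot {A B B₁ : Type u} [CommRing A] [CommRing B] [Algebra A B] (I : Ideal A) [CommRing B₁]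
    [Algebra B B₁] [Algebra (A ⧸ I) B₁] [Algebra A B₁] [IsScalarTower A B B₁] [IsScalarTower A (A ⧸ I) B₁]
    [h : Algebra.IsPushout A B (A ⧸ I) B₁] : Function.Surjective (algebraMap B B₁) := fun b => by
  refine h.out.inductionOn b (motive := fun b => ∃ x, algebraMap B B₁ x = b) ⟨0, map_zero _⟩ (fun a => ?_)
    (fun c y ⟨x, hx⟩ => ⟨c * x, by rw [map_mul, hx, Algebra.smul_def]⟩)
    fun y z ⟨x, hx⟩ ⟨x', hx'⟩ => ⟨x + x', by rw [map_add, hx, hx']⟩
  obtain ⟨a, rfl⟩ := Ideal.Quotient.mk_surjective a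
  refine ⟨algebraMap A B a, ?_⟩
  rw [← IsScalarTower.algebraMap_apply]
  exact IsScalarTower.algebraMap_apply A (A ⧸ I) B₁ a

/-- Projectivity survives a larger quotient. -/
theorem projective_quot_of_le {A M : Type u} [CommRing A] [AddCommGroup M] [Module A M] {I' I : Ideal A} (h : I' ≤ I)
    [Module.Projective (A ⧸ I') ((A ⧸ I') ⊗[A] M)] : Module.Projective (A ⧸ I) ((A ⧸ I) ⊗[A] M) := by
  letI : Algebra (A ⧸ I') (A ⧸ I) := (Ideal.Quotient.factor h).toAlgebra
  haveI : IsScalarTower A (A ⧸ I') (A ⧸ I) := IsScalarTower.of_algebraMap_eq fun _ => rfl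
  exact Module.Projective.of_equiv (AlgebraTensorModule.cancelBaseChange A (A ⧸ I') (A ⧸ I) (A ⧸ I) M)

section model

variable {A B : Type u} [CommRing A] [CommRing B] [Algebra A B] (I : Ideal A) {B₁ : Type u} [CommRing B₁]
  [Algebra B B₁] [Algebra (A ⧸ I) B₁] [Algebra A B₁] [IsScalarTower A B B₁] [IsScalarTower A (A ⧸ I) B₁]
  [hp : Algebra.IsPushout A B (A ⧸ I) B₁] (M : Type u) [AddCommGroup M] [Module A M] [Module B M] [IsScalarTower A B M]

include hp in
/-- Base change of a module to a quotient of the base is a surjection with the ideal multiple as kernel. -/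
theorem tmul_eq_zero_of_pushout_quot (v : M) :
    (1 : B₁) ⊗ₜ[B] v = 0 ↔ v ∈ I • (⊤ : Submodule A M) := by
  haveI : Algebra.IsPushout A (A ⧸ I) B B₁ := Algebra.IsPushout.symm hp
  have h := isBaseChange_restrict_pushout (A₀ := A) (A₁ := A ⧸ I) (B₁ := B₁) (TensorProduct.mk B B₁ M 1)
    (TensorProduct.isBaseChange B M B₁)
  rw [show (1 : B₁) ⊗ₜ[B] v = h.equiv ((1 : A ⧸ I) ⊗ₜ[A] v) from by rw [IsBaseChange.equiv_tmul, one_smul]; rfl,
    LinearEquiv.map_eq_zero_iff, ← (TensorProduct.quotTensorEquivQuotSMul M I).map_eq_zero_iff,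
    show (1 : A ⧸ I) = Ideal.Quotient.mk I 1 from rfl,
    TensorProduct.quotTensorEquivQuotSMul_mk_tmul, one_smul, Submodule.Quotient.mk_eq_zero]

include hp in
/-- Every element of the base change to a quotient comes from the module. -/
theorem exists_one_tmul_of_pushout_quot (z : B₁ ⊗[B] M) : ∃ v : M, (1 : B₁) ⊗ₜ[B] v = z := by
  induction z using TensorProduct.induction_on with
  | zero => exact ⟨0, TensorProduct.tmul_zero _ _⟩
  | tmul b v =>
    obtain ⟨c, rfl⟩ := surjective_of_pushout_quot (A := A) (B := B) I b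
    exact ⟨c • v, by rw [← TensorProduct.smul_tmul, Algebra.smul_def, mul_one]⟩
  | add x y hx hy =>
    obtain ⟨v, rfl⟩ := hx
    obtain ⟨w, rfl⟩ := hy
    exact ⟨v + w, TensorProduct.tmul_add _ _ _⟩

include hp in
/-- Base change to a projective quotient of the base is projective. -/
theorem projective_pushout_quot [Module.Projective (A ⧸ I) ((A ⧸ I) ⊗[A] M)] :
    Module.Projective (A ⧸ I) (B₁ ⊗[B] M) := by
  haveI : Algebra.IsPushout A (A ⧸ I) B B₁ := Algebra.IsPushout.symm hp
  exact Module.Projective.of_equiv (isBaseChange_restrict_pushout (A₀ := A) (A₁ := A ⧸ I) (B₁ := B₁)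
    (TensorProduct.mk B B₁ M 1) (TensorProduct.isBaseChange B M B₁)).equiv

include hp in
/-- A function regular on the closed fibre is regular on the closed fibre after a quotient of the base. -/
theorem mem_smul_of_regular_quot [IsLocalRing A] [IsLocalRing (A ⧸ I)] (hI : I ≤ IsLocalRing.maximalIdeal A) (t : B)
    (ht : ∀ v : M, t • v ∈ IsLocalRing.maximalIdeal A • (⊤ : Submodule A M) →
      v ∈ IsLocalRing.maximalIdeal A • (⊤ : Submodule A M))
    (z : B₁ ⊗[B] M)
    (hz : algebraMap B B₁ t • z ∈ IsLocalRing.maximalIdeal (A ⧸ I) • (⊤ : Submodule (A ⧸ I) (B₁ ⊗[B] M))) :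
    z ∈ IsLocalRing.maximalIdeal (A ⧸ I) • (⊤ : Submodule (A ⧸ I) (B₁ ⊗[B] M)) := by
  let m := IsLocalRing.maximalIdeal A
  have hm : IsLocalRing.maximalIdeal (A ⧸ I) = m.map (Ideal.Quotient.mk I) := (IsLocalRing.eq_maximalIdeal
    ((Ideal.map_eq_top_or_isMaximal_of_surjective _ Ideal.Quotient.mk_surjective inferInstance).resolve_left
      fun h => (IsLocalRing.maximalIdeal.isMaximal A).ne_top (by
        have := congrArg (Ideal.comap (Ideal.Quotient.mk I)) h
        rwa [Ideal.comap_map_of_surjective _ Ideal.Quotient.mk_surjective, ← RingHom.ker_eq_comap_bot, Ideal.mk_ker,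
          Ideal.comap_top, sup_eq_left.2 hI] at this))).symm
  have key : ∀ x : B₁ ⊗[B] M, x ∈ IsLocalRing.maximalIdeal (A ⧸ I) • (⊤ : Submodule (A ⧸ I) (B₁ ⊗[B] M)) ↔
      ∃ v ∈ m • (⊤ : Submodule A M), (1 : B₁) ⊗ₜ[B] v = x := fun x => by
    constructor
    · intro hx
      induction hx using Submodule.smul_induction_on' with
      | smul a ha y _ =>
        rw [hm, Ideal.mem_map_iff_of_surjective _ Ideal.Quotient.mk_surjective] at ha
        obtain ⟨a, ha, rfl⟩ := ha
        obtain ⟨v, rfl⟩ := exists_one_tmul_of_pushout_quot (A := A) I M y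
        refine ⟨a • v, Submodule.smul_mem_smul ha Submodule.mem_top, ?_⟩
        rw [TensorProduct.tmul_smul]
        exact (IsScalarTower.algebraMap_smul (A ⧸ I) a _).symm
      | add x _ y _ hx hy =>
        obtain ⟨v, hv, rfl⟩ := hx
        obtain ⟨w, hw, rfl⟩ := hy
        exact ⟨v + w, add_mem hv hw, TensorProduct.tmul_add _ _ _⟩
    · rintro ⟨v, hv, rfl⟩
      induction hv using Submodule.smul_induction_on' with
      | smul a ha y _ =>
        rw [TensorProduct.tmul_smul, ← IsScalarTower.algebraMap_smul (A ⧸ I) a ((1 : B₁) ⊗ₜ[B] y)]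
        exact Submodule.smul_mem_smul (hm ▸ Ideal.mem_map_of_mem _ ha) Submodule.mem_top
      | add x _ y _ hx hy =>
        rw [TensorProduct.tmul_add]
        exact add_mem hx hy
  obtain ⟨v, rfl⟩ := exists_one_tmul_of_pushout_quot (A := A) I M z
  rw [algebraMap_smul, ← TensorProduct.tmul_smul, key] at hz
  obtain ⟨w, hw, hwv⟩ := hz
  refine (key _).2 ⟨v, ht v ?_, rfl⟩
  have h0 : t • v - w ∈ I • (⊤ : Submodule A M) := (tmul_eq_zero_of_pushout_quot (B := B) (B₁ := B₁) I M (t • v - w)).1 (by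
    rw [TensorProduct.tmul_sub, hwv, sub_self])
  rw [← sub_add_cancel (t • v) w]
  exact add_mem (Submodule.smul_mono_left hI h0) hw

end model

/-- A localized map from a projective module, injective on the closed fibre, is universally injective. -/
theorem univInj_of_isLocalizedModule {A B N N₁ : Type u} [CommRing A] [IsLocalRing A] [CommRing B] [Algebra A B]
    [Algebra.FiniteType A B] [AddCommGroup N] [Module B N] [Module A N] [IsScalarTower A B N] [Module.Finite B N]
    [Module.Projective A N] [AddCommGroup N₁] [Module B N₁] [Module A N₁] [IsScalarTower A B N₁] (T : Submonoid B)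
    (g : N →ₗ[B] N₁) [IsLocalizedModule T g]
    (ht : ∀ t ∈ T, ∀ v : N, t • v ∈ IsLocalRing.maximalIdeal A • (⊤ : Submodule A N) →
      v ∈ IsLocalRing.maximalIdeal A • (⊤ : Submodule A N)) : FlatCA.UnivInj A (g.restrictScalars A) := by
  intro Q _ _
  rw [LinearMap.lTensor_inj_iff_rTensor_inj, injective_iff_map_eq_zero]
  intro w hw
  have h0 : AlgebraTensorModule.rTensor A Q g w = AlgebraTensorModule.rTensor A Q g 0 := by
    rw [map_zero, ← hw]
    rfl
  obtain ⟨t, hw'⟩ := IsLocalizedModule.exists_of_eq (S := T) h0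
  rw [smul_zero] at hw'
  exact eq_zero_of_smul_projective (t : B) (ht t t.2) Q w hw'

/-- Over a local base, a localization of a finitely presented module admits a pure spreadout after a finitely generated
quotient of the base. -/
theorem exists_pureSpreadout_quot {A B P : Type u} [CommRing A] [IsLocalRing A] [CommRing B] [Algebra A B]
    [Algebra.FinitePresentation A B] [AddCommGroup P] [Module B P] [Module A P] [IsScalarTower A B P]
    [Module.FinitePresentation B P] (T : Submonoid B) :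
    ∃ I : Ideal A, I.FG ∧ I ≤ IsLocalRing.maximalIdeal A ∧
      ∀ (B₁ N₁ : Type u) [CommRing B₁] [Algebra B B₁] [Algebra (A ⧸ I) B₁] [Algebra A B₁] [IsScalarTower A B B₁]
        [IsScalarTower A (A ⧸ I) B₁] [Algebra.IsPushout A B (A ⧸ I) B₁] (T₁ : Submonoid B₁)
        [AddCommGroup N₁] [Module (Localization T₁) N₁] [Module (A ⧸ I) N₁]
        [IsScalarTower (A ⧸ I) (Localization T₁) N₁] [Module A N₁] [IsScalarTower A (A ⧸ I) N₁]
        [Module B N₁] [IsScalarTower B (Localization T₁) N₁] [IsScalarTower A B N₁]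
        (_ : T₁ = T.map (algebraMap B B₁)) (f : P →ₗ[B] N₁),
        (∀ n, ∃ t ∈ T, ∃ y, t • n = f y) → (∀ y, f y = 0 → ∃ t ∈ T, t • y ∈ I • (⊤ : Submodule A P)) →
        FlatCA.HasPureSpreadout (A ⧸ I) B₁ T₁ N₁ := by
  classical
  let m := IsLocalRing.maximalIdeal A
  obtain ⟨s, hst, hgen⟩ := exists_torsion_generators (A := A) (P := P) T
  choose! τ hτ hτm using hst
  obtain ⟨I₀, hI₀, hI₀m, hI₀s⟩ := exists_fg_le_of_mem_smul (s.image fun x => τ x • x) fun x hx => by
    obtain ⟨v, hv, rfl⟩ := Finset.mem_image.1 hx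
    exact hτm v hv
  let K : Submodule B P := Submodule.span B ↑s
  let M := P ⧸ K
  haveI : Module.FinitePresentation B M :=
    Module.finitePresentation_of_surjective K.mkQ K.mkQ_surjective (by rw [Submodule.ker_mkQ]; exact ⟨s, rfl⟩)
  obtain ⟨I', hI', hI'm, hproj'⟩ := exists_projective_quot (A := A) (B := B) (M := M)
  have hreg : ∀ t ∈ T, ∀ v : M, t • v ∈ m • (⊤ : Submodule A M) → v ∈ m • (⊤ : Submodule A M) := by
    intro t ht v hv
    obtain ⟨y, rfl⟩ := Submodule.Quotient.mk_surjective K v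
    have hmap : m • (⊤ : Submodule A M) = (m • (⊤ : Submodule A P)).map (K.mkQ.restrictScalars A) := by
      rw [Submodule.map_smul'', Submodule.map_top, (LinearMap.range_eq_top (f := K.mkQ.restrictScalars A)).2 K.mkQ_surjective]
    rw [hmap] at hv ⊢
    obtain ⟨w, hw, hwy⟩ := hv
    have hk : t • y - w ∈ K := (Submodule.Quotient.eq K).1 (by rw [Submodule.Quotient.mk_smul]; exact hwy.symm)
    have htors : ∀ k ∈ K, ∃ u ∈ T, u • k ∈ m • (⊤ : Submodule A P) := fun k hk => by
      induction hk using Submodule.span_induction with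
      | mem x hx => exact ⟨τ x, hτ x hx, hτm x hx⟩
      | zero => exact ⟨1, T.one_mem, by rw [smul_zero]; exact zero_mem _⟩
      | add a b _ _ ha hb =>
        obtain ⟨u, hu, hua⟩ := ha
        obtain ⟨u', hu', hub⟩ := hb
        refine ⟨u * u', T.mul_mem hu hu', ?_⟩
        rw [smul_add]
        refine add_mem ?_ ?_
        · rw [mul_comm, mul_smul]
          exact Submodule.smul_top_le_comap_smul_top m (Algebra.lsmul A A P u') hua
        · rw [mul_smul]
          exact Submodule.smul_top_le_comap_smul_top m (Algebra.lsmul A A P u) hub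
      | smul b a _ ha =>
        obtain ⟨u, hu, hua⟩ := ha
        refine ⟨u, hu, ?_⟩
        rw [smul_comm]
        exact Submodule.smul_top_le_comap_smul_top m (Algebra.lsmul A A P b) hua
    obtain ⟨u, hu, hum⟩ := htors _ hk
    obtain ⟨k, hk', hkm⟩ := hgen y ⟨u * t, T.mul_mem hu ht, by
      rw [mul_smul, ← sub_add_cancel (t • y) w, smul_add]
      exact add_mem hum (Submodule.smul_top_le_comap_smul_top m (Algebra.lsmul A A P u) hw)⟩
    refine ⟨y - k, hkm, ?_⟩
    show Submodule.Quotient.mk (y - k) = Submodule.Quotient.mk y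
    rw [Submodule.Quotient.mk_sub, (Submodule.Quotient.mk_eq_zero K).2 hk', sub_zero]
  refine ⟨I₀ ⊔ I', Submodule.FG.sup hI₀ hI', sup_le hI₀m hI'm, ?_⟩
  intro B₁ N₁ _ _ _ _ _ _ hp T₁ _ _ _ _ _ _ _ _ _ hT f hsurj hker
  haveI : Nontrivial (A ⧸ I₀ ⊔ I') := Ideal.Quotient.nontrivial_iff.2
    (ne_top_of_le_ne_top (IsLocalRing.maximalIdeal.isMaximal A).ne_top (sup_le hI₀m hI'm))
  haveI : IsLocalRing (A ⧸ I₀ ⊔ I') :=
    IsLocalRing.of_surjective' (Ideal.Quotient.mk (I₀ ⊔ I')) Ideal.Quotient.mk_surjective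
  letI : Module B₁ N₁ := Module.compHom N₁ (algebraMap B₁ (Localization T₁))
  haveI : IsScalarTower B₁ (Localization T₁) N₁ := IsScalarTower.of_algebraMap_smul fun _ _ => rfl
  haveI : IsScalarTower B B₁ N₁ := IsScalarTower.of_algebraMap_smul fun b n => by
    rw [← IsScalarTower.algebraMap_smul (Localization T₁) b n,
      ← IsScalarTower.algebraMap_smul (Localization T₁) (algebraMap B B₁ b) n, ← IsScalarTower.algebraMap_apply]
  haveI : IsScalarTower (A ⧸ I₀ ⊔ I') B₁ N₁ := IsScalarTower.of_algebraMap_smul fun a n => by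
    rw [← IsScalarTower.algebraMap_smul (Localization T₁) a n,
      ← IsScalarTower.algebraMap_smul (Localization T₁) (algebraMap (A ⧸ I₀ ⊔ I') B₁ a) n, ← IsScalarTower.algebraMap_apply]
  have hkillI : ∀ y ∈ (I₀ ⊔ I') • (⊤ : Submodule A P), f y = 0 := fun y hy => by
    induction hy using Submodule.smul_induction_on' with
    | smul a ha n _ =>
      rw [LinearMap.map_smul_of_tower, ← IsScalarTower.algebraMap_smul (A ⧸ I₀ ⊔ I') a (f n)]
      show Ideal.Quotient.mk (I₀ ⊔ I') a • f n = 0
      rw [Ideal.Quotient.eq_zero_iff_mem.2 ha, zero_smul]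
    | add x _ y _ hx hy => rw [map_add, hx, hy, add_zero]
  have hunit : ∀ t ∈ T, ∀ n : N₁, t • n = 0 → n = 0 := fun t ht n hn => by
    have hu : IsUnit (algebraMap B₁ (Localization T₁) (algebraMap B B₁ t)) :=
      IsLocalization.map_units (Localization T₁) ⟨_, hT ▸ Submonoid.mem_map_of_mem _ ht⟩
    rw [← hu.smul_eq_zero, IsScalarTower.algebraMap_smul, IsScalarTower.algebraMap_smul]
    exact hn
  have hK : K ≤ LinearMap.ker f := Submodule.span_le.2 fun x hx => hunit (τ x) (hτ x hx) _ (by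
    rw [← map_smul]
    exact hkillI _ (Submodule.smul_mono_left le_sup_left (hI₀s _ (Finset.mem_image_of_mem _ hx))))
  let fM : M →ₗ[B] N₁ := K.liftQ f hK
  let N' := B₁ ⊗[B] M
  let g : N' →ₗ[B₁] N₁ := (TensorProduct.isBaseChange B M B₁).lift fM
  have hg : ∀ v, g ((1 : B₁) ⊗ₜ[B] v) = fM v := fun v => (TensorProduct.isBaseChange B M B₁).lift_eq fM v
  haveI hloc : IsLocalizedModule T₁ g := by
    refine ⟨fun u => ?_, fun n => ?_, fun {x y} hxy => ?_⟩
    · rw [Module.End.isUnit_iff]
      have hu := IsLocalization.map_units (Localization T₁) u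
      refine ⟨fun a b hab => ?_, fun n => ⟨(↑hu.unit⁻¹ : Localization T₁) • n, ?_⟩⟩
      · change (u : B₁) • a = (u : B₁) • b at hab
        rw [← IsScalarTower.algebraMap_smul (Localization T₁) (u : B₁) a,
          ← IsScalarTower.algebraMap_smul (Localization T₁) (u : B₁) b] at hab
        exact hu.smul_left_cancel.1 hab
      · change (u : B₁) • ((↑hu.unit⁻¹ : Localization T₁) • n) = n
        rw [← IsScalarTower.algebraMap_smul (Localization T₁) (u : B₁), smul_smul, IsUnit.mul_val_inv, one_smul]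
    · obtain ⟨t, ht, y, hy⟩ := hsurj n
      refine ⟨⟨(1 : B₁) ⊗ₜ[B] Submodule.Quotient.mk y, ⟨_, hT ▸ Submonoid.mem_map_of_mem _ ht⟩⟩, ?_⟩
      show algebraMap B B₁ t • n = _
      rw [hg, algebraMap_smul, hy]
      rfl
    · obtain ⟨v, hv⟩ := exists_one_tmul_of_pushout_quot (A := A) (I₀ ⊔ I') M (x - y)
      obtain ⟨y₀, rfl⟩ := Submodule.Quotient.mk_surjective K v
      obtain ⟨t, ht, hty⟩ := hker y₀ (by
        show fM (Submodule.Quotient.mk y₀) = 0
        rw [← hg, hv, map_sub, hxy, sub_self])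
      refine ⟨⟨_, hT ▸ Submonoid.mem_map_of_mem _ ht⟩, ?_⟩
      show algebraMap B B₁ t • x = algebraMap B B₁ t • y
      refine sub_eq_zero.1 ((smul_sub (algebraMap B B₁ t) x y).symm.trans ?_)
      rw [← hv, algebraMap_smul, ← TensorProduct.tmul_smul,
        tmul_eq_zero_of_pushout_quot (B₁ := B₁) (I₀ ⊔ I') M]
      exact Submodule.smul_top_le_comap_smul_top (I₀ ⊔ I') (K.mkQ.restrictScalars A) hty
  haveI := hproj'
  haveI : Module.Projective (A ⧸ I₀ ⊔ I') ((A ⧸ I₀ ⊔ I') ⊗[A] M) := projective_quot_of_le (le_sup_right : I' ≤ I₀ ⊔ I')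
  haveI : Module.Projective (A ⧸ I₀ ⊔ I') N' := projective_pushout_quot (I₀ ⊔ I') M
  haveI : Algebra.FiniteType (A ⧸ I₀ ⊔ I') B₁ := by
    haveI : Algebra.IsPushout A (A ⧸ I₀ ⊔ I') B B₁ := Algebra.IsPushout.symm hp
    exact Algebra.FiniteType.equiv (inferInstance : Algebra.FiniteType (A ⧸ I₀ ⊔ I') ((A ⧸ I₀ ⊔ I') ⊗[A] B))
      (Algebra.IsPushout.equiv A (A ⧸ I₀ ⊔ I') B B₁)
  have hui : FlatCA.UnivInj (A ⧸ I₀ ⊔ I') (g.restrictScalars (A ⧸ I₀ ⊔ I')) := by
    refine univInj_of_isLocalizedModule T₁ g fun t₁ ht₁ z hz => ?_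
    rw [hT] at ht₁
    obtain ⟨t, ht, rfl⟩ := ht₁
    exact mem_smul_of_regular_quot (I₀ ⊔ I') M (sup_le hI₀m hI'm) t (hreg t ht) z hz
  refine ⟨B₁, inferInstance, inferInstance, inferInstance, inferInstance, inferInstance, inferInstance, inferInstance,
    inferInstance, inferInstance, inferInstance, N', inferInstance, inferInstance, inferInstance, inferInstance, g,
    ?_, inferInstance, (isLocalizedModule_iff_isBaseChange T₁ (Localization T₁) g).1 hloc, inferInstance, hui⟩
  rw [show CommRingCat.ofHom (algebraMap B₁ B₁) = CategoryTheory.CategoryStruct.id (CommRingCat.of B₁) from rfl,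
    AlgebraicGeometry.Spec.map_id]
  infer_instance

end Groth.Agent.H4RG
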