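import Groth.Prelude
import Groth.Agent.H4RG.PureDescent
import Groth.Agent.H4RG.DescentModel
import Groth.Agent.S1219
import Groth.Agent.S1220
import Groth.Agent.H4RG.FibreKill
import Mathlib

/-! A finitely presented module becomes projective after a finitely generated quotient of a local base. -/

set_option autoImplicit false
set_option linter.style.haveILetI false
set_option backward.isDefEq.respectTransparency.types false

universe u

open TensorProduct

namespace Groth.Agent.H4RG

attribute [local instance] Algebra.TensorProduct.rightAlgebra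

/-- The quotients by finitely generated ideals in the maximal ideal have the residue field as colimit. -/
theorem isColimit_quotients (A : Type u) [CommRing A] [IsLocalRing A]
    [∀ i : {I : Ideal A // I.FG ∧ I ≤ IsLocalRing.maximalIdeal A}, Algebra (A ⧸ i.1) (A ⧸ IsLocalRing.maximalIdeal A)]
    [∀ i : {I : Ideal A // I.FG ∧ I ≤ IsLocalRing.maximalIdeal A}, IsScalarTower A (A ⧸ i.1) (A ⧸ IsLocalRing.maximalIdeal A)] :
    FlatCA.IsDirectedColimitRing (fun i : {I : Ideal A // I.FG ∧ I ≤ IsLocalRing.maximalIdeal A} => A ⧸ i.1)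
      (fun _ _ h => (Ideal.Quotient.factorₐ A h).toRingHom) (A ⧸ IsLocalRing.maximalIdeal A) := by
  classical
  let m := IsLocalRing.maximalIdeal A
  have halg : ∀ (i : {I : Ideal A // I.FG ∧ I ≤ m}) (x : A),
      algebraMap (A ⧸ i.1) (A ⧸ m) (Ideal.Quotient.mk i.1 x) = Ideal.Quotient.mk m x := fun i x =>
    (IsScalarTower.algebraMap_apply A (A ⧸ i.1) (A ⧸ m) x).symm
  refine ⟨⟨fun a b => ⟨⟨a.1 ⊔ b.1, Submodule.FG.sup a.2.1 b.2.1, sup_le a.2.2 b.2.2⟩,
      (le_sup_left : a.1 ≤ a.1 ⊔ b.1), (le_sup_right : b.1 ≤ a.1 ⊔ b.1)⟩⟩, ⟨⟨⊥, Submodule.fg_bot, bot_le⟩⟩,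
    fun i => ?_, fun i j k _ _ => ?_, fun i j h => ?_, fun a => ?_, fun i x hx => ?_⟩
  · refine RingHom.ext fun x => ?_
    obtain ⟨x, rfl⟩ := Ideal.Quotient.mk_surjective x
    rfl
  · refine RingHom.ext fun x => ?_
    obtain ⟨x, rfl⟩ := Ideal.Quotient.mk_surjective x
    rfl
  · refine RingHom.ext fun x => ?_
    obtain ⟨x, rfl⟩ := Ideal.Quotient.mk_surjective x
    exact (halg j x).trans (halg i x).symm
  · obtain ⟨a, rfl⟩ := Ideal.Quotient.mk_surjective a
    exact ⟨⟨⊥, Submodule.fg_bot, bot_le⟩, Ideal.Quotient.mk _ a, halg _ a⟩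
  · obtain ⟨x, rfl⟩ := Ideal.Quotient.mk_surjective x
    rw [halg] at hx
    have hxm : x ∈ m := Ideal.Quotient.eq_zero_iff_mem.1 hx
    exact ⟨⟨i.1 ⊔ Ideal.span {x}, Submodule.FG.sup i.2.1 (Submodule.fg_span_singleton x),
      sup_le i.2.2 (Ideal.span_le.2 (Set.singleton_subset_iff.2 hxm))⟩, (le_sup_left : i.1 ≤ _),
      Ideal.Quotient.eq_zero_iff_mem.2 (Ideal.mem_sup_right (Ideal.subset_span rfl))⟩

section field

variable {A : Type u} [CommRing A] {ι : Type u} [Preorder ι] {G : ι → Type u}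
    [∀ i, CommRing (G i)] [∀ i, Algebra A (G i)] (g : ∀ i j, i ≤ j → G i →ₐ[A] G j) {K : Type u} [Field K] [Algebra A K]
    [∀ i, Algebra (G i) K] [∀ i, IsScalarTower A (G i) K]
    (hcolim : FlatCA.IsDirectedColimitRing G (fun i j h => (g i j h).toRingHom) K)

include hcolim in
/-- A flat module is pure along the closed point at a stage of a colimit to a field. -/
theorem exists_pureAlong_stage_field
    {B M : Type u} [CommRing B] [Algebra A B] [Algebra.FinitePresentation A B] [AddCommGroup M] [Module B M] [Module A M]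
    [IsScalarTower A B M] [Module.FinitePresentation B M]
    [Module.Flat A M] :
    ∃ l, FlatCA.IsPureAlong (G l) (G l ⊗[A] B) ((G l ⊗[A] B) ⊗[B] M) ((⊥ : Ideal K).comap (algebraMap (G l) K)) := by
  have hfl : ∀ (R : Type u) [CommRing R] [Algebra A R], IsUnit (algebraMap A R 1) → Module.Flat R (R ⊗[A] M) :=
    fun R _ _ _ => inferInstance
  haveI : Algebra.IsPushout A B K (K ⊗[A] B) := Algebra.IsPushout.symm inferInstance
  have hpureK : FlatCA.IsPureAlong K (K ⊗[A] B) ((K ⊗[A] B) ⊗[B] M) (⊥ : Ideal K) :=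
    fun A' B' N' _ _ _ _ _ _ _ _ _ _ _ _ _ _ f t' t _ _ P _ _ =>
      (Groth.Agent.S9005.result ((K ⊗[A] B) ⊗[B] M)) ⊥ A' B' N' f t' t P
  exact exists_pure_stage (A₀ := A) (B₀ := B) (N₀ := M) g hcolim
    (TensorProduct.mk B (K ⊗[A] B) M 1) (TensorProduct.isBaseChange B M (K ⊗[A] B)) (⊥ : Ideal K) hpureK 1
    (by rw [map_one]; exact one_ne_zero) hfl

include hcolim in
/-- A flat module becomes projective at a stage of a colimit to a field, when the closed point generates every
stage. -/
theorem exists_projective_stage_field_of_flat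
    {B M : Type u} [CommRing B] [Algebra A B] [Algebra.FinitePresentation A B] [AddCommGroup M] [Module B M] [Module A M]
    [IsScalarTower A B M] [Module.FinitePresentation B M]
    [Module.Flat A M]
    (hgen : ∀ (i : ι) (q : Ideal (G i)) [q.IsPrime], q ≤ (⊥ : Ideal K).comap (algebraMap (G i) K)) :
    ∃ i, Module.Projective (G i) (G i ⊗[A] M) := by
  obtain ⟨l, hl⟩ := exists_pureAlong_stage_field g hcolim (B := B) (M := M)
  haveI : Algebra.IsPushout A (G l) B (G l ⊗[A] B) := inferInstance
  have h := isBaseChange_restrict_pushout (A₀ := A) (A₁ := G l) (B₁ := G l ⊗[A] B)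
    (TensorProduct.mk B (G l ⊗[A] B) M 1) (TensorProduct.isBaseChange B M (G l ⊗[A] B))
  haveI : Module.Flat (G l) ((G l ⊗[A] B) ⊗[B] M) := Module.Flat.of_linearEquiv h.equiv.symm
  have hpure : FlatCA.IsPure (G l) (G l ⊗[A] B) ((G l ⊗[A] B) ⊗[B] M) := fun q _ => by
    refine (?_ : (⟨q, inferInstance⟩ : PrimeSpectrum (G l)) ∈
      {x : PrimeSpectrum (G l) | FlatCA.IsPureAlong (G l) (G l ⊗[A] B) ((G l ⊗[A] B) ⊗[B] M) x.asIdeal})
    refine IsOpen.stableUnderGeneralization (Groth.Agent.S1220.result ((G l ⊗[A] B) ⊗[B] M))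
      (x := (⟨(⊥ : Ideal K).comap (algebraMap (G l) K), inferInstance⟩ : PrimeSpectrum (G l))) ?_ hl
    rw [← PrimeSpectrum.le_iff_specializes]
    exact hgen l q
  haveI : Module.Projective (G l) ((G l ⊗[A] B) ⊗[B] M) :=
    (Groth.Agent.S1219.result ((G l ⊗[A] B) ⊗[B] M)).2 hpure
  exact ⟨l, Module.Projective.of_equiv h.equiv.symm⟩

include hcolim in
/-- A finitely presented module becomes projective at a stage of a colimit to a field, when the closed point
generates every stage. -/
theorem exists_projective_stage_field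
    {B M : Type u} [CommRing B] [Algebra A B] [Algebra.FinitePresentation A B] [AddCommGroup M] [Module B M] [Module A M]
    [IsScalarTower A B M] [Module.FinitePresentation B M]
    (hgen : ∀ (i : ι) (q : Ideal (G i)) [q.IsPrime], q ≤ (⊥ : Ideal K).comap (algebraMap (G i) K)) :
    ∃ i : ι, Module.Projective (G i) (G i ⊗[A] M) := by
  classical
  obtain ⟨i, hi⟩ := FlatSyz5.exists_flat_stage (A₀ := A) G g K hcolim (B₀ := B) M inferInstance
  haveI := hi
  haveI : Algebra.IsPushout A (G i) B (G i ⊗[A] B) := inferInstance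
  have h := isBaseChange_restrict_pushout (A₀ := A) (A₁ := G i) (B₁ := G i ⊗[A] B)
    (TensorProduct.mk B (G i ⊗[A] B) M 1) (TensorProduct.isBaseChange B M (G i ⊗[A] B))
  haveI : Module.Flat (G i) ((G i ⊗[A] B) ⊗[B] M) := Module.Flat.of_linearEquiv h.equiv.symm
  obtain ⟨alg', tow', g', hkl', -, hcolim'⟩ := exists_tail hcolim i
  obtain ⟨l, hl⟩ := exists_projective_stage_field_of_flat (A := G i) (G := fun j : Set.Ici i => G j.1) g' hcolim'
    (B := G i ⊗[A] B) (M := (G i ⊗[A] B) ⊗[B] M) (fun j q _ => hgen j.1 q)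
  haveI : IsScalarTower A (G i) (G l.1) := IsScalarTower.of_algebraMap_eq fun a => by
    rw [hkl' l (algebraMap A (G i) a)]
    exact ((g i l.1 l.2).commutes a).symm
  exact ⟨l.1, Module.Projective.of_equiv (h.comp (TensorProduct.isBaseChange (G i) _ (G l.1))).equiv.symm⟩

end field

/-- A finitely presented module over a local base is projective over a finitely generated quotient of the base. -/
theorem exists_projective_quot {A B M : Type u} [CommRing A] [IsLocalRing A] [CommRing B] [Algebra A B]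
    [Algebra.FinitePresentation A B] [AddCommGroup M] [Module B M] [Module A M] [IsScalarTower A B M]
    [Module.FinitePresentation B M] :
    ∃ I : Ideal A, I.FG ∧ I ≤ IsLocalRing.maximalIdeal A ∧ Module.Projective (A ⧸ I) ((A ⧸ I) ⊗[A] M) := by
  letI algK : ∀ i : {I : Ideal A // I.FG ∧ I ≤ IsLocalRing.maximalIdeal A},
      Algebra (A ⧸ i.1) (A ⧸ IsLocalRing.maximalIdeal A) := fun i => (Ideal.Quotient.factor i.2.2).toAlgebra
  haveI : ∀ i : {I : Ideal A // I.FG ∧ I ≤ IsLocalRing.maximalIdeal A},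
      IsScalarTower A (A ⧸ i.1) (A ⧸ IsLocalRing.maximalIdeal A) := fun i => IsScalarTower.of_algebraMap_eq fun _ => rfl
  letI : Field (A ⧸ IsLocalRing.maximalIdeal A) := Ideal.Quotient.field _
  obtain ⟨i, hi⟩ := exists_projective_stage_field (A := A) (G := fun i : {I : Ideal A // I.FG ∧ I ≤ IsLocalRing.maximalIdeal A} => A ⧸ i.1)
    (fun _ _ h => Ideal.Quotient.factorₐ A h) (K := A ⧸ IsLocalRing.maximalIdeal A) (isColimit_quotients A)
    (fun i q _ x hx => by
      obtain ⟨x, rfl⟩ := Ideal.Quotient.mk_surjective x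
      show Ideal.Quotient.mk (IsLocalRing.maximalIdeal A) x = 0
      rw [Ideal.Quotient.eq_zero_iff_mem]
      exact IsLocalRing.le_maximalIdeal (Ideal.comap_isPrime (Ideal.Quotient.mk i.1) q).ne_top hx) (B := B) (M := M)
  exact ⟨i.1, i.2.1, i.2.2, hi⟩

/-- Over a local base a function injective modulo the maximal ideal on a projective module kills nothing after
tensoring. -/
theorem eq_zero_of_smul_projective {A B N : Type u} [CommRing A] [IsLocalRing A] [CommRing B] [Algebra A B]
    [Algebra.FiniteType A B] [AddCommGroup N] [Module B N] [Module A N] [IsScalarTower A B N] [Module.Finite B N]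
    [Module.Projective A N] (t : B)
    (ht : ∀ v : N, t • v ∈ IsLocalRing.maximalIdeal A • (⊤ : Submodule A N) →
      v ∈ IsLocalRing.maximalIdeal A • (⊤ : Submodule A N))
    (Q : Type u) [AddCommGroup Q] [Module A Q] (w : N ⊗[A] Q) (hw : t • w = 0) : w = 0 := by
  classical
  let m := IsLocalRing.maximalIdeal A
  by_contra hne
  obtain ⟨P, p', _, _, hPp, hJ, hass⟩ := exists_assoc_of_ne_zero (B := B) N Q w hne
  obtain ⟨P', hP', hPP', hP'm⟩ : ∃ P' : Ideal B, P'.IsPrime ∧ P ≤ P' ∧ P'.comap (algebraMap A B) = m := by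
    by_contra hno
    push Not at hno
    exact Groth.Agent.S9005.result N m A B N LinearMap.id p' m P
      ⟨inferInstance, IsBaseChange.ofEquiv (LinearEquiv.refl B N),
        IsLocalRing.le_maximalIdeal (Ideal.IsPrime.ne_top ‹_›), ⟨(Ideal.comap_id m).symm⟩, hPp, hass,
        fun P' hP' hQ hov => hno P' hP' hQ hov.over.symm⟩
  let e : N ⊗[A] IsLocalRing.ResidueField A ≃ₗ[A] N ⧸ m • (⊤ : Submodule A N) := TensorProduct.tensorQuotEquivQuotSMul N m
  have he : ∀ v : N, e (v ⊗ₜ[A] (1 : IsLocalRing.ResidueField A)) = Submodule.Quotient.mk v := fun v => by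
    show TensorProduct.tensorQuotEquivQuotSMul N m (v ⊗ₜ[A] Ideal.Quotient.mk m 1) = _
    simp [TensorProduct.tensorQuotEquivQuotSMul]
  obtain ⟨u, hu, huw⟩ := exists_kill_tensor_of_fibre N P' hP'm t
    (fun v hv => ⟨1, hP'.one_notMem, by
      rw [one_smul]
      obtain ⟨n, rfl⟩ : ∃ n : N, n ⊗ₜ[A] (1 : IsLocalRing.ResidueField A) = v := by
        obtain ⟨n, hn⟩ := Submodule.Quotient.mk_surjective _ (e v)
        exact ⟨n, e.injective (by rw [he, hn])⟩
      rw [TensorProduct.smul_tmul'] at hv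
      have h1 : t • n ∈ m • (⊤ : Submodule A N) := by
        rw [← Submodule.Quotient.mk_eq_zero, ← he, hv, map_zero]
      apply e.injective
      rw [he, map_zero, Submodule.Quotient.mk_eq_zero]
      exact ht n h1⟩) Q w hw
  exact hu (hPP' (hJ ((Submodule.mem_annihilator_span_singleton _ _).2 huw)))

end Groth.Agent.H4RG
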