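import Groth.Agent.H4RG.SpreadCore
import Groth.Agent.FPDescent.Basic
import Mathlib

/-! Models over the base and their localization at a prime of the base, for pure spreadouts. -/

set_option autoImplicit false
set_option linter.style.haveILetI false
set_option backward.isDefEq.respectTransparency.types false

universe u

open TensorProduct

namespace Groth.Agent.H4RG

attribute [local instance] Algebra.TensorProduct.rightAlgebra

/-- A finitely presented module over a localization is the localization of a finitely presented module. -/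
theorem exists_model_of_localization {B N : Type u} [CommRing B] (T : Submonoid B) [AddCommGroup N]
    [Module (Localization T) N] [Module B N] [IsScalarTower B (Localization T) N]
    [Module.FinitePresentation (Localization T) N] :
    ∃ (N0 : Type u) (_ : AddCommGroup N0) (_ : Module B N0) (g : N0 →ₗ[B] N),
      Module.FinitePresentation B N0 ∧ IsLocalizedModule T g := by
  haveI : IsLocalizedModule T (LinearMap.id : N →ₗ[B] N) := isLocalizedModule_id T N (Localization T)
  let e := IsLocalizedModule.iso T (LinearMap.id : N →ₗ[B] N)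
  haveI : Module.FinitePresentation (Localization T) (LocalizedModule T N) :=
    Module.FinitePresentation.of_equiv (e.extendScalarsOfIsLocalization T (Localization T)).symm
  obtain ⟨n, K, φ, hK, hφ⟩ := FPDescent.exists_fp_descent T N
  let N0 := (Fin n → B) ⧸ K
  let em := LinearEquiv.ofBijective ((LocalizedModule.map T φ).restrictScalars B) hφ
  refine ⟨N0, inferInstance, inferInstance, φ, Module.finitePresentation_of_surjective K.mkQ K.mkQ_surjective
    (by rw [Submodule.ker_mkQ]; exact hK), ?_⟩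
  have h : φ = (em.trans e).toLinearMap.comp (LocalizedModule.mkLinearMap T N0) := LinearMap.ext fun x => by
    show φ x = e (LocalizedModule.map T φ (LocalizedModule.mk x 1))
    rw [LocalizedModule.map_mk]
    show _ = IsLocalizedModule.iso T (LinearMap.id : N →ₗ[B] N) (LocalizedModule.mk (φ x) 1)
    rw [IsLocalizedModule.iso_apply_mk]
    exact ((Module.End.algebraMap_isUnit_inv_apply_eq_iff _ _ _ _).2 (by simp)).symm
  rw [h]
  exact IsLocalizedModule.of_linearEquiv T (LocalizedModule.mkLinearMap T N0) (em.trans e)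

section bridge

variable {A B Al : Type u} [CommRing A] [CommRing B] [Algebra A B] [CommRing Al] [Algebra A Al] (p : Ideal A) [p.IsPrime]
  [IsLocalization p.primeCompl Al] {N : Type u} [AddCommGroup N] [Module B N] [Module A N] [IsScalarTower A B N]
  {N0 : Type u} [AddCommGroup N0] [Module B N0] [Module A N0] [IsScalarTower A B N0] (T : Submonoid B)
  (g0 : N0 →ₗ[B] N) [IsLocalizedModule T g0] (I : Ideal Al) {N₁ : Type u} [AddCommGroup N₁] [Module B N₁] [Module A N₁]
  [IsScalarTower A B N₁] [Module (Al ⊗[A] B) N₁] [IsScalarTower B (Al ⊗[A] B) N₁] [Module Al N₁]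
  [IsScalarTower Al (Al ⊗[A] B) N₁] [Module (Al ⧸ I) N₁] [IsScalarTower A (Al ⧸ I) N₁]
  [IsScalarTower Al (Al ⧸ I) N₁] (h : N →ₗ[B] N₁) (hh : IsBaseChange (Al ⧸ I) (h.restrictScalars A))
  (f : (Al ⊗[A] B) ⊗[B] N0 →ₗ[Al ⊗[A] B] N₁) (hf : ∀ y, f (1 ⊗ₜ[B] y) = h (g0 y))

include hh hf in
/-- Up to the multiplicative set everything over the local ring comes from the model. -/
theorem exists_smul_eq_model (n : N₁) :
    ∃ t ∈ T.map (algebraMap B (Al ⊗[A] B)), ∃ y, t • n = f y := by
  refine hh.inductionOn n (motive := fun n => ∃ t ∈ T.map (algebraMap B (Al ⊗[A] B)), ∃ y, t • n = f y)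
    ⟨1, Submonoid.one_mem _, 0, by rw [map_zero, smul_zero]⟩ (fun m => ?_) ?_ ?_
  · obtain ⟨⟨y, t⟩, hy⟩ := IsLocalizedModule.surj T g0 m
    refine ⟨_, Submonoid.mem_map_of_mem _ t.2, 1 ⊗ₜ[B] y, ?_⟩
    rw [hf, ← hy, Submonoid.smul_def, map_smul, algebraMap_smul]
    rfl
  · rintro a z ⟨t, ht, y, hy⟩
    obtain ⟨a, rfl⟩ := Ideal.Quotient.mk_surjective a
    refine ⟨t, ht, a • y, ?_⟩
    rw [LinearMap.map_smul_of_tower, ← hy, show Ideal.Quotient.mk I a • z = a • z from
      IsScalarTower.algebraMap_smul (Al ⧸ I) a z, smul_comm]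
  · rintro z w ⟨t, ht, y, hy⟩ ⟨t', ht', y', hy'⟩
    refine ⟨t * t', Submonoid.mul_mem _ ht ht', t' • y + t • y', ?_⟩
    rw [map_add, map_smul, map_smul, ← hy, ← hy', smul_add, mul_comm t t', mul_smul, mul_smul, smul_comm t' t w]

include p hh hf in
/-- What dies over the quotient is, up to the multiplicative set, in the ideal multiple. -/
theorem exists_smul_mem_model (y : (Al ⊗[A] B) ⊗[B] N0) (hy : f y = 0) :
    ∃ t ∈ T.map (algebraMap B (Al ⊗[A] B)), t • y ∈ I • (⊤ : Submodule Al ((Al ⊗[A] B) ⊗[B] N0)) := by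
  let P := (Al ⊗[A] B) ⊗[B] N0
  let ι : N0 →ₗ[A] P := (TensorProduct.mk B (Al ⊗[A] B) N0 1).restrictScalars A
  haveI : Algebra.IsPushout A Al B (Al ⊗[A] B) := inferInstance
  have hι : IsBaseChange Al ι := isBaseChange_restrict_pushout (A₀ := A) (A₁ := Al) (B₁ := Al ⊗[A] B)
    (TensorProduct.mk B (Al ⊗[A] B) N0 1) (TensorProduct.isBaseChange B N0 (Al ⊗[A] B))
  haveI : IsLocalizedModule p.primeCompl ι := (isLocalizedModule_iff_isBaseChange p.primeCompl Al ι).2 hι
  obtain ⟨⟨y0, s⟩, hs⟩ := IsLocalizedModule.surj p.primeCompl ι y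
  have hs' : algebraMap A Al (s : A) • y = ι y0 := by
    rw [algebraMap_smul, ← hs]
    rfl
  have h0 : h (g0 y0) = 0 := by
    rw [← hf, show (1 : Al ⊗[A] B) ⊗ₜ[B] y0 = algebraMap A Al (s : A) • y from hs'.symm, LinearMap.map_smul_of_tower, hy,
      smul_zero]
  have h1 : (1 : Al ⧸ I) ⊗ₜ[A] g0 y0 = 0 := hh.equiv.injective (by
    rw [IsBaseChange.equiv_tmul, one_smul, map_zero]
    exact h0)
  have h2 : AlgebraTensorModule.rTensor A (Al ⧸ I) g0 (y0 ⊗ₜ[A] 1) =
      AlgebraTensorModule.rTensor A (Al ⧸ I) g0 0 := by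
    rw [map_zero]
    exact (TensorProduct.comm A N (Al ⧸ I)).injective (by rw [map_zero]; exact h1)
  obtain ⟨t, ht⟩ := IsLocalizedModule.exists_of_eq (S := T) h2
  rw [smul_zero, Submonoid.smul_def, TensorProduct.smul_tmul'] at ht
  have h3 : (1 : Al ⧸ I) ⊗ₜ[A] ((t : B) • y0) = 0 :=
    (TensorProduct.comm A (Al ⧸ I) N0).injective (by rw [map_zero]; exact ht)
  let q : N0 →ₗ[A] P ⧸ I • (⊤ : Submodule Al P) := ((I • (⊤ : Submodule Al P)).mkQ.restrictScalars A).comp ι
  have h4 : q ((t : B) • y0) = 0 := by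
    rw [← (TensorProduct.isBaseChange A N0 (Al ⧸ I)).lift_eq q ((t : B) • y0)]
    show (TensorProduct.isBaseChange A N0 (Al ⧸ I)).lift q ((1 : Al ⧸ I) ⊗ₜ[A] ((t : B) • y0)) = 0
    rw [h3, map_zero]
  refine ⟨_, Submonoid.mem_map_of_mem _ t.2, ?_⟩
  have h5 : algebraMap A Al (s : A) • (algebraMap B (Al ⊗[A] B) (t : B) • y) ∈ I • (⊤ : Submodule Al P) := by
    rw [smul_comm, hs', algebraMap_smul]
    exact (Submodule.Quotient.mk_eq_zero (I • (⊤ : Submodule Al P))).1 (by
      rw [← h4]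
      show _ = Submodule.Quotient.mk (ι ((t : B) • y0))
      congr 1
      exact ((TensorProduct.mk B (Al ⊗[A] B) N0 1).map_smul (t : B) y0).symm)
  exact (Submodule.smul_mem_iff_of_isUnit _ (IsLocalization.map_units Al s)).1 h5

end bridge

/-- The local form of pure spreadout after a finitely generated quotient, transported from any base. -/
theorem exists_pureSpreadout_atPrime {A B : Type u} [CommRing A] [CommRing B] [Algebra A B]
    [Algebra.FinitePresentation A B] (T : Submonoid B) {N : Type u} [AddCommGroup N] [Module (Localization T) N]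
    [Module B N] [Module A N] [IsScalarTower B (Localization T) N] [IsScalarTower A B N]
    [Module.FinitePresentation (Localization T) N] (p : Ideal A) [p.IsPrime] :
    ∃ I : Ideal (Localization.AtPrime p), I.FG ∧ I ≤ IsLocalRing.maximalIdeal (Localization.AtPrime p) ∧
      ∀ (B₁ N₁ : Type u) [CommRing B₁] [Algebra B B₁] [Algebra (Localization.AtPrime p ⧸ I) B₁] [Algebra A B₁]
        [IsScalarTower A B B₁] [IsScalarTower A (Localization.AtPrime p ⧸ I) B₁]
        [Algebra.IsPushout A B (Localization.AtPrime p ⧸ I) B₁]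
        [AddCommGroup N₁] [Module (Localization (T.map (algebraMap B B₁))) N₁] [Module (Localization.AtPrime p ⧸ I) N₁]
        [IsScalarTower (Localization.AtPrime p ⧸ I) (Localization (T.map (algebraMap B B₁))) N₁]
        [Module B N₁] [IsScalarTower B (Localization (T.map (algebraMap B B₁))) N₁]
        [Module A N₁] [IsScalarTower A (Localization.AtPrime p ⧸ I) N₁] [IsScalarTower A B N₁]
        (h : N →ₗ[B] N₁), IsBaseChange (Localization.AtPrime p ⧸ I) (h.restrictScalars A) →
        FlatCA.HasPureSpreadout (Localization.AtPrime p ⧸ I) B₁ (T.map (algebraMap B B₁)) N₁ := by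
  obtain ⟨N0, _, _, g0, hfp, hg0⟩ := exists_model_of_localization T (N := N)
  haveI := hfp
  haveI := hg0
  letI : Module A N0 := Module.compHom N0 (algebraMap A B)
  haveI : IsScalarTower A B N0 := IsScalarTower.of_algebraMap_smul fun _ _ => rfl
  let Al := Localization.AtPrime p
  obtain ⟨I, hI, hIm, hI'⟩ := exists_pureSpreadout_quot (A := Al) (B := Al ⊗[A] B) (P := (Al ⊗[A] B) ⊗[B] N0)
    (T.map (algebraMap B (Al ⊗[A] B)))
  refine ⟨I, hI, hIm, ?_⟩
  intro B₁ N₁ _ _ _ _ _ _ hp _ _ _ _ _ _ _ _ _ h hh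
  let T₁ := T.map (algebraMap B B₁)
  letI : Algebra Al B₁ := ((algebraMap (Al ⧸ I) B₁).comp (Ideal.Quotient.mk I)).toAlgebra
  haveI : IsScalarTower Al (Al ⧸ I) B₁ := IsScalarTower.of_algebraMap_eq fun _ => rfl
  haveI : IsScalarTower A Al B₁ := IsScalarTower.of_algebraMap_eq fun a =>
    IsScalarTower.algebraMap_apply A (Al ⧸ I) B₁ a
  let θ : Al ⊗[A] B →ₐ[A] B₁ := Algebra.TensorProduct.lift (IsScalarTower.toAlgHom A Al B₁) (IsScalarTower.toAlgHom A B B₁)
    fun _ _ => .all _ _
  letI : Algebra (Al ⊗[A] B) B₁ := θ.toRingHom.toAlgebra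
  haveI : IsScalarTower A (Al ⊗[A] B) B₁ := IsScalarTower.of_algebraMap_eq fun r => (θ.commutes r).symm
  haveI : IsScalarTower Al (Al ⊗[A] B) B₁ := IsScalarTower.of_algebraMap_eq fun a => by
    show _ = θ (a ⊗ₜ[A] (1 : B))
    rw [Algebra.TensorProduct.lift_tmul, map_one, mul_one]
    rfl
  haveI : IsScalarTower B (Al ⊗[A] B) B₁ := IsScalarTower.of_algebraMap_eq fun b => by
    show _ = θ ((1 : Al) ⊗ₜ[A] b)
    rw [Algebra.TensorProduct.lift_tmul, map_one, one_mul]
    rfl
  haveI : Algebra.IsPushout A (Al ⧸ I) B B₁ := Algebra.IsPushout.symm hp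
  haveI : Algebra.IsPushout A Al B (Al ⊗[A] B) := inferInstance
  haveI : Algebra.IsPushout Al (Al ⧸ I) (Al ⊗[A] B) B₁ :=
    (Algebra.IsPushout.comp_iff (R := A) (S := Al) (T := Al ⧸ I) (R' := B) (S' := Al ⊗[A] B) (T' := B₁)).1 inferInstance
  haveI : Algebra.IsPushout Al (Al ⊗[A] B) (Al ⧸ I) B₁ := Algebra.IsPushout.symm inferInstance
  letI : Module Al N₁ := Module.compHom N₁ (Ideal.Quotient.mk I)
  haveI : IsScalarTower Al (Al ⧸ I) N₁ := IsScalarTower.of_algebraMap_smul fun _ _ => rfl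
  let L := Localization T₁
  letI : Module (Al ⊗[A] B) N₁ := Module.compHom N₁ ((algebraMap B₁ L).comp (algebraMap (Al ⊗[A] B) B₁))
  haveI : IsScalarTower (Al ⊗[A] B) L N₁ := IsScalarTower.of_algebraMap_smul fun x (n : N₁) => by
    rw [IsScalarTower.algebraMap_apply (Al ⊗[A] B) B₁ L]
    rfl
  haveI : IsScalarTower B (Al ⊗[A] B) N₁ := IsScalarTower.of_algebraMap_smul fun b (n : N₁) => by
    show algebraMap B₁ L (algebraMap (Al ⊗[A] B) B₁ (algebraMap B (Al ⊗[A] B) b)) • n = b • n
    rw [← IsScalarTower.algebraMap_apply, ← IsScalarTower.algebraMap_apply, algebraMap_smul]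
  haveI : IsScalarTower Al (Al ⊗[A] B) N₁ := ⟨fun a x n => by
    rw [show a • x = algebraMap Al (Al ⊗[A] B) a * x from Algebra.smul_def a x, mul_smul]
    generalize x • n = n
    show algebraMap B₁ L (algebraMap (Al ⊗[A] B) B₁ (algebraMap Al (Al ⊗[A] B) a)) • n = Ideal.Quotient.mk I a • n
    rw [← IsScalarTower.algebraMap_apply Al (Al ⊗[A] B) B₁, IsScalarTower.algebraMap_apply Al (Al ⧸ I) B₁,
      ← IsScalarTower.algebraMap_apply (Al ⧸ I) B₁ L, algebraMap_smul]
    rfl⟩
  let f := (TensorProduct.isBaseChange B N0 (Al ⊗[A] B)).lift (h.comp g0)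
  have hf : ∀ y, f (1 ⊗ₜ[B] y) = h (g0 y) := fun y =>
    (TensorProduct.isBaseChange B N0 (Al ⊗[A] B)).lift_eq (h.comp g0) y
  refine hI' B₁ N₁ T₁ ?_ f (exists_smul_eq_model (Al := Al) T g0 I h hh f hf)
    (exists_smul_mem_model (Al := Al) p T g0 I h hh f hf)
  ext x
  constructor
  · rintro ⟨b, hb, rfl⟩
    exact ⟨_, ⟨b, hb, rfl⟩, (IsScalarTower.algebraMap_apply B (Al ⊗[A] B) B₁ b).symm⟩
  · rintro ⟨_, ⟨b, hb, rfl⟩, rfl⟩
    exact ⟨b, hb, IsScalarTower.algebraMap_apply B (Al ⊗[A] B) B₁ b⟩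

end Groth.Agent.H4RG
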