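import Groth.Agent.H9Misc.DRingTorRestrict
import Groth.Agent.H9Misc.DRingTorFaithful
import Groth.Agent.WEtLib.Basic

/-! Tor amplitude along weakly etale ring maps. -/

set_option linter.style.haveILetI false

universe u

open CategoryTheory CategoryTheory.Limits TensorProduct

namespace Groth.Agent.H4RG

section Core

variable {R A : Type u} [CommRing R] [CommRing A] [Algebra R A]

/-- The action of `A ⊗ A` on a tensor product of two modules. -/
noncomputable def diagAct (X N : Type u) [AddCommGroup X] [Module R X] [Module A X]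
    [IsScalarTower R A X] [AddCommGroup N] [Module R N] [Module A N] [IsScalarTower R A N] :
    A ⊗[R] A →ₐ[R] Module.End R (X ⊗[R] N) :=
  (Module.endTensorEndAlgHom (R := R) (S := R) (A := R) (M := X) (N := N)).comp
    (Algebra.TensorProduct.map (Algebra.lsmul R R X) (Algebra.lsmul R R N))

variable {X Y Z N : Type u} [AddCommGroup X] [Module R X] [Module A X] [IsScalarTower R A X]
  [AddCommGroup Y] [Module R Y] [Module A Y] [IsScalarTower R A Y]
  [AddCommGroup Z] [Module R Z] [Module A Z] [IsScalarTower R A Z]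
  [AddCommGroup N] [Module R N] [Module A N] [IsScalarTower R A N]

lemma diagAct_tmul (a b : A) (x : X) (n : N) :
    diagAct (R := R) X N (a ⊗ₜ b) (x ⊗ₜ n) = (a • x) ⊗ₜ (b • n) := rfl

lemma diagAct_rTensor (f : X →ₗ[A] Y) (t : A ⊗[R] A) (w : X ⊗[R] N) :
    (f.restrictScalars R).rTensor N (diagAct X N t w) =
      diagAct Y N t ((f.restrictScalars R).rTensor N w) := by
  induction t using TensorProduct.induction_on with
  | zero => simp
  | add p q hp hq => simp only [map_add, LinearMap.add_apply, hp, hq]
  | tmul a b =>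
    induction w using TensorProduct.induction_on with
    | zero => simp
    | add p q hp hq => simp only [map_add, hp, hq]
    | tmul x n => simp [diagAct_tmul]

/-- The projection `X ⊗[R] N → X ⊗[A] N`. -/
noncomputable def toOverAlg (X N : Type u) [AddCommGroup X] [Module R X] [Module A X]
    [IsScalarTower R A X] [AddCommGroup N] [Module R N] [Module A N] [IsScalarTower R A N] :
    X ⊗[R] N →+ X ⊗[A] N :=
  TensorProduct.liftAddHom
    (AddMonoidHom.mk' (fun x => AddMonoidHom.mk' (fun n => x ⊗ₜ[A] n) (TensorProduct.tmul_add x))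
      fun x y => AddMonoidHom.ext fun n => TensorProduct.add_tmul x y n)
    fun r x n => by
      change (r • x) ⊗ₜ[A] n = x ⊗ₜ[A] (r • n)
      rw [← algebraMap_smul A r x, ← algebraMap_smul A r n, TensorProduct.smul_tmul]

lemma toOverAlg_tmul (x : X) (n : N) : toOverAlg (R := R) X N (x ⊗ₜ n) = x ⊗ₜ[A] n := rfl

lemma toOverAlg_surjective : Function.Surjective (toOverAlg (R := R) (A := A) X N) := fun w => by
  induction w using TensorProduct.induction_on with
  | zero => exact ⟨0, map_zero _⟩
  | tmul x n => exact ⟨x ⊗ₜ n, rfl⟩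
  | add p q hp hq =>
    obtain ⟨p', rfl⟩ := hp
    obtain ⟨q', rfl⟩ := hq
    exact ⟨p' + q', map_add _ _ _⟩

lemma toOverAlg_rTensor (f : X →ₗ[A] Y) (w : X ⊗[R] N) :
    toOverAlg Y N ((f.restrictScalars R).rTensor N w) = f.rTensor N (toOverAlg X N w) := by
  induction w using TensorProduct.induction_on with
  | zero => simp
  | add p q hp hq => simp only [map_add, hp, hq]
  | tmul x n => rfl

lemma toOverAlg_diagAct (t : A ⊗[R] A) (w : X ⊗[R] N) :
    toOverAlg (A := A) X N (diagAct X N t w) =
      Algebra.TensorProduct.lmul' R t • toOverAlg (A := A) X N w := by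
  induction t using TensorProduct.induction_on with
  | zero => simp
  | add p q hp hq => simp only [map_add, LinearMap.add_apply, hp, hq, add_smul]
  | tmul a b =>
    induction w using TensorProduct.induction_on with
    | zero => simp
    | add p q hp hq => simp only [map_add, smul_add, hp, hq]
    | tmul x n =>
      rw [diagAct_tmul, toOverAlg_tmul, toOverAlg_tmul, Algebra.TensorProduct.lmul'_apply_tmul,
        TensorProduct.smul_tmul' (a * b) x n, TensorProduct.tmul_smul,
        TensorProduct.smul_tmul', smul_smul, mul_comm b a]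

variable [Algebra.WeaklyEtale R A]

variable (R A X N) in
/-- The elements fixed by some element of the diagonal ideal. -/
noncomputable def diagFixed : AddSubgroup (X ⊗[R] N) where
  carrier := {w | ∃ e ∈ WEtLib.diag R A, diagAct X N e w = w}
  zero_mem' := ⟨0, zero_mem _, map_zero _⟩
  neg_mem' := fun {w} ⟨e, he, h⟩ => ⟨e, he, by rw [map_neg, h]⟩
  add_mem' := fun {v w} ⟨e, he, hv⟩ ⟨d, hd, hw⟩ => ⟨e + d - e * d,
    Ideal.sub_mem _ (Ideal.add_mem _ he hd) (Ideal.mul_mem_left _ _ hd), by
      have h1 : diagAct X N (e * d) v = diagAct X N d v := by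
        rw [mul_comm, map_mul, Module.End.mul_apply, hv]
      have h2 : diagAct X N (e * d) w = diagAct X N e w := by
        rw [map_mul, Module.End.mul_apply, hw]
      simp only [map_sub, map_add, LinearMap.sub_apply, LinearMap.add_apply, h1, h2, hv, hw]
      abel⟩

lemma mem_diagFixed_of_toOverAlg_eq_zero {w : X ⊗[R] N} (hw : toOverAlg (A := A) X N w = 0) :
    w ∈ diagFixed R A X N := by
  let π : X ⊗[R] N →+ (X ⊗[R] N) ⧸ diagFixed R A X N := QuotientAddGroup.mk' _
  let ρ : X ⊗[A] N →+ (X ⊗[R] N) ⧸ diagFixed R A X N :=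
    TensorProduct.liftAddHom
      (AddMonoidHom.mk' (fun x => AddMonoidHom.mk' (fun n => π (x ⊗ₜ n))
          fun m n => by rw [TensorProduct.tmul_add, map_add])
        fun x y => AddMonoidHom.ext fun n => by
          change π ((x + y) ⊗ₜ n) = π (x ⊗ₜ n) + π (y ⊗ₜ n)
          rw [TensorProduct.add_tmul, map_add])
      fun a x n => by
        change π ((a • x) ⊗ₜ n) = π (x ⊗ₜ (a • n))
        refine (QuotientAddGroup.eq_iff_sub_mem).2 ?_
        haveI := WEtLib.diag_pure (A := R) (B := A)
        let j : A ⊗[R] A := a ⊗ₜ 1 - 1 ⊗ₜ a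
        have hj : j ∈ WEtLib.diag R A := by simp [j, RingHom.mem_ker]
        obtain ⟨e, he, hje⟩ := Ideal.exists_eq_mul_of_pure hj
        have hval : diagAct X N j (x ⊗ₜ n) = (a • x) ⊗ₜ n - x ⊗ₜ (a • n) := by
          simp [j, diagAct_tmul]
        refine ⟨e, he, ?_⟩
        rw [← hval, ← Module.End.mul_apply, ← map_mul, mul_comm e j, ← hje]
  have hcomp : ∀ v, ρ (toOverAlg X N v) = π v := by
    intro v
    induction v using TensorProduct.induction_on with
    | zero => simp
    | add p q hp hq => simp only [map_add, hp, hq]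
    | tmul x n => rfl
  refine (QuotientAddGroup.eq_zero_iff w).1 ?_
  change π w = 0
  rw [← hcomp, hw, map_zero]

/-- Tensor exactness over the base passes to a weakly etale algebra. -/
theorem exact_rTensor_of_weaklyEtale (f : X →ₗ[A] Y) (g : Y →ₗ[A] Z)
    (hgf : g ∘ₗ f = 0)
    (h : Function.Exact ((f.restrictScalars R).rTensor N) ((g.restrictScalars R).rTensor N)) :
    Function.Exact (f.rTensor N) (g.rTensor N) := by
  refine fun y => ⟨fun hy => ?_, ?_⟩
  · obtain ⟨y', rfl⟩ := toOverAlg_surjective (R := R) y
    rw [← toOverAlg_rTensor] at hy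
    obtain ⟨e, he, hfix⟩ := mem_diagFixed_of_toOverAlg_eq_zero hy
    have hy0 : (g.restrictScalars R).rTensor N (diagAct Y N (1 - e) y') = 0 := by
      rw [diagAct_rTensor, map_sub, map_one, LinearMap.sub_apply, Module.End.one_apply, hfix,
        sub_self]
    obtain ⟨x', hx'⟩ := (h _).1 hy0
    refine ⟨toOverAlg X N x', ?_⟩
    rw [← toOverAlg_rTensor, hx', toOverAlg_diagAct, map_sub, map_one,
      RingHom.mem_ker.1 he, sub_zero, one_smul]
  · rintro ⟨x, rfl⟩
    rw [← LinearMap.comp_apply, ← LinearMap.rTensor_comp, hgf, LinearMap.rTensor_zero]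
    rfl

end Core

section Derived

attribute [local instance] HasDerivedCategory.standard

open Groth.Agent.KFlatLib H9Misc H9Misc.DRingTor

variable {R A : Type u} [CommRing R] [CommRing A] [Algebra R A] [Algebra.WeaklyEtale R A]

lemma van_of_restrict {a b : ℤ} {P : DRing.Cx A}
    (h : Van a b ((DRing.restrictCx (algebraMap R A)).obj P)) : Van a b P := by
  intro M i hi
  have h1 := h ((ModuleCat.restrictScalars (algebraMap R A)).obj M) i hi
  rw [HomologicalComplex.exactAt_iff' _ (i - 1) i (i + 1) (by simp) (by simp),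
    ShortComplex.ShortExact.moduleCat_exact_iff_function_exact] at h1 ⊢
  letI : ∀ j, Module R (P.X j) := fun j => Module.compHom _ (algebraMap R A)
  haveI : ∀ j, IsScalarTower R A (P.X j) :=
    fun j => IsScalarTower.of_algebraMap_smul fun _ _ => rfl
  letI : Module R M := Module.compHom _ (algebraMap R A)
  haveI : IsScalarTower R A M := IsScalarTower.of_algebraMap_smul fun _ _ => rfl
  have h2 := exact_rTensor_of_weaklyEtale (R := R) (N := M) (P.d (i - 1) i).hom
    (P.d i (i + 1)).hom (by rw [← ModuleCat.hom_comp, P.d_comp_d]; rfl)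
  exact h2 h1

/-- Tor amplitude is insensitive to restriction along a weakly etale map. -/
theorem torAmplitude_weaklyEtale_iff (K : Dual.D A) (a b : ℤ) :
    DRing.HasTorAmplitudeIn R a b ((DRing.restrictD (algebraMap R A)).obj K) ↔
      DRing.HasTorAmplitudeIn A a b K := by
  have flat_res : ∀ {E : DRing.Cx A}, DRing.TermwiseFlat E →
      DRing.TermwiseFlat ((DRing.restrictCx (algebraMap R A)).obj E) := by
    intro E hE i
    letI : Module R (E.X i) := Module.compHom _ (algebraMap R A)
    haveI : IsScalarTower R A (E.X i) := IsScalarTower.of_algebraMap_smul fun _ _ => rfl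
    haveI := hE i
    exact Module.Flat.trans R A (E.X i)
  refine ⟨fun h => ?_, ?_⟩
  · let K₀ := DerivedCategory.Q.objPreimage K
    let e₀ : DerivedCategory.Q.obj K₀ ≅ K := DerivedCategory.Q.objObjPreimageIso K
    let i₀ : DRing.toD ((DRing.restrictCx (algebraMap R A)).obj K₀) ≅
        (DRing.restrictD (algebraMap R A)).obj K :=
      ((ModuleCat.restrictScalars (algebraMap R A)).mapDerivedCategoryFactors.app K₀).symm ≪≫
        (DRing.restrictD (algebraMap R A)).mapIso e₀
    have hK₀ : ∀ m, b < m → IsZero (K₀.homology m) := by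
      intro m hm
      obtain ⟨E, hz, -, ⟨e⟩⟩ := h
      have h1 : IsZero (((DRing.restrictCx (algebraMap R A)).obj K₀).homology m) :=
        IsZero.of_iso
          ((HomologicalComplex.exactAt_iff_isZero_homology E m).1
            (HomologicalComplex.ExactAt.of_isZero (hz m (Or.inr hm))))
          (((DerivedCategory.homologyFunctorFactors (ModuleCat.{u} R) m).app _).symm ≪≫
            (DerivedCategory.homologyFunctor (ModuleCat.{u} R) m).mapIso (i₀ ≪≫ e.symm) ≪≫
            (DerivedCategory.homologyFunctorFactors (ModuleCat.{u} R) m).app E)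
      rw [← HomologicalComplex.exactAt_iff_isZero_homology, HomologicalComplex.exactAt_iff] at h1 ⊢
      exact (ShortComplex.exact_map_iff_of_faithful (K₀.sc m)
        (ModuleCat.restrictScalars (algebraMap R A))).1 h1
    obtain ⟨P, ψ, hψ, hflat, hPb⟩ := (ringCover A).exists_bounded_resolution K₀ b hK₀
    haveI := hψ
    haveI : IsIso (DerivedCategory.Q.map ψ) :=
      (DerivedCategory.isIso_Q_map_iff_quasiIso _ _).2 inferInstance
    let e : DerivedCategory.Q.obj P ≅ K := asIso (DerivedCategory.Q.map ψ) ≪≫ e₀
    let P' := (DRing.restrictCx (algebraMap R A)).obj P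
    have hP'b : ∀ i, b < i → IsZero (P'.X i) := fun i hi =>
      (ModuleCat.restrictScalars (algebraMap R A)).map_isZero (hPb i hi)
    have hV : Van a b P' := (iff_van (isKF_of_flat (flat_res hflat) hP'b)
      (((ModuleCat.restrictScalars (algebraMap R A)).mapDerivedCategoryFactors.app P).symm ≪≫
        (DRing.restrictD (algebraMap R A)).mapIso e)).1 h
    exact hasTorAmplitudeIn_of_van (isKF_of_flat hflat hPb) (van_of_restrict hV) e
  · rintro ⟨E, hz, hf, ⟨e⟩⟩
    exact ⟨(DRing.restrictCx (algebraMap R A)).obj E,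
      fun i hi => (ModuleCat.restrictScalars (algebraMap R A)).map_isZero (hz i hi), flat_res hf,
      ⟨((ModuleCat.restrictScalars (algebraMap R A)).mapDerivedCategoryFactors.app E).symm ≪≫
        (DRing.restrictD (algebraMap R A)).mapIso e⟩⟩

end Derived

end Groth.Agent.H4RG
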