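import Groth.Agent.H4RG.UISpread
import Groth.Agent.S0448
import Mathlib.LinearAlgebra.TensorProduct.Vanishing
import Mathlib.RingTheory.Flat.Basic

/-! Universal injectivity from projective modules to flat modules, and contents in projective modules. -/

universe u

open TensorProduct

namespace Groth.Agent.H4RG

variable {R : Type u} [CommRing R]

theorem eq_zero_of_fin_of_maximal {n : ℕ} {M : Type u} [AddCommGroup M] [Module R M] [Module.Flat R M]
    (v : (Fin n → R) →ₗ[R] M)
    (h : ∀ (m : Ideal R) [m.IsMaximal], Function.Injective (v.rTensor (R ⧸ m)))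
    (Q : Type u) [AddCommGroup Q] [Module R Q] (z : (Fin n → R) ⊗[R] Q) (hz : v.rTensor Q z = 0) :
    z = 0 := by
  classical
  obtain ⟨q, rfl⟩ : ∃ q : Fin n → Q, z = ∑ i, (Pi.single i (1 : R) : Fin n → R) ⊗ₜ[R] q i := by
    refine ⟨fun i => TensorProduct.lid R Q ((LinearMap.proj i : (Fin n → R) →ₗ[R] R).rTensor Q z), ?_⟩
    clear hz
    induction z using TensorProduct.induction_on with
    | zero => simp
    | add a b ha hb =>
      simp only [map_add, TensorProduct.tmul_add, Finset.sum_add_distrib]
      rw [← ha, ← hb]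
    | tmul x y =>
      conv_lhs => rw [pi_eq_sum_univ' x, TensorProduct.sum_tmul]
      exact Finset.sum_congr rfl fun i _ => by simp [TensorProduct.smul_tmul]
  have h0 : ∑ i, q i ⊗ₜ[R] v (Pi.single i 1) = (0 : Q ⊗[R] M) := by
    simpa using congrArg (TensorProduct.comm R M Q) hz
  obtain ⟨k, a, y, hay, ha0⟩ := vanishesTrivially_of_sum_tmul_eq_zero_of_rTensor_injective R
    (Module.Flat.rTensor_preserves_injective_linearMap _ Subtype.val_injective) h0
  let U : (Fin n → R) →ₗ[R] (Fin k → R) := Fintype.linearCombination R fun i => a i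
  let Y : (Fin k → R) →ₗ[R] M := Fintype.linearCombination R y
  have hYU : Y.comp U = v := LinearMap.pi_ext' fun i => LinearMap.ext_ring (by
    simp [Y, U, Fintype.linearCombination_apply, hay i])
  have hU0 : U.rTensor Q (∑ i, (Pi.single i (1 : R) : Fin n → R) ⊗ₜ[R] q i) = 0 := by
    have : ∀ i, U (Pi.single i 1) = ∑ j, a i j • (Pi.single j (1 : R) : Fin k → R) := fun i => by
      rw [← pi_eq_sum_univ']
      simp [U, Fintype.linearCombination_apply]
    simp only [map_sum, LinearMap.rTensor_tmul, this, TensorProduct.sum_tmul, TensorProduct.smul_tmul]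
    rw [Finset.sum_comm]
    refine Finset.sum_eq_zero fun j _ => ?_
    rw [← TensorProduct.tmul_sum, ha0 j, TensorProduct.tmul_zero]
  generalize ∑ i, (Pi.single i (1 : R) : Fin n → R) ⊗ₜ[R] q i = w at hU0
  let I : Ideal R := (Submodule.span R {w}).annihilator
  by_contra hne
  have hI : I ≠ ⊤ := fun h1 => hne (by
    have := Submodule.mem_annihilator_span_singleton w 1 |>.1 (h1 ▸ Submodule.mem_top (R := R) (x := (1 : R)))
    simpa using this)
  obtain ⟨m, hm, hIm⟩ := Ideal.exists_le_maximal I hI
  letI := Ideal.Quotient.field m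
  have hinj : Function.Injective (U.rTensor (R ⧸ m)) := by
    have h1 := h m
    rw [← hYU, LinearMap.rTensor_comp, LinearMap.coe_comp] at h1
    exact h1.of_comp
  obtain ⟨d, hd, V, hV⟩ := exists_smul_of_fibre_inj (K := R ⧸ m) U (fun x => by
    obtain ⟨r, rfl⟩ := Ideal.Quotient.mk_surjective x
    exact ⟨r, 1, by simp, by simp⟩) hinj
  refine hd (Ideal.Quotient.eq_zero_iff_mem.2 (hIm ((Submodule.mem_annihilator_span_singleton w d).2 ?_)))
  have := congrArg (V.rTensor Q) hU0
  rwa [← LinearMap.rTensor_comp_apply, hV, LinearMap.rTensor_smul, LinearMap.rTensor_id, map_zero] at this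

theorem eq_zero_of_finsupp_of_maximal {ι : Type u} {M : Type u} [AddCommGroup M] [Module R M] [Module.Flat R M]
    (v : (ι →₀ R) →ₗ[R] M)
    (h : ∀ (m : Ideal R) [m.IsMaximal], Function.Injective (v.rTensor (R ⧸ m)))
    (Q : Type u) [AddCommGroup Q] [Module R Q] (w : (ι →₀ R) ⊗[R] Q) (hw : v.rTensor Q w = 0) :
    w = 0 := by
  classical
  obtain ⟨k, x, m, rfl⟩ := TensorProduct.exists_sum_tmul_eq w
  let s : Finset ι := Finset.univ.biUnion fun j => (x j).support
  let es : Fin s.card → ι := fun a => (s.equivFin.symm a).1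
  have hes : Function.Injective es := fun a b hab => s.equivFin.symm.injective (Subtype.ext hab)
  let ext_ : (Fin s.card → R) →ₗ[R] (ι →₀ R) :=
    (Finsupp.lmapDomain R R es).comp (Finsupp.linearEquivFunOnFinite R R (Fin s.card)).symm.toLinearMap
  let res : (ι →₀ R) →ₗ[R] (Fin s.card → R) := LinearMap.pi fun a => Finsupp.lapply (es a)
  have hre : res.comp ext_ = LinearMap.id := LinearMap.ext fun f => funext fun a => by
    simp [res, ext_, Finsupp.mapDomain_apply hes]
  have her : ∀ j, ext_ (res (x j)) = x j := fun j => Finsupp.ext fun i => by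
    by_cases hi : i ∈ s
    · obtain ⟨a, rfl⟩ : ∃ a, es a = i := ⟨s.equivFin ⟨i, hi⟩, by simp [es]⟩
      simp [ext_, res, Finsupp.mapDomain_apply hes]
    · have hx : x j i = 0 := Finsupp.notMem_support_iff.1 fun hne =>
        hi (Finset.mem_biUnion.2 ⟨j, Finset.mem_univ _, hne⟩)
      rw [hx]
      simp only [ext_, LinearMap.comp_apply, Finsupp.lmapDomain_apply]
      exact Finsupp.mapDomain_notin_range _ _ fun ⟨a, ha⟩ => hi (ha ▸ (s.equivFin.symm a).2)
  have hw' : ∑ j, x j ⊗ₜ[R] m j = ext_.rTensor Q (∑ j, res (x j) ⊗ₜ[R] m j) := by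
    simp only [map_sum, LinearMap.rTensor_tmul, her]
  rw [hw'] at hw ⊢
  have hv0 : (v.comp ext_).rTensor Q (∑ j, res (x j) ⊗ₜ[R] m j) = 0 := by
    rw [LinearMap.rTensor_comp_apply]
    exact hw
  rw [eq_zero_of_fin_of_maximal (v.comp ext_) (fun p _ => ?_) Q _ hv0, map_zero]
  rw [LinearMap.rTensor_comp, LinearMap.coe_comp]
  refine (h p).comp (Function.LeftInverse.injective (g := res.rTensor (R ⧸ p)) fun f => ?_)
  rw [← LinearMap.rTensor_comp_apply, hre, LinearMap.rTensor_id, LinearMap.id_apply]

/-- A map from a projective to a flat module, injective modulo all maximal ideals, is universally injective. -/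
theorem univInj_of_maximal {P M : Type u} [AddCommGroup P] [Module R P] [Module.Projective R P]
    [AddCommGroup M] [Module R M] [Module.Flat R M] (v : P →ₗ[R] M)
    (h : ∀ (m : Ideal R) [m.IsMaximal], Function.Injective (v.lTensor (R ⧸ m))) :
    FlatCA.UnivInj R v := by
  intro Q _ _
  obtain ⟨j, hj⟩ := Module.projective_def'.1 ‹Module.Projective R P›
  let r : (P →₀ R) →ₗ[R] P := Finsupp.linearCombination R id
  let v' : (P →₀ R) →ₗ[R] M × (P →₀ R) := (v.comp r).prod (LinearMap.id - j.comp r)
  have hrj : ∀ (X : Type u) [AddCommGroup X] [Module R X] (z : P ⊗[R] X),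
      r.rTensor X (j.rTensor X z) = z := fun X _ _ z => by
    rw [← LinearMap.rTensor_comp_apply, hj, LinearMap.rTensor_id, LinearMap.id_apply]
  have hr : ∀ (m : Ideal R) [m.IsMaximal], Function.Injective (v.rTensor (R ⧸ m)) := fun m _ =>
    LinearMap.lTensor_inj_iff_rTensor_inj _ _ |>.1 (h m)
  have hv' : ∀ (m : Ideal R) [m.IsMaximal], Function.Injective (v'.rTensor (R ⧸ m)) := by
    intro m _
    rw [injective_iff_map_eq_zero]
    intro z hz
    have h1 := congrArg ((LinearMap.fst R M (P →₀ R)).rTensor (R ⧸ m)) hz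
    have h2 := congrArg ((LinearMap.snd R M (P →₀ R)).rTensor (R ⧸ m)) hz
    rw [← LinearMap.rTensor_comp_apply, map_zero, LinearMap.fst_prod] at h1
    rw [← LinearMap.rTensor_comp_apply, map_zero, LinearMap.snd_prod, LinearMap.rTensor_sub,
      LinearMap.rTensor_id] at h2
    change z - (j.comp r).rTensor (R ⧸ m) z = 0 at h2
    rw [sub_eq_zero] at h2
    rw [LinearMap.rTensor_comp_apply] at h1 h2
    have hr0 : r.rTensor (R ⧸ m) z = 0 := hr m (h1.trans (map_zero _).symm)
    rw [h2, hr0, map_zero]
  refine (LinearMap.lTensor_inj_iff_rTensor_inj _ _).2 ((injective_iff_map_eq_zero _).2 fun z hz => ?_)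
  haveI : Module.Flat R (M × (P →₀ R)) := S0448.flat_prod
  have h0 : j.rTensor Q z = 0 := by
    refine eq_zero_of_finsupp_of_maximal v' hv' Q _ ?_
    have e : v'.comp j = (LinearMap.inl R M (P →₀ R)).comp v := LinearMap.ext fun p => by
      have hp : r (j p) = p := LinearMap.congr_fun hj p
      simp [v', hp]
    rw [← LinearMap.rTensor_comp_apply, e, LinearMap.rTensor_comp_apply, hz, map_zero]
  rw [← hrj Q z, h0, map_zero]

/-- Elements of a projective module have contents. -/
theorem exists_content_projective {P : Type u} [AddCommGroup P] [Module R P] [Module.Projective R P] (x : P) :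
    ∃ c : Ideal R, x ∈ c • (⊤ : Submodule R P) ∧
      ∀ J : Ideal R, x ∈ J • (⊤ : Submodule R P) → c ≤ J := by
  obtain ⟨j, hj⟩ := Module.projective_def'.1 ‹Module.Projective R P›
  refine ⟨Ideal.span (Set.range (j x)), ?_, fun J hJ => Ideal.span_le.2 ?_⟩
  · have hx : Finsupp.linearCombination R id (j x) = x := LinearMap.congr_fun hj x
    have h2 : Finsupp.linearCombination R id (j x) ∈
        Ideal.span (Set.range (j x)) • (⊤ : Submodule R P) := by
      rw [Finsupp.linearCombination_apply]
      exact Submodule.sum_mem _ fun p _ =>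
        Submodule.smul_mem_smul (Ideal.subset_span ⟨p, rfl⟩) Submodule.mem_top
    rwa [hx] at h2
  · rintro _ ⟨p, rfl⟩
    induction hJ using Submodule.smul_induction_on' with
    | smul a ha q _ =>
      simpa using J.mul_mem_right (j q p) ha
    | add y _ z _ hy hz =>
      rw [map_add]
      exact J.add_mem hy hz

end Groth.Agent.H4RG
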