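import Groth.Agent.Triage.WeakAssFin
import Groth.Agent.IndEtLib.Sys
import Groth.Agent.S0736
import Groth.Agent.S7127

/-!
# Weakly associated primes of the closed point under ind-étale local maps
-/

set_option autoImplicit false
set_option backward.isDefEq.respectTransparency.types false

universe u

open TensorProduct Groth.Agent.WeakAss IsLocalRing

namespace Groth.Agent.H4RG.WeakAssIndEt

/-- Annihilators commute with flat base change. -/
theorem annEl_one_tmul {B S N : Type u} [CommRing B] [CommRing S] [Algebra B S] [Module.Flat B S]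
    [AddCommGroup N] [Module B N] (z : N) :
    annEl S ((1 : S) ⊗ₜ[B] z) = (annEl B z).map (algebraMap B S) := by
  let q : B ⧸ annEl B z →ₗ[B] N := Submodule.liftQ _ (LinearMap.toSpanSingleton B N z) fun r hr => by
    rw [LinearMap.mem_ker, LinearMap.toSpanSingleton_apply]
    exact mem_annEl.1 hr
  have hq : Function.Injective q := by
    rw [← LinearMap.ker_eq_bot]
    refine Submodule.ker_liftQ_eq_bot _ _ _ fun r hr => mem_annEl.2 ?_
    rwa [LinearMap.mem_ker, LinearMap.toSpanSingleton_apply] at hr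
  let Q : S ⊗[B] (B ⧸ annEl B z) →ₗ[S] S ⊗[B] N := q.baseChange S
  have hQ : Function.Injective Q := fun a b hab =>
    Module.Flat.lTensor_preserves_injective_linearMap q hq hab
  let one : S ⊗[B] (B ⧸ annEl B z) := (1 : S) ⊗ₜ Submodule.Quotient.mk (1 : B)
  have hone : Q one = (1 : S) ⊗ₜ[B] z := by
    show (1 : S) ⊗ₜ[B] q (Submodule.Quotient.mk (1 : B)) = _
    simp only [q]
    erw [Submodule.liftQ_apply]
    rw [LinearMap.toSpanSingleton_apply, one_smul]
  rw [← hone, annEl_map_of_injective Q hQ]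
  let e := (Algebra.TensorProduct.quotIdealMapEquivTensorQuot S (annEl B z)).symm
  ext b
  rw [mem_annEl, ← Ideal.Quotient.eq_zero_iff_mem]
  have h1 : e (b • one) = Ideal.Quotient.mk _ b := by
    simp only [one, e, TensorProduct.smul_tmul', smul_eq_mul, mul_one]
    rw [AlgEquiv.symm_apply_eq, Algebra.TensorProduct.quotIdealMapEquivTensorQuot_mk]
    rfl
  rw [← h1, EmbeddingLike.map_eq_zero_iff]

variable {A S : Type u} [CommRing A] [IsLocalRing A] [CommRing S] [IsLocalRing S] [Algebra A S]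
  {M : Type u} [AddCommGroup M] [Module A M]

theorem forward [Module.Flat A S] [IsLocalHom (algebraMap A S)]
    (hmax : (maximalIdeal A).map (algebraMap A S) = maximalIdeal S)
    (h : maximalIdeal A ∈ FlatCA.weakAss A M) : maximalIdeal S ∈ FlatCA.weakAss S (S ⊗[A] M) := by
  obtain ⟨m, hm⟩ := mem_weakAss_iff.1 h
  refine mem_weakAss_iff.2 ⟨(1 : S) ⊗ₜ[A] m, ?_⟩
  rw [annEl_one_tmul]
  refine ⟨⟨inferInstance, hmax ▸ Ideal.map_mono hm.1.2⟩, fun t ht hle => ?_⟩
  haveI := ht.1
  have h2 : maximalIdeal A ≤ t.comap (algebraMap A S) :=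
    hm.2 ⟨inferInstance, Ideal.map_le_iff_le_comap.1 ht.2⟩ (IsLocalRing.le_maximalIdeal (Ideal.IsPrime.ne_top inferInstance))
  exact hmax ▸ Ideal.map_le_iff_le_comap.2 h2

theorem backward (hS : EtPBC.IsIndEtale A S) [IsLocalHom (algebraMap A S)]
    (h : maximalIdeal S ∈ FlatCA.weakAss S (S ⊗[A] M)) : maximalIdeal A ∈ FlatCA.weakAss A M := by
  classical
  haveI hwe : Algebra.WeaklyEtale A S := Groth.Agent.S0736.result A S hS
  obtain ⟨x, hx⟩ := mem_weakAss_iff.1 h
  obtain ⟨T, hT⟩ := TensorProduct.exists_finset x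
  obtain ⟨Y, hY, ⟨e⟩⟩ := IndEtLib.exists_sys hS
  obtain ⟨i, y, hy⟩ := Y.exists_lift_finset T fun s => e.symm s.1
  haveI := hY i
  letI : Algebra (Y.A i) S := (e.toAlgHom.comp (Y.ι i)).toRingHom.toAlgebra
  haveI : IsScalarTower A (Y.A i) S := IsScalarTower.of_algebraMap_eq fun a =>
    ((e.toAlgHom.comp (Y.ι i)).commutes a).symm
  haveI : Algebra.WeaklyEtale (Y.A i) S := Groth.Agent.S7127.result A (Y.A i) S
  let xB : Y.A i ⊗[A] M := ∑ s ∈ T, y s ⊗ₜ[A] s.2
  let E := AlgebraTensorModule.cancelBaseChange A (Y.A i) S S M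
  have hE : E ((1 : S) ⊗ₜ[Y.A i] xB) = x := by
    rw [hT]
    simp only [xB, TensorProduct.tmul_sum, map_sum]
    refine Finset.sum_congr rfl fun s hs => ?_
    rw [AlgebraTensorModule.cancelBaseChange_tmul, Algebra.smul_def, mul_one, RingHom.algebraMap_toAlgebra]
    show e (Y.ι i (y s)) ⊗ₜ[A] s.2 = _
    rw [hy s hs, e.apply_symm_apply]
  have hann : annEl S x = (annEl (Y.A i) xB).map (algebraMap (Y.A i) S) := by
    rw [← hE, ← annEl_one_tmul]
    exact annEl_map_of_injective E.toLinearMap E.injective _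
  let t := (maximalIdeal S).comap (algebraMap (Y.A i) S)
  haveI : t.LiesOver (maximalIdeal A) := ⟨by
    rw [Ideal.under, Ideal.comap_comap, ← IsScalarTower.algebraMap_eq]
    exact (IsLocalRing.maximalIdeal_comap (algebraMap A S)).symm⟩
  have ht : t ∈ FlatCA.weakAss (Y.A i) (Y.A i ⊗[A] M) := by
    refine mem_weakAss_iff.2 ⟨xB, ⟨inferInstance, Ideal.map_le_iff_le_comap.1 (hann ▸ hx.1.2)⟩, fun t' ht' hle => ?_⟩
    haveI := ht'.1
    haveI : (maximalIdeal S).LiesOver t := ⟨rfl⟩
    obtain ⟨P, hP, hPp, hPo⟩ := Ideal.exists_ideal_le_liesOver_of_le (R := Y.A i) (S := S) (maximalIdeal S) hle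
    have h1 : annEl S x ≤ P := by
      rw [hann, Ideal.map_le_iff_le_comap]
      exact ht'.2.trans (Ideal.LiesOver.over (P := P) (p := t')).le
    have h2 : maximalIdeal S ≤ P := hx.2 ⟨hPp, h1⟩ hP
    exact (Ideal.comap_mono h2).trans (Ideal.LiesOver.over (P := P) (p := t')).ge
  exact Groth.Agent.Triage.WeakAssFin.mem_weakAss_of_etale M t ht

end Groth.Agent.H4RG.WeakAssIndEt
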